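import Mathlib
import Cfsg.Agent.H346.DP.Cox
import Cfsg.Agent.H162.GaussMain
import Cfsg.Agent.H514.DP.Cyc_m3
import Cfsg.Prelude.Def_LieTypeChar
import Cfsg.Agent.UGT.A7.Mu_m3
import Cfsg.Agent.Nodes.WittAll
import Cfsg.Agent.Nodes.TyChart
import Cfsg.Agent.H91.U.Std
import Cfsg.Agent.FastGrp
import Cfsg.Agent.Prune
set_option linter.all false
prune_inst 0x7ffdfbfbfbf9ffffffff7ffff7dfcffdf9fbbfffe6fffdcb7fe8edffebdf7f0ccbe7ffaf8ff392fe5ef7631c94fa7bd3fffffeffe36bfc7ffffd5ff45ffbffdffdf7bd0d71ffbcbe1ffe4fffe3f07f8e7f3fffffffffffffffffffffffffffbeffbfffffffff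
open scoped Cfsg.Agent.FastGrp

-- part: H346/Pw/TwoOf
section
/-!
# S2465 (LIE/U): products of two `r`-elements, general part

* `pw_of_R1`, `pw_of_coord` : a simple group `S` with a surjection `π : Y → S` with central kernel, `Y` with a root
  group datum: every element of `S` is a product of two `r`-elements;
* `R1.of_exists`, `R1.of_squares` : the rank one property; `Nd`, `Nd.rp`, `Nd.R1` : a single node with coordinates.
-/

set_option autoImplicit false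
set_option linter.unusedSectionVars false

namespace Cfsg.Agent.H346.PwU

open CoxeterSystem Cfsg.Agent.ChevalleyStructure.CoxeterGeom Cfsg.Agent.Tits.Roots Cfsg.Agent.Tits.Core
  Cfsg.Agent.Tits.RootComb Cfsg.Agent.Nodes.Comb Cfsg.Agent.Nodes.Reps
  Cfsg.Agent.Nodes.BNOf Cfsg.Agent.Nodes.StabComb
  Cfsg.Agent.Nodes.RGDLib Cfsg.Agent.Nodes.Bruhat Cfsg.Agent.Nodes.OppDec
open Cfsg.Agent.H514.DP (PE IsPE PW)
open Cfsg.Agent.H162.GaussDec (R1 gauss_aux coord_R1)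
open Cfsg.Agent.OddHalf.NI.Mult (Coord rp_nn KK)

variable {I W Y : Type*} [Fintype I] [DecidableEq I] [Group W] [Group Y] {M : CoxeterMatrix I}
  {cs : CoxeterSystem M W} {A : I → I → ℤ} {h : IsCartan M A} {r : ℕ} {T : Subgroup Y} {n : I → Y}
  {X : (I → ℤ) → Subgroup Y}

/-- the elements outside the core of `B` are products of two `r`-elements -/
theorem pe_of_R1 [Finite W] [Finite Y] [Fact r.Prime] (R : RGD cs h r T n X) (hG : G1 cs h X = ⊤)
    (hconn : ∀ J : Set I, J.Nonempty → J ≠ Set.univ → ∃ a ∈ J, ∃ b, b ∉ J ∧ M a b ≠ 2)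
    {m : I → Y} (hmr : ∀ i, Rp cs R.nsys (cs.simple i) (m i)) (hm1 : ∀ i, R1 T X i (m i)) {g : Y}
    (hg : g ∉ (RGD.B cs h T X).normalCore) : PE r 2 g := by
  obtain ⟨x, v, hv, u, hu, e⟩ := gauss_aux R hG hconn hmr hm1 hg
  have hU : IsPE r u := by
    obtain ⟨k, hk⟩ := (RGD.isPGroup_Upos R) ⟨u, hu⟩
    exact ⟨k, congrArg Subtype.val hk⟩
  have hV : IsPE r v := by
    have hR' := Cfsg.Agent.KFacts.RgdOpp.opp R
    obtain ⟨k, hk⟩ := (RGD.isPGroup_Upos hR') ⟨v, by rw [Cfsg.Agent.KFacts.RgdOpp.U_opp]; exact hv⟩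
    exact ⟨k, congrArg Subtype.val hk⟩
  have h1 : PE r 2 (x * g * x⁻¹) := by
    rw [e]
    exact hV.pe.mul hU.pe
  have h3 := h1.conj x⁻¹
  rw [inv_inv] at h3
  have h2 : x⁻¹ * (x * g * x⁻¹) * x = g := by group
  rwa [h2] at h3

/-- **Simple groups with a root group datum (on a central extension).** -/
theorem pw_of_R1 [Finite W] [Finite Y] [Fact r.Prime] [Nonempty I] (R : RGD cs h r T n X) (hG : G1 cs h X = ⊤)
    (hconn : ∀ J : Set I, J.Nonempty → J ≠ Set.univ → ∃ a ∈ J, ∃ b, b ∉ J ∧ M a b ≠ 2)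
    {m : I → Y} (hmr : ∀ i, Rp cs R.nsys (cs.simple i) (m i)) (hm1 : ∀ i, R1 T X i (m i))
    {S : Type*} [Group S] [IsSimpleGroup S] (π : Y →* S) (hπ : Function.Surjective π)
    (hk : π.ker ≤ Subgroup.center Y) : PW r 2 S := by
  intro s
  obtain ⟨g, rfl⟩ := hπ s
  by_cases hg : g ∈ (RGD.B cs h T X).normalCore
  · have h1 := Cfsg.Agent.H162.GaussMain.core_le_ker R π hπ hk hg
    rw [MonoidHom.mem_ker] at h1
    rw [h1]
    exact Cfsg.Agent.H514.DP.pe_one_elt 2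
  · exact (pe_of_R1 R hG hconn hmr hm1 hg).map π

/-- the same with coordinates -/
theorem pw_of_coord [Finite W] [Finite Y] [Fact r.Prime] [Nonempty I] {F : I → Type*} [∀ i, Field (F i)]
    {s : ∀ i, Matrix.SpecialLinearGroup (Fin 2) (F i) →* Y} (R : RGD cs h r T n X) (hG : G1 cs h X = ⊤)
    (C : Coord X F s)
    (hconn : ∀ J : Set I, J.Nonempty → J ≠ Set.univ → ∃ a ∈ J, ∃ b, b ∉ J ∧ M a b ≠ 2)
    {S : Type*} [Group S] [IsSimpleGroup S] (π : Y →* S) (hπ : Function.Surjective π)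
    (hk : π.ker ≤ Subgroup.center Y) : PW r 2 S :=
  pw_of_R1 R hG hconn (m := fun i => s i (Cfsg.Agent.OddHalf.NI.Mult.nn 1)) (fun i => rp_nn R C i 1)
    (fun i => coord_R1 R C i) π hπ hk

/-! ### The rank one property -/

/-- the rank one property from the elements `v ∈ X_{-i} ∩ X_i m t⁻¹ X_i` -/
theorem R1.of_exists [Finite W] (R : RGD cs h r T n X) {i : I} {m : Y} (hm : Rp cs R.nsys (cs.simple i) m)
    (hex : ∀ t ∈ T ⊓ KK X (sr i), ∃ v ∈ X (-sr i), ∃ a ∈ X (sr i), ∃ b ∈ X (sr i), v = a * (m * t⁻¹) * b) :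
    R1 T X i m := by
  intro y hy t ht
  obtain ⟨v, hv, a, ha, b, hb, e⟩ := hex t ht
  have htT : t ∈ T := (Subgroup.mem_inf.1 ht).1
  have hy' : m * y * m⁻¹ ∈ X (sr i) := by
    have h1 := R.conj_mem hm (isRoot_sr cs h i).neg hy
    rwa [map_neg, rep_simple_sr, neg_neg] at h1
  have hcj : ∀ t ∈ T, ∀ x ∈ X (sr i), t * x * t⁻¹ ∈ X (sr i) := by
    intro t ht x hx
    have h1 := R.tor _ (isRoot_sr cs h i) t ht
    rw [← h1, conj_mem_cj]
    exact hx
  refine ⟨a * (m * y * m⁻¹)⁻¹, mul_mem ha (inv_mem hy'), v, hv, t⁻¹ * b⁻¹ * t, ?_, ?_⟩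
  · have h1 := hcj t⁻¹ (inv_mem htT) b⁻¹ (inv_mem hb)
    rwa [inv_inv] at h1
  · rw [e]
    group

/-- **Inverted tori.** If `m` inverts the (commutative) group `T_i = T ∩ ⟨X_i, X_{-i}⟩` and all its elements are squares,
then the rank one property holds. -/
theorem R1.of_squares [Finite W] (R : RGD cs h r T n X) {i : I} {m : Y} (hm : Rp cs R.nsys (cs.simple i) m)
    (hmK : m ∈ KK X (sr i)) (hinv : ∀ t ∈ T ⊓ KK X (sr i), m * t * m⁻¹ = t⁻¹)
    (hcomm : ∀ s ∈ T ⊓ KK X (sr i), ∀ t ∈ T ⊓ KK X (sr i), s * t = t * s)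
    (hsq : ∀ t ∈ T ⊓ KK X (sr i), ∃ s ∈ T ⊓ KK X (sr i), s * s = t) : R1 T X i m := by
  have hcj : ∀ t ∈ T, ∀ x, IsRoot cs h x → ∀ y ∈ X x, t * y * t⁻¹ ∈ X x := by
    intro t ht x hx y hy
    rw [← R.tor _ hx t ht, conj_mem_cj]
    exact hy
  -- one element
  obtain ⟨v₀, hv₀, hne⟩ : ∃ v ∈ X (-sr i), v ≠ 1 := by
    by_contra hcon
    push Not at hcon
    exact X_ne_bot R (isRoot_sr cs h i).neg ((Subgroup.eq_bot_iff_forall _).2 hcon)
  obtain ⟨a, ha, t₁, ht₁, b, hb, e⟩ := R.rk1 i v₀ hv₀ hne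
  -- `t₁ * n i = m * t₀⁻¹`
  obtain ⟨t₀, ht₀⟩ : ∃ t₀, t₀ = (m⁻¹ * (t₁ * n i))⁻¹ := ⟨_, rfl⟩
  have hmt : t₁ * n i = m * t₀⁻¹ := by rw [ht₀]; group
  have hmv : m * t₀⁻¹ = a⁻¹ * v₀ * b⁻¹ := by
    rw [← hmt, e]; group
  have ht₀T : t₀ ∈ T := by
    rw [ht₀]
    have h1 : Rp cs R.nsys (cs.simple i) (t₁ * n i) := by
      have h2 := (rp_of_mem (cs := cs) (hN := R.nsys) ht₁).mul (rp_simple cs R.nsys i)
      rwa [one_mul] at h2
    exact inv_mem (hm.unique h1)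
  have ht₀K : t₀ ∈ KK X (sr i) := by
    have h1 : t₀ = (m⁻¹ * (a⁻¹ * v₀ * b⁻¹))⁻¹ := by rw [← hmv]; group
    rw [h1]
    exact inv_mem (mul_mem (inv_mem hmK) (mul_mem (mul_mem (inv_mem (Subgroup.mem_sup_left ha))
      (Subgroup.mem_sup_right hv₀)) (inv_mem (Subgroup.mem_sup_left hb))))
  have ht₀' : t₀ ∈ T ⊓ KK X (sr i) := ⟨ht₀T, ht₀K⟩
  refine R1.of_exists R hm fun t ht => ?_
  obtain ⟨s, hs, hst⟩ := hsq (t * t₀⁻¹) (mul_mem ht (inv_mem ht₀'))
  refine ⟨s * v₀ * s⁻¹, hcj s hs.1 _ (isRoot_sr cs h i).neg _ hv₀, s * a * s⁻¹, hcj s hs.1 _ (isRoot_sr cs h i) _ ha,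
    s * b * s⁻¹, hcj s hs.1 _ (isRoot_sr cs h i) _ hb, ?_⟩
  have h1 : s * (m * t₀⁻¹) * s⁻¹ = m * t⁻¹ := by
    have h2 : s * m = m * s⁻¹ := by
      have h3 := hinv s⁻¹ (inv_mem hs)
      rw [inv_inv] at h3
      calc s * m = (m * s⁻¹ * m⁻¹) * m := by rw [h3]
        _ = m * s⁻¹ := by group
    have h4 : s⁻¹ * t₀⁻¹ * s⁻¹ = t⁻¹ := by
      have h5 : t = s * s * t₀ := by rw [hst]; group
      have h6 := hcomm s hs t₀ ht₀'
      calc s⁻¹ * t₀⁻¹ * s⁻¹ = (s * (t₀ * s))⁻¹ := by group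
        _ = (s * s * t₀)⁻¹ := by rw [← h6]; group
        _ = t⁻¹ := by rw [← h5]
    calc s * (m * t₀⁻¹) * s⁻¹ = (s * m) * t₀⁻¹ * s⁻¹ := by group
      _ = m * (s⁻¹ * t₀⁻¹ * s⁻¹) := by rw [h2]; group
      _ = m * t⁻¹ := by rw [h4]
  calc s * v₀ * s⁻¹ = s * (a * (t₁ * n i) * b) * s⁻¹ := by rw [e]; group
    _ = s * a * s⁻¹ * (s * (m * t₀⁻¹) * s⁻¹) * (s * b * s⁻¹) := by rw [hmt]; group
    _ = _ := by rw [h1]


/-! ### A single node -/

section Node

open Cfsg.Agent.OddHalf.NI.Mult (up lo nn dg dgHom)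

/-- coordinates at the node `i` -/
structure Nd (X : (I → ℤ) → Subgroup Y) (i : I) {K : Type*} [Field K]
    (s : Matrix.SpecialLinearGroup (Fin 2) K →* Y) : Prop where
  up : (X (sr i) : Set Y) = Set.range fun a => s (up a)
  lo : (X (-sr i) : Set Y) = Set.range fun a => s (lo a)

variable {i : I} {K : Type*} [Field K] {s : Matrix.SpecialLinearGroup (Fin 2) K →* Y}

section

variable (C : Nd X i s)

include C

omit [Fintype I] in
theorem Nd.mem_up (a : K) : s (Cfsg.Agent.OddHalf.NI.Mult.up a) ∈ X (sr i) := by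
  have h1 : s (Cfsg.Agent.OddHalf.NI.Mult.up a) ∈ (X (sr i) : Set Y) := by rw [C.up]; exact ⟨a, rfl⟩
  exact h1

omit [Fintype I] in
theorem Nd.mem_lo (a : K) : s (Cfsg.Agent.OddHalf.NI.Mult.lo a) ∈ X (-sr i) := by
  have h1 : s (Cfsg.Agent.OddHalf.NI.Mult.lo a) ∈ (X (-sr i) : Set Y) := by rw [C.lo]; exact ⟨a, rfl⟩
  exact h1

omit [Fintype I] in
theorem Nd.exists_up {x : Y} (hx : x ∈ X (sr i)) : ∃ a, s (Cfsg.Agent.OddHalf.NI.Mult.up a) = x := by
  have h1 : x ∈ (X (sr i) : Set Y) := hx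
  rw [C.up] at h1
  exact h1

omit [Fintype I] in
theorem Nd.exists_lo {x : Y} (hx : x ∈ X (-sr i)) : ∃ a, s (Cfsg.Agent.OddHalf.NI.Mult.lo a) = x := by
  have h1 : x ∈ (X (-sr i) : Set Y) := hx
  rw [C.lo] at h1
  exact h1

omit [Fintype I] in
theorem Nd.cj_nn_le (x : Kˣ) : cj (s (nn x)) (X (sr i)) ≤ X (-sr i) := by
  intro y hy
  rw [mem_cj] at hy
  obtain ⟨a, ha⟩ := C.exists_up hy
  have e : y = s (nn x * Cfsg.Agent.OddHalf.NI.Mult.up a * (nn x)⁻¹) := by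
    rw [map_mul, map_mul, map_inv, ha]; group
  rw [e, Cfsg.Agent.OddHalf.NI.Mult.nn_mul_up]
  exact C.mem_lo _

omit [Fintype I] in
theorem Nd.cj_nn_le' (x : Kˣ) : cj (s (nn x)) (X (-sr i)) ≤ X (sr i) := by
  intro y hy
  rw [mem_cj] at hy
  obtain ⟨a, ha⟩ := C.exists_lo hy
  have e : y = s (nn x * Cfsg.Agent.OddHalf.NI.Mult.lo a * (nn x)⁻¹) := by
    rw [map_mul, map_mul, map_inv, ha]; group
  rw [e, Cfsg.Agent.OddHalf.NI.Mult.nn_mul_lo]
  exact C.mem_up _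

omit [Fintype I] in
theorem Nd.cj_nn (x : Kˣ) : cj (s (nn x)) (X (sr i)) = X (-sr i) := by
  apply le_antisymm (C.cj_nn_le x)
  have h1 := cj_mono (s (nn x)) (C.cj_nn_le' (-x))
  rwa [← Cfsg.Agent.OddHalf.NI.Mult.nn_inv, map_inv, cj_cj_inv] at h1

omit [Fintype I] in
theorem Nd.cj_nn' (x : Kˣ) : cj (s (nn x)) (X (-sr i)) = X (sr i) := by
  apply le_antisymm (C.cj_nn_le' x)
  have h1 := cj_mono (s (nn x)) (C.cj_nn_le (-x))
  rwa [← Cfsg.Agent.OddHalf.NI.Mult.nn_inv, map_inv, cj_cj_inv] at h1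

omit [Fintype I] in
theorem Nd.KK_le_range : KK X (sr i) ≤ s.range := by
  unfold KK
  refine sup_le ?_ ?_
  · intro x hx
    obtain ⟨a, rfl⟩ := C.exists_up hx
    exact ⟨_, rfl⟩
  · intro x hx
    obtain ⟨a, rfl⟩ := C.exists_lo hx
    exact ⟨_, rfl⟩

variable (R : RGD cs h r T n X)

include R

theorem Nd.rp [Finite W] (x : Kˣ) : Rp cs R.nsys (cs.simple i) (s (nn x)) := by
  have e : s (nn x) = s (Cfsg.Agent.OddHalf.NI.Mult.up (x : K)) *
      s (Cfsg.Agent.OddHalf.NI.Mult.lo (-((x⁻¹ : Kˣ) : K))) * s (Cfsg.Agent.OddHalf.NI.Mult.up (x : K)) := by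
    rw [← map_mul, ← map_mul, ← Cfsg.Agent.OddHalf.NI.Mult.nn_eq]
  have h1 := C.cj_nn x
  have h2 := C.cj_nn' x
  rw [e] at h1 h2 ⊢
  exact Cfsg.Agent.OddHalf.NI.Mult.rp_of_swap R (C.mem_up _) (C.mem_lo _) (C.mem_up _) h1 h2

theorem Nd.dg_mem_T [Finite W] (t : Kˣ) : s (dg t) ∈ T := by
  rw [Cfsg.Agent.OddHalf.NI.Mult.dg_eq, map_mul, map_inv]
  have h1 := (C.rp R t).mul (C.rp R 1).inv
  rw [mul_inv_cancel] at h1
  exact h1.mem_of_one

theorem Nd.exists_dg [Finite W] {t : Y} (ht : t ∈ T ⊓ KK X (sr i)) : ∃ d : Kˣ, s (dg d) = t := by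
  obtain ⟨hgT, hgK⟩ := ht
  obtain ⟨m, rfl⟩ := C.KK_le_range hgK
  rcases Cfsg.Agent.OddHalf.NI.Mult.bruhat m with ⟨a, t, rfl⟩ | ⟨a, x, b, rfl⟩
  · have h1 : s (Cfsg.Agent.OddHalf.NI.Mult.up a) ∈ T := by
      have e : s (Cfsg.Agent.OddHalf.NI.Mult.up a) =
          s (Cfsg.Agent.OddHalf.NI.Mult.up a * dg t) * (s (dg t))⁻¹ := by rw [map_mul]; group
      rw [e]
      exact mul_mem hgT (inv_mem (C.dg_mem_T R t))
    obtain ⟨k, hk⟩ := R.pgrp i ⟨_, C.mem_up a⟩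
    have h2 := Cfsg.Agent.OddHalf.NI.Mult.eq_one_of_mem_T R h1 (k := k) (by simpa using congrArg Subtype.val hk)
    rw [map_mul, h2, one_mul]
    exact ⟨t, rfl⟩
  · exfalso
    have h1 : Cell R.nsys cs h X (cs.simple i)
        (s (Cfsg.Agent.OddHalf.NI.Mult.up a * nn x * Cfsg.Agent.OddHalf.NI.Mult.up b)) := by
      rw [map_mul, map_mul]
      exact ((cell_of_rp (C.rp R x)).mul_left
        (RGD.X_le_B (isRoot_sr cs h i) (sr_nonneg i) (C.mem_up a))).mul_right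
        (RGD.X_le_B (isRoot_sr cs h i) (sr_nonneg i) (C.mem_up b))
    have h2 : Cell R.nsys cs h X 1
        (s (Cfsg.Agent.OddHalf.NI.Mult.up a * nn x * Cfsg.Agent.OddHalf.NI.Mult.up b)) :=
      cell_one_of_mem (RGD.T_le_B hgT)
    have h3 := Cell.unique R h1 h2
    have h6 := cs.length_simple i
    rw [h3, cs.length_one] at h6
    exact absurd h6 (by decide)

/-- **The rank one property of a node with coordinates.** -/
theorem Nd.R1 [Finite W] : R1 T X i (s (nn 1)) := by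
  intro y hy t ht
  obtain ⟨c, rfl⟩ := C.exists_lo hy
  obtain ⟨d, rfl⟩ := C.exists_dg R ht
  refine ⟨_, C.mem_up (c - (d : K)), _, C.mem_lo (-((d⁻¹ : Kˣ) : K)), _, C.mem_up ((d⁻¹ : Kˣ) : K), ?_⟩
  rw [← map_mul, ← map_mul, ← map_mul, ← map_mul, Cfsg.Agent.H162.GaussDec.sl_rank1]

end

end Node

end Cfsg.Agent.H346.PwU
end

-- part: H346/Pw/TwoU
section
/-!
# S2465 (LIE/U): products of two `r`-elements, unitary groups
-/

set_option autoImplicit false
set_option linter.unusedSectionVars false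

namespace Cfsg.Agent.H346.PwU

open Cfsg.Agent.ChevalleyStructure.CoxeterGeom Cfsg.Agent.Tits.Roots
open Cfsg.Agent.Nodes Cfsg.Agent.Nodes.TypeC Cfsg.Agent.Nodes.Comb Cfsg.Agent.Nodes.Reps
  Cfsg.Agent.Nodes.WittRoot Cfsg.Agent.Nodes.BNOf Cfsg.Agent.Nodes.WittRGD Cfsg.Agent.Nodes.RGDLib
open Cfsg.Agent.TitsThree Cfsg.Agent.TitsThree.Siegel Cfsg.Agent.TitsThree.WittFrame
  Cfsg.Agent.TitsThree.WittWeyl
open Cfsg.Agent.H514.DP (PW)
open Cfsg.Agent.H162.GaussDec (R1)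
open Cfsg.Agent.OddHalf.NI.Mult (KK)

/-- `pw_of_R1` with the representatives chosen -/
theorem pw_of_exR1 {I W Y : Type*} [Fintype I] [DecidableEq I] [Group W] [Group Y] {M : CoxeterMatrix I}
    {cs : CoxeterSystem M W} {A : I → I → ℤ} {h : IsCartan M A} {r : ℕ} {T : Subgroup Y} {n : I → Y}
    {X : (I → ℤ) → Subgroup Y} [Finite W] [Finite Y] [Fact r.Prime] [Nonempty I] (R : RGD cs h r T n X)
    (hG : G1 cs h X = ⊤)
    (hconn : ∀ J : Set I, J.Nonempty → J ≠ Set.univ → ∃ a ∈ J, ∃ b, b ∉ J ∧ M a b ≠ 2)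
    (hm : ∀ i, ∃ m : Y, Rp cs R.nsys (cs.simple i) m ∧ R1 T X i m)
    {S : Type*} [Group S] [IsSimpleGroup S] (π : Y →* S) (hπ : Function.Surjective π)
    (hk : π.ker ≤ Subgroup.center Y) : PW r 2 S := by
  choose m h1 h2 using hm
  exact pw_of_R1 R hG hconn h1 h2 π hπ hk

/-! ### The long nodes of a Witt frame -/

section Wt

open Cfsg.Agent.OddHalf.NI.WittCoord (ne_nx)
open Cfsg.Agent.OddHalf.NI.WittSL (SX SX_up SX_lo)

variable {F : Type*} [Field F] {V : Type*} [AddCommGroup V] [Module F V] {H : HForm F V} {n : ℕ}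
  {Fr : Frame H (Fin n)} {G0 : Subgroup (V ≃ₗ[F] V)}

theorem SX_mem (hA : Amb Fr G0) {i : Fin n} (hi : (i : ℕ) + 1 < n) (g : Matrix.SpecialLinearGroup (Fin 2) F) :
    SX Fr (ne_nx hi) g ∈ G0 := by
  have h1 : G0.comap (SX Fr (ne_nx hi)) = ⊤ := by
    refine Cfsg.Agent.OddHalf.NI.Mult.mem_of_up_lo (fun a => ?_) (fun a => ?_)
    · rw [Subgroup.mem_comap, SX_up]; exact hA.X_mem _ _ _
    · rw [Subgroup.mem_comap, SX_lo]; exact hA.X_mem _ _ _
  have h2 : g ∈ G0.comap (SX Fr (ne_nx hi)) := by rw [h1]; trivial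
  exact h2

/-- the coordinates of the long nodes -/
theorem nd_long (hA : Amb Fr G0) {i : Fin n} (hi : (i : ℕ) + 1 < n) :
    Nd (fun x => (rg Fr x).subgroupOf G0) i ((SX Fr (ne_nx hi)).codRestrict G0 (SX_mem hA hi)) where
  up := by
    ext ⟨g, hg⟩
    constructor
    · intro h
      have h1 := Subgroup.mem_subgroupOf.1 h
      rw [rg_sr, PG_ne Fr (ne_nx hi)] at h1
      obtain ⟨t, ht⟩ := h1
      refine ⟨t, Subtype.ext ?_⟩
      change SX Fr (ne_nx hi) (Cfsg.Agent.OddHalf.NI.Mult.up t) = g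
      rw [SX_up]
      exact ht.symm
    · rintro ⟨a, ha⟩
      refine Subgroup.mem_subgroupOf.2 ?_
      have h1 : SX Fr (ne_nx hi) (Cfsg.Agent.OddHalf.NI.Mult.up a) = g := congrArg Subtype.val ha
      rw [SX_up] at h1
      rw [rg_sr, PG_ne Fr (ne_nx hi)]
      exact ⟨a, h1.symm⟩
  lo := by
    ext ⟨g, hg⟩
    constructor
    · intro h
      have h1 := Subgroup.mem_subgroupOf.1 h
      rw [rg_neg_sr, PG_ne Fr (a := ng (i, true)) (b := ng (nx i)) (ne_nx hi),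
        XG_swap Fr (a := ng (i, true)) (b := ng (nx i)) (ne_nx hi)] at h1
      obtain ⟨t, ht⟩ := h1
      refine ⟨t, Subtype.ext ?_⟩
      change SX Fr (ne_nx hi) (Cfsg.Agent.OddHalf.NI.Mult.lo t) = g
      rw [SX_lo]
      exact ht.symm
    · rintro ⟨a, ha⟩
      refine Subgroup.mem_subgroupOf.2 ?_
      have h1 : SX Fr (ne_nx hi) (Cfsg.Agent.OddHalf.NI.Mult.lo a) = g := congrArg Subtype.val ha
      rw [SX_lo] at h1
      rw [rg_neg_sr, PG_ne Fr (a := ng (i, true)) (b := ng (nx i)) (ne_nx hi),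
        XG_swap Fr (a := ng (i, true)) (b := ng (nx i)) (ne_nx hi)]
      exact ⟨a, h1.symm⟩

/-- the elements of `⟨X_i, X_{-i}⟩`, `i` the last node, fix the other frame vectors -/
theorem fix_of_KK {i : Fin n} (hi : ¬ (i : ℕ) + 1 < n) {t : ↥G0}
    (ht : t ∈ KK (fun x => (rg Fr x).subgroupOf G0) (sr i)) {z : Fin n × Bool} (hz : z.1 ≠ i) :
    (t : V ≃ₗ[F] V) (Fr.b z) = Fr.b z := by
  have hnx : nx i = (i, true) := by unfold nx; rw [dif_neg hi]
  let P : Subgroup ↥G0 :=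
    { carrier := {g | (g : V ≃ₗ[F] V) (Fr.b z) = Fr.b z}
      one_mem' := rfl
      mul_mem' := fun {a b} ha hb => by
        change (a : V ≃ₗ[F] V) ((b : V ≃ₗ[F] V) (Fr.b z)) = Fr.b z
        change (a : V ≃ₗ[F] V) (Fr.b z) = Fr.b z at ha
        change (b : V ≃ₗ[F] V) (Fr.b z) = Fr.b z at hb
        rw [hb, ha]
      inv_mem' := fun {a} ha => by
        change (a : V ≃ₗ[F] V) (Fr.b z) = Fr.b z at ha
        change (a : V ≃ₗ[F] V).symm (Fr.b z) = Fr.b z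
        rw [LinearEquiv.symm_apply_eq]
        exact ha.symm }
  have h1 : KK (fun x => (rg Fr x).subgroupOf G0) (sr i) ≤ P := by
    unfold KK
    refine sup_le ?_ ?_
    · intro g hg
      have h1 := Subgroup.mem_subgroupOf.1 hg
      rw [rg_sr, hnx, PG_self] at h1
      obtain ⟨p, hp⟩ := h1
      change (g : V ≃ₗ[F] V) (Fr.b z) = Fr.b z
      rw [hp]
      exact Z_apply_of_ne Fr (fun h => hz (congrArg Prod.fst h)) p
    · intro g hg
      have h1 := Subgroup.mem_subgroupOf.1 hg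
      rw [rg_neg_sr, hnx, PG_self] at h1
      obtain ⟨p, hp⟩ := h1
      change (g : V ≃ₗ[F] V) (Fr.b z) = Fr.b z
      rw [hp]
      exact Z_apply_of_ne Fr (fun h => hz (congrArg Prod.fst h)) p
  exact h1 ht

/-- **The last node**: it suffices that the Weyl elements `nn * t⁻¹`, `t ∈ T ∩ ⟨X_i, X_{-i}⟩`, are elements `nZ`. -/
theorem R1_last [Finite V] {p : ℕ} [Fact p.Prime] [CharP F p] (hA : Amb Fr G0) {p0 : Fr.Adm} (hp0 : p0.c ≠ 0)
    {W : Type*} [Group W] [Finite W] {cs : CoxeterSystem (CoxeterMatrix.B n) W} {i : Fin n}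
    (hi : ¬ (i : ℕ) + 1 < n)
    (R : RGD cs (isCartan n) p ((Tor Fr G0).subgroupOf G0)
      (fun i => (⟨WittRGD.nn Fr p0 i, WittAll.nn_mem (WittAll.AmbT.of_amb hA p) p0 i⟩ : ↥G0))
      (fun x => (rg Fr x).subgroupOf G0))
    (hex : ∀ g ∈ G0, (∀ z : Fin n × Bool, z.1 ≠ i → g (Fr.b z) = Fr.b z) →
      (∃ l : F, l ≠ 0 ∧ g (Fr.b (i, true)) = l • Fr.b (i, false)) →
      (∃ l : F, l ≠ 0 ∧ g (Fr.b (i, false)) = l • Fr.b (i, true)) → ∃ p : Fr.Adm, g = nZ Fr (i, true) p) :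
    ∃ m : ↥G0, Rp cs R.nsys (cs.simple i) m ∧ R1 ((Tor Fr G0).subgroupOf G0) (fun x => (rg Fr x).subgroupOf G0) i m := by
  have hnx : nx i = (i, true) := by unfold nx; rw [dif_neg hi]
  refine ⟨_, rp_simple cs R.nsys i, R1.of_exists R (rp_simple cs R.nsys i) fun t ht => ?_⟩
  obtain ⟨htT, htK⟩ := ht
  have ht1 : (t : V ≃ₗ[F] V) ∈ Tor Fr G0 := Subgroup.mem_subgroupOf.1 htT
  have hmono : Mono Fr (WittRGD.nn Fr p0 i * (t : V ≃ₗ[F] V)⁻¹) (sg i) :=
    ((mono_nn hp0 i).mul (ht1.2.inv (fun _ => rfl))).congr fun x => rfl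
  have hnn : WittRGD.nn Fr p0 i = nZ Fr (i, true) p0 := by unfold WittRGD.nn; rw [if_neg hi]
  obtain ⟨q, hq⟩ := hex (WittRGD.nn Fr p0 i * (t : V ≃ₗ[F] V)⁻¹)
    (mul_mem (WittAll.nn_mem (WittAll.AmbT.of_amb hA p) p0 i) (inv_mem t.2)) (by
      intro z hz
      have h1 := fix_of_KK hi htK hz
      have h2 : (t : V ≃ₗ[F] V)⁻¹ (Fr.b z) = Fr.b z := by
        change (t : V ≃ₗ[F] V).symm (Fr.b z) = Fr.b z
        rw [LinearEquiv.symm_apply_eq]
        exact h1.symm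
      change WittRGD.nn Fr p0 i ((t : V ≃ₗ[F] V)⁻¹ (Fr.b z)) = Fr.b z
      rw [h2, hnn]
      exact nZ_apply_of_ne Fr hz p0) (by
      obtain ⟨l, hl, e⟩ := hmono (i, true)
      rw [sg_last hi] at e
      exact ⟨l, hl, e⟩) (by
      obtain ⟨l, hl, e⟩ := hmono (i, false)
      rw [sg_last hi] at e
      exact ⟨l, hl, e⟩)
  have hZ : ∀ x : Fin n × Bool, ∀ p, Fr.Z x p ∈ G0 := hA.Z_mem
  have hup : ∀ q : Fr.Adm, (⟨Fr.Z (i, true) q, hZ _ q⟩ : ↥G0) ∈ (rg Fr (sr i)).subgroupOf G0 := by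
    intro q
    refine Subgroup.mem_subgroupOf.2 ?_
    rw [rg_sr, hnx, PG_self]
    exact ⟨q, rfl⟩
  have hlo : ∀ q : Fr.Adm, (⟨Fr.Z (neg (i, true)) q, hZ _ q⟩ : ↥G0) ∈ (rg Fr (-sr i)).subgroupOf G0 := by
    intro q
    refine Subgroup.mem_subgroupOf.2 ?_
    rw [rg_neg_sr, hnx, PG_self]
    exact ⟨q, rfl⟩
  refine ⟨_, hlo (Frame.Adm.smul (-(Fr.η (i, true) * (H.σ q.c)⁻¹)) q), _, inv_mem (hup q), _,
    inv_mem (hup (Frame.Adm.smul (H.ε * q.c * (H.σ q.c)⁻¹) q)), Subtype.ext ?_⟩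
  change Fr.Z (neg (i, true)) (Frame.Adm.smul (-(Fr.η (i, true) * (H.σ q.c)⁻¹)) q) =
    (Fr.Z (i, true) q)⁻¹ * (WittRGD.nn Fr p0 i * (t : V ≃ₗ[F] V)⁻¹) *
      (Fr.Z (i, true) (Frame.Adm.smul (H.ε * q.c * (H.σ q.c)⁻¹) q))⁻¹
  rw [hq, nZ]
  group

end Wt

/-! ### Unitary groups -/

section PSU

open Cfsg.Agent.TitsThree.SiegelGen Cfsg.Agent.TitsThree.WBridge Cfsg.Agent.TitsThree.FrameCN
  Cfsg.Agent.TitsThree.KSideU Cfsg.Agent.TitsThree.KSideUDesc
open Cfsg.Agent.LieClassical.HermBasic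
open Cfsg.Agent.OddHalf.NI
open Cfsg

variable {F : Type*} [Field F] [Fintype F] {q N m : ℕ} (hF : Fintype.card F = q ^ 2)

include hF

/-- elements of `SU` fixing the frame of an odd dimensional space are trivial -/
theorem eq_one_odd {W : WFrame (PU hF N) m} {d : Fin N → F} (hd : hermForm N F q d d = 1)
    (hW : W.V0 = Submodule.span F {d}) {k : (Fin N → F) ≃ₗ[F] (Fin N → F)} (hk : k ∈ IU F q N)
    (hb : ∀ z, k ((toFrame W).b z) = (toFrame W).b z) : k = 1 := by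
  have hA := WittU.amb_U hF W
  have hdV : d ∈ W.V0 := by rw [hW]; exact Submodule.mem_span_singleton_self d
  have hkd : k d ∈ W.V0 :=
    hA.map_V0 hk (π := id) (ρ := id) (fun x => ⟨1, one_ne_zero, by rw [_root_.one_smul]; exact hb x⟩)
      (fun _ => rfl) hdV
  rw [hW] at hkd
  obtain ⟨μ, hμ⟩ := Submodule.mem_span_singleton.1 hkd
  have hdet : LinearEquiv.det k = 1 := by
    have h1 := (Cfsg.Agent.H91.U.SIso_sB hF N).ge hk
    exact h1.1
  -- `k` is a transvection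
  let f : Module.Dual F (Fin N → F) :=
    { toFun := fun v => (μ - 1) * hermForm N F q v d
      map_add' := fun v w => by rw [herm_add_left]; ring
      map_smul' := fun c v => by rw [herm_smul_left, RingHom.id_apply, smul_eq_mul]; ring }
  have hf : ∀ v, f v = (μ - 1) * hermForm N F q v d := fun _ => rfl
  have he : ∀ i, hermForm N F q (W.e i) d = 0 := fun i => W.eV0 i hdV
  have hff : ∀ i, hermForm N F q (W.f i) d = 0 := fun i => W.fV0 i hdV
  have hfe : ∀ i, f (W.e i) = 0 := fun i => by rw [hf, he, mul_zero]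
  have hffi : ∀ i, f (W.f i) = 0 := fun i => by rw [hf, hff, mul_zero]
  have htr : (k : (Fin N → F) →ₗ[F] (Fin N → F)) = LinearMap.transvection f d := by
    refine LinearMap.ext fun v => ?_
    obtain ⟨a, b, w, hw, rfl⟩ := W.span v
    rw [hW] at hw
    obtain ⟨c, rfl⟩ := Submodule.mem_span_singleton.1 hw
    have h1 : ∀ i, k (W.e i) = W.e i := fun i => hb (i, true)
    have h2 : ∀ i, k (W.f i) = W.f i := fun i => hb (i, false)
    rw [LinearMap.transvection.apply]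
    change k _ = _
    rw [map_add, map_add, map_add, map_add, map_sum, map_sum, map_sum, map_sum]
    simp only [map_smul, h1, h2, hfe, hffi, smul_zero, Finset.sum_const_zero, zero_add, ← hμ]
    rw [hf, hd, mul_one, smul_eq_mul]
    module
  have hμ1 : μ = 1 := by
    have h1 : LinearMap.det (k : (Fin N → F) →ₗ[F] (Fin N → F)) = 1 := by
      rw [← LinearEquiv.coe_det, hdet, Units.val_one]
    rw [htr, LinearMap.transvection.det, hf, hd, mul_one] at h1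
    linear_combination h1
  refine Amb.eq_one_of_fix hA hb fun w hw => ?_
  have hw' : w ∈ Submodule.span F {d} := by rw [← hW]; exact hw
  obtain ⟨c, rfl⟩ := Submodule.mem_span_singleton.1 hw'
  rw [map_smul, ← hμ, hμ1, _root_.one_smul]

/-- the Weyl elements of the last node, odd dimension -/
theorem exists_nZ_odd {W : WFrame (PU hF N) m} {d : Fin N → F} (hd : hermForm N F q d d = 1)
    (hW : W.V0 = Submodule.span F {d}) {i : Fin m} {g : (Fin N → F) ≃ₗ[F] (Fin N → F)} (hg : g ∈ IU F q N)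
    (h1 : ∀ z : Fin m × Bool, z.1 ≠ i → g ((toFrame W).b z) = (toFrame W).b z)
    (h2 : ∃ l : F, l ≠ 0 ∧ g ((toFrame W).b (i, true)) = l • (toFrame W).b (i, false))
    (h3 : ∃ l : F, l ≠ 0 ∧ g ((toFrame W).b (i, false)) = l • (toFrame W).b (i, true)) :
    ∃ p : (toFrame W).Adm, g = nZ (toFrame W) (i, true) p := by
  have hA := WittU.amb_U hF W
  have hdV : d ∈ W.V0 := by rw [hW]; exact Submodule.mem_span_singleton_self d
  obtain ⟨l, hl, e2⟩ := h2
  obtain ⟨l', hl', e3⟩ := h3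
  -- the admissible pair
  obtain ⟨c, hc⟩ : ∃ c : F, c ^ q = l⁻¹ := ⟨(l⁻¹) ^ q, pow_q_pow_q hF _⟩
  have hc0 : c ≠ 0 := by
    rintro rfl
    rw [zero_pow_q hF] at hc
    exact inv_ne_zero hl hc.symm
  obtain ⟨α, hα⟩ := exists_norm_eq hF (c := -(c + c ^ q)) (by
    rw [neg_pow_q hF, add_pow_q hF, pow_q_pow_q hF, add_comm])
  have hok : (toFrame W).ok (α • d) c := by
    refine ⟨W.V0.smul_mem _ hdV, ?_⟩
    rw [ok_iff, herm_smul_left, herm_smul_right, hd, mul_one, hα]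
    ring
  let p : (toFrame W).Adm := ⟨α • d, c, hok⟩
  refine ⟨p, ?_⟩
  have hnZ : nZ (toFrame W) (i, true) p ∈ IU F q N := 
    mul_mem (mul_mem (hA.Z_mem _ _) (hA.Z_mem _ _)) (hA.Z_mem _ _)
  have key : (nZ (toFrame W) (i, true) p)⁻¹ * g = 1 := by
    refine eq_one_odd hF hd hW (mul_mem (inv_mem hnZ) hg) fun z => ?_
    have hs : ∀ v w : Fin N → F, nZ (toFrame W) (i, true) p w = g v →
        ((nZ (toFrame W) (i, true) p)⁻¹ * g) v = w := by
      intro v w h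
      change (nZ (toFrame W) (i, true) p).symm (g v) = w
      rw [LinearEquiv.symm_apply_eq]
      exact h.symm
    have hx : g ((toFrame W).b (i, true)) = nZ (toFrame W) (i, true) p ((toFrame W).b (i, true)) := by
      rw [e2, nZ_apply_self _ _ _ hc0]
      change _ = ((1 : F) * (1 : F)⁻¹ * (c ^ q)⁻¹) • (toFrame W).b (i, false)
      rw [hc, inv_inv, inv_one, one_mul, one_mul]
    by_cases hz : z.1 = i
    · obtain ⟨j, s⟩ := z
      simp only at hz
      subst hz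
      cases s
      · -- isometry
        refine hs _ _ ?_
        have h4 : nZ (toFrame W) (j, true) p ((toFrame W).b (j, false)) = (1 * c) • (toFrame W).b (j, true) :=
          nZ_apply_neg (toFrame W) (j, true) p hc0
        have h5 : l' = c := by
          have h6 := hA.iso g hg ((toFrame W).b (j, true)) ((toFrame W).b (j, false))
          have h7 := hA.iso _ hnZ ((toFrame W).b (j, true)) ((toFrame W).b (j, false))
          rw [← h7, ← hx, e3, h4, one_mul, HForm.smul_right, HForm.smul_right, e2, HForm.smul_left] at h6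
          have h8 : (HU hF N).h ((toFrame W).b (j, false)) ((toFrame W).b (j, true)) = 1 := by
            have h9 := (toFrame W).hb_neg_self (j, true)
            exact h9
          rw [h8, mul_one] at h6
          have h10 := mul_right_cancel₀ hl h6
          exact (HU hF N).σ.injective h10
        rw [h4, one_mul, e3, h5]
      · exact hs _ _ hx.symm
    · refine hs _ _ ?_
      rw [h1 z hz]
      exact nZ_apply_of_ne _ hz p
  exact (inv_mul_eq_one.1 key).symm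

omit hF in
theorem pw_psu {r : ℕ} [Fact r.Prime] {S : Type*} [Group S] [IsSimpleGroup S] (h : IsPSUChar r S) : PW r 2 S := by
  obtain ⟨F, _, _, _, N, q, hF, hN, -, ⟨e⟩⟩ := h
  obtain ⟨m, hm⟩ : ∃ m, N = 2 * m ∨ N = 2 * m + 1 := ⟨N / 2, by omega⟩
  have : Finite (CoxeterMatrix.B m).Group := TypeC.finite_W (CoxeterMatrix.B m).toCoxeterSystem
  have : Finite ((Fin N → F) ≃ₗ[F] (Fin N → F)) :=
    Finite.of_injective (fun g : (Fin N → F) ≃ₗ[F] (Fin N → F) => (g : (Fin N → F) → (Fin N → F)))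
      DFunLike.coe_injective
  have : Nonempty (Fin m) := ⟨⟨0, by omega⟩⟩
  have hkc : ∀ {W : WFrame (PU hF N) m} (g : ↥(IU F q N)), (e.symm.toMonoidHom.comp (toPSU F q N)) g = 1 →
      g ∈ Subgroup.center ↥(IU F q N) := by
    intro W g hg
    have h1 : toPSU F q N g = 1 := e.symm.injective (by rw [map_one]; exact hg)
    exact WittAll.ker_le_center (KInstU.model hF hN W) h1
  have hG1 : ∀ (W : WFrame (PU hF N) m), G1 (CoxeterMatrix.B m).toCoxeterSystem (isCartan m)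
      (fun x => (rg (toFrame W) x).subgroupOf (IU F q N)) = ⊤ := by
    intro W
    refine SUClosed.gen_IU hF W hN (by omega) _ ?_ ?_
    · intro i
      exact X_le_G1 (X := fun x => (rg (toFrame W) x).subgroupOf (IU F q N)) (isRoot_sr _ _ i)
    · intro i
      exact X_le_G1 (X := fun x => (rg (toFrame W) x).subgroupOf (IU F q N)) (isRoot_sr _ _ i).neg
  rcases hm with hm | hm
  · obtain ⟨W, hW⟩ := exists_wframe_even hF hm
    obtain ⟨p0, hp0, -⟩ := WittU.exists_adm hF W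
    obtain ⟨δ, L⟩ := SUClosed.exists_LF hF W hW
    have hA := WittU.amb_U hF W
    have hAT := WittAll.AmbT.of_amb hA r
    have R := rgd_restrict (WittAll.rgdC hAT hp0 (CoxeterMatrix.B m).toCoxeterSystem) (IU F q N)
      (fun x _ => hA.rg_le x) (fun i => WittAll.nn_mem hAT p0 i)
    exact pw_of_coord R (hG1 W) (WittCoord.coord L hA) (Chart.Ty.irrC m (by omega))
      (e.symm.toMonoidHom.comp (toPSU F q N)) (e.symm.surjective.comp toPSU_surjective) (fun g hg => hkc (W := W) g hg)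
  · obtain ⟨W, d, hd, hW⟩ := exists_wframe_odd hF hm
    obtain ⟨p0, hp0, -⟩ := WittU.exists_adm hF W
    have hA := WittU.amb_U hF W
    have hAT := WittAll.AmbT.of_amb hA r
    have R := rgd_restrict (WittAll.rgdC hAT hp0 (CoxeterMatrix.B m).toCoxeterSystem) (IU F q N)
      (fun x _ => hA.rg_le x) (fun i => WittAll.nn_mem hAT p0 i)
    refine pw_of_exR1 R (hG1 W) (Chart.Ty.irrC m (by omega)) (fun i => ?_)
      (e.symm.toMonoidHom.comp (toPSU F q N)) (e.symm.surjective.comp toPSU_surjective) (fun g hg => hkc (W := W) g hg)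
    by_cases hi : (i : ℕ) + 1 < m
    · exact ⟨_, (nd_long hA hi).rp R 1, (nd_long hA hi).R1 R⟩
    · exact R1_last hA hp0 hi R fun g hg h1 h2 h3 => exists_nZ_odd hF hd hW hg h1 h2 h3

end PSU

end Cfsg.Agent.H346.PwU
end
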