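import Cfsg.Agent.H148.OddSL_mg
import Cfsg.Agent.ClassicalGeometry.PSL2Basic
import Cfsg.Agent.H643.PwCnt
import Cfsg.Agent.H148.Large
import Cfsg.Agent.H346.DP.Cox
import Cfsg.Agent.H162.GaussMain
import Cfsg.Agent.S2461
import Cfsg.Agent.S2462
import Mathlib
import Cfsg.Prelude.Def_LieTypeChar
import Cfsg.Agent.H346.Pw.TwoU
import Cfsg.Agent.OddHalf.NI.ClosedSL
import Cfsg.Agent.Nodes.ChartTypeA
import Cfsg.Agent.OddHalf.NI.SpClosed
import Cfsg.Agent.Nodes.WittAll
import Cfsg.Agent.Nodes.TyChart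
import Cfsg.Agent.TitsThree.KInstSp
import Cfsg.Agent.H63.Plus
import Cfsg.Agent.H63.Odd
import Cfsg.Agent.H63.Minus
import Cfsg.Agent.OddHalf.NI.ModelChev
import Cfsg.Agent.Nodes.ChevChart
import Cfsg.Agent.H514.DP.Cyc_m3
import Cfsg.Agent.H84.TwF4Cover
import Cfsg.Agent.H147.SzReal
import Cfsg.Agent.H147.SzClass
import Cfsg.Agent.H346.DP.ChevNode_m3
import Cfsg.Agent.UGT.U2.FOne.TwESixEnd
import Cfsg.Agent.Nodes.RGDTwD4
import Cfsg.Agent.Nodes.RGDTwNode
import Cfsg.Agent.S2457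
import Cfsg.Agent.S2458
import Cfsg.Agent.H84.TitsLink
import Cfsg.Agent.H190.Exc.Main_m3
import Cfsg.Agent.LieRecognition.ReeFinal
import Cfsg.Agent.H162.GaussExc
import Cfsg.Agent.H650.AH.RowG2_mg
import Cfsg.Agent.H126.PwO.FiveThree_m3
import Cfsg.Agent.H85.Pw.IrrThree
import Cfsg.Agent.H150.Pw.ERow_m3
import Cfsg.Agent.H240.Sp44.Main_m3
import Cfsg.Agent.H122.Pw.Pc
import Cfsg.Agent.H194.Ore.RowThree_m3
import Cfsg.Agent.H194.Pw.SixAll_mg
import Cfsg.Agent.GTwoFour.MdlInvChk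
import Cfsg.Agent.GTwoFour.RedHyp_mg_m3
import Cfsg.Agent.StdG24.Ax6
import Cfsg.Agent.LieClassical.SLGen
import Cfsg.Agent.H98.Ore.Main
import Cfsg.Agent.H98.Ore.CritB_mg
import Cfsg.Agent.S0283
import Cfsg.Agent.SporadicA.PermTab
import Cfsg.Agent.H64.G23Abs
import Cfsg.Agent.GTwoThree.Model
import Cfsg.Agent.S1055
import Cfsg.Agent.H56.Exc.BigRows
import Cfsg.Agent.S1059
import Cfsg.Agent.S4278
import Cfsg.Agent.S4279
import Cfsg.Agent.ChevalleyStructure.FieldIso
import Cfsg.Agent.H501.PSq.TdSmall_m3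
import Cfsg.Agent.H65.Ore.Split_m3
import Cfsg.Agent.H165.RV.HexLin
import Cfsg.Agent.H240.HexZ
import Cfsg.Agent.H874.Pw.D4Cent
import Cfsg.Agent.Cit.HexD4
import Cfsg.Agent.H121.TwD4
import Cfsg.Agent.H207.TriFix
import Cfsg.Agent.S1067
import Cfsg.Agent.H185.NFTd
import Cfsg.Agent.H788.Der.DTwoBT
import Cfsg.Agent.H126.PwO.Nu_m3
import Cfsg.Agent.TitsThree.RTFast
import Cfsg.Agent.LieClassical.OrthForms
import Cfsg.Agent.LieClassical.OrthFinite
import Cfsg.Agent.H886.Inv.LU_m3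
import Cfsg.Agent.H578.RC.Lin_m3
import Cfsg.Agent.H140.OreO.Frame
import Mathlib.Algebra.QuadraticAlgebra.Basic
import Cfsg.Agent.H126.PwO.Mats_m3
import Cfsg.Agent.H235.Ore.He
import Cfsg.Agent.H122.Pw.FiveFour_m3
import Cfsg.Agent.H162.GaussSL
import Cfsg.Agent.H134.Sq.Base_m3
import Cfsg.Prelude.Def_Classical
import Cfsg.Agent.H98.F43.BlockE_mg
import Cfsg.Agent.FastGrp
import Cfsg.Agent.Prune
set_option linter.all false

section
prune_inst 0x7ffca8f8abb82bffdf7f7e7fa698cffc19801fffa4dff943bfe021ef0b1f030209c1238509e000fe0e42421410a87803f97eceffe06bd87ffffd1df41ffbee0ff5f635085190802407380ffe03f0778a7f3fffffffffffffffffffffffffffbeffbfffffffff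

-- part: H538/Pw/HexRGD
section
prune_inst 0x155035445d4000080000009651003e67fe0001b000088000c0a00b4e0689cc424dc28860bda0140a12088005003d0068130000b0424000000e000400011c008018800206e0c9a088400010000080400000000000000000000000000000000004000000000
set_option linter.all false
open scoped Cfsg.Agent.FastGrp

-- part: H538/Pw/SLTwo
section
/-!
# `SL(2,q)`: products of two elements with given traces (helper538)

* `exists_prod` : a nonscalar matrix over a finite field is `A * B` with `tr A = a`, `tr B = b`, if `a ≠ ± b` or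
  `X ^ 2 - b X + 1` has a root;
* `pow_of_trace` : `A ^ k` depends on the trace only.
* `exists_ell` : for `q = 2 ^ n, 3 ^ n`, `q > 3`, there is a prime `l ≥ 5` dividing `q ^ 2 - 1`.
-/

set_option autoImplicit false

namespace Cfsg.Agent.H538.Pw

open Cfsg.Agent.Lib.SL2Mat Cfsg.Agent.H148.SLTwo

variable {K : Type*} [Field K]

/-- the conic -/
theorem conic [Fintype K] (t a b : K) (hab : (a ≠ b ∧ a ≠ -b) ∨ ∃ w : K, w * w - b * w + 1 = 0) :
    ∃ x z : K, x * x + z * z - t * x * z - b * x - (a - t * b) * z + 1 = 0 := by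
  by_cases ht : t ^ 2 = 4
  · -- `t = ± 2`
    obtain ⟨ε, hε, hte⟩ : ∃ ε : K, (ε = 1 ∨ ε = -1) ∧ t = 2 * ε := by
      have : (t - 2) * (t + 2) = 0 := by linear_combination ht
      rcases mul_eq_zero.1 this with h | h
      · exact ⟨1, Or.inl rfl, by linear_combination h⟩
      · exact ⟨-1, Or.inr rfl, by linear_combination h⟩
    have hε2 : ε * ε = 1 := by rcases hε with h | h <;> rw [h] <;> ring
    by_cases h1 : a = ε * b
    · obtain ⟨w, hw⟩ : ∃ w : K, w * w - b * w + 1 = 0 := by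
        rcases hab with ⟨h2, h3⟩ | h2
        · exfalso
          rcases hε with h | h
          · exact h2 (by rw [h1, h]; ring)
          · exact h3 (by rw [h1, h]; ring)
        · exact h2
      refine ⟨w, 0, ?_⟩
      linear_combination hw
    · have h2 : a - ε * b ≠ 0 := sub_ne_zero.2 h1
      refine ⟨ε * (1 / (a - ε * b)), 1 / (a - ε * b), ?_⟩
      rw [hte]
      field_simp
      linear_combination (1 + (-2 : K)) * hε2
  by_cases h2 : (2 : K) = 0
  · -- characteristic two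
    have : CharP K 2 := CharTwo.of_one_ne_zero_of_two_eq_zero one_ne_zero h2
    have ht0 : t ≠ 0 := by
      rintro rfl
      apply ht
      linear_combination (-2) * h2
    obtain ⟨x, hx⟩ := (FiniteField.isSquare_of_char_two (F := K) (ringChar.eq K 2)
      (-((b / t) * (b / t) + (a - t * b) * (b / t) + 1)))
    refine ⟨x, -(b / t), ?_⟩
    have e : b / t * t = b := div_mul_cancel₀ _ ht0
    linear_combination (-1 : K) * hx + x * e
  · -- odd characteristic
    have h4 : (4 : K) ≠ 0 := by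
      have : (4 : K) = 2 * 2 := by norm_num
      rw [this]
      exact mul_ne_zero h2 h2
    have hodd : Fintype.card K % 2 = 1 := by
      rw [FiniteField.odd_card_of_char_ne_two]
      intro h
      apply h2
      have : CharP K 2 := h ▸ ringChar.charP K
      exact_mod_cast CharP.cast_eq_zero K 2
    have hc : 4 - t ^ 2 ≠ 0 := fun h => ht (by linear_combination -h)
    obtain ⟨u, z, h⟩ := FiniteField.exists_root_sum_quadratic (R := K) (f := Polynomial.X ^ 2)
      (g := Polynomial.C (4 - t ^ 2) * Polynomial.X ^ 2 + Polynomial.C (-(4 * a - 2 * t * b)) * Polynomial.X +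
        Polynomial.C (4 - b ^ 2)) (Polynomial.degree_X_pow 2) (Polynomial.degree_quadratic hc) hodd
    simp only [Polynomial.eval_pow, Polynomial.eval_X, Polynomial.eval_add, Polynomial.eval_mul, Polynomial.eval_C] at h
    refine ⟨(u + t * z + b) / 2, z, ?_⟩
    apply mul_left_cancel₀ h4
    have e : (2 : K) * ((u + t * z + b) / 2) = u + t * z + b := mul_div_cancel₀ _ h2
    obtain ⟨x, hx⟩ : ∃ x, x = (u + t * z + b) / 2 := ⟨_, rfl⟩
    rw [← hx] at e ⊢
    have hu : u = 2 * x - t * z - b := by linear_combination -e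
    rw [hu] at h
    linear_combination h

/-- **Products with given traces** -/
theorem exists_prod [Fintype K] (a b : K) (hab : (a ≠ b ∧ a ≠ -b) ∨ ∃ w : K, w * w - b * w + 1 = 0) (M : S K)
    (hM : ¬ (ent M 0 1 = 0 ∧ ent M 1 0 = 0 ∧ ent M 0 0 = ent M 1 1)) : ∃ A B : S K, M = A * B ∧ tr A = a ∧ tr B = b := by
  obtain ⟨y, hy⟩ := exists_entry M hM 0
  obtain ⟨N, hN⟩ : ∃ N, N = y * M * y⁻¹ := ⟨_, rfl⟩
  rw [← hN] at hy
  have hd := det_eq N
  rw [hy] at hd
  have h01 : ent N 0 1 ≠ 0 := by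
    intro h
    rw [h] at hd
    simp at hd
  obtain ⟨β, hβ⟩ : ∃ β, β = ent N 0 1 := ⟨_, rfl⟩
  obtain ⟨γ, hγ⟩ : ∃ γ, γ = ent N 1 0 := ⟨_, rfl⟩
  obtain ⟨t, ht⟩ : ∃ t, t = ent N 1 1 := ⟨_, rfl⟩
  rw [← hβ, ← hγ] at hd
  rw [← hβ] at h01
  have hβγ : β * γ = -1 := by linear_combination -hd
  obtain ⟨x, z, hxz⟩ := conic t a b hab
  -- `C = [[x, y'], [z / β, b - x]]`
  let C : S K := mk x (-(β * (a - z - t * (b - x)))) (z / β) (b - x) (by
    field_simp
    linear_combination -hxz)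
  have hC : tr C = b := by
    change ent C 0 0 + ent C 1 1 = b
    rw [mk_00, mk_11]
    ring
  have hNC : tr (N * C) = a := by
    unfold tr
    rw [ent_mul, ent_mul, hy, ← hβ, ← hγ, ← ht, mk_00, mk_01, mk_10, mk_11]
    have e : β * (z / β) = z := mul_div_cancel₀ _ h01
    linear_combination e - (a - z - t * (b - x)) * hβγ
  refine ⟨y⁻¹ * (N * C) * y⁻¹⁻¹, y⁻¹ * C⁻¹ * y⁻¹⁻¹, ?_, by rw [tr_conj]; exact hNC, by rw [tr_conj, tr_inv]; exact hC⟩
  rw [hN]
  group

/-- Cayley–Hamilton -/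
theorem sq_val (A : S K) : (A : Matrix (Fin 2) (Fin 2) K) * (A : Matrix (Fin 2) (Fin 2) K) = tr A • (A : Matrix (Fin 2) (Fin 2) K) - 1 := by
  have hd := det_eq A
  have e : ∀ i j, (A : Matrix (Fin 2) (Fin 2) K) i j = ent A i j := fun _ _ => rfl
  ext i j
  rw [Matrix.mul_apply, Fin.sum_univ_two]
  unfold tr
  (revert i j; simp only [e, _root_.Fin.forall_fin_succ, Fin.isValue, _root_.Matrix.sub_apply, _root_.Matrix.smul_apply, _root_.smul_eq_mul, _root_.Fin.succ_zero_eq_one, _root_.IsEmpty.forall_iff, _root_.Matrix.one_apply_eq, Nat.reduceAdd, _root_.ne_eq, _root_.zero_ne_one, _root_.not_false_eq_true, _root_.Matrix.one_apply_ne, _root_.sub_zero, _root_.Fin.succ_ne_zero, _root_.and_true, _root_.true_and]) <;> (repeat' with_reducible apply And.intro)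
  · linear_combination -hd
  · ring
  · ring
  · linear_combination -hd

theorem exists_uv (t : K) (k : ℕ) : ∃ u v : K, ∀ A : S K, tr A = t →
    (A : Matrix (Fin 2) (Fin 2) K) ^ k = u • (A : Matrix (Fin 2) (Fin 2) K) + v • (1 : Matrix (Fin 2) (Fin 2) K) := by
  induction k with
  | zero => exact ⟨0, 1, fun A _ => by simp⟩
  | succ k ih =>
    obtain ⟨u, v, h⟩ := ih
    refine ⟨u * t + v, -u, fun A hA => ?_⟩
    rw [pow_succ, h A hA, add_mul, smul_mul_assoc, sq_val, hA, smul_mul_assoc, one_mul, smul_sub, smul_smul]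
    ext i j
    simp only [_root_.Matrix.add_apply, _root_.Matrix.sub_apply, _root_.Matrix.smul_apply, _root_.smul_eq_mul, _root_.neg_smul, _root_.Matrix.neg_apply]
    ring

/-- **The powers depend on the trace only.** -/
theorem pow_of_trace {X : S K} (hX : ¬ (ent X 0 1 = 0 ∧ ent X 1 0 = 0 ∧ ent X 0 0 = ent X 1 1)) {k : ℕ} (hk : X ^ k = 1)
    {A : S K} (hA : tr A = tr X) : A ^ k = 1 := by
  obtain ⟨u, v, h⟩ := exists_uv (tr X) k
  have h1 := h X rfl
  have h2 := h A hA
  rw [← Matrix.SpecialLinearGroup.coe_pow, hk] at h1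
  have e : ∀ (X : S K) i j, (X : Matrix (Fin 2) (Fin 2) K) i j = ent X i j := fun _ _ _ => rfl
  have q01 := congrFun (congrFun h1 0) 1
  have q10 := congrFun (congrFun h1 1) 0
  have q00 := congrFun (congrFun h1 0) 0
  have q11 := congrFun (congrFun h1 1) 1
  simp only [e, _root_.Fin.isValue, _root_.Cfsg.Agent.Lib.SL2Mat.ent_one_01, _root_.Matrix.add_apply, _root_.Matrix.smul_apply, _root_.smul_eq_mul, _root_.ne_eq, _root_.zero_ne_one, _root_.not_false_eq_true, _root_.Matrix.one_apply_ne, _root_.MulZeroClass.mul_zero, _root_.add_zero, _root_.zero_eq_mul, _root_.Cfsg.Agent.Lib.SL2Mat.ent_one_10, _root_.one_ne_zero, _root_.Cfsg.Agent.Lib.SL2Mat.ent_one_00, _root_.Matrix.one_apply_eq, _root_.mul_one, _root_.Cfsg.Agent.Lib.SL2Mat.ent_one_11] at q01 q10 q00 q11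
  have hu : u = 0 := by
    by_contra hu
    apply hX
    refine ⟨q01.resolve_left hu, q10.resolve_left hu, ?_⟩
    have : u * (ent X 0 0 - ent X 1 1) = 0 := by linear_combination q11 - q00
    exact sub_eq_zero.1 ((mul_eq_zero.1 this).resolve_left hu)
  rw [hu] at q00 h2
  have hv : v = 1 := by linear_combination -q00
  rw [hv, zero_smul, zero_add, one_smul] at h2
  apply Subtype.ext
  rw [Matrix.SpecialLinearGroup.coe_pow]
  exact h2

/-- a prime divisor at least five -/
theorem exists_ell {q r : ℕ} (hr : r = 2 ∨ r = 3) {n : ℕ} (hq : q = r ^ n) (h4 : 4 ≤ q) :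
    ∃ l : ℕ, l.Prime ∧ 5 ≤ l ∧ l ∣ q ^ 2 - 1 := by
  by_contra hcon
  push Not at hcon
  have hn : n ≠ 0 := by
    rintro rfl
    rw [pow_zero] at hq
    omega
  have hqq : q ^ 2 - 1 = (q + 1) * (q - 1) := by
    obtain ⟨k, rfl⟩ : ∃ k, q = k + 1 := ⟨q - 1, by omega⟩
    rw [Nat.add_sub_cancel, show (k + 1) ^ 2 = (k + 1 + 1) * k + 1 by ring, Nat.add_sub_cancel]
  -- the other prime
  obtain ⟨s, hs, hrs⟩ : ∃ s : ℕ, s.Prime ∧ ((r = 2 ∧ s = 3) ∨ (r = 3 ∧ s = 2)) := by
    rcases hr with rfl | rfl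
    · exact ⟨3, Nat.prime_three, Or.inl ⟨rfl, rfl⟩⟩
    · exact ⟨2, Nat.prime_two, Or.inr ⟨rfl, rfl⟩⟩
  have hrq : r ∣ q := by rw [hq]; exact dvd_pow_self r hn
  have key : ∀ m : ℕ, m ≠ 0 → m ∣ q ^ 2 - 1 → ∃ k, m = s ^ k := by
    intro m hm0 hm
    refine ⟨_, Nat.eq_prime_pow_of_unique_prime_dvd hm0 ?_⟩
    intro l hl hlm
    have h1 := hcon l hl
    have h2 : ¬ 5 ≤ l := fun h5 => h1 h5 (hlm.trans hm)
    have h3 : l ≠ r := by
      rintro rfl
      have h5 := hlm.trans hm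
      have h6 : l ∣ q ^ 2 := hrq.trans (dvd_pow_self q (by norm_num))
      have h7 := Nat.dvd_sub h6 h5
      rw [show q ^ 2 - (q ^ 2 - 1) = 1 by
        have : 0 < q ^ 2 := by positivity
        (clear * - this; omega)] at h7
      exact hl.one_lt.ne' (Nat.dvd_one.1 h7)
    have h8 := hl.two_le
    have h9 : l ≠ 4 := by
      rintro rfl
      exact absurd hl (by decide)
    (clear * - hrs h2 h3 h8 h9; omega)
  obtain ⟨i, hi⟩ := key (q + 1) (by omega) (by rw [hqq]; exact dvd_mul_right _ _)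
  obtain ⟨j, hj⟩ := key (q - 1) (by omega) (by rw [hqq]; exact dvd_mul_left _ _)
  have hij : s ^ i = s ^ j + 2 := by omega
  have hj0 : j ≠ 0 := by
    rintro rfl
    rw [pow_zero] at hj
    omega
  have hi0 : i ≠ 0 := by
    rintro rfl
    rw [pow_zero] at hi
    omega
  rcases hrs with ⟨-, rfl⟩ | ⟨-, rfl⟩
  · have h1 : 3 ∣ 3 ^ i := dvd_pow_self 3 hi0
    have h2 : 3 ∣ 3 ^ j := dvd_pow_self 3 hj0
    omega
  · have hj1 : 2 ≤ j := by
      by_contra hlt
      have : j = 1 := by omega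
      rw [this] at hj
      omega
    have hi1 : 2 ≤ i := by
      by_contra hlt
      have : i = 1 := by omega
      rw [this] at hi
      omega
    have h1 : 2 ^ 2 ∣ 2 ^ i := pow_dvd_pow 2 hi1
    have h2 : 2 ^ 2 ∣ 2 ^ j := pow_dvd_pow 2 hj1
    omega

end Cfsg.Agent.H538.Pw
end

-- part: H538/Pw/LTwo
section
/-!
# S2465: the row `PSL(2,q)` (helper538)
-/

set_option autoImplicit false
set_option linter.unusedSimpArgs false

namespace Cfsg.Agent.H538.Pw

open Cfsg.Agent.Lib.SL2Mat Cfsg.Agent.H148.SLTwo Cfsg.Agent.H78.Pw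

universe u

variable {K : Type u} [Field K]

/-- The elements of `SL(2,q)` outside the centre are products of two elements of order prime to `n`. -/
def AllSL (n : ℕ) (K : Type u) [Field K] : Prop :=
  ∀ M : S K, ¬ (ent M 0 1 = 0 ∧ ent M 1 0 = 0 ∧ ent M 0 0 = ent M 1 1) → Pr n M

theorem central_of {M : S K} (hM : ent M 0 1 = 0 ∧ ent M 1 0 = 0 ∧ ent M 0 0 = ent M 1 1) :
    M ∈ Subgroup.center (S K) := by
  rw [Subgroup.mem_center_iff]
  intro g
  obtain ⟨h1, h2, h3⟩ := hM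
  refine ext_ent ?_ ?_ ?_ ?_ <;> simp only [ent_mul, h1, h2, h3] <;> ring

theorem all_psl {n : ℕ} (h : AllSL n K) : All n (Matrix.ProjectiveSpecialLinearGroup (Fin 2) K) := by
  intro g
  obtain ⟨M, rfl⟩ := QuotientGroup.mk'_surjective (Subgroup.center (S K)) g
  by_cases hM : ent M 0 1 = 0 ∧ ent M 1 0 = 0 ∧ ent M 0 0 = ent M 1 1
  · have h1 : (QuotientGroup.mk' (Subgroup.center (S K))) M = 1 := by
      rw [QuotientGroup.mk'_apply, QuotientGroup.eq_one_iff]
      exact central_of hM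
    rw [h1]
    exact Pr.one n
  · exact (h M hM).map _

/-- two classes given by elements `X`, `Y` -/
theorem allSL_of [Fintype K] {n k : ℕ} {X Y : S K}
    (hX : ¬ (ent X 0 1 = 0 ∧ ent X 1 0 = 0 ∧ ent X 0 0 = ent X 1 1)) (hXk : X ^ k = 1)
    (hY : ¬ (ent Y 0 1 = 0 ∧ ent Y 1 0 = 0 ∧ ent Y 0 0 = ent Y 1 1)) (hYk : Y ^ k = 1) (hk : k.Coprime n)
    (hab : (tr X ≠ tr Y ∧ tr X ≠ -tr Y) ∨ ∃ w : K, w * w - tr Y * w + 1 = 0) : AllSL n K := by
  intro M hM
  obtain ⟨A, B, e, hA, hB⟩ := exists_prod (tr X) (tr Y) hab M hM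
  exact ⟨A, B, e, Nat.Coprime.of_dvd_left (orderOf_dvd_of_pow_eq_one (pow_of_trace hX hXk hA)) hk,
    Nat.Coprime.of_dvd_left (orderOf_dvd_of_pow_eq_one (pow_of_trace hY hYk hB)) hk⟩

theorem one_00 : ent (1 : S K) 0 0 = 1 := rfl
theorem one_01 : ent (1 : S K) 0 1 = 0 := rfl
theorem one_10 : ent (1 : S K) 1 0 = 0 := rfl
theorem one_11 : ent (1 : S K) 1 1 = 1 := rfl

theorem up_pow (b : K) (n : ℕ) : (up b) ^ n = up ((n : K) * b) := by
  induction n with
  | zero => rw [pow_zero, Nat.cast_zero, zero_mul, up_zero]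
  | succ n ih => rw [pow_succ, ih, up_mul, Nat.cast_succ, add_mul, one_mul]

theorem dg_pow (b : K) (hb : b ≠ 0) (n : ℕ) : (dg b hb) ^ n = dg (b ^ n) (pow_ne_zero n hb) := by
  induction n with
  | zero =>
    refine ext_ent ?_ ?_ ?_ ?_ <;> simp [one_00, one_01, one_10, one_11]
  | succ n ih =>
    rw [pow_succ, ih]
    refine ext_ent ?_ ?_ ?_ ?_ <;> simp [ent_mul, pow_succ, mul_comm]

/-- unipotent elements -/
theorem allSL_unip [Fintype K] {r n : ℕ} [CharP K r] (hr : r.Coprime n) : AllSL n K := by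
  have hX : ¬ (ent (up (1 : K)) 0 1 = 0 ∧ ent (up (1 : K)) 1 0 = 0 ∧ ent (up (1 : K)) 0 0 = ent (up (1 : K)) 1 1) := by
    rintro ⟨h, -, -⟩
    rw [up_01] at h
    exact one_ne_zero h
  have hXr : (up (1 : K)) ^ r = 1 := by
    rw [up_pow, CharP.cast_eq_zero, zero_mul, up_zero]
  refine allSL_of hX hXr hX hXr hr (Or.inr ⟨1, ?_⟩)
  unfold tr
  rw [up_00, up_11]
  ring

/-- split semisimple elements -/
theorem allSL_split [Fintype K] {n : ℕ} (h4 : 4 ≤ Fintype.card K) (hn : (Fintype.card K - 1).Coprime n) : AllSL n K := by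
  classical
  obtain ⟨ζ, hζ⟩ : ∃ ζ : K, ζ ∉ ({0, 1, -1} : Finset K) := by
    by_contra hcon
    push Not at hcon
    have h1 : (Finset.univ : Finset K) ⊆ {0, 1, -1} := fun x _ => hcon x
    have h2 := Finset.card_le_card h1
    have h3 : ({0, 1, -1} : Finset K).card ≤ 3 := Finset.card_le_three
    rw [Finset.card_univ] at h2
    omega
  simp only [Finset.mem_insert, Finset.mem_singleton, not_or] at hζ
  obtain ⟨h0, h1, h2⟩ := hζ
  have hne : ζ ≠ ζ⁻¹ := by
    intro h
    have h3 : (ζ - 1) * (ζ + 1) = 0 := by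
      have : ζ * ζ = 1 := by
        calc ζ * ζ = ζ * ζ⁻¹ := by rw [← h]
          _ = 1 := mul_inv_cancel₀ h0
      linear_combination this
    rcases mul_eq_zero.1 h3 with h4 | h4
    · exact h1 (sub_eq_zero.1 h4)
    · exact h2 (eq_neg_of_add_eq_zero_left h4)
  have hX : ¬ (ent (dg ζ h0) 0 1 = 0 ∧ ent (dg ζ h0) 1 0 = 0 ∧ ent (dg ζ h0) 0 0 = ent (dg ζ h0) 1 1) := by
    rintro ⟨-, -, h⟩
    rw [dg_00, dg_11] at h
    exact hne h
  have hXr : (dg ζ h0) ^ (Fintype.card K - 1) = 1 := by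
    rw [dg_pow]
    refine ext_ent ?_ ?_ ?_ ?_ <;> simp only [one_00, one_01, one_10, one_11, FiniteField.pow_card_sub_one_eq_one ζ h0, _root_.Fin.isValue, _root_.Cfsg.Agent.Lib.SL2Mat.dg_00, _root_.Cfsg.Agent.Lib.SL2Mat.ent_one_00, _root_.Cfsg.Agent.Lib.SL2Mat.dg_01, _root_.Cfsg.Agent.Lib.SL2Mat.ent_one_01, _root_.Cfsg.Agent.Lib.SL2Mat.dg_10, _root_.Cfsg.Agent.Lib.SL2Mat.ent_one_10, _root_.Cfsg.Agent.Lib.SL2Mat.dg_11, _root_.inv_one, _root_.Cfsg.Agent.Lib.SL2Mat.ent_one_11]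
  refine allSL_of hX hXr hX hXr hn (Or.inr ⟨ζ, ?_⟩)
  unfold tr
  rw [dg_00, dg_11]
  field_simp
  ring

/-- nonscalar matrices -/
def NSc (M : S K) : Prop := ¬ (ent M 0 1 = 0 ∧ ent M 1 0 = 0 ∧ ent M 0 0 = ent M 1 1)

theorem sq_of_scalar {Z : S K} (h : ent Z 0 1 = 0 ∧ ent Z 1 0 = 0 ∧ ent Z 0 0 = ent Z 1 1) : Z ^ 2 = 1 := by
  obtain ⟨h1, h2, h3⟩ := h
  have hd := det_eq Z
  rw [h1, ← h3] at hd
  rw [pow_two]
  refine ext_ent ?_ ?_ ?_ ?_ <;> simp only [ent_mul, h1, h2, ← h3, one_00, one_01, one_10, one_11]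
  · linear_combination hd
  · ring
  · ring
  · linear_combination hd

theorem tr_sq (X : S K) : tr (X ^ 2) = tr X ^ 2 - 2 := by
  have hd := det_eq X
  unfold tr
  rw [pow_two, ent_mul, ent_mul]
  linear_combination -2 * hd

theorem nsc_up : NSc (up (1 : K)) := by
  rintro ⟨h, -, -⟩
  rw [up_01] at h
  exact one_ne_zero h

/-- elements of prime order `l ≥ 5`, characteristic two or three -/
theorem facts_ell {r l : ℕ} [CharP K r] (hr : r = 2 ∨ r = 3) (hl : l.Prime) (h5 : 5 ≤ l) {X : S K} (hXo : orderOf X = l) :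
    NSc X ∧ tr X ≠ 2 ∧ tr X ≠ -2 ∧ tr X ≠ 1 ∧ tr X ≠ -1 := by
  have hXl : X ^ l = 1 := by rw [← hXo]; exact pow_orderOf_eq_one X
  have hne : ∀ m : ℕ, 0 < m → (∀ p : ℕ, p.Prime → p ∣ m → p ≤ 3) → X ^ m ≠ 1 := by
    intro m hm hmp h
    have h1 := orderOf_dvd_of_pow_eq_one h
    rw [hXo] at h1
    have := hmp l hl h1
    omega
  have hX : NSc X := fun h =>
    hne 2 (by norm_num) (fun p _ hp => (Nat.le_of_dvd (by norm_num) hp).trans (by norm_num)) (sq_of_scalar h)
  -- traces of elements of small order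
  have htr : ∀ {t : K} {m : ℕ} {Z : S K} (hZ : ¬ (ent Z 0 1 = 0 ∧ ent Z 1 0 = 0 ∧ ent Z 0 0 = ent Z 1 1)),
      tr Z = t → Z ^ m = 1 → 0 < m → (∀ p : ℕ, p.Prime → p ∣ m → p ≤ 3) → tr X ≠ t := by
    intro t m Z hZ hZt hZm hm hmp h
    exact hne m hm hmp (pow_of_trace hZ hZm (by rw [h, hZt]))
  have hr3 : r ≤ 3 := by omega
  refine ⟨hX, ?_, ?_, ?_, ?_⟩
  · refine htr (Z := up 1) (m := r) nsc_up ?_ ?_ (by omega) ?_
    · unfold tr
      rw [up_00, up_11]
      ring
    · rw [up_pow, CharP.cast_eq_zero, zero_mul, up_zero]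
    · intro p _ hp
      exact (Nat.le_of_dvd (by omega) hp).trans hr3
  · intro h
    have h1 : tr (X ^ 2) = 2 := by
      rw [tr_sq, h]
      ring
    have h2 : (X ^ 2) ^ r = 1 := by
      refine pow_of_trace (X := up 1) nsc_up (k := r) ?_ ?_
      · rw [up_pow, CharP.cast_eq_zero, zero_mul, up_zero]
      · rw [h1]
        unfold tr
        rw [up_00, up_11]
        ring
    rw [← pow_mul] at h2
    refine hne (2 * r) (by omega) (fun p hp hpd => ?_) h2
    rcases hp.dvd_mul.1 hpd with h3 | h3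
    · exact (Nat.le_of_dvd (by norm_num) h3).trans (by norm_num)
    · exact (Nat.le_of_dvd (by omega) h3).trans hr3
  · refine htr (Z := mk 0 1 (-1) 1 (by ring)) (m := 6) ?_ ?_ ?_ (by norm_num) ?_
    · rintro ⟨h, -, -⟩
      rw [mk_01] at h
      exact one_ne_zero h
    · unfold tr
      rw [mk_00, mk_11]
      ring
    · have e2 : (mk (0 : K) 1 (-1) 1 (by ring)) ^ 2 = mk (-1) 1 (-1) 0 (by ring) := by
        rw [pow_two]
        refine ext_ent ?_ ?_ ?_ ?_ <;> simp [ent_mul]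
      rw [show 6 = 2 * 3 by norm_num, pow_mul, e2, pow_succ, pow_two]
      refine ext_ent ?_ ?_ ?_ ?_ <;> simp [ent_mul, one_00, one_01, one_10, one_11]
    · intro p hp hp6
      rw [show 6 = 2 * 3 by norm_num] at hp6
      rcases hp.dvd_mul.1 hp6 with h3 | h3
      · exact (Nat.le_of_dvd (by norm_num) h3).trans (by norm_num)
      · exact Nat.le_of_dvd (by norm_num) h3
  · refine htr (Z := mk 0 1 (-1) (-1) (by ring)) (m := 3) ?_ ?_ ?_ (by norm_num) ?_
    · rintro ⟨h, -, -⟩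
      rw [mk_01] at h
      exact one_ne_zero h
    · unfold tr
      rw [mk_00, mk_11]
      ring
    · rw [pow_succ, pow_two]
      refine ext_ent ?_ ?_ ?_ ?_ <;> simp [ent_mul, one_00, one_01, one_10, one_11]
    · intro p hp hp3
      exact Nat.le_of_dvd (by norm_num) hp3

/-- the square of an element of prime order `l ≥ 5` -/
theorem order_sq {l : ℕ} (hl : l.Prime) (h5 : 5 ≤ l) {G : Type*} [Group G] {X : G} (hXo : orderOf X = l) :
    orderOf (X ^ 2) = l := by
  have h : Nat.Coprime (orderOf X) 2 := by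
    rw [hXo]
    exact (Nat.coprime_primes hl Nat.prime_two).2 (by omega)
  rw [h.orderOf_pow, hXo]

theorem tr_ne_sq {r l : ℕ} [CharP K r] (hr : r = 2 ∨ r = 3) (hl : l.Prime) (h5 : 5 ≤ l) {X : S K} (hXo : orderOf X = l) :
    tr X ≠ tr (X ^ 2) ∧ tr X ≠ -tr (X ^ 2) := by
  obtain ⟨-, n2, n2', n1, n1'⟩ := facts_ell hr hl h5 hXo
  refine ⟨fun h => ?_, fun h => ?_⟩
  · rw [tr_sq] at h
    have h1 : (tr X - 2) * (tr X + 1) = 0 := by linear_combination -h
    rcases mul_eq_zero.1 h1 with h2 | h2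
    · exact n2 (sub_eq_zero.1 h2)
    · exact n1' (eq_neg_of_add_eq_zero_left h2)
  · rw [tr_sq] at h
    have h1 : (tr X + 2) * (tr X - 1) = 0 := by linear_combination h
    rcases mul_eq_zero.1 h1 with h2 | h2
    · exact n2' (eq_neg_of_add_eq_zero_left h2)
    · exact n1 (sub_eq_zero.1 h2)

theorem allSL_ell [Fintype K] {r n l : ℕ} [CharP K r] (hr : r = 2 ∨ r = 3) (hl : l.Prime) (h5 : 5 ≤ l)
    (hd : l ∣ Fintype.card K ^ 2 - 1) (hn : l.Coprime n) : AllSL n K := by
  have : Fact l.Prime := ⟨hl⟩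
  obtain ⟨X, hXo⟩ := exists_prime_orderOf_dvd_card' (G := S K) l (by
    rw [Cfsg.Agent.ClassicalGeometry.PSL2Basic.card_SL2]; exact hd.mul_left _)
  have hYo := order_sq hl h5 hXo
  refine allSL_of (facts_ell hr hl h5 hXo).1 (by rw [← hXo]; exact pow_orderOf_eq_one X) (facts_ell hr hl h5 hYo).1
    (by conv_lhs => rw [← hYo]
        exact pow_orderOf_eq_one _) hn (Or.inl (tr_ne_sq hr hl h5 hXo))

/-- the noncentral elements of `SL(2,q)`, `q ≥ 4` -/
theorem allSL_six [Fintype K] (h4 : 4 ≤ Fintype.card K) : AllSL 6 K := by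
  obtain ⟨r, hr⟩ := CharP.exists K
  obtain ⟨n, hrp, hc⟩ := FiniteField.card K r
  by_cases h5 : r = 2 ∨ r = 3
  · obtain ⟨l, hl, hl5, hd⟩ := exists_ell h5 hc h4
    refine allSL_ell h5 hl hl5 hd ?_
    rw [show (6 : ℕ) = 2 * 3 by norm_num]
    exact Nat.Coprime.mul_right ((Nat.coprime_primes hl Nat.prime_two).2 (by omega))
      ((Nat.coprime_primes hl Nat.prime_three).2 (by omega))
  · refine allSL_unip (r := r) ?_
    rw [show (6 : ℕ) = 2 * 3 by norm_num]
    exact Nat.Coprime.mul_right ((Nat.coprime_primes hrp Nat.prime_two).2 (fun h => h5 (Or.inl h)))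
      ((Nat.coprime_primes hrp Nat.prime_three).2 (fun h => h5 (Or.inr h)))

theorem allSL_prime [Fintype K] (h4 : 4 ≤ Fintype.card K) {p : ℕ} (hp : p.Prime) : AllSL p K := by
  obtain ⟨r, hr⟩ := CharP.exists K
  obtain ⟨n, hrp, hc⟩ := FiniteField.card K r
  by_cases hpr : r = p
  · subst hpr
    refine allSL_split h4 ?_
    rw [Nat.coprime_comm, Nat.Prime.coprime_iff_not_dvd hp]
    intro h
    have h1 : r ∣ Fintype.card K := by rw [hc]; exact dvd_pow_self r n.ne_zero
    have h2 := Nat.dvd_sub h1 h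
    rw [show Fintype.card K - (Fintype.card K - 1) = 1 by omega] at h2
    exact hp.one_lt.ne' (Nat.dvd_one.1 h2)
  · exact allSL_unip (r := r) ((Nat.coprime_primes hrp hp).2 hpr)

/-- **The row `PSL(2,q)`, `q ≥ 4`** -/
theorem pw_l2 [Fintype K] (h4 : 4 ≤ Fintype.card K) : Pw (Matrix.ProjectiveSpecialLinearGroup (Fin 2) K) :=
  ⟨all_psl (allSL_six h4), fun _ hp _ => all_psl (allSL_prime h4 hp)⟩

end Cfsg.Agent.H538.Pw
end

-- part: H538/Pw/HexSix
section
/-!
# S2465: groups of type `G₂` and `³D₄`, the abstract part (helper538)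

* `HG c` : the Gauss decomposition with trivial torus part;
* `all_of_hex` : two classes `pa m₁ * s`, `pa m₂ * s⁻¹`, the traces of `m₁`, `m₂` are prescribed.
-/

set_option autoImplicit false

namespace Cfsg.Agent.H538.Pw

open Cfsg.Agent.SplitTwo Cfsg.Agent.TitsThree.RankTwoZ Cfsg.Agent.Lib.SL2Mat Cfsg.Agent.Cit.HexBase
  Cfsg.Agent.Cit.HexBase.HexGrp Cfsg.Agent.H148.SLTwo Cfsg.Agent.H148.Hex Cfsg.Agent.H78.Pw

universe u

variable {E : Type*} [Field E] {σ : E ≃+* E} {L : Type u} [Group L]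

/-- the Gauss decomposition with trivial torus part -/
def HG (c : HexGrp σ L) : Prop :=
  ∀ g : L, g ≠ 1 → ∃ y : L, ∃ v ∈ Sg c.X {0, 7, 8, 9, 10, 11}, ∃ u ∈ Sg c.X {1, 2, 3, 4, 5, 6}, y * g * y⁻¹ = v * u

variable {c : HexGrp σ L}

/-- the polynomial `1 - τ x + x²` has no root `x` -/
def NR (τ x : E) : Prop := 1 - x * τ + x ^ 2 ≠ 0

theorem NR.inv {τ x : E} (hx : x ≠ 0) (h : NR τ x) : NR τ x⁻¹ := by
  intro h1
  apply h
  have h2 : x ^ 2 * (1 - x⁻¹ * τ + x⁻¹ ^ 2) = 0 := by rw [h1, mul_zero]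
  have h3 : x * x⁻¹ = 1 := mul_inv_cancel₀ hx
  linear_combination h2 + (x * τ - (x * x⁻¹ + 1)) * h3

theorem fpf_tr {s : L} {c1 : E} (hs : c.Act s c1 1) {m : SL2 ↥(fx σ)} {τ : ↥(fx σ)} (hm : tr m = τ)
    (h1 : NR (τ : E) c1) (h2 : shp σ c1 ≠ 1) (h3 : NR (τ : E) (nrm σ c1)) : Fpf (c.pa m * s) (Sg c.X Qb) := by
  have e1 : ((ent m 0 0 : ↥(fx σ)) : E) + ((ent m 1 1 : ↥(fx σ)) : E) = (τ : E) := by
    have := congrArg (fun x : ↥(fx σ) => (x : E)) hm
    exact this
  refine fpf_Qb c m hs ?_ ?_ ?_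
  · rw [one_mul, e1, mul_one]
    exact h1
  · rwa [one_mul]
  · rw [mul_one, one_mul, e1, one_pow, mul_one]
    exact h3

theorem shp_inv_ne {c1 : E} (h0 : c1 ≠ 0) (h2 : shp σ c1 ≠ 1) : shp σ c1⁻¹ ≠ 1 := by
  intro h
  have h5 : shp σ c1 * shp σ c1⁻¹ = 1 := by rw [← shp_mul, mul_inv_cancel₀ h0]; unfold shp; simp
  rw [h, mul_one] at h5
  exact h2 h5

theorem fpf_tr' {s : L} {c1 : E} (hs : c.Act s c1 1) {m : SL2 ↥(fx σ)} {τ : ↥(fx σ)} (hm : tr m = τ)
    (h1 : NR (τ : E) c1) (h2 : shp σ c1 ≠ 1) (h3 : NR (τ : E) (nrm σ c1)) : Fpf (c.pa m * s) (Sg c.X Qb') := by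
  have hne := hs.ne1
  have h := fpf_tr (act_n3_one hs) hm (h1.inv hne) (shp_inv_ne hne h2) (by rw [nrm_inv]; exact h3.inv (nrm_ne (σ := σ) hne))
  have e : n3 c * (c.pa m * s) * (n3 c)⁻¹ = c.pa m * (n3 c * s * (n3 c)⁻¹) := by
    calc n3 c * (c.pa m * s) * (n3 c)⁻¹ = (n3 c * c.pa m * (n3 c)⁻¹) * (n3 c * s * (n3 c)⁻¹) := by group
      _ = _ := by rw [comm_pa_n3]
  rw [← e] at h
  refine Fpf.of_conj (n := n3 c) (fun g hg => conj_Sg (maps_n3 c) (by decide +kernel) hg) (fun g hg => ?_) h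
  have := conj_Sg (maps_n3_inv c) (s := Qb) (t := Qb') (by decide +kernel) hg
  rwa [inv_inv] at this

/-- the conditions on the pair `(s, τ)` -/
structure OK (c : HexGrp σ L) (N : ℕ) (s : L) (c1 : E) (τ : ↥(fx σ)) : Prop where
  nr1 : NR (τ : E) c1
  nr2 : NR (τ : E) (nrm σ c1)
  ord : ∀ m : SL2 ↥(fx σ), tr m = τ → (orderOf m).Coprime N

/-- the product of two elements of the Levi subgroup -/
theorem pr_of_levi [Finite L] {N : ℕ} {s : L} {c1 : E} (hs : c.Act s c1 1) (hsN : (orderOf s).Coprime N)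
    (h2 : shp σ c1 ≠ 1) {a b : ↥(fx σ)} (ha : OK c N s c1 a) (hb : OK c N s c1 b) {m1 m2 : SL2 ↥(fx σ)} (hm1 : tr m1 = a)
    (hm2 : tr m2 = b) {g y v u : L} (hv : v ∈ Sg c.X Qb') (hu : u ∈ Sg c.X Qb)
    (e : y * g * y⁻¹ = v * c.pa (m1 * m2) * u) : H78.Pw.Pr N g := by
  have hinv := hs.inv.congr rfl rfl inv_one
  have hne := hs.ne1
  obtain ⟨a1, e1⟩ := (fpf_tr' hs hm1 ha.nr1 h2 ha.nr2).left hv
  obtain ⟨a2, e2⟩ := (fpf_tr hinv hm2 (hb.nr1.inv hne) (shp_inv_ne hne h2)
    (by rw [nrm_inv]; exact hb.nr2.inv (nrm_ne (σ := σ) hne))).right hu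
  have hcm := comm_pa_of_one c hs m2
  have h3 : y * g * y⁻¹ = (a1 * (c.pa m1 * s) * a1⁻¹) * (a2 * (c.pa m2 * s⁻¹) * a2⁻¹) := by
    rw [← e1, ← e2, e, map_mul]
    calc v * (c.pa m1 * c.pa m2) * u = v * (c.pa m1 * (c.pa m2 * s * s⁻¹)) * u := by group
      _ = v * (c.pa m1 * (s * c.pa m2 * s⁻¹)) * u := by rw [hcm]
      _ = _ := by group
  have hord : ∀ {s' : L} {d : E} (_ : c.Act s' d 1) (_ : (orderOf s').Coprime N) {m : SL2 ↥(fx σ)} {τ : ↥(fx σ)}
      (_ : (orderOf m).Coprime N) (w : L), (orderOf (w * (c.pa m * s') * w⁻¹)).Coprime N := by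
    intro s' d hs' hN m τ hm w
    have h4 : orderOf (w * (c.pa m * s') * w⁻¹) = orderOf (c.pa m * s') := by
      have := (MulAut.conj w).orderOf_eq (c.pa m * s')
      rwa [MulAut.conj_apply] at this
    rw [h4]
    exact coprime_orderOf_mul (comm_pa_of_one c hs' m).symm
      (Nat.Coprime.of_dvd_left (orderOf_map_dvd c.pa m) hm) hN
  refine Pr.of_conj (x := y) ⟨_, _, h3, hord hs hsN (τ := a) (ha.ord m1 hm1) a1, hord hinv ?_ (τ := b) (hb.ord m2 hm2) a2⟩
  rwa [orderOf_inv]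

/-- **All elements are products of two elements of order prime to `N`.** -/
theorem all_of_hex [Finite L] [Fintype ↥(fx σ)] (hG : HG c) {N : ℕ} {s : L} {c1 : E} (hs : c.Act s c1 1)
    (hsN : (orderOf s).Coprime N) (h2 : shp σ c1 ≠ 1) {a b : ↥(fx σ)} (ha : OK c N s c1 a) (hb : OK c N s c1 b)
    (hab : (a ≠ b ∧ a ≠ -b) ∨ ∃ w : ↥(fx σ), w * w - b * w + 1 = 0) : All N L := by
  intro g
  by_cases hg : g = 1
  · rw [hg]; exact Pr.one N
  obtain ⟨y, v, hv, u, hu, e⟩ := hG g hg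
  obtain ⟨v1, hv1, w0, h0, rfl⟩ := c.exists_mul' (k := 0) (s := Qb') (by decide +kernel)
    (Sg_mono (by decide +kernel) hv : v ∈ Sg c.X (insert 0 Qb'))
  obtain ⟨w6, h6, u1, hu1, rfl⟩ := c.exists_mul (k := 6) (s := Qb) (by decide +kernel)
    (Sg_mono (by decide +kernel) hu : u ∈ Sg c.X (insert 6 Qb))
  obtain ⟨b0, rfl⟩ := (c.pa_lo _).1 h0
  obtain ⟨d0, hd0, rfl⟩ := (c.par.mem6 _).1 h6
  have e6 : c.x6 d0 = c.pa (up ⟨d0, hd0⟩) := (c.pa_up ⟨d0, hd0⟩).symm
  obtain ⟨l, hl⟩ : ∃ l : SL2 ↥(fx σ), l = lo b0 * up ⟨d0, hd0⟩ := ⟨_, rfl⟩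
  have e' : y * g * y⁻¹ = v1 * c.pa l * u1 := by
    rw [e, e6, hl, map_mul]
    group
  by_cases hsc : ent l 0 1 = 0 ∧ ent l 1 0 = 0 ∧ ent l 0 0 = ent l 1 1
  · -- `l = 1`
    have h00 : ent l 0 0 = 1 := by
      rw [hl, ent_mul, lo_00, lo_01, up_00]
      ring
    have hl1 : l = 1 := by
      obtain ⟨h1, h2, h3⟩ := hsc
      refine ext_ent ?_ ?_ ?_ ?_
      · rw [h00]; rfl
      · rw [h1]; rfl
      · rw [h2]; rfl
      · rw [← h3, h00]; rfl
    obtain ⟨m, hm⟩ : ∃ m : SL2 ↥(fx σ), m = _root_.Cfsg.Agent.Lib.SL2Mat.mk 0 1 (-1) a (by ring) := ⟨_, rfl⟩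
    have hmt : tr m = a := by
      rw [hm]
      unfold tr
      rw [mk_00, mk_11, zero_add]
    refine pr_of_levi hs hsN h2 ha ha hmt (m2 := m⁻¹) (by rw [tr_inv, hmt]) hv1 hu1 (e'.trans ?_)
    rw [hl1, mul_inv_cancel]
  · obtain ⟨A, B, hAB, hA, hB⟩ := exists_prod a b hab l hsc
    exact pr_of_levi hs hsN h2 ha hb hA hB hv1 hu1 (by rw [e', hAB])

end Cfsg.Agent.H538.Pw
end

-- part: H538/Pw/HexRGD
section
/-!
# S2465: Gauss decomposition of a `HexGrp` from a root group datum (helper538)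
-/

set_option autoImplicit false
set_option linter.unusedSectionVars false

namespace Cfsg.Agent.H538.Pw

open CoxeterSystem Cfsg.Agent.ChevalleyStructure.CoxeterGeom Cfsg.Agent.Tits.Roots Cfsg.Agent.Tits.Core
  Cfsg.Agent.Nodes.Reps
  Cfsg.Agent.Nodes.BNOf Cfsg.Agent.Nodes.RGDLib Cfsg.Agent.Nodes.OppDec
  Cfsg.Agent.OddHalf.NI.Mult

section

variable {I W Y : Type*} [Fintype I] [DecidableEq I] [Group W] [Group Y] {M : CoxeterMatrix I}
  {cs : CoxeterSystem M W} {A : I → I → ℤ} {h : IsCartan M A} {p : ℕ} {T : Subgroup Y} {n : I → Y}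
  {X : (I → ℤ) → Subgroup Y} {F : I → Type*} [∀ i, Field (F i)]
  {s : ∀ i, Matrix.SpecialLinearGroup (Fin 2) (F i) →* Y}

theorem notMem_core [Finite W] [Nonempty I] (R : RGD cs h p T n X) [IsSimpleGroup Y] {g : Y} (hg : g ≠ 1) :
    g ∉ (RGD.B cs h T X).normalCore := by
  intro h1
  have h2 := H162.GaussMain.core_le_ker R (MonoidHom.id Y)
    Function.surjective_id (fun x hx => by
      rw [MonoidHom.mem_ker] at hx
      change x = 1 at hx
      rw [hx]
      exact one_mem _) h1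
  exact hg h2

/-- **The own characteristic**: every element is a product of two `r`-elements. -/
theorem all_own [Finite W] [Finite Y] [Nonempty I] [Fact p.Prime] [IsSimpleGroup Y] (R : RGD cs h p T n X)
    (hG : G1 cs h X = ⊤) (C : Coord X F s)
    (hconn : ∀ J : Set I, J.Nonempty → J ≠ Set.univ → ∃ a ∈ J, ∃ b, b ∉ J ∧ M a b ≠ 2) {N : ℕ} (hN : p.Coprime N) :
    H78.Pw.All N Y := by
  intro g
  by_cases hg : g = 1
  · rw [hg]; exact H78.Pw.Pr.one N
  obtain ⟨x, v, hv, u, hu, e⟩ := Cfsg.Agent.H162.GaussDec.gauss R hG C hconn (notMem_core R hg)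
  obtain ⟨k, hk⟩ := (RGD.isPGroup_Upos R) ⟨u, hu⟩
  have hR' := Cfsg.Agent.KFacts.RgdOpp.opp R
  obtain ⟨k', hk'⟩ := (RGD.isPGroup_Upos hR') ⟨v, by rw [Cfsg.Agent.KFacts.RgdOpp.U_opp]; exact hv⟩
  exact H78.Pw.Pr.of_conj (x := x) ⟨v, u, e,
    Nat.Coprime.of_dvd_left (orderOf_dvd_of_pow_eq_one (congrArg Subtype.val hk')) (hN.pow_left k'),
    Nat.Coprime.of_dvd_left (orderOf_dvd_of_pow_eq_one (congrArg Subtype.val hk)) (hN.pow_left k)⟩

open Cfsg.Agent.TitsThree.RankTwoZ Cfsg.Agent.Cit.HexBase Cfsg.Agent.Cit.HexBase.HexGrp in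
theorem hg_of_rgd [Finite W] [Nonempty I] [IsSimpleGroup Y] (R : RGD cs h p T n X)
    (hG : G1 cs h X = ⊤) (C : Coord X F s)
    (hconn : ∀ J : Set I, J.Nonempty → J ≠ Set.univ → ∃ a ∈ J, ∃ b, b ∉ J ∧ M a b ≠ 2)
    {E : Type*} [Field E] {σ : E ≃+* E} {c : HexGrp σ Y} (hU : RGD.Sup X (RGD.Pos cs h) ≤ Sg c.X {1, 2, 3, 4, 5, 6})
    (hV : RGD.Sup X (_root_.Cfsg.Agent.Nodes.OppDec.Neg cs h) ≤ Sg c.X {0, 7, 8, 9, 10, 11}) : HG c := by
  intro g hg
  obtain ⟨x, v, hv, u, hu, e⟩ := Cfsg.Agent.H162.GaussDec.gauss R hG C hconn (notMem_core R hg)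
  exact ⟨x, v, hV hv, u, hU hu, e⟩

end

end Cfsg.Agent.H538.Pw
end
end

-- part: H335/Pw/Own
section
set_option linter.all false
open scoped Cfsg.Agent.FastGrp

-- part: H335/Pw/Count
section
/-!
# Counting `p`-singular elements (helper335)

`all_of_conj` : one class of elements of order `p ≥ 3`, no elements of order `p²`: every element is a product of two
elements of order prime to `p`.
-/

set_option autoImplicit false

namespace Cfsg.Agent.H335.Pw

open Cfsg.Agent.H78.Pw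

universe u

variable {G : Type u} [Group G]

theorem orderOf_cj (u x : G) : orderOf (u * x * u⁻¹) = orderOf x := by
  have h : u * x * u⁻¹ = MulAut.conj u x := rfl
  rw [h, MulEquiv.orderOf_eq]

/-- `y` is determined by `y ^ p`, if its order is prime to `p` -/
theorem eq_of_pow {p : ℕ} {y y' : G} (hy : (orderOf y).Coprime p) (hy' : (orderOf y').Coprime p)
    (h : y ^ p = y' ^ p) : y = y' := by
  have h1 : orderOf (y ^ p) = orderOf y := Nat.Coprime.orderOf_pow hy
  have h2 : orderOf (y' ^ p) = orderOf y' := Nat.Coprime.orderOf_pow hy'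
  obtain ⟨a, ha⟩ := exists_pow_eq_self_of_coprime hy.symm
  have h3 : orderOf y = orderOf y' := by rw [← h1, ← h2, h]
  have h4 : y' ^ (p * a) = y' := by
    have h5 : y ^ (p * a) = y := by rw [pow_mul]; exact ha
    have h6 : y ^ (p * a) = y ^ 1 := by rw [h5, pow_one]
    have h7 := pow_eq_pow_iff_modEq.1 h6
    rw [h3] at h7
    rw [pow_eq_pow_iff_modEq.2 h7, pow_one]
  rw [← ha, ← h4, pow_mul, h]

/-- decomposition of an element -/
theorem exists_split {p : ℕ} (hp : p.Prime) {g : G} (hg : p ∣ orderOf g) (h2 : ¬ p * p ∣ orderOf g)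
    (_h0 : orderOf g ≠ 0) : ∃ x y : G, g = x * y ∧ Commute x y ∧ x ^ p = 1 ∧ x ≠ 1 ∧ (orderOf y).Coprime p := by
  obtain ⟨m, hm⟩ := hg
  have hpm : ¬ p ∣ m := fun h => h2 (by rw [hm]; exact Nat.mul_dvd_mul_left p h)
  have hcop : Nat.Coprime p m := (Nat.Prime.coprime_iff_not_dvd hp).2 hpm
  obtain ⟨k, hk1, hk2⟩ := Nat.chineseRemainder (n := p) (m := m) hcop 1 0
  obtain ⟨c, hc⟩ := (Nat.modEq_zero_iff_dvd.1 hk2)
  refine ⟨g ^ k, (g ^ k)⁻¹ * g, by group, ?_, ?_, ?_, ?_⟩
  · exact ((Commute.refl (g ^ k)).inv_right).mul_right ((Commute.refl g).pow_left k)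
  · rw [hc, ← pow_mul]
    have : m * c * p = orderOf g * c := by rw [hm]; ring
    rw [this, pow_mul, pow_orderOf_eq_one, one_pow]
  · intro h
    have h3 := orderOf_dvd_of_pow_eq_one h
    have h4 : p ∣ k := (Dvd.intro m hm.symm).trans h3
    have h5 : (0 : ℕ) ≡ 1 [MOD p] := ((Nat.modEq_zero_iff_dvd.2 h4).symm.trans hk1)
    have h6 := (Nat.modEq_iff_dvd' (by norm_num)).1 h5
    exact hp.one_lt.ne' (Nat.dvd_one.1 h6)
  · -- the order divides `m`
    have h3 : ((g ^ k)⁻¹ * g) ^ m = 1 := by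
      have hcm : Commute (g ^ k)⁻¹ g := ((Commute.refl g).pow_left k).inv_left
      rw [hcm.mul_pow, inv_pow, ← pow_mul]
      have h4 : g ^ (k * m) = g ^ m := by
        apply pow_eq_pow_iff_modEq.2
        rw [hm]
        have := Nat.ModEq.mul_right' m hk1
        rwa [one_mul] at this
      rw [h4, inv_mul_cancel]
    exact Nat.Coprime.of_dvd_left (orderOf_dvd_of_pow_eq_one h3) hcop.symm

theorem card_singular [Finite G] {p : ℕ} (hp : p.Prime) {x₀ : G} (hx₀ : x₀ ^ p = 1) (hx₀1 : x₀ ≠ 1)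
    (hconj : ∀ x : G, x ^ p = 1 → x ≠ 1 → ∃ t : G, t * x * t⁻¹ = x₀) (hexp : ∀ g : G, ¬ p * p ∣ orderOf g) :
    Nat.card {g : G // p ∣ orderOf g} * p ≤ Nat.card G := by
  classical
  have hsp : ∀ g : {g : G // p ∣ orderOf g}, ∃ x y : G, g.1 = x * y ∧ Commute x y ∧ x ^ p = 1 ∧ x ≠ 1 ∧
      (orderOf y).Coprime p := fun g => exists_split hp g.2 (hexp g.1) (orderOf_pos g.1).ne'
  choose x y e hc hx hx1 hy using hsp
  have ht : ∀ z : G, ∃ t : G, (z ^ p = 1 → z ≠ 1 → t * z * t⁻¹ = x₀) := by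
    intro z
    by_cases h : z ^ p = 1 ∧ z ≠ 1
    · obtain ⟨t, ht⟩ := hconj z h.1 h.2
      exact ⟨t, fun _ _ => ht⟩
    · exact ⟨1, fun h1 h2 => absurd ⟨h1, h2⟩ h⟩
  choose t ht using ht
  have hord : orderOf x₀ = p := by
    have := Fact.mk hp
    exact orderOf_eq_prime hx₀ hx₀1
  let f : {g : G // p ∣ orderOf g} × Fin p → G := fun a =>
    (t (x a.1))⁻¹ * (x₀ ^ (a.2 : ℕ) * (t (x a.1) * y a.1 * (t (x a.1))⁻¹))
  have hcomm : ∀ a : {g : G // p ∣ orderOf g}, Commute x₀ (t (x a) * y a * (t (x a))⁻¹) := by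
    intro a
    have h1 := ht (x a) (hx a) (hx1 a)
    have h2 := (hc a).eq
    change x₀ * _ = _ * x₀
    rw [← h1]
    calc t (x a) * x a * (t (x a))⁻¹ * (t (x a) * y a * (t (x a))⁻¹) = t (x a) * (x a * y a) * (t (x a))⁻¹ := by group
      _ = t (x a) * (y a * x a) * (t (x a))⁻¹ := by rw [h2]
      _ = _ := by group
  have hf : Function.Injective f := by
    rintro ⟨g, i⟩ ⟨g', i'⟩ h
    change (t (x g))⁻¹ * (x₀ ^ (i : ℕ) * (t (x g) * y g * (t (x g))⁻¹)) =
      (t (x g'))⁻¹ * (x₀ ^ (i' : ℕ) * (t (x g') * y g' * (t (x g'))⁻¹)) at h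
    set c := x₀ ^ (i : ℕ) * (t (x g) * y g * (t (x g))⁻¹) with hcd
    set c' := x₀ ^ (i' : ℕ) * (t (x g') * y g' * (t (x g'))⁻¹) with hcd'
    have hc1 : Commute x₀ c := ((Commute.refl x₀).pow_right _).mul_right (hcomm g)
    have hc2 : Commute x₀ c' := ((Commute.refl x₀).pow_right _).mul_right (hcomm g')
    have h1 : t (x g') = c' * c⁻¹ * t (x g) := by
      have : c = t (x g) * ((t (x g'))⁻¹ * c') := by rw [← h]; group
      rw [this]; group
    have h2 : Commute x₀ (c' * c⁻¹) := hc2.mul_right hc1.inv_right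
    have hxx : x g = x g' := by
      have e1 := ht (x g) (hx g) (hx1 g)
      have e2 := ht (x g') (hx g') (hx1 g')
      have e3 : x g = (t (x g))⁻¹ * x₀ * t (x g) := by rw [← e1]; group
      have e4 : x g' = (t (x g'))⁻¹ * x₀ * t (x g') := by rw [← e2]; group
      rw [e3, e4, h1]
      have e5 : (c' * c⁻¹)⁻¹ * x₀ * (c' * c⁻¹) = x₀ := by
        rw [mul_assoc, h2.eq]; group
      calc (t (x g))⁻¹ * x₀ * t (x g) = (t (x g))⁻¹ * ((c' * c⁻¹)⁻¹ * x₀ * (c' * c⁻¹)) * t (x g) := by rw [e5]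
        _ = _ := by group
    have hcc : c = c' := by
      have e1 := h
      rw [hxx] at e1
      exact mul_left_cancel e1
    have hcp : c ^ p = (t (x g) * y g * (t (x g))⁻¹) ^ p := by
      rw [hcd, ((hcomm g).pow_left _).mul_pow, ← pow_mul, mul_comm, pow_mul, hx₀, one_pow, one_mul]
    have hcp' : c' ^ p = (t (x g') * y g' * (t (x g'))⁻¹) ^ p := by
      rw [hcd', ((hcomm g').pow_left _).mul_pow, ← pow_mul, mul_comm, pow_mul, hx₀, one_pow, one_mul]
    have hyy : t (x g) * y g * (t (x g))⁻¹ = t (x g') * y g' * (t (x g'))⁻¹ := by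
      refine eq_of_pow (p := p) ?_ ?_ (by rw [← hcp, ← hcp', hcc])
      · rw [orderOf_cj]; exact hy g
      · rw [orderOf_cj]; exact hy g'
    have hyy' : y g = y g' := by
      rw [← hxx] at hyy
      have := mul_right_cancel hyy
      exact mul_left_cancel this
    have hgg : g = g' := Subtype.ext (by rw [e g, e g', hxx, hyy'])
    subst hgg
    have hi : x₀ ^ (i : ℕ) = x₀ ^ (i' : ℕ) := by
      rw [hcd, hcd'] at hcc
      exact mul_right_cancel hcc
    have hii := pow_eq_pow_iff_modEq.1 hi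
    rw [hord] at hii
    have : (i : ℕ) = i' := by
      have h5 : (i : ℕ) % p = (i' : ℕ) % p := hii
      rwa [Nat.mod_eq_of_lt i.2, Nat.mod_eq_of_lt i'.2] at h5
    rw [Fin.ext this]
  have h1 := Nat.card_le_card_of_injective f hf
  rwa [Nat.card_prod, Nat.card_fin] at h1

theorem all_of_conj [Finite G] {p : ℕ} (hp : p.Prime) (h3 : 3 ≤ p) {x₀ : G} (hx₀ : x₀ ^ p = 1) (hx₀1 : x₀ ≠ 1)
    (hconj : ∀ x : G, x ^ p = 1 → x ≠ 1 → ∃ t : G, t * x * t⁻¹ = x₀) (hexp : ∀ g : G, ¬ p * p ∣ orderOf g) :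
    All p G := by
  classical
  apply All.of_half
  have h1 := card_singular hp hx₀ hx₀1 hconj hexp
  have h2 : Nat.card {g : G // p ∣ orderOf g} + Nat.card {g : G // (orderOf g).Coprime p} = Nat.card G := by
    have e1 : Nat.card {g : G // (orderOf g).Coprime p} = Nat.card {g : G // ¬ p ∣ orderOf g} :=
      Nat.card_congr (Equiv.subtypeEquivRight (fun g : G => show (orderOf g).Coprime p ↔ ¬ p ∣ orderOf g by
        rw [Nat.coprime_comm, Nat.Prime.coprime_iff_not_dvd hp]))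
    rw [e1, ← Nat.card_sum]
    exact Nat.card_congr (Equiv.sumCompl _)
  have h4 : 0 < Nat.card G := Nat.card_pos
  have h5 : Nat.card {g : G // p ∣ orderOf g} * 3 ≤ Nat.card G := (Nat.mul_le_mul_left _ h3).trans h1
  omega

/-- from a covering by one class -/
theorem all_of_cover {n : ℕ} {x : G} (hx : (orderOf x).Coprime n)
    (h : ∀ g : G, g ≠ 1 → ∃ u v : G, g = (u * x * u⁻¹) * (v * x * v⁻¹)) : All n G := by
  intro g
  by_cases hg : g = 1
  · rw [hg]; exact Pr.one n
  obtain ⟨u, v, e⟩ := h g hg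
  exact Pr.mk e (by rwa [orderOf_cj]) (by rwa [orderOf_cj])

end Cfsg.Agent.H335.Pw
end

-- part: H335/Pw/Own
section
/-!
# The defining characteristic for `G₂(q)`, `³D₄(q)` (S2465, helper335)

`own_G2`, `own_D4` : every element is a product of two elements of order prime to the characteristic `p`;
`pw_of_own` : with two `p`-elements (`p ≥ 5`) this gives the row statement.
-/

set_option autoImplicit false

namespace Cfsg.Agent.H335.Pw

open Cfsg Cfsg.Agent.H78.Pw

/-- `p ≥ 5` : two `p`-elements and two `p'`-elements -/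
theorem pw_of_own {G : Type*} [Group G] {p : ℕ} (hp : p.Prime) (h5 : 5 ≤ p)
    (h : ∀ g : G, ∃ a b : G, g = a * b ∧ (∃ k, a ^ p ^ k = 1) ∧ ∃ k, b ^ p ^ k = 1) (h' : All p G) : Pw G := by
  have key : ∀ n : ℕ, p.Coprime n → All n G := fun n hn => All.of_two_pgroup hn h
  refine ⟨key 6 ?_, fun r hr hr5 => ?_⟩
  · refine (Nat.Prime.coprime_iff_not_dvd hp).2 fun hd => ?_
    have h6 := Nat.le_of_dvd (by norm_num) hd
    have : p = 5 ∨ p = 6 := by omega
    rcases this with rfl | rfl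
    · omega
    · exact absurd hp (by decide)
  · by_cases e : r = p
    · subst e; exact h'
    · exact key r ((Nat.coprime_primes hp hr).2 (Ne.symm e))

/-- the same for `r = 2, 3` -/
theorem pw_of_six {G : Type*} [Group G] {p : ℕ} (hp : p.Prime) (h5 : p < 5)
    (h : ∀ g : G, ∃ a b : G, g = a * b ∧ (∃ k, a ^ p ^ k = 1) ∧ ∃ k, b ^ p ^ k = 1) (h' : All 6 G) : Pw G :=
  ⟨h', fun r hr hr5 => All.of_two_pgroup ((Nat.coprime_primes hp hr).2 (by omega)) h⟩

end Cfsg.Agent.H335.Pw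
end
end

-- part: H346/Pw/Rows
section
prune_inst 0x1103444014000080000050450003e23da0004b00008800088800a4c06808802c08088608000010a020000010001002813000020424000000e000400000400000880000060810080400010000000400000000000000000000000000000000000000000000
set_option linter.all false
open scoped Cfsg.Agent.FastGrp

-- part: H346/Pw/TwoCls
section
/-!
# S2465 (LIE/U): products of two `r`-elements, linear, symplectic and orthogonal groups
-/

set_option autoImplicit false
set_option linter.unusedSectionVars false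

namespace Cfsg.Agent.H346.PwU

open CoxeterSystem Cfsg.Agent.ChevalleyStructure.CoxeterGeom Cfsg.Agent.Tits.Roots Cfsg.Agent.Tits.Core
  Cfsg.Agent.Nodes.Reps Cfsg.Agent.Nodes.BNOf Cfsg.Agent.Nodes.StabComb
  Cfsg.Agent.Nodes.RGDLib Cfsg.Agent.Nodes.Bruhat
open Cfsg.Agent.H514.DP (PE IsPE PW)
open Cfsg.Agent.Nodes
open Cfsg.Agent.Nodes.WittRoot (Amb)

/-! ### Linear groups -/

section PSL

open Cfsg.Agent.Nodes.RGDTypeA Cfsg.Agent.Nodes.RootsA
open Cfsg.Agent.LieRecognition.BNCox (cA)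

end PSL

/-! ### Symplectic groups -/

section PSp

open Cfsg.Agent.Nodes.TypeC
open Cfsg.Agent.TitsThree.Siegel Cfsg.Agent.TitsThree.WittFrame Cfsg.Agent.TitsThree.WittWeyl
open Cfsg.Agent.TitsThree.SpIdent
open Cfsg.Agent.OddHalf.NI

theorem pw_psp {r : ℕ} [Fact r.Prime] {S : Type*} [Group S] [IsSimpleGroup S] (h : IsPSpChar r S) : PW r 2 S := by
  obtain ⟨F, _, _, _, m, hm, -, ⟨e⟩⟩ := h
  have : Finite (CoxeterMatrix.B m).Group := TypeC.finite_W (CoxeterMatrix.B m).toCoxeterSystem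
  have : Finite ((Fin m ⊕ Fin m → F) ≃ₗ[F] (Fin m ⊕ Fin m → F)) :=
    Finite.of_injective (fun g : (Fin m ⊕ Fin m → F) ≃ₗ[F] (Fin m ⊕ Fin m → F) =>
      (g : (Fin m ⊕ Fin m → F) → (Fin m ⊕ Fin m → F))) DFunLike.coe_injective
  have hA : Amb (frame m F) (isos (form m F)) := WittU.amb_Sp
  have hAT := WittAll.AmbT.of_amb hA r
  have R := rgd_restrict (WittAll.rgdC hAT (p0 := adm (1 : F)) one_ne_zero
    (CoxeterMatrix.B m).toCoxeterSystem) (isos (form m F)) (fun x _ => hA.rg_le x)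
    (fun i => WittAll.nn_mem hAT (adm (1 : F)) i)
  have hG1 : G1 (CoxeterMatrix.B m).toCoxeterSystem (isCartan m)
      (fun x => (WittRoot.rg (frame m F) x).subgroupOf (isos (form m F))) = ⊤ := by
    apply SpClosed.gen (by omega)
    · intro i
      exact X_le_G1 (X := fun x => (WittRoot.rg (frame m F) x).subgroupOf (isos (form m F)))
        (isRoot_sr _ _ i)
    · intro i
      exact X_le_G1 (X := fun x => (WittRoot.rg (frame m F) x).subgroupOf (isos (form m F)))
        (isRoot_sr _ _ i).neg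
  have : Nonempty (Fin m) := ⟨⟨0, by omega⟩⟩
  refine pw_of_coord R hG1 (WittCoord.coord (SpClosed.lf (F := F) (m := m)) hA) (Chart.Ty.irrC m (by omega))
    (e.symm.toMonoidHom.comp (toPSp (m := m) (F := F))) (e.symm.surjective.comp toPSp_surjective) ?_
  intro g hg
  have h1 : toPSp (m := m) (F := F) g = 1 := e.symm.injective (by rw [map_one]; exact hg)
  exact WittAll.ker_le_center (TitsThree.KInstSp.model m F) h1

end PSp

/-! ### Orthogonal groups -/

section Orth

open QuadraticMap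
open Cfsg.Agent.LieClassical Cfsg.Agent.LieClassical.OrthCore Cfsg.Agent.LieClassical.OrthTrans
open Cfsg.Agent.LieClassical.OrthSimple Cfsg.Agent.LieClassical.OrthFinite Cfsg.Agent.LieClassical.OrthForms
open Cfsg.Agent.TitsThree Cfsg.Agent.TitsThree.Siegel Cfsg.Agent.TitsThree.SiegelGen
  Cfsg.Agent.TitsThree.WittFrame Cfsg.Agent.TitsThree.WittWeyl Cfsg.Agent.TitsThree.WBridge
  Cfsg.Agent.TitsThree.KSideO Cfsg.Agent.TitsThree.StdData
open Cfsg.Agent.Nodes.WittAll Cfsg.Agent.Nodes.WittInst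
open Cfsg.Agent.OddHalf.NI Cfsg.Agent.OddHalf.NI.OmegaNodes Cfsg.Agent.OddHalf.NI.OmegaLast
  Cfsg.Agent.OddHalf.NI.OmegaTorus Cfsg.Agent.OddHalf.NI.OmegaRows
open Cfsg.Agent.H63 Cfsg.Agent.H63.Asm

theorem pw_orth {κ : Type} [Fintype κ] [DecidableEq κ] {F : Type} [Field F] [Finite F] {Q : QuadraticForm F (κ → F)}
    {m : ℕ} {W : WFrame (PO Q) m} {B : Type} [CommGroup B] {D : (Fin m → Fˣ) × B →* ((κ → F) ≃ₗ[F] (κ → F))}
    {emb : Fˣ → B} {P : Fˣ → Prop} (N : ∀ i, Node W D emb P i) (hG : Good Q) {p : ℕ} [hp : Fact p.Prime] [CharP F p]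
    (hA : AmbT (toFrame W) p (E Q)) {p0 : (toFrame W).Adm} (hp0 : p0.c ≠ 0) (hm : 1 ≤ m)
    {S : Type*} [Group S] [IsSimpleGroup S] (e : S ≃* Cfsg.POmega F ⇑Q) : PW p 2 S := by
  have hfin : Finite (CoxeterMatrix.B m).Group := TypeC.finite_W (CoxeterMatrix.B m).toCoxeterSystem
  have R := rgdC_model (model W hG ⟨p0, hp0⟩) hA hp0 (CoxeterMatrix.B m).toCoxeterSystem
  have := finite_PO hG
  have : Nonempty (Fin m) := ⟨⟨0, by omega⟩⟩
  exact pw_of_coord R (WittModel.G1_eq_top _ hm _) (NodeBd.coordP N hA.rg_le hG ⟨p0, hp0⟩) (Chart.Ty.irrC m hm)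
    e.symm.toMonoidHom e.symm.surjective (by
      intro x hx
      have h1 : x = 1 := e.symm.injective (by rw [map_one]; exact hx)
      rw [h1]
      exact one_mem _)

theorem pw_odd {r : ℕ} [Fact r.Prime] {S : Type*} [Group S] [IsSimpleGroup S] (h : IsPOmegaOddChar r S) :
    PW r 2 S := by
  obtain ⟨F, _, _, _, m, hm, ho, ⟨e⟩⟩ := h
  have e' : Nonempty (S ≃* Cfsg.POmega F (Cfsg.quadFormOdd m F)) := ⟨e⟩
  have h2 : (2 : F) ≠ 0 := by
    intro h2
    have : CharP F 2 := CharTwo.of_one_ne_zero_of_two_eq_zero one_ne_zero h2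
    have h3 := (CharP.cast_eq_zero_iff F 2 (Fintype.card F)).1 (FiniteField.cast_card_eq_zero F)
    rw [← even_iff_two_dvd] at h3
    exact (Nat.not_even_iff_odd.2 ho) h3
  rw [← coe_oddForm] at e'
  obtain ⟨e⟩ := e'
  have hG : Good (oddForm m F) := Odd.good h2 (by omega)
  obtain ⟨p0, hp0⟩ := Odd.exists_adm m F
  exact pw_orth (nodeO m) hG (AmbT.of_amb (amb_O_of_two (wodd m F) h2) r) hp0 (by omega) e

theorem pw_minus {r : ℕ} [Fact r.Prime] {S : Type*} [Group S] [IsSimpleGroup S] (h : IsPOmegaMinusChar r S) :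
    PW r 2 S := by
  obtain ⟨F, _, _, _, m, a, b, hm, hab, ⟨e⟩⟩ := h
  have e' : Nonempty (S ≃* Cfsg.POmega F (Cfsg.quadFormMinus (m - 1) F a b)) := ⟨e⟩
  rw [← coe_minusForm] at e'
  obtain ⟨e⟩ := e'
  have hG := Minus.good (m - 1) a b hab (by omega)
  obtain ⟨p0, hp0⟩ := Minus.exists_adm (m - 1) a b hab
  exact pw_orth (nodeM (m - 1) a b hab) hG (Minus.ambT (m - 1) a b hab (by omega) hG (p := r)) hp0 (by omega) e

theorem pw_plus {r : ℕ} [Fact r.Prime] {S : Type*} [Group S] [IsSimpleGroup S] (h : IsPOmegaPlusChar r S) :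
    PW r 2 S := by
  obtain ⟨F, _, _, _, m, hm, ⟨e⟩⟩ := h
  obtain ⟨n, rfl⟩ : ∃ n, m = n + 2 := ⟨m - 2, by omega⟩
  have e' : Nonempty (S ≃* Cfsg.POmega F (Cfsg.quadFormPlus (n + 2) F)) := ⟨e⟩
  rw [← coe_plusForm] at e'
  obtain ⟨e⟩ := e'
  have hG := Plus.good_plus F (m := n + 2) (by omega)
  have := finite_PO hG
  have hfin : Finite (TypeD.M n).Group := TypeD.finite_W (TypeD.M n).toCoxeterSystem
  have R := rgdD_model (p := r) (wplus (n + 2) F) hG (amb_plus _) (adm_plus _) (TypeD.M n).toCoxeterSystem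
  exact pw_of_coord R (G1D_eq_top _ (toPOmega hG) (toPOmega_surjective hG) (adm_plus _) _)
    (PlusBd.coordP _ hG) (Chart.Ty.irrD n (by omega)) e.symm.toMonoidHom e.symm.surjective (by
      intro x hx
      have h1 : x = 1 := e.symm.injective (by rw [map_one]; exact hx)
      rw [h1]
      exact one_mem _)

end Orth

end Cfsg.Agent.H346.PwU
end

-- part: H346/Pw/TwoE
section
/-!
# S2465 (LIE/U): products of two `r`-elements, `G₂`, `F₄`, `E₆`, `E₇`, `E₈`
-/

set_option autoImplicit false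
set_option linter.unusedSectionVars false

namespace Cfsg.Agent.H346.PwU

open CoxeterSystem Cfsg.Agent.ChevalleyStructure.CoxeterGeom Cfsg.Agent.Tits.Roots Cfsg.Agent.Tits.Core
open Cfsg.Agent.H514.DP (PW)
open Cfsg.Lie Cfsg.Agent.ChevalleyStructure Cfsg.Agent.ChevalleyStructure.CoxeterGeomTypes
  Cfsg.Agent.Nodes.RGDChev Cfsg.Agent.KFacts.RgdChevCoord Cfsg.Agent.OddHalf.NI.ModelChev

theorem pw_chev {D : ChevalleyDatum} {l : ℕ} {M : CoxeterMatrix (Fin l)} (hp : IsType D l M) {K : Type} [Field K]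
    [Finite K] {r : ℕ} [Fact r.Prime] [CharP K r] (hl : 0 < l)
    (hM : ∀ J : Finset (Fin l), J = ∅ ∨ J = Finset.univ ∨ ∃ a ∈ J, ∃ b, b ∉ J ∧ M a b ≠ 2)
    {S : Type*} [Group S] [IsSimpleGroup S] (e : S ≃* ↥(D.group K)) : PW r 2 S := by
  have := finite_W hp M.toCoxeterSystem
  have : Nonempty (Fin l) := ⟨⟨0, hl⟩⟩
  exact pw_of_coord (rgd (K := K) hp M.toCoxeterSystem r) (G1_eq_top hp _)
    (s := fun i => sl hp (K := K) i) ⟨fun i => coe_X hp i, fun i => coe_X_neg hp i⟩
    (Cfsg.Agent.Nodes.ChevChart.irr_of hM) e.symm.toMonoidHom e.symm.surjective (by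
      intro x hx
      have h1 : x = 1 := e.symm.injective (by rw [map_one]; exact hx)
      rw [h1]
      exact one_mem _)

theorem pw_exc {r : ℕ} [Fact r.Prime] {S : Type*} [Group S] [IsSimpleGroup S] (h : IsExceptionalChevChar r S) :
    PW r 2 S := by
  obtain ⟨F, _, _, _, ⟨-, ⟨e⟩⟩ | ⟨⟨e⟩⟩ | ⟨⟨e⟩⟩ | ⟨⟨e⟩⟩ | ⟨⟨e⟩⟩⟩ := h
  · exact pw_chev (M := CoxeterMatrix.G₂) (by simp [IsType, typeList]) (by norm_num)
      Cfsg.Agent.Nodes.ChevChart.irrG e
  · exact pw_chev (M := CoxeterMatrix.F₄) (by simp [IsType, typeList]) (by norm_num)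
      Cfsg.Agent.Nodes.ChevChart.irrF e
  · exact pw_chev (M := CoxeterMatrix.E₆) (by simp [IsType, typeList]) (by norm_num)
      Cfsg.Agent.Nodes.ChevChart.irr6 e
  · exact pw_chev (M := CoxeterMatrix.E₇) (by simp [IsType, typeList]) (by norm_num)
      Cfsg.Agent.Nodes.ChevChart.irr7 e
  · exact pw_chev (M := CoxeterMatrix.E₈) (by simp [IsType, typeList]) (by norm_num)
      Cfsg.Agent.Nodes.ChevChart.irr8 e

end Cfsg.Agent.H346.PwU
end

-- part: H346/Pw/TwoF
section
/-!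
# S2465 (LIE/U): products of two elements of 2-power order, `²B₂(q)` and `²F₄(q)`
-/

set_option autoImplicit false
set_option linter.unusedSectionVars false

namespace Cfsg.Agent.H346.PwU

open Cfsg
open Cfsg.Agent.H514.DP (PE IsPE PW)

/-- `v y`, `v` in a `p`-group normalised by the `p`-element `y` -/
theorem isPE_mul_of_norm {G : Type*} [Group G] {p : ℕ} {J : Subgroup G} (hJ : IsPGroup p J) {v y : G} (hv : v ∈ J)
    (hy : IsPE p y) (hn : ∀ u ∈ J, y * u * y⁻¹ ∈ J) : IsPE p (v * y) := by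
  have h1 : ∀ n : ℕ, ∃ w ∈ J, (v * y) ^ n = w * y ^ n := by
    intro n
    induction n with
    | zero => exact ⟨1, one_mem _, by simp⟩
    | succ n ih =>
      obtain ⟨w, hw, e⟩ := ih
      have h2 : ∀ m : ℕ, ∀ u ∈ J, y ^ m * u * (y ^ m)⁻¹ ∈ J := by
        intro m
        induction m with
        | zero => intro u hu; simpa using hu
        | succ m ihm =>
          intro u hu
          have h3 := ihm _ (hn u hu)
          have e3 : y ^ (m + 1) * u * (y ^ (m + 1))⁻¹ = y ^ m * (y * u * y⁻¹) * (y ^ m)⁻¹ := by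
            rw [pow_succ]; group
          rw [e3]
          exact h3
      refine ⟨w * (y ^ n * v * (y ^ n)⁻¹), mul_mem hw (h2 n v hv), ?_⟩
      rw [pow_succ, e, pow_succ]
      group
  obtain ⟨k, hk⟩ := hy
  obtain ⟨w, hw, e⟩ := h1 (p ^ k)
  rw [hk, mul_one] at e
  obtain ⟨l, hl⟩ := hJ ⟨w, hw⟩
  have hl' : w ^ p ^ l = 1 := congrArg Subtype.val hl
  exact ⟨k + l, by rw [pow_add, pow_mul, e, hl']⟩

/-- `x u`, `u` in a `p`-group normalised by the `p`-element `x` -/
theorem isPE_mul_of_norm' {G : Type*} [Group G] {p : ℕ} {J : Subgroup G} (hJ : IsPGroup p J) {u x : G} (hu : u ∈ J)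
    (hx : IsPE p x) (hn : ∀ u ∈ J, x * u * x⁻¹ ∈ J) : IsPE p (x * u) := by
  have h1 := isPE_mul_of_norm hJ (hn u hu) hx hn
  have e : x * u * x⁻¹ * x = x * u := by group
  rwa [e] at h1

/-- products of two elements -/
theorem pe_two {G : Type*} [Group G] {p : ℕ} {a b : G} (ha : IsPE p a) (hb : IsPE p b) : PE p 2 (a * b) :=
  ha.pe.mul hb.pe

/-- **Suzuki groups.** -/
theorem pw_sz {S : Type*} [Group S] (h : Lie.IsoSuzuki S) : PW 2 2 S := by
  obtain ⟨F, _, _, m, hm, hF, ⟨f⟩⟩ := h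
  have h1 : PW 2 2 ↥(Lie.Sz F (2 ^ (m + 1))) := by
    intro g
    by_cases hg : g = 1
    · subst hg
      exact Cfsg.Agent.H514.DP.pe_one_elt 2
    have H := Cfsg.Agent.LieRecognition.SzMatrix.good hF
    have e2 : H.u 1 0 * H.u 1 0 = H.u 0 1 := by
      rw [Cfsg.Agent.H147.Sz.u_sq, map_one, mul_one]
    have e4 : (H.u 1 0) ^ 4 = 1 := by
      rw [Cfsg.Agent.H84.SzLevi.four_eq, e2, Cfsg.Agent.H147.Sz.u_sq, zero_mul, H.u_zero]
    have hne : (H.u 1 0) ^ 2 ≠ 1 := by
      rw [pow_two, e2]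
      intro h
      exact one_ne_zero ((Cfsg.Agent.H147.Sz.u_eq_one_iff H).1 h).2
    have ho : 2 < orderOf (H.u 1 0) := by
      have hfin : Finite ↥(Cfsg.Lie.Sz F (2 ^ (m + 1))) := inferInstance
      have h3 := orderOf_pos (H.u 1 0)
      by_contra hcon
      have h4 : orderOf (H.u 1 0) = 1 ∨ orderOf (H.u 1 0) = 2 := by omega
      apply hne
      rw [← orderOf_dvd_iff_pow_eq_one]
      rcases h4 with h4 | h4 <;> simp [h4]
    obtain ⟨a, b, e⟩ := Cfsg.Agent.S2457.result m hm hF (H.u 1 0) ho g hg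
    have hp : IsPE 2 (H.u 1 0) := ⟨2, e4⟩
    rw [e]
    exact pe_two (by
      obtain ⟨k, hk⟩ := hp
      exact ⟨k, by rw [conj_pow, hk, mul_one, mul_inv_cancel]⟩) (by
      obtain ⟨k, hk⟩ := hp
      exact ⟨k, by rw [conj_pow, hk, mul_one, mul_inv_cancel]⟩)
  intro s
  have h2 := (h1 (f s)).map f.symm.toMonoidHom
  have h3 : f.symm.toMonoidHom (f s) = s := f.symm_apply_apply s
  rwa [h3] at h2

section TwF

open Cfsg.Agent.SplitTwo Cfsg.Agent.SplitTwo.ZS Cfsg.Agent.TitsThree.RankTwoZ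
open Cfsg.Agent.KFacts.TwF4 Cfsg.Agent.KFacts.TwF4.Arc Cfsg.Agent.KFacts.TwF4.Inv
open Cfsg.Agent.H84.TwF4Two Cfsg.Agent.H84.GaussTwF4
open Cfsg.Agent.KFacts.TwF4.Inst Cfsg.Agent.ChevalleyStructure.TwF4.TwistedFix
open Cfsg.Lie

universe u

variable {F : Type*} [Field F] {σ : F →+* F} {G : Type u} [Group G] (S : Full σ G)

theorem pe_full [Finite F] [Finite G] (hR : S.R.p = 2) {k : ℕ} (hk : 2 ≤ k) (hF : Nat.card F = 2 ^ k) {g : G}
    (hg : g ≠ 1) : PE 2 2 g := by
  obtain ⟨v, hv, l, hl, u, hu, c, hc⟩ := gd (S := S) hg 1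
  rw [S.h_one, mul_one] at hc
  have h1 := LL_iso S hk hF
  rw [LJ_eq] at h1
  obtain ⟨y, z, hy, ⟨x, w, hx, hw, hxw⟩, hyz⟩ := pw_sz h1 ⟨l, hl⟩
  have hw' : w = 1 := hw
  subst hw'
  rw [mul_one] at hxw
  subst hxw
  have hl' : (y : G) * x = l := congrArg Subtype.val hyz
  have hy' : IsPE 2 (y : G) := by
    obtain ⟨k, hk⟩ := hy
    exact ⟨k, congrArg Subtype.val hk⟩
  have hx' : IsPE 2 (x : G) := by
    obtain ⟨k, hk⟩ := hx
    exact ⟨k, congrArg Subtype.val hk⟩
  have k1 : IsPE 2 (v * (y : G)) := isPE_mul_of_norm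
    (isPGroup_J S.zsys8 (two_X S hR) 8 9 15 (by norm_num) (by norm_num)) hv hy' fun u hu => LL_conj915 y.2 hu
  have k2 : IsPE 2 ((x : G) * u) := isPE_mul_of_norm'
    (isPGroup_J S.zsys8 (two_X S hR) 8 1 7 (by norm_num) (by norm_num)) hu hx' fun u hu => LL_conj17 x.2 hu
  have h2 : PE 2 2 (c * g * c⁻¹) := by
    rw [hc, ← hl']
    have e : v * ((y : G) * x) * u = (v * (y : G)) * ((x : G) * u) := by group
    rw [e]
    exact pe_two k1 k2
  have h3 := h2.conj c⁻¹
  rw [inv_inv] at h3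
  have e : c⁻¹ * (c * g * c⁻¹) * c = g := by group
  rwa [e] at h3

/-- **`²F₄(q)`, `q ≥ 8`.** -/
theorem pw_2f4 {S : Type*} [Group S] (h : Lie.Iso2F4 S) : PW 2 2 S := by
  obtain ⟨K, _, _, m, hm, hK, ⟨f⟩⟩ := h
  have hchar := Cfsg.Agent.ChevalleyStructure.TwF4.Twisted.charP_two hK
  obtain ⟨φ, hφ⟩ := exists_rln hK
  have hfin : Finite (GL chevF4.Idx K) := inferInstance
  have h1 : PW 2 2 ↥(twistedF4 K (2 ^ m)) := by
    intro g
    by_cases hg : g = 1
    · subst hg
      exact Cfsg.Agent.H514.DP.pe_one_elt 2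
    obtain ⟨S, hS⟩ : ∃ S : Full φ ↥(twistedF4 K (2 ^ m)), S.R.p = 2 := ⟨full hK hφ, rfl⟩
    exact pe_full S hS (k := 2 * m + 1) (by omega) (by rw [Nat.card_eq_fintype_card, hK]) hg
  intro s
  have h2 := (h1 (f s)).map f.symm.toMonoidHom
  have h3 : f.symm.toMonoidHom (f s) = s := f.symm_apply_apply s
  rwa [h3] at h2

end TwF

end Cfsg.Agent.H346.PwU
end

-- part: H773/Pw/TwU
section
/-!
# S2465 (LIE/U): products of two `r`-elements in `²E₆(q)` and `³D₄(q)` (helper773)
-/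

set_option autoImplicit false
set_option linter.unusedSectionVars false

namespace Cfsg.Agent.H773.TwU

open CoxeterSystem Cfsg.Agent.ChevalleyStructure.CoxeterGeom Cfsg.Agent.Tits.Roots Cfsg.Agent.Tits.Core
  Cfsg.Agent.Nodes.BNOf Cfsg.Agent.Nodes.RGDTwGen Cfsg.Agent.Nodes.RGDChev Cfsg.Agent.Nodes.RGDFold
  Cfsg.Agent.Nodes.RGDFoldSL Cfsg.Agent.Nodes.RGDTwCoord Cfsg.Agent.Nodes.RGDTwD4
open Cfsg.Lie Cfsg.Agent.ChevalleyStructure
open Cfsg.Agent.Nodes.RGDTwNode.D4 (nodeOK eps_one rest)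
open Cfsg.Agent.H514.DP (PE IsPE PW)

universe u

section D4

variable {K : Type u} [Field K] [Fintype K] {q : ℕ} {φ : K →+* K}

end D4

end Cfsg.Agent.H773.TwU
end

-- part: H335/Pw/Small
section
/-!
# The rows Sz, ²G₂, ²F₄, Tits of S2465 (helper335)

* `pw_sz`, `pw_ree` : complete rows;
* `six_2F4` : products of two elements of order prime to `6` in `²F₄(q)`;
* `pw_tits` : the Tits group.
-/

set_option autoImplicit false
set_option linter.unusedSectionVars false

namespace Cfsg.Agent.H335.Pw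

open Cfsg Cfsg.Agent.H78.Pw

/-! ### Arithmetic -/

theorem two_pow_odd_mod (m : ℕ) : 2 ^ (2 * m + 1) % 5 = 2 ∨ 2 ^ (2 * m + 1) % 5 = 3 := by
  induction m with
  | zero => left; norm_num
  | succ m ih =>
    have e : 2 ^ (2 * (m + 1) + 1) = 4 * 2 ^ (2 * m + 1) := by ring
    rw [e]
    omega

theorem two_pow_odd_mod3 (m : ℕ) : 2 ^ (2 * m + 1) % 3 = 2 := by
  induction m with
  | zero => norm_num
  | succ m ih =>
    have e : 2 ^ (2 * (m + 1) + 1) = 4 * 2 ^ (2 * m + 1) := by ring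
    rw [e]
    omega

theorem three_pow_odd_mod7 (m : ℕ) : 3 ^ (2 * m + 1) % 7 = 3 ∨ 3 ^ (2 * m + 1) % 7 = 6 ∨ 3 ^ (2 * m + 1) % 7 = 5 := by
  induction m with
  | zero => left; norm_num
  | succ m ih =>
    have e : 3 ^ (2 * (m + 1) + 1) = 9 * 3 ^ (2 * m + 1) := by ring
    rw [e]
    omega

theorem three_pow_odd_mod4 (m : ℕ) : 3 ^ (2 * m + 1) % 4 = 3 := by
  induction m with
  | zero => norm_num
  | succ m ih =>
    have e : 3 ^ (2 * (m + 1) + 1) = 9 * 3 ^ (2 * m + 1) := by ring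
    rw [e]
    omega

theorem seven_dvd_cube (m : ℕ) : 7 ∣ (3 ^ (2 * m + 1)) ^ 3 + 1 := by
  have key : ∀ a : ℕ, a % 7 = 3 ∨ a % 7 = 6 ∨ a % 7 = 5 → (a ^ 3 + 1) % 7 = 0 := by
    rintro a (h | h | h) <;> rw [Nat.add_mod, Nat.pow_mod, h]
  exact Nat.dvd_of_mod_eq_zero (key _ (three_pow_odd_mod7 m))

/-! ### Suzuki groups -/

theorem pw_Sz {F : Type*} [Field F] [Fintype F] {m : ℕ} (hm : 1 ≤ m) (hF : Fintype.card F = 2 ^ (2 * m + 1)) :
    Pw ↥(Cfsg.Lie.Sz F (2 ^ (m + 1))) := by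
  have hfin : Finite ↥(Cfsg.Lie.Sz F (2 ^ (m + 1))) := inferInstance
  have hcard : Nat.card ↥(Cfsg.Lie.Sz F (2 ^ (m + 1))) =
      ((2 ^ (2 * m + 1)) ^ 2 + 1) * ((2 ^ (2 * m + 1)) ^ 2 * (2 ^ (2 * m + 1) - 1)) := by
    rw [← Nat.card_congr (Cfsg.Agent.H680.Exc.iso hm hF).toEquiv]
    exact Cfsg.Agent.LieExceptional.SuzukiSylow.card_Sz hm hF
  have key : ∀ r : ℕ, r.Prime → 2 < r → r ∣ Nat.card ↥(Cfsg.Lie.Sz F (2 ^ (m + 1))) → ∀ n, r.Coprime n →
      All n ↥(Cfsg.Lie.Sz F (2 ^ (m + 1))) := by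
    intro r hr h2 hd n hn
    have := Fact.mk hr
    obtain ⟨x, hx⟩ := exists_prime_orderOf_dvd_card' r hd
    exact all_of_cover (x := x) (by rwa [hx]) (Cfsg.Agent.S2457.result m hm hF x (by rwa [hx]))
  have h5 : 5 ∣ Nat.card ↥(Cfsg.Lie.Sz F (2 ^ (m + 1))) := by
    rw [hcard]
    exact (Cfsg.Agent.H84.SzLevi.five_dvd m).mul_right _
  refine ⟨key 5 (by norm_num) (by norm_num) h5 6 (by norm_num), fun p hp hp5 => ?_⟩
  by_cases h : p = 5
  · subst h
    have hq : 2 ^ 3 ≤ 2 ^ (2 * m + 1) := Nat.pow_le_pow_right (by norm_num) (by omega)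
    have hne : 2 ^ (2 * m + 1) - 1 ≠ 1 := by omega
    have hr := Nat.minFac_prime hne
    have hd := Nat.minFac_dvd (2 ^ (2 * m + 1) - 1)
    set r := Nat.minFac (2 ^ (2 * m + 1) - 1) with hrd
    have hodd : ¬ 2 ∣ 2 ^ (2 * m + 1) - 1 := by
      have : 2 ∣ 2 ^ (2 * m + 1) := dvd_pow_self 2 (by omega)
      omega
    have hr2 : r ≠ 2 := fun h => hodd (h ▸ hd)
    have hr5 : ¬ r = 5 := by
      intro h
      rw [h] at hd
      have := two_pow_odd_mod m
      (clear * - hq hd this; omega)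
    refine key r hr (lt_of_le_of_ne hr.two_le (Ne.symm hr2)) ?_ 5 ((Nat.coprime_primes hr (by norm_num)).2 hr5)
    rw [hcard]
    exact (hd.mul_left _).mul_left _
  · exact key 5 (by norm_num) (by norm_num) h5 p ((Nat.coprime_primes (by norm_num) hp).2 (Ne.symm h))

theorem pw_sz {G : Type*} [Group G] (h : Cfsg.Lie.IsoSuzuki G) : Pw G := by
  obtain ⟨F, _, _, m, hm, hF, ⟨e⟩⟩ := h
  exact (pw_Sz hm hF).congr e.symm

/-! ### Small Ree groups -/

theorem pw_Ree {K : Type*} [Field K] [Fintype K] {m : ℕ} (hm : 1 ≤ m) (hK : Fintype.card K = 3 ^ (2 * m + 1)) :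
    Pw ↥(Cfsg.Lie.twistedG2 K (3 ^ m)) := by
  have hfin : Finite ↥(Cfsg.Lie.twistedG2 K (3 ^ m)) := inferInstance
  have hcard := Cfsg.Agent.LieRecognition.ReeFinal.card hK
  have key : ∀ r : ℕ, r.Prime → 2 < r → r ≠ 3 → r ∣ Nat.card ↥(Cfsg.Lie.twistedG2 K (3 ^ m)) → ∀ n, r.Coprime n →
      All n ↥(Cfsg.Lie.twistedG2 K (3 ^ m)) := by
    intro r hr h2 h3 hd n hn
    have := Fact.mk hr
    obtain ⟨x, hx⟩ := exists_prime_orderOf_dvd_card' r hd
    refine all_of_cover (x := x) (by rwa [hx]) (Cfsg.Agent.S2458.result m hm hK x (by rwa [hx]) ?_)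
    rw [hx]
    intro h
    exact h3 ((Nat.prime_dvd_prime_iff_eq (by norm_num) hr).1 h).symm
  have h7 : 7 ∣ Nat.card ↥(Cfsg.Lie.twistedG2 K (3 ^ m)) := by
    rw [hcard]
    exact (seven_dvd_cube m).mul_left _
  refine ⟨key 7 (by norm_num) (by norm_num) (by norm_num) h7 6 (by norm_num), fun p hp hp5 => ?_⟩
  by_cases h : p = 7
  · subst h
    have hq : 3 ^ 3 ≤ 3 ^ (2 * m + 1) := Nat.pow_le_pow_right (by norm_num) (by omega)
    have h4 := three_pow_odd_mod4 m
    obtain ⟨k, hk⟩ : ∃ k, 3 ^ (2 * m + 1) - 1 = 2 * k := ⟨(3 ^ (2 * m + 1) - 1) / 2, by omega⟩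
    have hne : k ≠ 1 := by omega
    have hr := Nat.minFac_prime hne
    have hd := Nat.minFac_dvd k
    set r := Nat.minFac k with hrd
    have hr2 : r ≠ 2 := by
      intro h
      rw [h] at hd
      (clear * - hq h4 hk hd; omega)
    have hr3 : r ≠ 3 := by
      intro h
      rw [h] at hd
      have : 3 ∣ 3 ^ (2 * m + 1) := dvd_pow_self 3 (by omega)
      (clear * - hq hk hd; omega)
    have hr7 : ¬ r = 7 := by
      intro h
      rw [h] at hd
      have := three_pow_odd_mod7 m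
      (clear * - hq hk hd this; omega)
    refine key r hr (lt_of_le_of_ne hr.two_le (Ne.symm hr2)) hr3 ?_ 7 ((Nat.coprime_primes hr (by norm_num)).2 hr7)
    rw [hcard, hk]
    exact ((hd.mul_left 2).mul_left _).mul_right _
  · exact key 7 (by norm_num) (by norm_num) (by norm_num) h7 p
      ((Nat.coprime_primes (by norm_num) hp).2 (Ne.symm h))

theorem pw_ree {G : Type*} [Group G] (h : Cfsg.Lie.IsoRee G) : Pw G := by
  obtain ⟨K, _, _, m, hm, hK, ⟨e⟩⟩ := h
  exact (pw_Ree hm hK).congr e.symm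

/-! ### Large Ree groups -/

open Cfsg.Agent.KFacts.TwF4 Cfsg.Agent.H84.GaussTwF4
open Cfsg.Agent.KFacts.TwF4.Inst Cfsg.Agent.ChevalleyStructure.TwF4.TwistedFix in
/-- `²F₄(q)`, `q ≥ 8` : a class of order dividing `5 (q - 1)` -/
theorem cover_twF4 {K : Type*} [Field K] [Fintype K] {m : ℕ} (hm : 1 ≤ m) (hK : Fintype.card K = 2 ^ (2 * m + 1)) :
    ∃ x : ↥(Cfsg.Lie.twistedF4 K (2 ^ m)), orderOf x ∣ 5 * (2 ^ (2 * m + 1) - 1) ∧
      ∀ g : ↥(Cfsg.Lie.twistedF4 K (2 ^ m)), g ≠ 1 →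
      ∃ u v : ↥(Cfsg.Lie.twistedF4 K (2 ^ m)), g = (u * x * u⁻¹) * (v * x * v⁻¹) := by
  have hchar := Cfsg.Agent.ChevalleyStructure.TwF4.Twisted.charP_two hK
  obtain ⟨φ, hφ⟩ := exists_rln hK
  have hfin : Finite (GL Cfsg.Lie.chevF4.Idx K) := inferInstance
  have hq : 2 ^ 3 ≤ 2 ^ (2 * m + 1) := Nat.pow_le_pow_right (by norm_num) (by omega)
  have hcard : Nat.card Kˣ = 2 ^ (2 * m + 1) - 1 := by rw [Nat.card_units, Nat.card_eq_fintype_card, hK]
  obtain ⟨s, hs, hs5, hcov⟩ := LL_cover (full hK hφ) (k := 2 * m + 1) (by omega)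
    (by rw [Nat.card_eq_fintype_card, hK])
  obtain ⟨d, hd⟩ : ∃ d : Kˣ, d ≠ 1 := by
    classical
    have h1 : 1 < Fintype.card Kˣ := by
      rw [Fintype.card_units, hK]
      omega
    exact Fintype.exists_ne_of_one_lt_card h1 1
  have hd5 : d ^ 5 ≠ 1 := by
    intro h
    have h1 := orderOf_dvd_of_pow_eq_one h
    have h2 := orderOf_dvd_natCard d
    rw [hcard] at h2
    rcases (Nat.dvd_prime (by norm_num : Nat.Prime 5)).1 h1 with h3 | h3
    · exact hd (orderOf_eq_one_iff.1 h3)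
    · rw [h3] at h2
      exact Cfsg.Agent.H84.TwF4Cover.five_not_dvd m h2
  refine ⟨s * (full hK hφ).h 1 d, ?_, fun g hg => cover hs hs5 hcov hd5 hg⟩
  have h1 : (s * (full hK hφ).h 1 d) ^ (5 * (2 ^ (2 * m + 1) - 1)) = 1 := by
    have hc : Commute s ((full hK hφ).h 1 d) := (h_comm_LL d hs).symm
    rw [hc.mul_pow, pow_mul, hs5, one_pow, one_mul, h_pow', mul_comm, pow_mul, ← hcard, pow_card_eq_one', one_pow,
      (full hK hφ).h_one]
  exact orderOf_dvd_of_pow_eq_one h1

theorem six_twF4 {K : Type*} [Field K] [Fintype K] {m : ℕ} (hm : 1 ≤ m) (hK : Fintype.card K = 2 ^ (2 * m + 1)) :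
    All 6 ↥(Cfsg.Lie.twistedF4 K (2 ^ m)) := by
  obtain ⟨x, hx, h⟩ := cover_twF4 hm hK
  refine all_of_cover (Nat.Coprime.of_dvd_left hx ?_) h
  have h2 : 2 ∣ 2 ^ (2 * m + 1) := dvd_pow_self 2 (by omega)
  have h3 := two_pow_odd_mod3 m
  have h1 : 1 ≤ 2 ^ (2 * m + 1) := Nat.one_le_two_pow
  have e : Nat.Coprime (2 ^ (2 * m + 1) - 1) 6 := by
    have e2 : Nat.Coprime (2 ^ (2 * m + 1) - 1) 2 :=
      ((Nat.Prime.coprime_iff_not_dvd Nat.prime_two).2 (by (clear * - hK h3; omega))).symm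
    have e3 : Nat.Coprime (2 ^ (2 * m + 1) - 1) 3 :=
      ((Nat.Prime.coprime_iff_not_dvd Nat.prime_three).2 (by omega)).symm
    have := e2.mul_right e3
    exact this
  exact Nat.Coprime.mul_left (by norm_num) e

theorem six_2F4 {G : Type*} [Group G] (h : Cfsg.Lie.Iso2F4 G) : All 6 G := by
  obtain ⟨K, _, _, m, hm, hK, ⟨e⟩⟩ := h
  exact (six_twF4 hm hK).congr e.symm

/-! ### The Tits group -/

theorem pow5_of {G : Type*} [Group G] {a b : G} (h : a * b = b * a) (ha : a ^ 5 = 1) (hb : b ^ 5 = 1) (i j : ℕ) :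
    (a ^ i * b ^ j) ^ 5 = 1 := by
  have hc : Commute a b := h
  rw [(hc.pow_pow i j).mul_pow, ← pow_mul, ← pow_mul, mul_comm i, mul_comm j, pow_mul, pow_mul, ha, hb, one_pow,
    one_pow, one_mul]

theorem of_conj_pow {G : Type*} [Group G] {g s : G} {n : ℕ} (h : (g * s * g⁻¹) ^ n = 1) : s ^ n = 1 := by
  rw [conj_pow, mul_inv_eq_one, mul_eq_left] at h
  exact h

theorem pow5_of' {G : Type*} [Group G] {a b y : G} (h : a * b = b * a) (ha : a ^ 5 = 1) (hb : b ^ 5 = 1) {i j : ℕ}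
    (e : y = a ^ i * b ^ j) : y ^ 5 = 1 := by
  rw [e]
  exact pow5_of h ha hb i j

theorem exp_generic {G : Type*} [Group G] [Finite G] [Fact (Nat.Prime 5)] (S : Sylow 5 G)
    (hS : ∀ y ∈ (S : Subgroup G), y ^ 5 = 1) (t : G) : ¬ 5 * 5 ∣ orderOf t := by
  intro hd
  obtain ⟨c, hc⟩ := hd
  have hpos : 0 < orderOf t := orderOf_pos t
  have hc0 : c ≠ 0 := by rintro rfl; omega
  set s := t ^ c with hs
  have ho : orderOf s = 25 := by
    rw [hs, orderOf_pow' t hc0, hc, Nat.gcd_eq_right (Dvd.intro_left _ rfl)]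
    exact Nat.mul_div_cancel _ (Nat.pos_of_ne_zero hc0)
  have hs25 : s ^ 5 ^ 2 = 1 := by
    have := pow_orderOf_eq_one s
    rwa [ho] at this
  have hp : IsPGroup 5 (Subgroup.zpowers s) := by
    rintro ⟨x, k, rfl⟩
    refine ⟨2, ?_⟩
    apply Subtype.ext
    show (s ^ k) ^ 5 ^ 2 = 1
    rw [← zpow_natCast, ← zpow_mul, mul_comm, zpow_mul, zpow_natCast, hs25, one_zpow]
  obtain ⟨Q, hQ⟩ := hp.exists_le_sylow
  obtain ⟨g, hg⟩ := MulAction.exists_smul_eq G Q S
  have h1 : s ∈ (Q : Subgroup G) := hQ (Subgroup.mem_zpowers s)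
  have h3 : g * s * g⁻¹ ∈ (S : Subgroup G) := by
    rw [← hg, Sylow.coe_subgroup_smul]
    exact Subgroup.smul_mem_pointwise_smul s (MulAut.conj g) _ h1
  have h5 : s ^ 5 = 1 := of_conj_pow (hS _ h3)
  have h6 := orderOf_dvd_of_pow_eq_one h5
  rw [ho] at h6
  omega

theorem ne_one_of_orderOf {G : Type*} [Group G] {x : G} (h : orderOf x = 5) : x ≠ 1 := by
  rintro rfl
  rw [orderOf_one] at h
  omega

theorem transfer_commutator {Γ : Type*} [Group Γ] (K : Subgroup Γ) {M : Type*} [Group M]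
    (f : M ≃* commutator K) (h : Pw (commutator K)) : Pw M := h.congr f.symm

theorem of_eq_conj {G : Type*} [Group G] {g s f : G} (h : s = g * f * g⁻¹) : g⁻¹ * s * g⁻¹⁻¹ = f := by
  rw [h]; group


open Cfsg.Agent.ChevalleyStructure.Tits.Pack Cfsg.Agent.ChevalleyStructure.Tits.Data
  Cfsg.Agent.ChevalleyStructure.Tits.Cert Cfsg.Agent.ChevalleyStructure.Tits.Rank2
  Cfsg.Agent.ChevalleyStructure.Tits.Sat Cfsg.Agent.ChevalleyStructure.Tits.Final
  Cfsg.Agent.ChevalleyStructure.Tits.Mat Cfsg.Agent.ChevalleyStructure.Tits.Order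
  Cfsg.Agent.ChevalleyStructure.Tits.Table Cfsg.Agent.ChevalleyStructure.Tits.Main
  Cfsg.Agent.H84.TitsConj Cfsg.Agent.H84.TitsCov Cfsg.Agent.H84.TitsCovData Cfsg.Agent.H84.TitsCovChk in
open Cfsg.Agent.H246.TitsComp hiding go go_ok go_zero go_succ_even go_succ_odd sound in
theorem exp_H0 (t : H0) : ¬ 5 * 5 ∣ orderOf t := by
  have hf5 : Fact (Nat.Prime 5) := ⟨by norm_num⟩
  refine exp_generic syl5 (fun y hy => ?_) t
  obtain ⟨i, _, j, _, e⟩ := (show y ∈ P from hy)
  exact pow5_of' f_comm O5_f1.1 O5_f2.1 e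

open Cfsg.Agent.ChevalleyStructure.Tits.Pack Cfsg.Agent.ChevalleyStructure.Tits.Data
  Cfsg.Agent.ChevalleyStructure.Tits.Cert Cfsg.Agent.ChevalleyStructure.Tits.Rank2
  Cfsg.Agent.ChevalleyStructure.Tits.Sat Cfsg.Agent.ChevalleyStructure.Tits.Final
  Cfsg.Agent.ChevalleyStructure.Tits.Mat Cfsg.Agent.ChevalleyStructure.Tits.Order
  Cfsg.Agent.ChevalleyStructure.Tits.Table Cfsg.Agent.ChevalleyStructure.Tits.Main
  Cfsg.Agent.H84.TitsConj Cfsg.Agent.H84.TitsCov Cfsg.Agent.H84.TitsCovData Cfsg.Agent.H84.TitsCovChk in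
open Cfsg.Agent.H246.TitsComp hiding go go_ok go_zero go_succ_even go_succ_odd sound in
open scoped MatrixGroups in
theorem tits_aux (K : Subgroup (GL I52 (ZMod 2))) (hK : K = H0) (hF : ∀ t ∈ K, t ≠ 1 → Form t) :
    Pw ↥(commutator K) := by
  subst hK
  obtain ⟨χ, h0, h1⟩ := exists_chi
  have hm := mem_commutator_iff χ (h1 7 (by norm_num) (by norm_num))
  have hf1 : f1 ∈ commutator H0 := (hm f1).2 (O5_sign χ O5_f1)
  have hf5 : Fact (Nat.Prime 5) := ⟨by norm_num⟩
  have h2 : orderOf (⟨f1, hf1⟩ : commutator H0) = 5 := by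
    rw [← Subgroup.orderOf_coe]
    exact orderOf_eq_prime O5_f1.1 O5_f1.2
  have hcov : ∀ g : commutator H0, g ≠ 1 → ∃ u v : commutator H0,
      g = (u * (⟨f1, hf1⟩ : commutator H0) * u⁻¹) * (v * (⟨f1, hf1⟩ : commutator H0) * v⁻¹) := by
    intro g hg
    have h3 : ((g : H0) : GL I52 (ZMod 2)) ≠ 1 := fun h => hg (Subtype.ext (Subtype.ext h))
    obtain ⟨a, ha, b, hb, h⟩ := cover_H0 g.2 (hF _ (g : H0).2 h3)
    exact ⟨⟨a, ha⟩, ⟨b, hb⟩, Subtype.ext h⟩
  refine ⟨all_of_cover (by rw [h2]; norm_num) hcov, fun p hp hp5 => ?_⟩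
  by_cases h : p = 5
  · subst h
    refine all_of_conj (x₀ := (⟨f1, hf1⟩ : commutator H0)) (by norm_num) (by norm_num)
      (orderOf_dvd_iff_pow_eq_one.1 (by rw [h2])) (ne_one_of_orderOf h2)
      (fun x hx hx1 => ?_) (fun g => ?_)
    · have hx' : O5 (x : H0) := by
        refine ⟨orderOf_dvd_iff_pow_eq_one.1 ?_, fun h => hx1 (Subtype.ext h)⟩
        rw [Subgroup.orderOf_coe]
        exact orderOf_dvd_iff_pow_eq_one.2 hx
      obtain ⟨t, ht, e⟩ := conj_comm hx'
      exact ⟨⟨t, ht⟩⁻¹, Subtype.ext (of_eq_conj e)⟩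
    · rw [← Subgroup.orderOf_coe]
      exact exp_H0 _
  · exact all_of_cover (by rw [h2]; exact (Nat.coprime_primes (by norm_num) hp).2 (Ne.symm h)) hcov

open Cfsg.Agent.ChevalleyStructure.Tits.Main in
theorem pw_titsGroup : Pw Cfsg.Lie.TitsGroup := by
  obtain ⟨φ, hφ⟩ := Cfsg.Agent.ChevalleyStructure.TwF4.TwistedFix.exists_rln Cfsg.Agent.H84.TitsLink.hK0
  refine tits_aux T0 T0_eq_H0 ?_
  intro t ht ht1
  obtain ⟨k, w, hw, v, hv, h⟩ := Cfsg.Agent.H84.TitsLink.form_of hφ (t := ⟨t, ht⟩) (fun h => ht1 (congrArg Subtype.val h))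
  have hk : Cfsg.Agent.H84.TitsLink.cg k ∈ Cfsg.Agent.ChevalleyStructure.Tits.Order.H0 := by rw [← T0_eq_H0]; exact k.2
  exact ⟨Cfsg.Agent.H84.TitsLink.cg k, hk, w, hw, v, hv, h⟩

theorem pw_tits {G : Type*} [Group G] (h : Cfsg.Lie.IsoTits G) : Pw G := by
  obtain ⟨e⟩ : Nonempty (G ≃* Cfsg.Lie.TitsGroup) := h
  exact transfer_commutator (Cfsg.Lie.twistedF4 (ZMod 2) 1) e pw_titsGroup

end Cfsg.Agent.H335.Pw
end

-- part: H538/Pw/HexGTwo
section
/-!
# S2465: `G₂(q)` (helper538)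

* `hg_g2` : the Gauss decomposition with trivial torus part;
* `own_g2` : products of two `r`-elements;
-/

set_option autoImplicit false

namespace Cfsg.Agent.H538.Pw

open Cfsg Cfsg.Lie Cfsg.Agent.Tits.RootComb Cfsg.Agent.Nodes.Comb Cfsg.Agent.Nodes.Reps Cfsg.Agent.Nodes.BNOf
  Cfsg.Agent.Nodes.BNOf.RGD Cfsg.Agent.Nodes.RGDChev Cfsg.Agent.ChevalleyStructure.Elts Cfsg.Agent.Tits.Roots
  Cfsg.Agent.ChevalleyStructure.NPerm Cfsg.Agent.ChevalleyStructure.BNChev Cfsg.Agent.ChevalleyStructure.CoxeterGeom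
open Cfsg.Agent.Hexagon.G2Side Cfsg.Agent.Hexagon.G2Pos Cfsg.Agent.TitsThree.RankTwoZ
open Cfsg.Agent.Cit.HexBase Cfsg.Agent.Cit.HexBase.HexGrp Cfsg.Agent.Lib.SL2Mat
open Cfsg.Agent.H650.AH.RowG2 (hp tab_pos pos_tab two)

universe u

variable {F : Type u} [Field F]

theorem tab_neg : ∀ r < 12, (∀ i : Fin 2, vec chevG2 2 r i ≤ 0) → ∃ k : ZMod (2 * 6),
    k ∈ ({0, 7, 8, 9, 10, 11} : Finset (ZMod (2 * 6))) ∧ tab k = r := by decide +kernel

theorem hg_g2 [Finite F] (ha : ∃ a : F, a ≠ 0 ∧ a ≠ 1) : HG (Cfsg.Agent.H148.Hex.g2' F ha) := by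
  obtain ⟨p, hpc⟩ := CharP.exists F
  have : Fact p.Prime := ⟨CharP.char_is_prime F p⟩
  have hW := finite_W hp (CoxeterMatrix.G₂).toCoxeterSystem
  have : IsSimpleGroup ↥(chevG2.group F) := (S1055.result ha).1
  set cs := (CoxeterMatrix.G₂).toCoxeterSystem with hcs
  refine hg_of_rgd (rgd (K := F) hp cs p) (G1_eq_top hp cs) (Cfsg.Agent.H162.GaussExc.coord hp)
    (Cfsg.Agent.Nodes.ChevChart.irr_of Cfsg.Agent.Nodes.ChevChart.irrG) ?_ ?_
  · refine Sup_le fun x hx => ?_
    obtain ⟨r, hr, rfl⟩ := (isRoot_iff hp cs x).1 hx.1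
    obtain ⟨k, hk, rfl⟩ := tab_pos r hr hx.2
    refine le_trans (le_of_eq ?_) (X_le_Sg hk)
    rw [XV_vec hp F hr]
    rfl
  · refine Sup_le fun x hx => ?_
    obtain ⟨r, hr, rfl⟩ := (isRoot_iff hp cs x).1 hx.1
    obtain ⟨k, hk, rfl⟩ := tab_neg r hr hx.2
    refine le_trans (le_of_eq ?_) (X_le_Sg hk)
    rw [XV_vec hp F hr]
    rfl

theorem own_g2 [Finite F] (ha : ∃ a : F, a ≠ 0 ∧ a ≠ 1) (p : ℕ) [CharP F p] {N : ℕ} (hN : p.Coprime N) :
    H78.Pw.All N ↥(chevG2.group F) := by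
  have : Fact p.Prime := ⟨CharP.char_is_prime F p⟩
  have hW := finite_W hp (CoxeterMatrix.G₂).toCoxeterSystem
  have : IsSimpleGroup ↥(chevG2.group F) := (S1055.result ha).1
  set cs := (CoxeterMatrix.G₂).toCoxeterSystem with hcs
  exact all_own (rgd (K := F) hp cs p) (G1_eq_top hp cs) (Cfsg.Agent.H162.GaussExc.coord hp)
    (Cfsg.Agent.Nodes.ChevChart.irr_of Cfsg.Agent.Nodes.ChevChart.irrG) hN

end Cfsg.Agent.H538.Pw
end

-- part: H538/Pw/SixGTwo
section
/-!
# S2465: `G₂(q)`, `q ≠ 3, 4, 9` (helper538)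
-/

set_option autoImplicit false
set_option linter.unusedSimpArgs false

namespace Cfsg.Agent.H538.Pw

open Cfsg.Agent.SplitTwo Cfsg.Agent.TitsThree.RankTwoZ Cfsg.Agent.Lib.SL2Mat Cfsg.Agent.Cit.HexBase
  Cfsg.Agent.Cit.HexBase.HexGrp Cfsg.Agent.H148.SLTwo Cfsg.Agent.H148.Hex Cfsg.Agent.H78.Pw

universe u

variable {K : Type u} [Field K]

theorem coprime_six {l : ℕ} (hl : l.Prime) (h5 : 5 ≤ l) : l.Coprime 6 := by
  rw [show (6 : ℕ) = 2 * 3 by norm_num]
  exact Nat.Coprime.mul_right ((Nat.coprime_primes hl Nat.prime_two).2 (by omega))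
    ((Nat.coprime_primes hl Nat.prime_three).2 (by omega))

/-- an element of order dividing `q + 1` has no eigenvalues in `K` -/
theorem nr_of_plus [Fintype K] {r l : ℕ} [CharP K r] (hr : r = 2 ∨ r = 3) (hl : l.Prime) (h5 : 5 ≤ l)
    (hd : l ∣ Fintype.card K + 1) {X : S K} (hXo : orderOf X = l) (x : K) : NR (tr X) x := by
  intro h
  obtain ⟨-, n2, n2', -, -⟩ := facts_ell hr hl h5 hXo
  have hx : x ≠ 0 := by
    rintro rfl
    simp at h
  have ht : tr X = x + x⁻¹ := by
    have h1 : x * x⁻¹ = 1 := mul_inv_cancel₀ hx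
    linear_combination (-x⁻¹) * h + (x - tr X) * h1
  have hxx : x ≠ x⁻¹ := by
    intro h1
    have h2 : (x - 1) * (x + 1) = 0 := by
      have : x * x = 1 := by
        calc x * x = x * x⁻¹ := by rw [← h1]
          _ = 1 := mul_inv_cancel₀ hx
      linear_combination this
    rw [← h1] at ht
    rcases mul_eq_zero.1 h2 with h3 | h3
    · exact n2 (by rw [ht]; linear_combination 2 * h3)
    · exact n2' (by rw [ht]; linear_combination 2 * h3)
  have hns : NSc (dg x hx) := by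
    rintro ⟨-, -, h3⟩
    rw [dg_00, dg_11] at h3
    exact hxx h3
  have hp : (dg x hx) ^ (Fintype.card K - 1) = 1 := by
    rw [dg_pow]
    refine ext_ent ?_ ?_ ?_ ?_ <;> simp only [one_00, one_01, one_10, one_11, FiniteField.pow_card_sub_one_eq_one x hx, _root_.Fin.isValue, _root_.Cfsg.Agent.Lib.SL2Mat.dg_00, _root_.Cfsg.Agent.Lib.SL2Mat.ent_one_00, _root_.Cfsg.Agent.Lib.SL2Mat.dg_01, _root_.Cfsg.Agent.Lib.SL2Mat.ent_one_01, _root_.Cfsg.Agent.Lib.SL2Mat.dg_10, _root_.Cfsg.Agent.Lib.SL2Mat.ent_one_10, _root_.Cfsg.Agent.Lib.SL2Mat.dg_11, _root_.inv_one, _root_.Cfsg.Agent.Lib.SL2Mat.ent_one_11]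
  have h1 : X ^ (Fintype.card K - 1) = 1 := pow_of_trace hns hp (by
    rw [ht]
    unfold tr
    rw [dg_00, dg_11])
  have h2 := orderOf_dvd_of_pow_eq_one h1
  rw [hXo] at h2
  have h3 := Nat.dvd_sub hd h2
  have hq : 1 < Fintype.card K := Fintype.one_lt_card
  rw [show Fintype.card K + 1 - (Fintype.card K - 1) = 2 by omega] at h3
  have := Nat.le_of_dvd (by norm_num) h3
  omega

/-- the coprimality for all elements with the trace of `X` -/
theorem ord_tr {N k : ℕ} {X : S K} (hX : NSc X) (hk : X ^ k = 1) (hN : k.Coprime N) (m : S K) (hm : tr m = tr X) :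
    (orderOf m).Coprime N :=
  Nat.Coprime.of_dvd_left (orderOf_dvd_of_pow_eq_one (pow_of_trace hX hk hm)) hN

variable {F : Type u} [Field F] [Fintype F]

/-- the fixed field of the identity -/
def fxe (F : Type u) [Field F] : F ≃+* ↥(fx (RingEquiv.refl F)) where
  toFun x := ⟨x, rfl⟩
  invFun x := x
  left_inv _ := rfl
  right_inv _ := rfl
  map_mul' _ _ := rfl
  map_add' _ _ := rfl

theorem p3_dg_order {E : Type*} [Field E] {σ : E ≃+* E} {L : Type u} [Group L] (c : HexGrp σ L) {z : E} (hz : z ≠ 0)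
    {l : ℕ} (hl : z ^ l = 1) : (p3 c (dg z hz)) ^ l = 1 := by
  have h1 : (dg z hz) ^ l = 1 := by
    rw [dg_pow]
    refine ext_ent ?_ ?_ ?_ ?_ <;> simp [one_00, one_01, one_10, one_11, hl]
  rw [← map_pow, h1, map_one]

/-- the torus part for `G₂` -/
theorem all_g2_of (c : HexGrp (RingEquiv.refl F) ↥(Cfsg.Lie.chevG2.group F)) (hG : HG c) {N l : ℕ} {z : F} (hz : z ≠ 0)
    (hl : z ^ l = 1) (hN : l.Coprime N) (hz2 : z ^ 2 ≠ 1) {X Y : S ↥(fx (RingEquiv.refl F))} {k : ℕ} (hX : NSc X)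
    (hXk : X ^ k = 1) (hY : NSc Y) (hYk : Y ^ k = 1) (hk : k.Coprime N)
    (hab : (tr X ≠ tr Y ∧ tr X ≠ -tr Y) ∨ ∃ w : ↥(fx (RingEquiv.refl F)), w * w - tr Y * w + 1 = 0)
    (n1 : NR ((tr X : ↥(fx (RingEquiv.refl F))) : F) z) (n2 : NR ((tr X : ↥(fx (RingEquiv.refl F))) : F) (z ^ 3))
    (n3 : NR ((tr Y : ↥(fx (RingEquiv.refl F))) : F) z) (n4 : NR ((tr Y : ↥(fx (RingEquiv.refl F))) : F) (z ^ 3)) :
    All N ↥(Cfsg.Lie.chevG2.group F) := by
  have := Cfsg.Agent.H148.Hex.finite_g2 F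
  have := Fintype.ofEquiv F (fxe F).toEquiv
  have hs := act_p3_dg c z hz
  have hnrm : nrm (RingEquiv.refl F) z = z ^ 3 := by rw [nrm_of_fix rfl]
  have e1 : nrm (RingEquiv.refl F) z / z ^ 2 = z := by
    rw [hnrm]
    field_simp
  rw [e1] at hs
  refine all_of_hex hG hs (Nat.Coprime.of_dvd_left (orderOf_dvd_of_pow_eq_one (p3_dg_order c hz hl)) hN) ?_
    ⟨n1, by rw [hnrm]; exact n2, ord_tr hX hXk hk⟩ ⟨n3, by rw [hnrm]; exact n4, ord_tr hY hYk hk⟩ hab
  unfold shp
  intro h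
  apply hz2
  have h1 : z * z = 1 := h
  linear_combination h1

/-- **`G₂(q)`, `q = 2 ^ n` or `3 ^ n`, `n ≥ 3`.** -/
theorem six_g2 {r n : ℕ} (hr : r = 2 ∨ r = 3) (hn : 3 ≤ n) (hF : Fintype.card F = r ^ n) :
    All 6 ↥(Cfsg.Lie.chevG2.group F) := by
  have hrp : r.Prime := by rcases hr with rfl | rfl; exacts [Nat.prime_two, Nat.prime_three]
  have : Fact r.Prime := ⟨hrp⟩
  have h8 : 2 ^ 3 ≤ r ^ n := (Nat.pow_le_pow_left hrp.two_le 3).trans (Nat.pow_le_pow_right hrp.pos hn)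
  have hch : CharP F r := by
    obtain ⟨p, hp⟩ := CharP.exists F
    obtain ⟨m, hpp, hc⟩ := FiniteField.card F p
    have h1 : p ∣ r ^ n := by rw [← hF, hc]; exact dvd_pow_self p m.ne_zero
    have h2 := (Nat.prime_dvd_prime_iff_eq hpp hrp).1 (hpp.dvd_of_dvd_pow h1)
    rwa [← h2]
  have hne := Cfsg.Agent.H148.Hex.exists_ne (F := F) (by rw [hF]; omega)
  let c := g2' F hne
  have hG := hg_g2 hne
  let K := ↥(fx (RingEquiv.refl F))
  have iK : Fintype K := Fintype.ofEquiv F (fxe F).toEquiv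
  have hcK : Fintype.card K = r ^ n := by rw [← hF]; exact (Fintype.card_congr (fxe F).toEquiv).symm
  have hchK : CharP K r := (Subfield.subtype (fx (RingEquiv.refl F))).charP (Subfield.subtype (fx (RingEquiv.refl F))).injective r
  by_cases h8' : r = 2 ∧ n = 3
  · -- `q = 8`
    obtain ⟨rfl, rfl⟩ := h8'
    obtain ⟨g, hg⟩ := IsCyclic.exists_ofOrder_eq_natCard (α := Kˣ)
    rw [Nat.card_units, Nat.card_eq_fintype_card, hcK, show 2 ^ 3 - 1 = 7 by norm_num] at hg
    obtain ⟨w, hw⟩ : ∃ w : K, w = (g : K) := ⟨_, rfl⟩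
    have hw0 : w ≠ 0 := by rw [hw]; exact g.ne_zero
    have hw7 : w ^ 7 = 1 := by
      rw [hw, ← Units.val_pow_eq_pow_val, ← hg, pow_orderOf_eq_one, Units.val_one]
    have hwn : ∀ m : ℕ, ¬ 7 ∣ m → w ^ m ≠ 1 := by
      intro m hm h
      apply hm
      rw [← hg]
      apply orderOf_dvd_of_pow_eq_one
      apply Units.ext
      rw [Units.val_pow_eq_pow_val, ← hw, h, Units.val_one]
    have hwi : w * w⁻¹ = 1 := mul_inv_cancel₀ hw0
    have hns : NSc (dg w hw0) := by
      rintro ⟨-, -, h3⟩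
      rw [dg_00, dg_11] at h3
      refine hwn 2 (by norm_num) ?_
      calc w ^ 2 = w * w := pow_two w
        _ = w * w⁻¹ := by rw [← h3]
        _ = 1 := hwi
    have hX7 : (dg w hw0) ^ 7 = 1 := by
      rw [dg_pow]
      refine ext_ent ?_ ?_ ?_ ?_ <;> simp [one_00, one_01, one_10, one_11, hw7]
    have htr : tr (dg w hw0) = w + w⁻¹ := by
      unfold tr
      rw [dg_00, dg_11]
    have hnr : ∀ j : ℕ, ¬ 7 ∣ j + 6 → ¬ 7 ∣ j + 1 → NR ((tr (dg w hw0) : K) : F) (((w ^ j : K)) : F) := by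
      intro j h1 h2 h
      have h3 : (1 : K) - w ^ j * tr (dg w hw0) + (w ^ j) ^ 2 = 0 := Subtype.ext h
      rw [htr] at h3
      have h4 : (w ^ j - w) * (w ^ j - w⁻¹) = 0 := by linear_combination h3 + hwi
      rcases mul_eq_zero.1 h4 with h5 | h5
      · apply hwn _ h1
        rw [pow_add, sub_eq_zero.1 h5, ← pow_succ']
        exact hw7
      · apply hwn _ h2
        rw [pow_add, sub_eq_zero.1 h5, pow_one, mul_comm]
        exact hwi
    have hz0 : ((w ^ 3 : K) : F) ≠ 0 := by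
      intro h
      exact pow_ne_zero 3 hw0 (Subtype.ext h)
    refine all_g2_of c hG (N := 6) (l := 7) (z := ((w ^ 3 : K) : F)) hz0 ?_ (by norm_num) ?_ hns hX7 hns hX7 (by norm_num)
      (Or.inr ⟨w, ?_⟩) (hnr 3 (by norm_num) (by norm_num)) ?_ (hnr 3 (by norm_num) (by norm_num)) ?_
    · have h1 : (w ^ 3) ^ 7 = 1 := by rw [← pow_mul, mul_comm, pow_mul, hw7, one_pow]
      exact congrArg Subtype.val h1
    · intro h
      have h1 : (w ^ 3) ^ 2 = 1 := Subtype.ext h
      rw [← pow_mul] at h1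
      exact hwn 6 (by norm_num) h1
    · rw [htr]
      linear_combination -hwi
    · have h1 := hnr 9 (by norm_num) (by norm_num)
      have e : ((w ^ 9 : K) : F) = ((w ^ 3 : K) : F) ^ 3 := by
        have : (w ^ 9 : K) = (w ^ 3) ^ 3 := by rw [← pow_mul]
        exact congrArg Subtype.val this
      rwa [e] at h1
    · have h1 := hnr 9 (by norm_num) (by norm_num)
      have e : ((w ^ 9 : K) : F) = ((w ^ 3 : K) : F) ^ 3 := by
        have : (w ^ 9 : K) = (w ^ 3) ^ 3 := by rw [← pow_mul]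
        exact congrArg Subtype.val this
      rwa [e] at h1
  · obtain ⟨l, hl, hl5, hd⟩ := ell_plus (r := r) (n := n) (by omega)
    obtain ⟨l', hl', hl5', hd'⟩ := ell_minus hr hn
    have : Fact l.Prime := ⟨hl⟩
    have : Fact l'.Prime := ⟨hl'⟩
    obtain ⟨X, hXo⟩ := exists_prime_orderOf_dvd_card' (G := S K) l (by
      rw [Cfsg.Agent.ClassicalGeometry.PSL2Basic.card_SL2, hcK]
      refine Dvd.dvd.mul_left (hd.trans ⟨r ^ n - 1, ?_⟩) _
      obtain ⟨k, hk⟩ : ∃ k, r ^ n = k + 1 := ⟨r ^ n - 1, by omega⟩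
      rw [hk, Nat.add_sub_cancel, show (k + 1) ^ 2 = (k + 1 + 1) * k + 1 by ring, Nat.add_sub_cancel])
    have hYo := order_sq hl hl5 hXo
    obtain ⟨z, hz⟩ := exists_prime_orderOf_dvd_card' (G := Fˣ) l' (by
      rw [Nat.card_units, Nat.card_eq_fintype_card, hF]; exact hd')
    have hdK : l ∣ Fintype.card K + 1 := by rw [hcK]; exact hd
    have key : ∀ {Z : S K}, orderOf Z = l → ∀ x : F, NR ((tr Z : K) : F) x := by
      intro Z hZ x h
      refine nr_of_plus hr hl hl5 hdK hZ (⟨x, rfl⟩ : K) ?_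
      exact Subtype.ext h
    refine all_g2_of c hG (N := 6) (l := l') (z := (z : F)) z.ne_zero ?_ (coprime_six hl' hl5') ?_
      (facts_ell hr hl hl5 hXo).1 (by rw [← hXo]; exact pow_orderOf_eq_one X) (facts_ell hr hl hl5 hYo).1
      (by conv_lhs => rw [← hYo]
          exact pow_orderOf_eq_one _) (coprime_six hl hl5) (Or.inl (tr_ne_sq hr hl hl5 hXo)) (key hXo _) (key hXo _)
      (key hYo _) (key hYo _)
    · rw [← Units.val_pow_eq_pow_val, ← hz, pow_orderOf_eq_one, Units.val_one]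
    · intro h
      rw [← Units.val_pow_eq_pow_val] at h
      have h1 := orderOf_dvd_of_pow_eq_one (Units.ext (h.trans Units.val_one.symm))
      rw [hz] at h1
      have := Nat.le_of_dvd (by norm_num) h1
      omega

/-- **The row `G₂(q)`** up to `q = 3, 4, 9`. -/
theorem pw_g2_of (h3 : 3 ≤ Fintype.card F)
    (h : Fintype.card F = 3 ∨ Fintype.card F = 4 ∨ Fintype.card F = 9 → All 6 ↥(Cfsg.Lie.chevG2.group F)) :
    Pw ↥(Cfsg.Lie.chevG2.group F) := by
  obtain ⟨r, hr⟩ := CharP.exists F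
  obtain ⟨n, hrp, hc⟩ := FiniteField.card F r
  have : Fact r.Prime := ⟨hrp⟩
  have ha := Cfsg.Agent.H148.Hex.exists_ne h3
  have hpr : ∀ p : ℕ, p.Prime → p ≠ r → All p ↥(Cfsg.Lie.chevG2.group F) := fun p hp hne =>
    own_g2 ha r ((Nat.coprime_primes hrp hp).2 (Ne.symm hne))
  refine ⟨?_, fun p hp h5 => ?_⟩
  · by_cases h23 : r = 2 ∨ r = 3
    · by_cases hn : 3 ≤ (n : ℕ)
      · exact six_g2 h23 hn hc
      · apply h
        have hn0 := n.pos
        obtain ⟨m, hm⟩ : ∃ m : ℕ, m = (n : ℕ) := ⟨_, rfl⟩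
        rw [← hm] at hc hn hn0
        rw [hc] at h3 ⊢
        rcases h23 with rfl | rfl
        · interval_cases m
          · norm_num at h3
          · norm_num
        · interval_cases m
          · norm_num
          · norm_num
    · exact own_g2 ha r (coprime_six hrp (by
        have := hrp.two_le
        by_contra hlt
        have h4 : r = 4 := by omega
        rw [h4] at hrp
        exact absurd hrp (by decide)))
  · by_cases hp' : p = r
    · subst hp'
      obtain ⟨x, hx, hcl⟩ := Cfsg.Agent.S2461.result p h3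
      intro g
      by_cases hg : g = 1
      · rw [hg]; exact Pr.one p
      obtain ⟨u, v, e⟩ := hcl g hg
      have key : ∀ w : ↥(Cfsg.Lie.chevG2.group F), (orderOf (w * x * w⁻¹)).Coprime p := by
        intro w
        have := (MulAut.conj w).orderOf_eq x
        rw [MulAut.conj_apply] at this
        rw [this, Nat.coprime_comm, Nat.Prime.coprime_iff_not_dvd hp]
        exact hx
      exact ⟨_, _, e, key u, key v⟩
    · exact hpr p hp hp'

end Cfsg.Agent.H538.Pw
end

-- part: H538/Pw/HexDFour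
section
/-!
# S2465: `³D₄(q)`, Gauss decomposition (helper538)
-/

set_option autoImplicit false
set_option linter.unusedSectionVars false

namespace Cfsg.Agent.H538.Pw

open CoxeterSystem Cfsg.Agent.ChevalleyStructure.CoxeterGeom Cfsg.Agent.Tits.Roots Cfsg.Agent.Tits.Core
  Cfsg.Agent.Nodes.BNOf Cfsg.Agent.Nodes.BNOf.RGD Cfsg.Agent.Nodes.RGDTwGen Cfsg.Agent.Nodes.RGDChev
  Cfsg.Agent.Nodes.RGDFold Cfsg.Agent.Nodes.RGDTwD4
open Cfsg.Lie Cfsg.Agent.ChevalleyStructure
  Cfsg.Agent.ChevalleyStructure.TwistedU Cfsg.Agent.ChevalleyStructure.TwistedFix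
open Cfsg.Agent.ChevalleyStructure.D4Comm
open Cfsg.Agent.ChevalleyStructure.D4Pos (lprod_inj)
open Cfsg.Agent.ChevalleyStructure.D4NConj (nR hR)
open Cfsg.Agent.ChevalleyStructure.D4U Cfsg.Agent.ChevalleyStructure.D4Twisted
open Cfsg.Agent.ChevalleyStructure.D4Fixed (sig)
open Cfsg.Agent.TitsThree.RankTwoZ Cfsg.Agent.Cit.HexBase Cfsg.Agent.Cit.HexBase.HexGrp Cfsg.Agent.Lib.SL2Mat
open Cfsg.Agent.Hexagon.TwD4Par Cfsg.Agent.Hexagon.TwD4Rel
open Cfsg.Agent.H650.AH.RowTwD4 (LL cls_pos X_eq hwp two)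

universe u

theorem cls_neg' : ∀ r : Fin 24, (∀ i : Fin 2, V chevD4 J r i ≤ 0) →
    ∃ k ∈ ({0, 7, 8, 9, 10, 11} : Finset (ZMod (2 * 6))), ∀ s < 24, (V chevD4 J s = V chevD4 J r ↔ s ∈ LL k) := by
  decide +kernel

theorem cls_neg (r : ℕ) (hr : r < 24) (h : ∀ i : Fin 2, V chevD4 J r i ≤ 0) :
    ∃ k ∈ ({0, 7, 8, 9, 10, 11} : Finset (ZMod (2 * 6))), ∀ s < 24, (V chevD4 J s = V chevD4 J r ↔ s ∈ LL k) :=
  cls_neg' ⟨r, hr⟩ h

variable {K : Type u} [Field K] [Fintype K] {q : ℕ}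

theorem hfD {φ : K →+* K} (i : Fin 2) : ∀ s ∈ Cfsg.Agent.Nodes.RGDTwNode.D4.rep i :: Cfsg.Agent.Nodes.RGDTwNode.D4.rest i,
    ∀ t : K, ((eps s : ℤ) : K) * φ t = φ t := fun s hs t => by
  rw [Cfsg.Agent.Nodes.RGDTwNode.D4.eps_one i s hs, Int.cast_one, one_mul]

theorem coordD4 {φ : K →+* K} (hφ : ∀ x, φ x = x ^ q) (hK : Fintype.card K = q ^ 3) :
    Cfsg.Agent.OddHalf.NI.Mult.Coord (Cfsg.Agent.Nodes.RGDTwD4.X φ q)
      (fun i => Cfsg.Agent.Nodes.RGDFoldSL.Fx φ ((Cfsg.Agent.Nodes.RGDTwNode.D4.rest i).length + 1))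
      (fun i => Cfsg.Agent.Nodes.RGDFoldSL.Phi (foldGrp hφ (D4Fixed.twisted_le_fix hK hφ))
        (Cfsg.Agent.Nodes.RGDTwNode.D4.nodeOK i) (hfD i)) := by
  obtain ⟨p, hp'⟩ := CharP.exists K
  have : Fact p.Prime := ⟨CharP.char_is_prime K p⟩
  exact Cfsg.Agent.OddHalf.NI.ModelTw.coord (foldGrp hφ (D4Fixed.twisted_le_fix hK hφ))
    Cfsg.Agent.Nodes.RGDTwNode.D4.nodeOK hfD CoxeterMatrix.G₂.toCoxeterSystem isCartan foldData p

theorem hg_d4 {σ : K ≃+* K} (hK : Fintype.card K = q ^ 3) (hσ : ∀ x, σ x = x ^ q) (hq : IsPrimePow q) :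
    HG (Cfsg.Agent.Cit.HexD4.d4 hq hK hσ) := by
  obtain ⟨p, hpc⟩ := CharP.exists K
  have : Fact p.Prime := ⟨CharP.char_is_prime K p⟩
  have : IsSimpleGroup ↥(twistedD4 K q) := (S1071.result hq hK).1
  have hφ : ∀ x, (σ : K →+* K) x = x ^ q := hσ
  have hle : twistedD4 K q ≤ D4Fixed.fix (σ : K →+* K) := D4Fixed.twisted_le_fix hK hσ
  set cs := (CoxeterMatrix.G₂).toCoxeterSystem with hcs
  have hW := Nodes.RGDFold.finite_W (hp := hp) cs isCartan foldData
  refine hg_of_rgd (Nodes.RGDTwD4.rgd cs hK hφ p) (Nodes.RGDTwD4.G1_eq_top cs hK hφ) (coordD4 hφ hK)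
    (Cfsg.Agent.Nodes.ChevChart.irr_of Cfsg.Agent.Nodes.ChevChart.irrG) ?_ ?_
  · refine Sup_le fun x hx => ?_
    obtain ⟨r, hr, rfl⟩ := (foldData.isRoot_iff (cs := cs) (h := isCartan) hp.checked hwp x).1 hx.1
    obtain ⟨k, hk, h1⟩ := cls_pos r hr hx.2
    exact le_trans (le_of_eq (X_eq hle h1)) (X_le_Sg hk)
  · refine Sup_le fun x hx => ?_
    obtain ⟨r, hr, rfl⟩ := (foldData.isRoot_iff (cs := cs) (h := isCartan) hp.checked hwp x).1 hx.1
    obtain ⟨k, hk, h1⟩ := cls_neg r hr hx.2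
    exact le_trans (le_of_eq (X_eq hle h1)) (X_le_Sg hk)

theorem own_d4 (hK : Fintype.card K = q ^ 3) (hq : IsPrimePow q) (p : ℕ) [CharP K p] {N : ℕ} (hN : p.Coprime N) :
    H78.Pw.All N ↥(twistedD4 K q) := by
  have : Fact p.Prime := ⟨CharP.char_is_prime K p⟩
  have : IsSimpleGroup ↥(twistedD4 K q) := (S1071.result hq hK).1
  obtain ⟨φ, hφ⟩ := D4Fixed.exists_frob hq hK
  set cs := (CoxeterMatrix.G₂).toCoxeterSystem with hcs
  have hW := Nodes.RGDFold.finite_W (hp := hp) cs isCartan foldData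
  exact all_own (Nodes.RGDTwD4.rgd cs hK hφ p) (Nodes.RGDTwD4.G1_eq_top cs hK hφ) (coordD4 hφ hK)
    (Cfsg.Agent.Nodes.ChevChart.irr_of Cfsg.Agent.Nodes.ChevChart.irrG) hN

end Cfsg.Agent.H538.Pw
end

-- part: H538/Pw/SixDFour
section
/-!
# S2465: `³D₄(q)`, `q ≠ 2, 3` (helper538)
-/

set_option autoImplicit false

namespace Cfsg.Agent.H538.Pw

open Cfsg.Agent.SplitTwo Cfsg.Agent.TitsThree.RankTwoZ Cfsg.Agent.Lib.SL2Mat Cfsg.Agent.Cit.HexBase
  Cfsg.Agent.Cit.HexBase.HexGrp Cfsg.Agent.H148.SLTwo Cfsg.Agent.H148.Hex Cfsg.Agent.H78.Pw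

universe u

variable {K : Type u} [Field K] [Fintype K] {q : ℕ}

theorem card_fxD {σ : K ≃+* K} (hK : Fintype.card K = q ^ 3) (hσ : ∀ x, σ x = x ^ q) (hq : 1 < q) :
    Nat.card ↥(fx σ) = q :=
  Cfsg.Agent.ChevalleyStructure.D4U.card_fix_field (φ := (σ : K →+* K)) hq hK hσ

/-- **`³D₄(q)`, `q ≥ 4` a power of 2 or 3.** -/
theorem six_d4 {r n : ℕ} (hr : r = 2 ∨ r = 3) (hqr : q = r ^ n) (h4 : 4 ≤ q) (hK : Fintype.card K = q ^ 3) :
    All 6 ↥(Cfsg.Lie.twistedD4 K q) := by
  have hrp : r.Prime := by rcases hr with rfl | rfl; exacts [Nat.prime_two, Nat.prime_three]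
  have : Fact r.Prime := ⟨hrp⟩
  have hn : n ≠ 0 := by
    rintro rfl
    rw [pow_zero] at hqr
    omega
  have hq : IsPrimePow q := by rw [hqr]; exact hrp.isPrimePow.pow hn
  obtain ⟨φ, hφ⟩ := Cfsg.Agent.ChevalleyStructure.D4Fixed.exists_frob hq hK
  have hb : Function.Bijective φ := by
    rw [Fintype.bijective_iff_injective_and_card]
    exact ⟨RingHom.injective (φ : K →+* K), rfl⟩
  obtain ⟨σ, hσ⟩ : ∃ σ : K ≃+* K, ∀ x, σ x = x ^ q := ⟨RingEquiv.ofBijective φ hb, hφ⟩
  have hch : CharP K r := by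
    obtain ⟨p, hp⟩ := CharP.exists K
    obtain ⟨m, hpp, hc⟩ := FiniteField.card K p
    have h1 : p ∣ (r ^ n) ^ 3 := by rw [← hqr, ← hK, hc]; exact dvd_pow_self p m.ne_zero
    have h2 := (Nat.prime_dvd_prime_iff_eq hpp hrp).1 (hpp.dvd_of_dvd_pow (hpp.dvd_of_dvd_pow h1))
    rwa [← h2]
  let c := Cfsg.Agent.Cit.HexD4.d4 hq hK hσ
  have hG : HG c := hg_d4 hK hσ hq
  have iK : Fintype ↥(fx σ) := Fintype.ofFinite _
  have hcK : Fintype.card ↥(fx σ) = q := by
    rw [← Nat.card_eq_fintype_card]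
    exact card_fxD hK hσ (by omega)
  have hchK : CharP ↥(fx σ) r := (Subfield.subtype (fx σ)).charP (Subfield.subtype (fx σ)).injective r
  have hfin : Finite ↥(Cfsg.Lie.twistedD4 K q) := Cfsg.Agent.H148.Hex.finite_d4
  obtain ⟨l, hl, hl5, hd⟩ := exists_ell hr (by rw [hcK]; exact hqr : Fintype.card ↥(fx σ) = r ^ n) (by rw [hcK]; exact h4)
  obtain ⟨l', hl', hl5', hd'⟩ := ell_cyc (q := q) (by omega)
  have : Fact l.Prime := ⟨hl⟩
  have : Fact l'.Prime := ⟨hl'⟩
  obtain ⟨X, hXo⟩ := exists_prime_orderOf_dvd_card' (G := S ↥(fx σ)) l (by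
    rw [Cfsg.Agent.ClassicalGeometry.PSL2Basic.card_SL2]
    exact hd.mul_left _)
  have hYo := order_sq hl hl5 hXo
  have hq3 : q ^ 3 - 1 = (q - 1) * (q ^ 2 + q + 1) := by
    obtain ⟨m, rfl⟩ : ∃ m, q = m + 1 := ⟨q - 1, by omega⟩
    have : (m + 1) ^ 3 = m * ((m + 1) ^ 2 + (m + 1) + 1) + 1 := by ring
    rw [this, Nat.add_sub_cancel, Nat.add_sub_cancel]
  obtain ⟨z, hz⟩ := exists_prime_orderOf_dvd_card' (G := Kˣ) l' (by
    rw [Nat.card_units, Nat.card_eq_fintype_card, hK, hq3]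
    exact hd'.mul_left _)
  have hzl : (z : K) ^ l' = 1 := by
    rw [← Units.val_pow_eq_pow_val, ← hz, pow_orderOf_eq_one, Units.val_one]
  have hzn : ∀ m : ℕ, (z : K) ^ m = 1 → l' ∣ m := by
    intro m hm
    rw [← hz]
    apply orderOf_dvd_of_pow_eq_one
    apply Units.ext
    rw [Units.val_pow_eq_pow_val, hm, Units.val_one]
  have hz0 : (z : K) ≠ 0 := z.ne_zero
  have hnz : nrm σ (z : K) = 1 := by
    have e : nrm σ (z : K) = (z : K) ^ (q ^ 2 + q + 1) := by
      unfold nrm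
      rw [hσ, hσ, ← pow_mul]
      ring
    rw [e]
    obtain ⟨k, hk⟩ := hd'
    rw [hk, pow_mul, hzl, one_pow]
  have hlq : ¬ l' ∣ q - 1 := by
    intro h
    obtain ⟨m, hm⟩ : ∃ m, q = m + 1 := ⟨q - 1, by omega⟩
    rw [hm, Nat.add_sub_cancel] at h
    rw [hm, show (m + 1) ^ 2 + (m + 1) + 1 = 3 + m * (m + 3) by ring] at hd'
    have h3 : l' ∣ 3 := (Nat.dvd_add_left (h.mul_right _)).1 hd'
    have := Nat.le_of_dvd (by norm_num) h3
    omega
  have hzf : ∀ m : ℕ, ¬ l' ∣ m → σ ((z : K) ^ m) ≠ (z : K) ^ m := by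
    intro m hm h
    rw [hσ, ← pow_mul] at h
    have h1 : (z : K) ^ (m * (q - 1)) = 1 := by
      have e : (z : K) ^ (m * q) = (z : K) ^ m * (z : K) ^ (m * (q - 1)) := by
        rw [← pow_add]
        congr 1
        obtain ⟨t, rfl⟩ : ∃ t, q = t + 1 := ⟨q - 1, by omega⟩
        rw [Nat.add_sub_cancel]
        ring
      rw [e] at h
      exact mul_left_cancel₀ (pow_ne_zero m hz0) (h.trans (mul_one _).symm)
    rcases hl'.dvd_mul.1 (hzn _ h1) with h2 | h2
    · exact hm h2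
    · exact hlq h2
  have hs := act_p3_dg c (z : K) hz0
  rw [hnz] at hs
  obtain ⟨c1, hc1⟩ : ∃ c1 : K, c1 = 1 / (z : K) ^ 2 := ⟨_, rfl⟩
  rw [← hc1] at hs
  have hc0 : c1 ≠ 0 := hs.ne1
  have hcf : σ c1 ≠ c1 := by
    intro h
    apply hzf 2 (by
      intro h2
      have := Nat.le_of_dvd (by norm_num) h2
      omega)
    rw [hc1, map_div₀, map_one] at h
    have h1 : σ ((z : K) ^ 2) ≠ 0 := (map_ne_zero σ).2 (pow_ne_zero 2 hz0)
    have h2 : (z : K) ^ 2 ≠ 0 := pow_ne_zero 2 hz0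
    field_simp at h
    exact h.symm
  have hnc : nrm σ c1 = 1 := by
    rw [hc1, one_div, nrm_inv, show (z : K) ^ 2 = z * z from pow_two _, nrm_mul, hnz, one_mul, inv_one]
  have hσ3 : ∀ x : K, σ (σ (σ x)) = x := by
    intro x
    rw [hσ, hσ, hσ, ← pow_mul, ← pow_mul, show q * (q * q) = q ^ 3 by ring, ← hK, FiniteField.pow_card]
  -- no roots
  have hnr1 : ∀ τ : ↥(fx σ), NR (τ : K) c1 := by
    intro τ h
    have hτ : σ (τ : K) = τ := τ.2
    have h1 : 1 - σ c1 * (τ : K) + σ c1 ^ 2 = 0 := by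
      have h2 := congrArg σ h
      simp only [map_add, map_sub, map_mul, map_pow, map_one, map_zero, hτ] at h2
      exact h2
    have hNR : 1 - c1 * (τ : K) + c1 ^ 2 = 0 := h
    have h3 : (σ c1 - c1) * (σ c1 * c1 - 1) = 0 := by linear_combination c1 * h1 - σ c1 * hNR
    rcases mul_eq_zero.1 h3 with h4 | h4
    · exact hcf (sub_eq_zero.1 h4)
    · have h5 : σ c1 * c1 = 1 := sub_eq_zero.1 h4
      have h6 : σ (σ c1) * σ c1 = 1 := by rw [← map_mul, h5, map_one]
      have h7 : σ (σ c1) = c1 := by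
        have h8 : σ c1 ≠ 0 := (map_ne_zero σ).2 hc0
        exact mul_right_cancel₀ h8 (by rw [h6, mul_comm, h5])
      apply hcf
      have h9 := hσ3 c1
      rwa [h7] at h9
  have hnr2 : ∀ {Z : S ↥(fx σ)}, orderOf Z = l → NR ((tr Z : ↥(fx σ)) : K) (nrm σ c1) := by
    intro Z hZ h
    rw [hnc] at h
    obtain ⟨-, n2, -, -, -⟩ := facts_ell hr hl hl5 hZ
    apply n2
    have h1 : (1 : K) - 1 * ((tr Z : ↥(fx σ)) : K) + 1 ^ 2 = 0 := h
    have h2 : ((tr Z : ↥(fx σ)) : K) = 2 := by linear_combination -h1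
    exact Subtype.ext (by rw [h2]; rfl)
  have hshp : shp σ c1 ≠ 1 := by
    intro h
    have h3 : nrm σ c1 = c1 * shp σ c1 := by unfold nrm shp; ring
    rw [h, hnc, mul_one] at h3
    apply hcf
    rw [← h3, map_one]
  have hXl : X ^ l = 1 := by rw [← hXo]; exact pow_orderOf_eq_one X
  have hYl : (X ^ 2) ^ l = 1 := by
    have := pow_orderOf_eq_one (X ^ 2)
    rwa [hYo] at this
  have hOK1 : OK c 6 (p3 c (dg (z : K) hz0)) c1 (tr X) :=
    ⟨hnr1 _, hnr2 hXo, ord_tr (facts_ell hr hl hl5 hXo).1 hXl (coprime_six hl hl5)⟩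
  have hOK2 : OK c 6 (p3 c (dg (z : K) hz0)) c1 (tr (X ^ 2)) :=
    ⟨hnr1 _, hnr2 hYo, ord_tr (facts_ell hr hl hl5 hYo).1 hYl (coprime_six hl hl5)⟩
  exact all_of_hex hG hs (Nat.Coprime.of_dvd_left (orderOf_dvd_of_pow_eq_one (p3_dg_order c hz0 hzl))
    (coprime_six hl' hl5')) hshp hOK1 hOK2 (Or.inl (tr_ne_sq hr hl hl5 hXo))

/-- **The row `³D₄(q)`** up to `q = 2, 3`. -/
theorem pw_d4_of (hq : IsPrimePow q) (hK : Fintype.card K = q ^ 3)
    (h : q = 2 ∨ q = 3 → All 6 ↥(Cfsg.Lie.twistedD4 K q)) : Pw ↥(Cfsg.Lie.twistedD4 K q) := by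
  obtain ⟨r, n, hrp', hn, hqr⟩ := hq
  have hrp : r.Prime := hrp'.nat_prime
  have hq : IsPrimePow q := ⟨r, n, hrp', hn, hqr⟩
  have : Fact r.Prime := ⟨hrp⟩
  have hch : CharP K r := by
    obtain ⟨p, hp⟩ := CharP.exists K
    obtain ⟨m, hpp, hc⟩ := FiniteField.card K p
    have h1 : p ∣ (r ^ n) ^ 3 := by rw [hqr, ← hK, hc]; exact dvd_pow_self p m.ne_zero
    have h2 := (Nat.prime_dvd_prime_iff_eq hpp hrp).1 (hpp.dvd_of_dvd_pow (hpp.dvd_of_dvd_pow h1))
    rwa [← h2]
  refine ⟨?_, fun p hp h5 => ?_⟩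
  · by_cases h23 : r = 2 ∨ r = 3
    · by_cases h4 : 4 ≤ q
      · exact six_d4 h23 hqr.symm h4 hK
      · apply h
        have := hq.one_lt
        omega
    · exact own_d4 hK hq r (coprime_six hrp (by
        have := hrp.two_le
        by_contra hlt
        have h4 : r = 4 := by omega
        rw [h4] at hrp
        exact absurd hrp (by decide)))
  · by_cases hp' : p = r
    · subst hp'
      obtain ⟨x, hx, hcl⟩ := Cfsg.Agent.S2462.result p q hq hK
      intro g
      by_cases hg : g = 1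
      · rw [hg]; exact Pr.one p
      obtain ⟨u, v, e⟩ := hcl g hg
      have key : ∀ w : ↥(Cfsg.Lie.twistedD4 K q), (orderOf (w * x * w⁻¹)).Coprime p := by
        intro w
        have := (MulAut.conj w).orderOf_eq x
        rw [MulAut.conj_apply] at this
        rw [this, Nat.coprime_comm, Nat.Prime.coprime_iff_not_dvd hp]
        exact hx
      exact ⟨_, _, e, key u, key v⟩
    · exact own_d4 hK hq r ((Nat.coprime_primes hrp hp).2 (Ne.symm hp'))

end Cfsg.Agent.H538.Pw
end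

-- part: H667/Pw/L3
section
/-!
# S2465: `PSL₃(2)`, `PSL₃(3)`: every element is a product of two elements of order prime to 6
-/

set_option autoImplicit false

namespace Cfsg.Agent.H667.Pw

/-- explicit `3 × 3` matrices -/
@[ext] structure T (R : Type*) where
  a : R
  b : R
  c : R
  d : R
  e : R
  f : R
  g : R
  h : R
  i : R
deriving DecidableEq

namespace T

variable {R : Type*} [CommRing R]

def mul (x y : T R) : T R :=
  ⟨x.a * y.a + x.b * y.d + x.c * y.g, x.a * y.b + x.b * y.e + x.c * y.h, x.a * y.c + x.b * y.f + x.c * y.i,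
   x.d * y.a + x.e * y.d + x.f * y.g, x.d * y.b + x.e * y.e + x.f * y.h, x.d * y.c + x.e * y.f + x.f * y.i,
   x.g * y.a + x.h * y.d + x.i * y.g, x.g * y.b + x.h * y.e + x.i * y.h, x.g * y.c + x.h * y.f + x.i * y.i⟩

def one : T R := ⟨1, 0, 0, 0, 1, 0, 0, 0, 1⟩

def toM (x : T R) : Matrix (Fin 3) (Fin 3) R := !![x.a, x.b, x.c; x.d, x.e, x.f; x.g, x.h, x.i]

theorem toM_mul (x y : T R) : toM (mul x y) = toM x * toM y := by
  ext i j
  (revert i j; simp only [toM, mul, Matrix.mul_apply, Fin.sum_univ_three, _root_.Fin.forall_fin_succ, _root_.Matrix.of_apply, _root_.Matrix.cons_val', _root_.Matrix.cons_val_fin_one, Fin.isValue, _root_.Matrix.cons_val_zero, _root_.Matrix.cons_val_one, _root_.Matrix.cons_val, _root_.Matrix.cons_val_succ, _root_.forall_const, _root_.and_self, _root_.implies_true])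

theorem toM_one : toM (one : T R) = 1 := by
  ext i j
  (revert i j; simp only [toM, one, _root_.Fin.forall_fin_succ, _root_.Matrix.of_apply, _root_.Matrix.cons_val', _root_.Matrix.cons_val_fin_one, Fin.isValue, _root_.Matrix.cons_val_zero, _root_.Matrix.cons_val_succ, _root_.IsEmpty.forall_iff, _root_.and_true, _root_.Matrix.one_apply_eq, Nat.reduceAdd, _root_.Fin.succ_zero_eq_one, _root_.ne_eq, _root_.zero_ne_one, _root_.not_false_eq_true, _root_.Matrix.one_apply_ne, _root_.Fin.succ_one_eq_two, Fin.reduceEq, _root_.and_self, _root_.Fin.succ_ne_zero, _root_.true_and])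

/-- the sixth power -/
def p6 (y : T R) : T R := let y2 := mul y y; let y3 := mul y2 y; mul y3 y3
def p7 (y : T R) : T R := mul (p6 y) y
def p12 (y : T R) : T R := let z := p6 y; mul z z
def p13 (y : T R) : T R := mul (p12 y) y

theorem toM_p6 (y : T R) : toM (p6 y) = toM y ^ 6 := by
  simp only [p6, toM_mul]; noncomm_ring
theorem toM_p7 (y : T R) : toM (p7 y) = toM y ^ 7 := by
  rw [p7, toM_mul, toM_p6, ← pow_succ]
theorem toM_p12 (y : T R) : toM (p12 y) = toM y ^ 12 := by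
  simp only [p12, toM_mul, toM_p6]; rw [← pow_add]
theorem toM_p13 (y : T R) : toM (p13 y) = toM y ^ 13 := by
  rw [p13, toM_mul, toM_p12, ← pow_succ]

end T

def L13 : List (T (ZMod 3)) := [⟨0, 0, 1, 0, 1, 1, 2, 1, 1⟩, ⟨0, 0, 1, 0, 1, 1, 2, 1, 2⟩, ⟨0, 1, 2, 1, 2, 0, 1, 0, 1⟩,
  ⟨0, 2, 0, 1, 2, 1, 2, 1, 0⟩, ⟨0, 1, 0, 2, 1, 1, 1, 2, 0⟩, ⟨2, 2, 2, 1, 0, 1, 0, 1, 1⟩]

private def mN (x y : T ℕ) : T ℕ :=
  ⟨Nat.mod (Nat.add (Nat.add (Nat.mul x.a y.a) (Nat.mul x.b y.d)) (Nat.mul x.c y.g)) 3,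
   Nat.mod (Nat.add (Nat.add (Nat.mul x.a y.b) (Nat.mul x.b y.e)) (Nat.mul x.c y.h)) 3,
   Nat.mod (Nat.add (Nat.add (Nat.mul x.a y.c) (Nat.mul x.b y.f)) (Nat.mul x.c y.i)) 3,
   Nat.mod (Nat.add (Nat.add (Nat.mul x.d y.a) (Nat.mul x.e y.d)) (Nat.mul x.f y.g)) 3,
   Nat.mod (Nat.add (Nat.add (Nat.mul x.d y.b) (Nat.mul x.e y.e)) (Nat.mul x.f y.h)) 3,
   Nat.mod (Nat.add (Nat.add (Nat.mul x.d y.c) (Nat.mul x.e y.f)) (Nat.mul x.f y.i)) 3,
   Nat.mod (Nat.add (Nat.add (Nat.mul x.g y.a) (Nat.mul x.h y.d)) (Nat.mul x.i y.g)) 3,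
   Nat.mod (Nat.add (Nat.add (Nat.mul x.g y.b) (Nat.mul x.h y.e)) (Nat.mul x.i y.h)) 3,
   Nat.mod (Nat.add (Nat.add (Nat.mul x.g y.c) (Nat.mul x.h y.f)) (Nat.mul x.i y.i)) 3⟩

private def cs (x : T ℕ) : T (ZMod 3) := ⟨x.a, x.b, x.c, x.d, x.e, x.f, x.g, x.h, x.i⟩

private theorem cs_mN (x y : T ℕ) : cs (mN x y) = T.mul (cs x) (cs y) := by
  have h : ∀ a b c d e f : ℕ, ((Nat.mod (Nat.add (Nat.add (Nat.mul a b) (Nat.mul c d)) (Nat.mul e f)) 3 : ℕ) : ZMod 3) =
      (a : ZMod 3) * b + c * d + e * f := fun a b c d e f => by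
    show (((a * b + c * d + e * f) % 3 : ℕ) : ZMod 3) = _
    rw [ZMod.natCast_mod, Nat.cast_add, Nat.cast_add, Nat.cast_mul, Nat.cast_mul, Nat.cast_mul]
  delta cs mN T.mul
  simp only [h]

private def okN (y : T ℕ) : Bool :=
  (fun y2 => (fun y3 => (fun y6 => (fun z : T ℕ => Nat.beq z.a 1 && (Nat.beq z.b 0 && (Nat.beq z.c 0 && (Nat.beq z.d 0 &&
    (Nat.beq z.e 1 && (Nat.beq z.f 0 && (Nat.beq z.g 0 && (Nat.beq z.h 0 && Nat.beq z.i 1))))))))
      (mN (mN y6 y6) y)) (mN y3 y3)) (mN y2 y)) (mN y y)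

private theorem okN_sound {y : T ℕ} (h : okN y = true) : T.p13 (cs y) = T.one := by
  have e : T.p13 (cs y) = cs (mN (mN (mN (mN (mN y y) y) (mN (mN y y) y)) (mN (mN (mN y y) y) (mN (mN y y) y))) y) := by
    simp only [cs_mN]
    rfl
  rw [e]
  delta okN at h
  simp only [Bool.and_eq_true, Nat.beq_eq] at h
  generalize mN (mN (mN (mN (mN y y) y) (mN (mN y y) y)) (mN (mN (mN y y) y) (mN (mN y y) y))) y = z at h ⊢
  obtain ⟨h1, h2, h3, h4, h5, h6, h7, h8, h9⟩ := h
  delta cs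
  rw [h1, h2, h3, h4, h5, h6, h7, h8, h9]
  rfl

private def I13 : List (T ℕ) := [⟨0, 1, 2, 2, 1, 0, 1, 0, 0⟩, ⟨1, 1, 2, 2, 1, 0, 1, 0, 0⟩, ⟨2, 2, 2, 2, 1, 2, 1, 1, 2⟩, ⟨2, 0, 2, 2, 0, 0, 0, 1, 1⟩, ⟨1, 0, 1, 1, 0, 0, 0, 1, 1⟩, ⟨2, 0, 2, 2, 2, 0, 1, 1, 1⟩]

private theorem chkN : ([0, 1, 2].all fun a => [0, 1, 2].all fun b => [0, 1, 2].all fun e => [0, 1, 2].all fun f =>
    !Nat.beq ((b * e + 2 * (a * f)) % 3) 1 || [0, 1, 2].all fun c => [0, 1, 2].all fun d =>
      I13.any fun x => okN (mN x ⟨0, a, b, 1, c, d, 0, e, f⟩)) = true := by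
  decide +kernel

theorem chk13 : (∀ x ∈ L13, T.p13 x = T.one) ∧ ∀ a b c d e f : ZMod 3, - (a * f - b * e) = 1 →
    ∃ x ∈ L13, T.p13 (T.mul (T.p12 x) ⟨0, a, b, 1, c, d, 0, e, f⟩) = T.one := by
  refine ⟨by decide +kernel, fun a b c d e f h => ?_⟩
  have h1 : ∀ a : ZMod 3, a.val ∈ [0, 1, 2] ∧ ((a.val : ℕ) : ZMod 3) = a := by decide +kernel
  have h2 : ∀ a b e f : ZMod 3, - (a * f - b * e) = 1 →
      Nat.beq ((b.val * e.val + 2 * (a.val * f.val)) % 3) 1 = true := by decide +kernel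
  have h3 : ∀ y ∈ I13, ∃ x ∈ L13, T.p12 x = cs y := by decide +kernel
  have h4 := chkN
  simp only [List.all_eq_true] at h4
  have h5 := h4 _ (h1 a).1 _ (h1 b).1 _ (h1 e).1 _ (h1 f).1
  rw [h2 a b e f h] at h5
  simp only [Bool.not_true, Bool.false_or, List.all_eq_true, List.any_eq_true] at h5
  obtain ⟨y, hy, h6⟩ := h5 _ (h1 c).1 _ (h1 d).1
  obtain ⟨x, hx, h7⟩ := h3 y hy
  refine ⟨x, hx, ?_⟩
  have h8 := okN_sound h6
  rw [cs_mN, ← h7] at h8
  have h9 : cs ⟨0, a.val, b.val, 1, c.val, d.val, 0, e.val, f.val⟩ = ⟨0, a, b, 1, c, d, 0, e, f⟩ := by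
    delta cs
    simp only [(h1 _).2]
    rfl
  rwa [h9] at h8

def L7 : List (T (ZMod 2)) := [⟨0, 0, 1, 0, 1, 1, 1, 1, 0⟩, ⟨0, 0, 1, 0, 1, 1, 1, 1, 1⟩, ⟨0, 1, 0, 0, 0, 1, 1, 0, 1⟩,
  ⟨0, 1, 0, 0, 1, 1, 1, 0, 1⟩]

theorem chk7 : (∀ x ∈ L7, T.p7 x = T.one) ∧ ∀ a b c d e f : ZMod 2, - (a * f - b * e) = 1 →
    ∃ x ∈ L7, T.p7 (T.mul (T.p6 x) ⟨0, a, b, 1, c, d, 0, e, f⟩) = T.one := by
  decide +kernel

section Red

variable {F : Type*} [Field F]

open Matrix

theorem exists_red (M : Matrix (Fin 3) (Fin 3) F) : (∃ c : F, M = c • (1 : Matrix (Fin 3) (Fin 3) F)) ∨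
    ∃ P : Matrix (Fin 3) (Fin 3) F, IsUnit P.det ∧ ∃ a b c d e f : F,
      P⁻¹ * M * P = !![0, a, b; 1, c, d; 0, e, f] := by
  by_cases hM : ∀ v : Fin 3 → F, ¬ LinearIndependent F ![v, Matrix.toLin' M v]
  · left
    obtain ⟨a, ha⟩ := (Matrix.toLin' M).exists_eq_smul_id_of_forall_notLinearIndependent hM
    refine ⟨a, ?_⟩
    apply Matrix.toLin'.injective
    rw [ha, map_smul, Matrix.toLin'_one]
    rfl
  · right
    push Not at hM
    obtain ⟨v, hv⟩ := hM
    obtain ⟨w, hw⟩ := exists_linearIndependent_snoc_of_lt_finrank hv (by simp)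
    set P : Matrix (Fin 3) (Fin 3) F := (Matrix.of (Fin.snoc ![v, Matrix.toLin' M v] w : Fin 3 → Fin 3 → F))ᵀ with hP
    have hPu : IsUnit P := by
      rw [← Matrix.linearIndependent_cols_iff_isUnit]
      exact hw
    have hPd : IsUnit P.det := (Matrix.isUnit_iff_isUnit_det P).1 hPu
    have hc0 : P *ᵥ ![1, 0, 0] = v := by
      rw [hP]
      ext i
      simp [Matrix.mulVec, dotProduct, Fin.sum_univ_three]
    have hc1 : P *ᵥ ![0, 1, 0] = M *ᵥ v := by
      rw [hP]
      ext i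
      simp only [Matrix.mulVec, dotProduct, Fin.sum_univ_three, _root_.Matrix.mulVec, _root_.dotProduct, _root_.Matrix.toLin'_apply, _root_.Matrix.Fin.snoc_vecCons, _root_.Nat.reduceAdd, _root_.Matrix.Fin.snoc_vecEmpty, _root_.Matrix.transpose_apply, _root_.Matrix.of_apply, _root_.Matrix.cons_val', _root_.Fin.sum_univ_three, _root_.Fin.isValue, _root_.Matrix.cons_val_fin_one, _root_.Matrix.cons_val_zero, _root_.MulZeroClass.mul_zero, _root_.Matrix.cons_val_one, _root_.mul_one, _root_.zero_add, _root_.Matrix.cons_val, _root_.add_zero]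
    have hcol : (P⁻¹ * M * P) *ᵥ ![1, 0, 0] = ![0, 1, 0] := by
      rw [Matrix.mul_assoc, ← Matrix.mulVec_mulVec, ← Matrix.mulVec_mulVec, hc0, ← hc1, Matrix.mulVec_mulVec,
        Matrix.nonsing_inv_mul P hPd, Matrix.one_mulVec]
    set N := P⁻¹ * M * P with hN
    refine ⟨P, hPd, N 0 1, N 0 2, N 1 1, N 1 2, N 2 1, N 2 2, ?_⟩
    have h0 := congrFun hcol 0
    have h1 := congrFun hcol 1
    have h2 := congrFun hcol 2
    simp [Matrix.mulVec, dotProduct, Fin.sum_univ_three] at h0 h1 h2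
    rw [← hN]
    ext i j
    (revert i j; simp only [h0, h1, h2, _root_.Fin.forall_fin_succ, Fin.isValue, _root_.Matrix.of_apply, _root_.Matrix.cons_val', _root_.Matrix.cons_val_fin_one, _root_.Matrix.cons_val_zero, _root_.Matrix.cons_val_succ, _root_.Fin.succ_zero_eq_one, _root_.Fin.succ_one_eq_two, _root_.IsEmpty.forall_iff, _root_.and_true, _root_.and_self])

theorem conj_pow {P x : Matrix (Fin 3) (Fin 3) F} (hP : IsUnit P.det) (n : ℕ) :
    (P * x * P⁻¹) ^ n = P * x ^ n * P⁻¹ := by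
  induction n with
  | zero => rw [pow_zero, pow_zero, Matrix.mul_one, Matrix.mul_nonsing_inv P hP]
  | succ n ih =>
    rw [pow_succ, ih, pow_succ]
    calc P * x ^ n * P⁻¹ * (P * x * P⁻¹) = P * x ^ n * (P⁻¹ * P) * x * P⁻¹ := by simp only [Matrix.mul_assoc]
      _ = _ := by rw [Matrix.nonsing_inv_mul P hP, Matrix.mul_one]; simp only [Matrix.mul_assoc]

open Cfsg.Agent.H78.Pw in
theorem all_of_key {N n : ℕ} (hN : N.Coprime n) (hsc : ∀ c : F, c ^ 3 = 1 → c = 1)
    (hdt : ∀ c : F, c ^ N = 1 → c = 1)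
    (key : ∀ a b c d e f : F, - (a * f - b * e) = 1 → ∃ x y : Matrix (Fin 3) (Fin 3) F,
      x * y = !![0, a, b; 1, c, d; 0, e, f] ∧ x ^ N = 1 ∧ y ^ N = 1) :
    All n (Matrix.SpecialLinearGroup (Fin 3) F) := by
  intro g
  rcases exists_red (g : Matrix (Fin 3) (Fin 3) F) with ⟨c, hc⟩ | ⟨P, hP, a, b, c, d, e, f, hM⟩
  · have h1 := g.2
    rw [hc, Matrix.det_smul, Matrix.det_one, mul_one, Fintype.card_fin] at h1
    have h2 : g = 1 := by
      apply Subtype.ext
      rw [hc, hsc c h1, one_smul]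
      rfl
    rw [h2]
    exact Pr.one n
  · have hdet : - (a * f - b * e) = 1 := by
      have h1 := congrArg Matrix.det hM
      rw [Matrix.det_mul, Matrix.det_mul, g.2, mul_one, ← Matrix.det_mul, Matrix.nonsing_inv_mul P hP,
        Matrix.det_one, Matrix.det_fin_three] at h1
      simp at h1
      linear_combination -h1
    obtain ⟨x, y, hxy, hx, hy⟩ := key a b c d e f hdet
    have hcd : ∀ z : Matrix (Fin 3) (Fin 3) F, z ^ N = 1 → (P * z * P⁻¹).det = 1 := by
      intro z hz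
      have h2 := congrArg Matrix.det hz
      rw [Matrix.det_pow, Matrix.det_one] at h2
      rw [Matrix.det_mul, Matrix.det_mul, mul_right_comm, ← Matrix.det_mul, Matrix.mul_nonsing_inv P hP, Matrix.det_one,
        one_mul, hdt _ h2]
    have ho : ∀ z : Matrix (Fin 3) (Fin 3) F, z ^ N = 1 → ∃ X : Matrix.SpecialLinearGroup (Fin 3) F,
        (X : Matrix (Fin 3) (Fin 3) F) = P * z * P⁻¹ ∧ (orderOf X).Coprime n := by
      intro z hz
      obtain ⟨X, hX⟩ : ∃ X : Matrix.SpecialLinearGroup (Fin 3) F, (X : Matrix (Fin 3) (Fin 3) F) = P * z * P⁻¹ :=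
        ⟨⟨_, hcd z hz⟩, rfl⟩
      refine ⟨X, hX, Nat.Coprime.of_dvd_left (orderOf_dvd_of_pow_eq_one ?_) hN⟩
      apply Subtype.ext
      rw [Matrix.SpecialLinearGroup.coe_pow, hX, conj_pow hP, hz, Matrix.mul_one, Matrix.mul_nonsing_inv P hP]
      rfl
    obtain ⟨X, hX, hXo⟩ := ho x hx
    obtain ⟨Y, hY, hYo⟩ := ho y hy
    refine ⟨X, Y, ?_, hXo, hYo⟩
    apply Subtype.ext
    rw [Matrix.SpecialLinearGroup.coe_mul, hX, hY]
    have h3 : P * x * P⁻¹ * (P * y * P⁻¹) = P * (x * y) * P⁻¹ := by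
      calc P * x * P⁻¹ * (P * y * P⁻¹) = P * x * (P⁻¹ * P) * y * P⁻¹ := by simp only [Matrix.mul_assoc]
        _ = _ := by rw [Matrix.nonsing_inv_mul P hP, Matrix.mul_one]; simp only [Matrix.mul_assoc]
    rw [h3, hxy, ← hM]
    calc (g : Matrix (Fin 3) (Fin 3) F) = 1 * g * 1 := by rw [Matrix.one_mul, Matrix.mul_one]
      _ = (P * P⁻¹) * g * (P * P⁻¹) := by rw [Matrix.mul_nonsing_inv P hP]
      _ = _ := by simp only [Matrix.mul_assoc]

end Red

section Fin

variable {F : Type*} [Field F] [Finite F]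

open Matrix Cfsg.Agent.H78.Pw

theorem toM_map {R S : Type*} [CommRing R] [CommRing S] (φ : R →+* S) (x : T R) :
    (T.toM x).map φ = T.toM (⟨φ x.a, φ x.b, φ x.c, φ x.d, φ x.e, φ x.f, φ x.g, φ x.h, φ x.i⟩ : T S) := by
  ext i j
  (revert i j; simp only [T.toM, _root_.Fin.forall_fin_succ, _root_.Matrix.map_apply, _root_.Matrix.of_apply, _root_.Matrix.cons_val', _root_.Matrix.cons_val_fin_one, Fin.isValue, _root_.Matrix.cons_val_zero, _root_.Matrix.cons_val_succ, _root_.forall_const, _root_.and_self, _root_.implies_true])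

/-- `PSL₃(3)` -/
theorem six_psl_three_three (hF : Nat.card F = 3) : All 6 (ProjectiveSpecialLinearGroup (Fin 3) F) := by
  have : Fintype F := Fintype.ofFinite F
  have hF' : Fintype.card F = 3 := by rw [← Nat.card_eq_fintype_card, hF]
  let ψ : ZMod 3 ≃+* F := ZMod.ringEquivOfPrime F Nat.prime_three hF'
  have tr : ∀ (n : ℕ), (∀ c : ZMod 3, c ^ n = 1 → c = 1) → ∀ c : F, c ^ n = 1 → c = 1 := by
    intro n hn c hc
    have h1 := hn (ψ.symm c) (by rw [← map_pow, hc, map_one])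
    rw [← ψ.apply_symm_apply c, h1, map_one]
  have hall : All 6 (Matrix.SpecialLinearGroup (Fin 3) F) := by
    refine all_of_key (N := 13) (by decide) (tr 3 (by decide)) (tr 13 (by decide)) ?_
    intro a b c d e f hd
    obtain ⟨x, hx, h13⟩ := chk13.2 (ψ.symm a) (ψ.symm b) (ψ.symm c) (ψ.symm d) (ψ.symm e) (ψ.symm f) (by
      rw [← map_mul, ← map_mul, ← map_sub, ← map_neg, hd, map_one])
    have hx13 := chk13.1 x hx
    set z : T (ZMod 3) := ⟨0, ψ.symm a, ψ.symm b, 1, ψ.symm c, ψ.symm d, 0, ψ.symm e, ψ.symm f⟩ with hz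
    have e1 : T.toM x ^ 13 = 1 := by rw [← T.toM_p13, hx13, T.toM_one]
    have e2 : (T.toM x ^ 12 * T.toM z) ^ 13 = 1 := by rw [← T.toM_p12, ← T.toM_mul, ← T.toM_p13, h13, T.toM_one]
    have hmap : ∀ A B : Matrix (Fin 3) (Fin 3) (ZMod 3),
        (A * B).map (ψ : ZMod 3 →+* F) = A.map (ψ : ZMod 3 →+* F) * B.map (ψ : ZMod 3 →+* F) := fun A B => Matrix.map_mul
    refine ⟨((ψ : ZMod 3 →+* F)).mapMatrix (T.toM x), ((ψ : ZMod 3 →+* F)).mapMatrix (T.toM x ^ 12 * T.toM z), ?_, ?_, ?_⟩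
    · rw [← map_mul, ← mul_assoc, ← pow_succ', e1, one_mul, RingHom.mapMatrix_apply, toM_map]
      simp only [T.toM, hz, _root_.Cfsg.Agent.H667.Pw.T.toM, _root_.RingHom.coe_coe, _root_.map_zero, _root_.RingEquiv.apply_symm_apply, _root_.map_one]
    · rw [← map_pow, e1, map_one]
    · rw [← map_pow, e2, map_one]
  exact All.of_surjective _ (QuotientGroup.mk'_surjective _) hall

/-- `PSL₃(2)` -/
theorem six_psl_three_two (hF : Nat.card F = 2) : All 6 (ProjectiveSpecialLinearGroup (Fin 3) F) := by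
  have : Fintype F := Fintype.ofFinite F
  have hF' : Fintype.card F = 2 := by rw [← Nat.card_eq_fintype_card, hF]
  let ψ : ZMod 2 ≃+* F := ZMod.ringEquivOfPrime F Nat.prime_two hF'
  have tr : ∀ (n : ℕ), (∀ c : ZMod 2, c ^ n = 1 → c = 1) → ∀ c : F, c ^ n = 1 → c = 1 := by
    intro n hn c hc
    have h1 := hn (ψ.symm c) (by rw [← map_pow, hc, map_one])
    rw [← ψ.apply_symm_apply c, h1, map_one]
  have hall : All 6 (Matrix.SpecialLinearGroup (Fin 3) F) := by
    refine all_of_key (N := 7) (by decide) (tr 3 (by decide)) (tr 7 (by decide)) ?_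
    intro a b c d e f hd
    obtain ⟨x, hx, h13⟩ := chk7.2 (ψ.symm a) (ψ.symm b) (ψ.symm c) (ψ.symm d) (ψ.symm e) (ψ.symm f) (by
      rw [← map_mul, ← map_mul, ← map_sub, ← map_neg, hd, map_one])
    have hx13 := chk7.1 x hx
    set z : T (ZMod 2) := ⟨0, ψ.symm a, ψ.symm b, 1, ψ.symm c, ψ.symm d, 0, ψ.symm e, ψ.symm f⟩ with hz
    have e1 : T.toM x ^ 7 = 1 := by rw [← T.toM_p7, hx13, T.toM_one]
    have e2 : (T.toM x ^ 6 * T.toM z) ^ 7 = 1 := by rw [← T.toM_p6, ← T.toM_mul, ← T.toM_p7, h13, T.toM_one]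
    refine ⟨((ψ : ZMod 2 →+* F)).mapMatrix (T.toM x), ((ψ : ZMod 2 →+* F)).mapMatrix (T.toM x ^ 6 * T.toM z), ?_, ?_, ?_⟩
    · rw [← map_mul, ← mul_assoc, ← pow_succ', e1, one_mul, RingHom.mapMatrix_apply, toM_map]
      simp only [T.toM, hz, _root_.Cfsg.Agent.H667.Pw.T.toM, _root_.RingHom.coe_coe, _root_.map_zero, _root_.RingEquiv.apply_symm_apply, _root_.map_one]
    · rw [← map_pow, e1, map_one]
    · rw [← map_pow, e2, map_one]
  exact All.of_surjective _ (QuotientGroup.mk'_surjective _) hall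

end Fin

end Cfsg.Agent.H667.Pw
end

-- part: H346/Pw/Rows
section
/-!
# S2465: the rows of the groups of Lie type (helper346)

`Row P G = IsSimpleGroup G → Pw G`.  Each theorem `row_xxx` is the row of one family of `IsKnownSimple'`; the pieces
which are proved elsewhere are explicit hypotheses.
-/

set_option autoImplicit false

namespace Cfsg.Agent.H346.PwRows

open Cfsg Cfsg.Agent.H78.Pw
open Cfsg.Agent.H514.DP (PW PE IsPE)

universe u

/-- two `r`-elements + own characteristic (`r ≥ 5`) or order prime to six (`r ≤ 3`) -/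
theorem pw_of {r : ℕ} [hr : Fact r.Prime] {G : Type*} [Group G] (h : PW r 2 G) (hown : 5 ≤ r → All r G)
    (hsix : r < 5 → All 6 G) : Pw G := by
  have h' : ∀ g : G, ∃ a b : G, g = a * b ∧ (∃ k, a ^ r ^ k = 1) ∧ ∃ k, b ^ r ^ k = 1 := by
    intro g
    obtain ⟨a, b, ha, ⟨c, d, hc, hd, hcd⟩, hab⟩ := h g
    have hd1 : d = 1 := hd
    rw [hd1, mul_one] at hcd
    rw [← hcd] at hab
    exact ⟨a, c, hab.symm, ha, hc⟩
  rcases lt_or_ge r 5 with h5 | h5
  · exact Cfsg.Agent.H335.Pw.pw_of_six hr.out h5 h' (hsix h5)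
  · exact Cfsg.Agent.H335.Pw.pw_of_own hr.out h5 h' (hown h5)

/-- the characteristic of a finite field -/
theorem exists_char (F : Type*) [Field F] [Finite F] : ∃ r : ℕ, Fact r.Prime ∧ CharP F r := by
  obtain ⟨r, hr⟩ := CharP.exists F
  exact ⟨r, ⟨(CharP.char_is_prime_or_zero F r).resolve_right (CharP.char_ne_zero_of_finite F r)⟩, hr⟩

theorem two_or_three {r : ℕ} (hr : r.Prime) (h5 : r < 5) : r = 2 ∨ r = 3 := by
  have h2 := hr.two_le
  have h4 : r ≠ 4 := by
    rintro rfl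
    exact absurd hr (by decide)
  omega

theorem char_dvd {F : Type*} [Field F] [Finite F] {r : ℕ} [CharP F r] : r ∣ Nat.card F := by
  have := Fintype.ofFinite F
  obtain ⟨n, -, h⟩ := FiniteField.card F r
  rw [Nat.card_eq_fintype_card, h]
  exact dvd_pow_self r n.ne_zero

/-! ### Linear groups -/

/-- **PSL: complete** -/
theorem row_psl {G : Type u} [Group G] (h : IsPSL G) : Pw G := by
  obtain ⟨F, _, _, n, hn, h4, ⟨e⟩⟩ := h
  refine Pw.congr e.symm ?_
  rcases (by omega : n = 2 ∨ n = 3 ∨ 4 ≤ n) with rfl | rfl | h'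
  · exact Cfsg.Agent.H538.Pw.pw_l2 (h4 rfl)
  · by_cases h2 : Nat.card F = 2
    · exact ⟨Cfsg.Agent.H667.Pw.six_psl_three_two h2, fun _ hp h5 => Cfsg.Agent.H962.PP.allp_psl le_rfl hp h5⟩
    · by_cases h3 : Nat.card F = 3
      · exact ⟨Cfsg.Agent.H667.Pw.six_psl_three_three h3, fun _ hp h5 => Cfsg.Agent.H962.PP.allp_psl le_rfl hp h5⟩
      · exact Cfsg.Agent.H962.PP.pw_psl_three F h2 h3
  · exact Cfsg.Agent.H962.PP.pw_psl h' F

/-! ### Symplectic groups -/

/-- **PSp** from characteristic 3 and `PSp₄(4)`. -/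
theorem row_psp
    (h3 : ∀ (F : Type) [Field F] [Fintype F] [CharP F 3] (m : ℕ), 2 ≤ m → All 6 (PSp m F))
    (h4 : ∀ (F : Type) [Field F] [Fintype F], Fintype.card F = 4 → All 6 (PSp 2 F))
    {G : Type u} [Group G] [IsSimpleGroup G] (h : IsPSp G) : Pw G := by
  obtain ⟨F, _, _, m, hm, hF, ⟨e⟩⟩ := h
  obtain ⟨r, hr, hc⟩ := exists_char F
  have hPW : PW r 2 G := Cfsg.Agent.H346.PwU.pw_psp ⟨F, inferInstance, inferInstance, hc, m, hm, hF, ⟨e⟩⟩
  refine pw_of hPW (fun h5 => (Cfsg.Agent.H649.PwSp.own_psp r hr.out h5 m).congr e.symm) (fun h5 => ?_)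
  refine All.congr e.symm ?_
  rcases two_or_three hr.out h5 with rfl | rfl
  · by_cases h38 : 3 ≤ m ∨ 8 ≤ Fintype.card F
    · exact Cfsg.Agent.H649.PwSp.six_psp_two m h38
    · have hm2 : m = 2 := by omega
      subst hm2
      refine h4 F ?_
      obtain ⟨n, -, hcard⟩ := FiniteField.card F 2
      have h8 : Fintype.card F < 8 := by omega
      have h3' := hF rfl
      rw [hcard] at h8 h3' ⊢
      have hn0 := n.pos
      have hn3 : (n : ℕ) < 3 := by
        by_contra hn
        have := Nat.pow_le_pow_right (n := 2) (by norm_num) (by omega : 3 ≤ (n : ℕ))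
        omega
      obtain ⟨k, hk⟩ : ∃ k : ℕ, k = (n : ℕ) := ⟨_, rfl⟩
      rw [← hk] at h8 h3' hn0 hn3 ⊢
      interval_cases k
      · norm_num at h3'
      · norm_num
  · exact h3 F m hm

/-! ### Unitary groups -/

/-- **PSU** from dimension 3. -/
theorem row_psu
    (h3 : ∀ (F : Type) [Field F] [Fintype F] (q : ℕ), Fintype.card F = q ^ 2 → q ≠ 2 → Pw (PSU 3 F q))
    {G : Type u} [Group G] [IsSimpleGroup G] (h : IsPSU G) : Pw G := by
  obtain ⟨F, _, _, n, q, hF, hn, hex, ⟨e⟩⟩ := h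
  by_cases hn3 : n = 3
  · subst hn3
    exact Pw.congr e.symm (h3 F q hF fun h2 => hex ⟨rfl, h2⟩)
  obtain ⟨r, hr, hc⟩ := exists_char F
  have hPW : PW r 2 G := Cfsg.Agent.H346.PwU.pw_psu ⟨F, inferInstance, inferInstance, hc, n, q, hF, hn, hex, ⟨e⟩⟩
  have hrq : r ∣ q := by
    have h1 : r ∣ q ^ 2 := by
      rw [← hF, ← Nat.card_eq_fintype_card]
      exact char_dvd
    exact hr.out.dvd_of_dvd_pow h1
  exact pw_of hPW (fun _ => (Cfsg.Agent.H700.PwU.own_psu n q (by omega) hF hr.out hrq).congr e.symm)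
    (fun _ => (Cfsg.Agent.H700.PwU.six_psu n q (by omega) hF).congr e.symm)

/-! ### Orthogonal groups -/

/-- **PΩ, odd dimension** -/
theorem row_poo
    (hown : ∀ (F : Type) [Field F] [Fintype F] (r : ℕ) [Fact r.Prime] [CharP F r] (m : ℕ), 5 ≤ r → 3 ≤ m →
      All r (POmega F (quadFormOdd m F)))
    (hsix : ∀ (F : Type) [Field F] [Fintype F] [CharP F 3] (m : ℕ), 3 ≤ m → All 6 (POmega F (quadFormOdd m F)))
    {G : Type u} [Group G] [IsSimpleGroup G] (h : IsPOmegaOdd G) : Pw G := by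
  obtain ⟨F, _, _, m, hm, ho, ⟨e⟩⟩ := h
  obtain ⟨r, hr, hc⟩ := exists_char F
  have hPW : PW r 2 G := Cfsg.Agent.H346.PwU.pw_odd ⟨F, inferInstance, inferInstance, hc, m, hm, ho, ⟨e⟩⟩
  refine pw_of hPW (fun h5 => (hown F r m h5 hm).congr e.symm) (fun h5 => ?_)
  rcases two_or_three hr.out h5 with rfl | rfl
  · have h2 : 2 ∣ Nat.card F := char_dvd
    rw [Nat.card_eq_fintype_card] at h2
    exact absurd ho (Nat.not_odd_iff_even.2 (even_iff_two_dvd.2 h2))
  · exact (hsix F m hm).congr e.symm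

/-- **PΩ⁺** -/
theorem row_pop
    (hown : ∀ (F : Type) [Field F] [Fintype F] (r : ℕ) [Fact r.Prime] [CharP F r] (m : ℕ), 5 ≤ r → 4 ≤ m →
      All r (POmega F (quadFormPlus m F)))
    (hsix : ∀ (F : Type) [Field F] [Fintype F] (r : ℕ) [Fact r.Prime] [CharP F r] (m : ℕ), r < 5 → 4 ≤ m →
      All 6 (POmega F (quadFormPlus m F)))
    {G : Type u} [Group G] [IsSimpleGroup G] (h : IsPOmegaPlus G) : Pw G := by
  obtain ⟨F, _, _, m, hm, ⟨e⟩⟩ := h
  obtain ⟨r, hr, hc⟩ := exists_char F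
  have hPW : PW r 2 G := Cfsg.Agent.H346.PwU.pw_plus ⟨F, inferInstance, inferInstance, hc, m, hm, ⟨e⟩⟩
  exact pw_of hPW (fun h5 => (hown F r m h5 hm).congr e.symm) (fun h5 => (hsix F r m h5 hm).congr e.symm)

/-- **PΩ⁻** -/
theorem row_pom
    (hown : ∀ (F : Type) [Field F] [Fintype F] (r : ℕ) [Fact r.Prime] [CharP F r] (m : ℕ) (a b : F), 5 ≤ r → 4 ≤ m →
      (∀ z₁ z₂ : F, z₁ ^ 2 + a * z₁ * z₂ + b * z₂ ^ 2 = 0 → z₁ = 0 ∧ z₂ = 0) →
        All r (POmega F (quadFormMinus (m - 1) F a b)))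
    (hsix : ∀ (F : Type) [Field F] [Fintype F] (r : ℕ) [Fact r.Prime] [CharP F r] (m : ℕ) (a b : F), r < 5 → 4 ≤ m →
      (∀ z₁ z₂ : F, z₁ ^ 2 + a * z₁ * z₂ + b * z₂ ^ 2 = 0 → z₁ = 0 ∧ z₂ = 0) →
        All 6 (POmega F (quadFormMinus (m - 1) F a b)))
    {G : Type u} [Group G] [IsSimpleGroup G] (h : IsPOmegaMinus G) : Pw G := by
  obtain ⟨F, _, _, m, a, b, hm, hab, ⟨e⟩⟩ := h
  obtain ⟨r, hr, hc⟩ := exists_char F
  have hPW : PW r 2 G := Cfsg.Agent.H346.PwU.pw_minus ⟨F, inferInstance, inferInstance, hc, m, a, b, hm, hab, ⟨e⟩⟩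
  exact pw_of hPW (fun h5 => (hown F r m a b h5 hm hab).congr e.symm)
    (fun h5 => (hsix F r m a b h5 hm hab).congr e.symm)

/-! ### Exceptional groups -/

/-- **G₂** -/
theorem row_g2 (h3 : ∀ (F : Type) [Field F] [Fintype F], Fintype.card F = 3 → All 6 ↥(Lie.chevG2.group F))
    (h4 : ∀ (F : Type) [Field F] [Fintype F], Fintype.card F = 4 → All 6 ↥(Lie.chevG2.group F))
    (h9 : ∀ (F : Type) [Field F] [Fintype F], Fintype.card F = 9 → All 6 ↥(Lie.chevG2.group F))
    {G : Type u} [Group G] (h : Lie.IsoChevG2 G) : Pw G := by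
  obtain ⟨F, _, _, hF, ⟨e⟩⟩ := h
  refine Pw.congr e.symm (Cfsg.Agent.H538.Pw.pw_g2_of hF ?_)
  rintro (h | h | h)
  · exact h3 F h
  · exact h4 F h
  · exact h9 F h

theorem card_ge {F : Type*} [Field F] [Finite F] {r : ℕ} [CharP F r] (h : 5 ≤ r) : 5 ≤ Nat.card F :=
  h.trans (Nat.le_of_dvd Nat.card_pos char_dvd)

theorem card_cases {F : Type*} [Field F] [Finite F] (h : ¬ 4 ≤ Nat.card F) : Nat.card F = 2 ∨ Nat.card F = 3 := by
  have : 1 < Nat.card F := Finite.one_lt_card
  omega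

/-- **F₄** from `F₄(2)`, `F₄(3)` -/
theorem row_f4 (h2 : ∀ (F : Type) [Field F] [Fintype F], Nat.card F = 2 → All 6 ↥(Lie.chevF4.group F))
    (h3 : ∀ (F : Type) [Field F] [Fintype F], Nat.card F = 3 → All 6 ↥(Lie.chevF4.group F))
    {G : Type u} [Group G] [IsSimpleGroup G] (h : Lie.IsoF4 G) : Pw G := by
  obtain ⟨F, _, _, ⟨e⟩⟩ := h
  obtain ⟨r, hr, hc⟩ := exists_char F
  have hPW : PW r 2 G := Cfsg.Agent.H346.PwU.pw_exc ⟨F, inferInstance, inferInstance, hc, Or.inr (Or.inl ⟨e⟩)⟩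
  refine pw_of hPW (fun h5 => ?_) (fun h5 => ?_)
  · exact (Cfsg.Agent.H194.Pw.own_F4 (by have := card_ge (F := F) h5; omega) r).congr e.symm
  · refine All.congr e.symm ?_
    by_cases h4 : 4 ≤ Nat.card F
    · refine Cfsg.Agent.H85.Pw.FFour.six_F4 h4 ?_
      rcases two_or_three hr.out h5 with rfl | rfl
      · exact Or.inl char_dvd
      · exact Or.inr char_dvd
    · rcases card_cases h4 with h | h
      · exact h2 F h
      · exact h3 F h

/-- **E₇** from `q = 2, 3, 4, 8, 9` -/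
theorem row_e7 (hs : ∀ (F : Type) [Field F] [Fintype F], Nat.card F = 2 ∨ Nat.card F = 3 ∨ Nat.card F = 4 ∨
      Nat.card F = 8 ∨ Nat.card F = 9 → All 6 ↥(Lie.chevE7.group F))
    {G : Type u} [Group G] [IsSimpleGroup G] (h : Lie.IsoE7 G) : Pw G := by
  obtain ⟨F, _, _, ⟨e⟩⟩ := h
  obtain ⟨r, hr, hc⟩ := exists_char F
  have hPW : PW r 2 G := Cfsg.Agent.H346.PwU.pw_exc ⟨F, inferInstance, inferInstance, hc, Or.inr (Or.inr (Or.inr (Or.inl ⟨e⟩)))⟩
  refine pw_of hPW (fun h5 => ?_) (fun h5 => ?_)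
  · exact (Cfsg.Agent.H85.Pw.own_E7 F (by have := card_ge (F := F) h5; omega) r).congr e.symm
  · refine All.congr e.symm ?_
    by_cases hq : Nat.card F = 2 ∨ Nat.card F = 3 ∨ Nat.card F = 4 ∨ Nat.card F = 8 ∨ Nat.card F = 9
    · exact hs F hq
    · have hd : CharP F 2 ∨ CharP F 3 := by
        rcases two_or_three hr.out h5 with rfl | rfl
        · exact Or.inl hc
        · exact Or.inr hc
      exact Cfsg.Agent.H85.Pw.six_E7 F hd (by (clear * - F hq hd; tauto)) (by (clear * - hq; tauto)) (by (clear * - hq; tauto)) (by (clear * - hq; tauto)) (by (clear * - hq; tauto))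

/-- **E₈** from `q = 2, 3, 4, 9` -/
theorem row_e8 (hs : ∀ (F : Type) [Field F] [Fintype F], Nat.card F = 2 ∨ Nat.card F = 3 ∨ Nat.card F = 4 ∨
      Nat.card F = 9 → All 6 ↥(Lie.chevE8.group F))
    {G : Type u} [Group G] [IsSimpleGroup G] (h : Lie.IsoE8 G) : Pw G := by
  obtain ⟨F, _, _, ⟨e⟩⟩ := h
  obtain ⟨r, hr, hc⟩ := exists_char F
  have hPW : PW r 2 G := Cfsg.Agent.H346.PwU.pw_exc ⟨F, inferInstance, inferInstance, hc, Or.inr (Or.inr (Or.inr (Or.inr ⟨e⟩)))⟩
  refine pw_of hPW (fun h5 => ?_) (fun h5 => ?_)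
  · exact (Cfsg.Agent.H85.Pw.own_E8 F (by have := card_ge (F := F) h5; omega) r).congr e.symm
  · refine All.congr e.symm ?_
    by_cases hq : Nat.card F = 2 ∨ Nat.card F = 3 ∨ Nat.card F = 4 ∨ Nat.card F = 9
    · exact hs F hq
    · have hd : CharP F 2 ∨ CharP F 3 := by
        rcases two_or_three hr.out h5 with rfl | rfl
        · exact Or.inl hc
        · exact Or.inr hc
      exact Cfsg.Agent.H85.Pw.six_E8 F hd (by (clear * - F hq hd; tauto)) (by (clear * - hq; tauto)) (by (clear * - hq; tauto)) (by (clear * - hq; tauto))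

/-- **³D₄** from `q = 2, 3` -/
theorem row_td4
    (h2 : ∀ (K : Type) [Field K] [Fintype K], Fintype.card K = 2 ^ 3 → All 6 ↥(Lie.twistedD4 K 2))
    (h3 : ∀ (K : Type) [Field K] [Fintype K], Fintype.card K = 3 ^ 3 → All 6 ↥(Lie.twistedD4 K 3))
    {G : Type u} [Group G] (h : Lie.Iso3D4 G) : Pw G := by
  obtain ⟨K, _, _, q, hq, hK, ⟨e⟩⟩ := h
  refine Pw.congr e.symm (Cfsg.Agent.H538.Pw.pw_d4_of hq hK ?_)
  rintro (rfl | rfl)
  · exact h2 K hK
  · exact h3 K hK

/-- **²F₄: complete** -/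
theorem row_tf4 {G : Type u} [Group G] (h : Lie.Iso2F4 G) : Pw G := by
  have : Fact (Nat.Prime 2) := ⟨Nat.prime_two⟩
  exact pw_of (r := 2) (Cfsg.Agent.H346.PwU.pw_2f4 h) (fun h5 => absurd h5 (by norm_num))
    (fun _ => Cfsg.Agent.H335.Pw.six_2F4 h)

/-- **Suzuki groups: complete** -/
theorem row_sz {G : Type u} [Group G] (h : Lie.IsoSuzuki G) : Pw G := Cfsg.Agent.H335.Pw.pw_sz h

/-- **Ree groups: complete** -/
theorem row_ree {G : Type u} [Group G] (h : Lie.IsoRee G) : Pw G := Cfsg.Agent.H335.Pw.pw_ree h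

/-- **Tits group: complete** -/
theorem row_tits {G : Type u} [Group G] (h : Lie.IsoTits G) : Pw G := Cfsg.Agent.H335.Pw.pw_tits h

end Cfsg.Agent.H346.PwRows
end

private theorem dce_bf9ab874dc1e : _root_.True := by
  try have : _root_.True := by simp only [_root_.Cfsg.Agent.H667.Pw.T.p13.eq_1]
  try have : _root_.True := by simp only [_root_.Cfsg.Agent.H667.Pw.T.toM.eq_1]
  try have : _root_.True := by simp only [_root_.Cfsg.Agent.H667.Pw.T.p12.eq_1]
  try have : _root_.True := by simp only [_root_.Cfsg.Agent.H667.Pw.T.mul.eq_1]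
  try have : _root_.True := by simp only [_root_.Cfsg.Agent.H667.Pw.T.p7.eq_1]
  try have : _root_.True := by simp only [_root_.Cfsg.Agent.H667.Pw.T.one.eq_1]
  try have : _root_.True := by simp only [_root_.Cfsg.Agent.H667.Pw.T.p6.eq_1]
  exact _root_.True.intro
end

-- part: H538/Pw/GFourThree_mg
section
prune_inst 0x21503404490000000000000450001e239a00002000088400840100040488840244828860b100000948000005003d002813000020424000000e200400011c00801880000060810088420016000000400000000000000000000000000000000000000000000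
set_option linter.all false
open scoped Cfsg.Agent.FastGrp

-- part: GTwoFour/MdlInv
section
/-!
# `G₂(4)` in dimension six: the two classes of involutions

Every involution of `L` is conjugate to `x₁₁(1)` (long root element) or to `x₉(1)` (short root element). The
centralizer of `x₉(1)` has order at most `2 ^ 14`. The fields `cls`, `centz`, `five`, `sixteen` of `RedFacts`.
-/

set_option autoImplicit false
set_option linter.unusedVariables false
set_option Elab.async false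
set_option maxHeartbeats 400000

namespace Cfsg.Agent.GTwoFour.MdlInv

open Cfsg.Agent.SporRec.GF4
open Cfsg.Agent.StdG24.Mod6
open Cfsg.Agent.StdG24.Ord6 (AL exists_AL e0 e1 card_L)
open Cfsg.Agent.GTwoFour.Mdl
open Cfsg.Agent.GTwoFour.MdlInvChk

theorem finite_L : Finite L := Nat.finite_of_card_ne_zero (by rw [card_L]; norm_num)

theorem isPGroup_zpowers {G : Type*} [Group G] {t : G} (h : t * t = 1) :
    IsPGroup 2 (Subgroup.zpowers t) := by
  rintro ⟨x, k, rfl⟩
  refine ⟨1, Subtype.ext ?_⟩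
  change (t ^ k) ^ (2 ^ 1) = 1
  rw [pow_one, pow_two, ← zpow_add, ← two_mul, zpow_mul, zpow_two, h, one_zpow]

/-- an involution of `L` is conjugate into `U` -/
theorem exists_conj_U {y : GL6} (hy : y ∈ L) (h2 : y * y = 1) : ∃ a ∈ L, a * y * a⁻¹ ∈ U := by
  have : Fact (Nat.Prime 2) := ⟨Nat.prime_two⟩
  have hfin : Finite L := finite_L
  have hc : Nat.card (U.subgroupOf L) = 2 ^ (Nat.card L).factorization 2 := by
    rw [Nat.card_congr (Subgroup.subgroupOfEquivOfLe U_le_L).toEquiv, card_U, card_L,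
      show (251596800 : ℕ) = 2 ^ 12 * 61425 by norm_num,
      Nat.factorization_mul (by norm_num) (by norm_num), Finsupp.add_apply,
      Nat.Prime.factorization_pow (by norm_num), Finsupp.single_eq_same,
      Nat.factorization_eq_zero_of_not_dvd (by norm_num)]
    norm_num
  let T : Sylow 2 L := Sylow.ofCard _ hc
  have h3 : (⟨y, hy⟩ : L) * ⟨y, hy⟩ = 1 := Subtype.ext h2
  obtain ⟨Q, hQ⟩ := (isPGroup_zpowers h3).exists_le_sylow
  obtain ⟨g, hg⟩ := MulAction.exists_smul_eq L Q T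
  refine ⟨g, g.2, ?_⟩
  have h4 : (⟨y, hy⟩ : L) ∈ (Q : Subgroup L) := hQ (Subgroup.mem_zpowers _)
  have h5 : g * ⟨y, hy⟩ * g⁻¹ ∈ ((g • Q : Sylow 2 L) : Subgroup L) := by
    rw [Sylow.coe_subgroup_smul]
    exact Subgroup.smul_mem_pointwise_smul _ (MulAut.conj g) _ h4
  rw [hg] at h5
  have h6 : g * ⟨y, hy⟩ * g⁻¹ ∈ U.subgroupOf L := h5
  exact Subgroup.mem_subgroupOf.1 h6

/-- **classes of involutions** -/
theorem conj_of_mem_L {y : GL6} (hy : y ∈ L) (h2 : y * y = 1) (h1 : y ≠ 1) :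
    ∃ a ∈ L, a * y * a⁻¹ = gx 11 0 ∨ a * y * a⁻¹ = gx 9 0 := by
  obtain ⟨a, ha, h3⟩ := exists_conj_U hy h2
  have h4 : a * y * a⁻¹ * (a * y * a⁻¹) = 1 := by
    calc a * y * a⁻¹ * (a * y * a⁻¹) = a * (y * y) * a⁻¹ := by group
      _ = 1 := by rw [h2]; group
  have h5 : a * y * a⁻¹ ≠ 1 := by
    intro h
    apply h1
    calc y = a⁻¹ * (a * y * a⁻¹) * a := by group
      _ = 1 := by rw [h]; group
  obtain ⟨b, hb, h6⟩ := conj_of_mem_U h3 h4 h5
  refine ⟨b * a, L.mul_mem hb ha, ?_⟩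
  have h7 : b * a * y * (b * a)⁻¹ = b * (a * y * a⁻¹) * b⁻¹ := by group
  rwa [h7]

/-! ### The centralizer of a short root element -/

/-! ### The fields of `RedFacts` -/

end Cfsg.Agent.GTwoFour.MdlInv
end

-- part: H538/Pw/GFourThree
section
/-!
# S2465, `G₂(4)`: elements of order divisible by 3 or 5 (helper538)

In the six dimensional model `L` of `G₂(4)` every element of order divisible by 3 or 5 is a product of two
elements of order prime to 6.
-/

set_option autoImplicit false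
set_option linter.unusedVariables false
set_option maxHeartbeats 1000000

namespace Cfsg.Agent.H538.Pw.GFour

open Matrix
open Cfsg.Agent.SporRec
open Cfsg.Agent.SporRec.GF4
open Cfsg.Agent.SporRec.G24Code (app)
open Cfsg.Agent.SporRec.G24Orb (allb allb_spec)
open Cfsg.Agent.StdG24.Mod6
open Cfsg.Agent.StdG24.Ord6
open Cfsg.Agent.StdG24.Al6
open Cfsg.Agent.StdG24.Cent6
open Cfsg.Agent.StdG24.Cls6 (add_self' F4_add_self)

/-- product of two elements of `L` of order prime to 6 -/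
def Q6 (g : GL6) : Prop :=
  ∃ a ∈ L, ∃ b ∈ L, g = a * b ∧ (∃ m : ℕ, m.Coprime 6 ∧ a ^ m = 1) ∧ ∃ m : ℕ, m.Coprime 6 ∧ b ^ m = 1

theorem Q6.conj {g k : GL6} (h : Q6 g) (hk : k ∈ L) : Q6 (k * g * k⁻¹) := by
  obtain ⟨a, ha, b, hb, rfl, ⟨m, hm, hm'⟩, n, hn, hn'⟩ := h
  have hc : ∀ (x : GL6) (i : ℕ), (k * x * k⁻¹) ^ i = k * x ^ i * k⁻¹ := fun x i => conj_pow
  refine ⟨k * a * k⁻¹, L.mul_mem (L.mul_mem hk ha) (L.inv_mem hk), k * b * k⁻¹,
    L.mul_mem (L.mul_mem hk hb) (L.inv_mem hk), by group, ⟨m, hm, ?_⟩, n, hn, ?_⟩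
  · rw [hc, hm', mul_one, mul_inv_cancel]
  · rw [hc, hn', mul_one, mul_inv_cancel]

theorem Q6.of_conj {g k : GL6} (hk : k ∈ L) (h : Q6 (k * g * k⁻¹)) : Q6 g := by
  have h1 := h.conj (L.inv_mem hk)
  have e : k⁻¹ * (k * g * k⁻¹) * k⁻¹⁻¹ = g := by group
  rwa [e] at h1

theorem Q6.of_conj' {g k : GL6} (hk : k ∈ L) (h : Q6 (k⁻¹ * g * k)) : Q6 g := by
  have h1 := h.conj hk
  have e : k * (k⁻¹ * g * k) * k⁻¹ = g := by group
  rwa [e] at h1

/-! ### `A₅ × A₅` -/

def fiveProd (T : List (List ℕ × List ℕ)) : Bool :=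
  T.all fun x => T.any fun p => eqC (powC p.1 5) idC && eqC (powC (mulC p.2 x.1) 5) idC

/-- the fifth power is trivial (strict products) -/
private def p5F (C : List ℕ) : Bool :=
  GTwoFour.Mdl.mulF idC C fun a => GTwoFour.Mdl.mulF a C fun b => GTwoFour.Mdl.mulF b C fun c =>
    GTwoFour.Mdl.mulF c C fun d => GTwoFour.Mdl.mulF d C fun e => GTwoFour.Mdl.eqF e idC

private theorem p5F_imp {C : List ℕ} (h : p5F C = true) : eqC (powC C 5) idC = true := by
  unfold p5F at h
  rw [GTwoFour.Mdl.mulF_eq, GTwoFour.Mdl.mulF_eq, GTwoFour.Mdl.mulF_eq, GTwoFour.Mdl.mulF_eq, GTwoFour.Mdl.mulF_eq,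
    GTwoFour.Mdl.eqF_iff] at h
  exact eqC_iff.2 h

private theorem fiveProd_of {T : List (List ℕ × List ℕ)}
    (h : (T.all fun x => (T.filter fun p => p5F p.1).any fun p => GTwoFour.Mdl.mulF p.2 x.1 p5F) = true) :
    fiveProd T = true := by
  refine List.all_eq_true.2 fun x hx => ?_
  obtain ⟨p, hp, h1⟩ := List.any_eq_true.1 (List.all_eq_true.1 h x hx)
  obtain ⟨h2, h3⟩ := List.mem_filter.1 hp
  rw [GTwoFour.Mdl.mulF_eq] at h1
  exact List.any_eq_true.2 ⟨p, h2, Bool.and_eq_true_iff.2 ⟨p5F_imp h3, p5F_imp h1⟩⟩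

theorem fiveProd_Al : fiveProd ALT = true := fiveProd_of (by decide +kernel)
theorem fiveProd_As : fiveProd AST = true := fiveProd_of (by decide +kernel)

theorem five_of {H : Subgroup GL6} {T : List (List ℕ × List ℕ)} (hT : fiveProd T = true)
    (h1 : ∀ g ∈ H, ∃ e ∈ T, Cod g e) (h2 : ∀ e ∈ T, ∃ g ∈ H, Cod g e) {g : GL6} (hg : g ∈ H) :
    ∃ p ∈ H, ∃ q ∈ H, g = p * q ∧ p ^ 5 = 1 ∧ q ^ 5 = 1 := by
  obtain ⟨e, he, hc⟩ := h1 g hg
  have h3 := List.all_eq_true.1 hT e he
  obtain ⟨d, hd, h4⟩ := List.any_eq_true.1 h3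
  rw [Bool.and_eq_true, eqC_iff, eqC_iff] at h4
  obtain ⟨p, hp, hpc⟩ := h2 d hd
  refine ⟨p, hp, p⁻¹ * g, H.mul_mem (H.inv_mem hp) hg, (mul_inv_cancel_left p g).symm, ?_, ?_⟩
  · exact (eq_one_iff (isCode_pow hpc.1 5)).2 h4.1
  · exact (eq_one_iff (isCode_pow (isCode_mul' hpc.2 hc.1) 5)).2 h4.2

theorem five_Al {g : GL6} (hg : g ∈ Al) : ∃ p ∈ Al, ∃ q ∈ Al, g = p * q ∧ p ^ 5 = 1 ∧ q ^ 5 = 1 :=
  five_of fiveProd_Al (fun _ => exists_cod_Al) (fun _ => exists_elt_Al) hg

theorem five_As {g : GL6} (hg : g ∈ As) : ∃ p ∈ As, ∃ q ∈ As, g = p * q ∧ p ^ 5 = 1 ∧ q ^ 5 = 1 :=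
  five_of fiveProd_As (fun _ => exists_cod_As) (fun _ => exists_elt_As) hg

/-- elements of `A₅ × A₅` -/
theorem Q6_prod {s a : GL6} (hs : s ∈ As) (ha : a ∈ Al) : Q6 (s * a) := by
  obtain ⟨p, hp, q, hq, rfl, hp5, hq5⟩ := five_As hs
  obtain ⟨p', hp', q', hq', rfl, hp5', hq5'⟩ := five_Al ha
  have c1 : Commute p p' := (comm_Al_As hp' hp).symm
  have c2 : Commute q q' := (comm_Al_As hq' hq).symm
  have c3 : q * p' = p' * q := (comm_Al_As hp' hq).symm
  refine ⟨p * p', L.mul_mem (As_le hp) (Al_le hp'), q * q', L.mul_mem (As_le hq) (Al_le hq'), ?_,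
    ⟨5, by norm_num, ?_⟩, 5, by norm_num, ?_⟩
  · calc p * q * (p' * q') = p * (q * p') * q' := by group
      _ = p * (p' * q) * q' := by rw [c3]
      _ = p * p' * (q * q') := by group
  · rw [c1.mul_pow, hp5, hp5', one_mul]
  · rw [c2.mul_pow, hq5, hq5', one_mul]

/-- elements which commute with `w` -/
theorem Q6_of_w {g : GL6} (hg : g ∈ L) (h : g * wE = wE * g) : Q6 g := by
  obtain ⟨i, s, hs, rfl⟩ := cent_w hg h
  have e : wE ^ i * s = s * wE ^ i := comm_Al_As (Al.pow_mem wE_mem i) hs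
  rw [e]
  exact Q6_prod hs (Al.pow_mem wE_mem i)

theorem Q6_of_u {g : GL6} (hg : g ∈ L) (h : g * uE = uE * g) : Q6 g := by
  obtain ⟨i, s, hs, rfl⟩ := cent_u hg h
  exact Q6_prod (As.pow_mem uE_mem i) hs

theorem exists_inv_mod {k : ℕ} (hk : ¬ 5 ∣ k) : ∃ j : ℕ, (k * j) % 5 = 1 := by
  have h : k % 5 ≠ 0 := fun h => hk (Nat.dvd_of_mod_eq_zero h)
  have h2 : k % 5 < 5 := Nat.mod_lt _ (by norm_num)
  have h3 : ∀ r < 5, r ≠ 0 → ∃ j : ℕ, (r * j) % 5 = 1 := by
    intro r hr hr0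
    interval_cases r
    · exact absurd rfl hr0
    · exact ⟨1, rfl⟩
    · exact ⟨3, rfl⟩
    · exact ⟨2, rfl⟩
    · exact ⟨4, rfl⟩
  obtain ⟨j, hj⟩ := h3 _ h2 h
  exact ⟨j, by rw [Nat.mul_mod, Nat.mod_mod] at hj; rw [Nat.mul_mod]; exact hj⟩

theorem comm_of_pow {g w : GL6} (hw : w ^ 5 = 1) {k : ℕ} (hk : w ^ k ≠ 1) (h : g * w ^ k = w ^ k * g) :
    g * w = w * g := by
  have hk5 : ¬ 5 ∣ k := by
    rintro ⟨m, rfl⟩
    exact hk (by rw [pow_mul, hw, one_pow])
  obtain ⟨j, hj⟩ := exists_inv_mod hk5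
  have e : (w ^ k) ^ j = w := by
    rw [← pow_mul]
    have h1 : k * j = 5 * (k * j / 5) + 1 := by
      have := Nat.div_add_mod (k * j) 5
      omega
    rw [h1, pow_add, pow_mul, hw, one_pow, one_mul, pow_one]
  have h1 : Commute g ((w ^ k) ^ j) := (show Commute g (w ^ k) from h).pow_right j
  rw [e] at h1
  exact h1.eq

/-- an element which commutes with an element of order 5 -/
theorem Q6_of_five {g s : GL6} (hg : g ∈ L) (hs : s ∈ L) (h5 : s ^ 5 = 1) (h1 : s ≠ 1)
    (hc : g * s = s * g) : Q6 g := by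
  obtain ⟨⟨k, hk⟩, i, h⟩ := Cfsg.Agent.StdG24.Ax6.l_five ⟨s, hs⟩ (Subtype.ext h5)
  have hc' : (k * g * k⁻¹) * (k * s * k⁻¹) = (k * s * k⁻¹) * (k * g * k⁻¹) := by
    calc (k * g * k⁻¹) * (k * s * k⁻¹) = k * (g * s) * k⁻¹ := by group
      _ = k * (s * g) * k⁻¹ := by rw [hc]
      _ = _ := by group
  have hne : k * s * k⁻¹ ≠ 1 := by
    intro h
    apply h1
    calc s = k⁻¹ * (k * s * k⁻¹) * k := by group
      _ = 1 := by rw [h]; group
  have hgk : k * g * k⁻¹ ∈ L := L.mul_mem (L.mul_mem hk hg) (L.inv_mem hk)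
  apply Q6.of_conj hk
  rcases h with h | h
  · have h' : k * s * k⁻¹ = uE ^ i := congrArg Subtype.val h
    rw [h'] at hc' hne
    exact Q6_of_u hgk (comm_of_pow uE_pow hne hc')
  · have h' : k * s * k⁻¹ = wE ^ i := congrArg Subtype.val h
    rw [h'] at hc' hne
    exact Q6_of_w hgk (comm_of_pow wE_pow hne hc')

/-! ### Elements of order three with fixed vectors -/

private theorem p3F_eq (C : List ℕ) : eqC (powC C 3) idC =
    GTwoFour.Mdl.mulF idC C fun a => GTwoFour.Mdl.mulF a C fun b => GTwoFour.Mdl.mulF b C fun c =>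
      GTwoFour.Mdl.eqF c idC := by
  rw [GTwoFour.Mdl.mulF_eq, GTwoFour.Mdl.mulF_eq, GTwoFour.Mdl.mulF_eq, Bool.eq_iff_iff, GTwoFour.Mdl.eqF_iff, eqC_iff]
  exact Iff.rfl

theorem fix3_check : (ALT.all fun e => eqC e.1 idC || !(eqC (powC e.1 3) idC) ||
    allb (fun m => !(Nat.beq (app e.1 (4 * m)) (4 * m)) || Nat.beq m 0) 256) = true := by
  simp only [p3F_eq, ← GTwoFour.Mdl.appF_eq]
  decide +kernel

theorem e0_apply : ∀ i : Fin 6, e0 i = if i = 0 then 1 else 0 := by decide +kernel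
theorem e1_apply : ∀ i : Fin 6, e1 i = if i = 5 then 1 else 0 := by decide +kernel

theorem V0_lin : ∀ c d : F4, V0 (c • e0 + d • e1) := by
  have h : ∀ c d : F4, ∃ a < 4, ∃ b < 4, c • e0 + d • e1 = dec (a + 1024 * b) := by decide +kernel
  exact h

theorem coord_zero {n : ℕ} {i : Fin 6} (h : dec n i = 0) :
    n / 2 ^ (2 * (i : ℕ)) % 2 = 0 ∧ n / 2 ^ (2 * (i : ℕ) + 1) % 2 = 0 := by
  have h1 : SporRec.G24Code.ofBits (n.testBit (2 * (i : ℕ))) (n.testBit (2 * (i : ℕ) + 1)) = 0 := h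
  have h2 : ∀ a b : Bool, SporRec.G24Code.ofBits a b = 0 → a = false ∧ b = false := by decide
  obtain ⟨h3, h4⟩ := h2 _ _ h1
  rw [Nat.testBit_eq_decide_div_mod_eq, decide_eq_false_iff_not] at h3 h4
  omega

/-- the fixed vectors of an element of order 3 of `A_l` -/
theorem V0_of_fix3 {t : GL6} (ht : t ∈ Al) (h3 : t ^ 3 = 1) (h1 : t ≠ 1) {x : Vec} (hx : act t x = x) :
    V0 x := by
  obtain ⟨e, he, hc⟩ := exists_cod_Al ht
  have hk := List.all_eq_true.1 fix3_check e he
  rw [Bool.or_eq_true, Bool.or_eq_true, eqC_iff, Bool.not_eq_true', ← Bool.not_eq_true, eqC_iff] at hk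
  rcases hk with (hk | hk) | hk
  · exact absurd ((eq_one_iff hc.1).2 hk) h1
  · exact absurd ((eq_one_iff (isCode_pow hc.1 3)).1 h3) hk
  obtain ⟨⟨htL, ht0⟩, ht1⟩ := mem_Al_iff.1 ht
  obtain ⟨x', hx'⟩ : ∃ x' : Vec, x' = x + (x 0 • e0 + x 5 • e1) := ⟨_, rfl⟩
  have hfix : act t x' = x' := by
    rw [hx', act_add, act_add, act_smul, act_smul, hx, ht0, ht1]
  have h0 : x' 0 = 0 := by
    rw [hx']
    simp only [Pi.add_apply, Pi.smul_apply, e0_apply, e1_apply, smul_eq_mul]
    simp only [if_true, mul_one]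
    rw [if_neg (by decide), mul_zero, add_zero]
    exact F4_add_self _
  have h5 : x' 5 = 0 := by
    rw [hx']
    simp only [Pi.add_apply, Pi.smul_apply, e0_apply, e1_apply, smul_eq_mul]
    simp only [if_true, mul_one]
    rw [if_neg (by decide), mul_zero, zero_add]
    exact F4_add_self _
  obtain ⟨n, hn, hnx⟩ := exists_dec x'
  rw [← hnx] at h0 h5
  have c0 := coord_zero h0
  have c5 := coord_zero h5
  have e0' : ((0 : Fin 6) : ℕ) = 0 := rfl
  have e5' : ((5 : Fin 6) : ℕ) = 5 := rfl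
  rw [e0'] at c0
  rw [e5'] at c5
  norm_num only [_root_.Nat.div_one] at c0 c5
  obtain ⟨m, rfl⟩ : ∃ m, n = 4 * m := ⟨n / 4, by omega⟩
  have hm : m < 256 := by (clear * - hn c5; omega)
  have h2 := allb_spec hk m hm
  rw [Bool.or_eq_true, Bool.not_eq_true'] at h2
  have hm0 : m = 0 := by
    rcases h2 with h2 | h2
    · exfalso
      have h6 : app e.1 (4 * m) = 4 * m := (hc.1.app_eq_iff hn hn).1 (by rw [hnx]; exact hfix)
      rw [h6, Nat.beq_refl] at h2
      exact absurd h2 (by decide)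
    · exact Nat.eq_of_beq_eq_true h2
  subst hm0
  have h7 : x' = 0 := by rw [← hnx]; exact dec_zero
  have h8 : x = x 0 • e0 + x 5 • e1 := by
    have h9 : x + (x 0 • e0 + x 5 • e1) = 0 := by rw [← hx', h7]
    have h10 := add_self' (x 0 • e0 + x 5 • e1)
    calc x = x + (x 0 • e0 + x 5 • e1) + (x 0 • e0 + x 5 • e1) := by rw [add_assoc, h10, add_zero]
      _ = _ := by rw [h9, zero_add]
  rw [h8]
  exact V0_lin _ _

/-- an element which commutes with an element of order 3 with fixed vectors -/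
theorem Q6_of_fix {g t : GL6} (hg : g ∈ L) (ht : t ∈ L) (h3 : t ^ 3 = 1) (h1 : t ≠ 1)
    (hc : g * t = t * g) {x : Vec} (hx0 : x ≠ 0) (hx : act t x = x) : Q6 g := by
  obtain ⟨y0, hy0⟩ := Cfsg.Agent.StdG24.Cls6.exists_form_one hx0
  have hinv : ∀ z, form x (act t z) = form x z := by
    intro z
    conv_lhs => rw [← hx]
    exact form_act ht x z
  obtain ⟨y, hy⟩ : ∃ y : Vec, y = y0 + act t y0 + act t (act t y0) := ⟨_, rfl⟩
  have hxy : form x y = 1 := by
    rw [hy, form_add_right, form_add_right, hinv, hinv, hinv, hy0]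
    decide
  have hty : act t y = y := by
    have e : act t (act t (act t y0)) = y0 := by
      rw [← act_mul, ← act_mul]
      have : t * t * t = 1 := by rw [← h3, pow_succ, pow_two]
      rw [this, act_one]
    rw [hy, act_add, act_add, e]
    abel
  obtain ⟨k, hk, hk0, hk1⟩ := trans_pair hxy
  have ht' : k⁻¹ * t * k ∈ L := L.mul_mem (L.mul_mem (L.inv_mem hk) ht) hk
  have hA : k⁻¹ * t * k ∈ Al := by
    rw [mem_Al_iff]
    refine ⟨⟨ht', ?_⟩, ?_⟩
    · rw [act_mul, act_mul, hk0, hx, ← hk0, act_inv_act]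
    · rw [act_mul, act_mul, hk1, hty, ← hk1, act_inv_act]
  have h3' : (k⁻¹ * t * k) ^ 3 = 1 := by
    calc (k⁻¹ * t * k) ^ 3 = k⁻¹ * t ^ 3 * k := by simp only [pow_succ, pow_zero]; group
      _ = 1 := by rw [h3]; group
  have h1' : k⁻¹ * t * k ≠ 1 := by
    intro h
    apply h1
    calc t = k * (k⁻¹ * t * k) * k⁻¹ := by group
      _ = 1 := by rw [h]; group
  apply Q6.of_conj' hk
  have hg' : k⁻¹ * g * k ∈ L := L.mul_mem (L.mul_mem (L.inv_mem hk) hg) hk
  have hfix : ∀ z, act (k⁻¹ * t * k) z = z → V0 (act (k⁻¹ * g * k) z) := by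
    intro z hz
    apply V0_of_fix3 hA h3' h1'
    rw [← act_mul]
    have e : k⁻¹ * t * k * (k⁻¹ * g * k) = (k⁻¹ * g * k) * (k⁻¹ * t * k) := by
      calc k⁻¹ * t * k * (k⁻¹ * g * k) = k⁻¹ * (t * g) * k := by group
        _ = k⁻¹ * (g * t) * k := by rw [hc]
        _ = _ := by group
    rw [e, act_mul, hz]
  obtain ⟨⟨-, hA0⟩, hA1⟩ := mem_Al_iff.1 hA
  obtain ⟨s, hs, a, ha, e⟩ := split hg' (hfix _ hA0) (hfix _ hA1)
  rw [e]
  exact Q6_prod hs ha

/-! ### Elements of order three without fixed vectors -/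

/-- the element `e0 ↦ e1 ↦ e0 + e1` of `A_s` -/
def s0W : Wd := [(9, 0), (2, 0)]
def s0 : GL6 := ev s0W
def s0C : List ℕ := [1024, 2048, 64, 128, 256, 512, 68, 136, 272, 544, 1025, 2050]

theorem cw_s0 : cw s0W = s0C := by decide +kernel
theorem isCode_s0 : IsCode (s0 : Mat) s0C := by rw [← cw_s0]; exact isCode_ev _
theorem s0_mem : s0 ∈ As := ev_mem_As (by decide +kernel)

theorem s0_act : app s0C 1 = 1024 ∧ app s0C 1024 = 1025 := by decide +kernel

theorem s0_e0 : act s0 e0 = e1 := (isCode_s0.app_eq_iff (by norm_num) (by norm_num)).2 s0_act.1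
theorem dec_1025 : dec 1025 = e0 + e1 := by
  have : (1025 : ℕ) = 1 ^^^ 1024 := by decide
  rw [this, dec_xor]; rfl
theorem s0_e1 : act s0 e1 = e0 + e1 := by
  rw [← dec_1025]
  exact (isCode_s0.app_eq_iff (by norm_num) (by norm_num)).2 s0_act.2
theorem s0_cube : s0 ^ 3 = 1 := (eq_one_iff (isCode_pow isCode_s0 3)).2 (by decide +kernel)

theorem nofix_check : (ALT.all fun e => eqC e.1 idC || !(eqC (powC e.1 3) idC) ||
    ([72, 76, 288, 304, 360, 380, 80, 84].any fun n => Nat.beq (app (mulC s0C e.1) n) n)) = true := by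
  simp only [p3F_eq, ← GTwoFour.Mdl.appF_eq]
  decide +kernel

theorem dec_ne_zero {n : ℕ} (hn : n < 4096) (h : n ≠ 0) : dec n ≠ 0 := fun h1 =>
  h (dec_inj hn (by norm_num) (h1.trans dec_zero.symm))

theorem caseB {t : GL6} (ht : t ∈ L) (h3 : t ^ 3 = 1) (hfix : ∀ x, act t x = x → x = 0) :
    ∃ k ∈ L, k * t * k⁻¹ = s0 := by
  have e3 : ∀ x, act t (act t (act t x)) = x := by
    intro x
    rw [← act_mul, ← act_mul]
    have : t * t * t = 1 := by rw [← h3, pow_succ, pow_two]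
    rw [this, act_one]
  have hx : ∀ x, act t (act t x) = x + act t x := by
    intro x
    have h1 := hfix (x + act t x + act t (act t x)) (by
      rw [act_add, act_add, e3]; abel)
    have h2 := add_self' (x + act t x)
    calc act t (act t x) = (x + act t x + act t (act t x)) + (x + act t x) := by
          rw [add_right_comm, h2, zero_add]
      _ = _ := by rw [h1, zero_add]
  obtain ⟨x, hxne⟩ : ∃ x, form x (act t x) ≠ 0 := by
    by_contra hcon
    push Not at hcon
    have h1 : ∀ x y, form x (act t y) = form y (act t x) := by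
      intro x y
      have h2 := hcon (x + y)
      rw [act_add, form_add_left, form_add_right, form_add_right, hcon, hcon, zero_add, add_zero] at h2
      exact Cfsg.Agent.StdG24.Cls6.F4_eq_of_add h2
    have h2 : ∀ x y, form x y = 0 := by
      intro x y
      have h4 : form y (act t x) = form x (act t y) + form x y := by
        calc form y (act t x) = form (act t x) y := form_comm _ _
          _ = form (act t (act t x)) (act t y) := (form_act ht _ _).symm
          _ = form (x + act t x) (act t y) := by rw [hx]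
          _ = form x (act t y) + form x y := by rw [form_add_left, form_act ht]
      rw [← h1 x y] at h4
      exact left_eq_add.1 h4
    have h5 := h2 e0 e1
    rw [form_e0_e1] at h5
    exact absurd h5 (by decide)
  obtain ⟨c, hc⟩ : ∃ c : F4, c * (c * form x (act t x)) = 1 := by
    have h : ∀ b : F4, b ≠ 0 → ∃ c : F4, c * (c * b) = 1 := by decide
    exact h _ hxne
  have hp : form (c • x) (act t (c • x)) = 1 := by
    rw [act_smul, form_smul_left, form_smul_right, hc]
  obtain ⟨k, hk, hk0, hk1⟩ := trans_pair hp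
  have ht' : k⁻¹ * t * k ∈ L := L.mul_mem (L.mul_mem (L.inv_mem hk) ht) hk
  have a0 : act (k⁻¹ * t * k) e0 = e1 := by
    rw [act_mul, act_mul, hk0, ← hk1, act_inv_act]
  have a1 : act (k⁻¹ * t * k) e1 = e0 + e1 := by
    rw [act_mul, act_mul, hk1, hx, ← hk1, ← hk0, ← act_add, act_inv_act]
  obtain ⟨s, hs, a, ha, e⟩ := split ht' (by rw [a0]; exact V0_e1) (by
    rw [a1, ← dec_1025]; exact ⟨1, by norm_num, 1, by norm_num, rfl⟩)
  obtain ⟨⟨haL, ha0⟩, ha1⟩ := mem_Al_iff.1 ha
  have b0 : act s e0 = e1 := by rw [← a0, e, act_mul, ha0]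
  have b1 : act s e1 = e0 + e1 := by rw [← a1, e, act_mul, ha1]
  have hss : s = s0 := by
    have h1 : s0⁻¹ * s ∈ Al := by
      rw [mem_Al_iff]
      refine ⟨⟨L.mul_mem (L.inv_mem (As_le s0_mem)) (As_le hs), ?_⟩, ?_⟩
      · rw [act_mul, b0, ← s0_e0, act_inv_act]
      · rw [act_mul, b1, ← s0_e1, act_inv_act]
    have h2 := inter (As.mul_mem (As.inv_mem s0_mem) hs) h1
    exact (inv_mul_eq_one.1 h2).symm
  subst hss
  have hcm : Commute s0 a := (comm_Al_As ha s0_mem).symm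
  have h3' : (k⁻¹ * t * k) ^ 3 = 1 := by
    calc (k⁻¹ * t * k) ^ 3 = k⁻¹ * t ^ 3 * k := by simp only [pow_succ, pow_zero]; group
      _ = 1 := by rw [h3]; group
  have ha3 : a ^ 3 = 1 := by
    rw [e, hcm.mul_pow, s0_cube, one_mul] at h3'
    exact h3'
  have ha_one : a = 1 := by
    by_contra hne
    obtain ⟨d, hd, hcd⟩ := exists_cod_Al ha
    have h1 := List.all_eq_true.1 nofix_check d hd
    rw [Bool.or_eq_true, Bool.or_eq_true, eqC_iff, Bool.not_eq_true', ← Bool.not_eq_true, eqC_iff] at h1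
    rcases h1 with (h1 | h1) | h1
    · exact hne ((eq_one_iff hcd.1).2 h1)
    · exact h1 ((eq_one_iff (isCode_pow hcd.1 3)).1 ha3)
    · obtain ⟨n, hn, h2⟩ := List.any_eq_true.1 h1
      have hn' : n < 4096 ∧ n ≠ 0 := by
        have : ∀ n ∈ ([72, 76, 288, 304, 360, 380, 80, 84] : List ℕ), n < 4096 ∧ n ≠ 0 := by decide
        exact this n hn
      have h4 : act (s0 * a) (dec n) = dec n :=
        ((isCode_mul' isCode_s0 hcd.1).app_eq_iff hn'.1 hn'.1).2 (Nat.eq_of_beq_eq_true h2)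
      rw [← e] at h4
      have h5 : act t (act k (dec n)) = act k (dec n) := by
        conv_rhs => rw [← h4]
        rw [← act_mul, ← act_mul]
        congr 1
        group
      have h6 := hfix _ h5
      have h7 : dec n = 0 := by
        rw [← act_inv_act k (dec n), h6, act_zero]
      exact dec_ne_zero hn'.1 hn'.2 h7
  refine ⟨k⁻¹, L.inv_mem hk, ?_⟩
  rw [inv_inv, e, ha_one, mul_one]

/-! ### The centralizer `SL₃(4)` -/

/-- the positions of the natural module and of its dual -/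
def ep : Fin 3 ⊕ Fin 3 ≃ Fin 6 where
  toFun := Sum.elim ![0, 3, 4] ![5, 2, 1]
  invFun := ![Sum.inl 0, Sum.inr 2, Sum.inr 1, Sum.inl 1, Sum.inl 2, Sum.inr 0]
  left_inv := by decide
  right_inv := by decide

abbrev SL3 : Type := _root_.Matrix.SpecialLinearGroup (Fin 3) F4

/-- `M ↦ M ⊕ M⁻ᵀ` as a matrix -/
def psM (M N : Matrix (Fin 3) (Fin 3) F4) : Mat := (fromBlocks M 0 0 Nᵀ).submatrix ep.symm ep.symm

theorem psM_mul (M N M' N' : Matrix (Fin 3) (Fin 3) F4) :
    psM M N * psM M' N' = psM (M * M') (N' * N) := by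
  rw [psM, psM, psM, submatrix_mul_equiv, fromBlocks_multiply]
  simp [transpose_mul]

theorem psM_one : psM 1 1 = 1 := by
  rw [psM, transpose_one, fromBlocks_one, submatrix_one_equiv]

/-- the matrix -/
def cM (M : SL3) : Matrix (Fin 3) (Fin 3) F4 := M.val

theorem cM_mul (M N : SL3) : cM (M * N) = cM M * cM N := rfl
theorem cM_one : cM 1 = 1 := rfl
theorem cM_mul_inv (M : SL3) : cM M * cM M⁻¹ = 1 := by rw [← cM_mul, mul_inv_cancel, cM_one]
theorem cM_inv_mul (M : SL3) : cM M⁻¹ * cM M = 1 := by rw [← cM_mul, inv_mul_cancel, cM_one]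

/-- the embedding of `SL₃(4)` -/
def phi : SL3 →* GL6 where
  toFun M := ⟨psM (cM M) (cM M⁻¹), psM (cM M⁻¹) (cM M),
    by rw [psM_mul, cM_mul_inv, psM_one], by rw [psM_mul, cM_inv_mul, psM_one]⟩
  map_one' := Units.ext (by
    change psM (cM 1) (cM 1⁻¹) = 1
    rw [inv_one, cM_one, psM_one])
  map_mul' M N := Units.ext (by
    change psM (cM (M * N)) (cM (M * N)⁻¹) = psM (cM M) (cM M⁻¹) * psM (cM N) (cM N⁻¹)
    rw [psM_mul, _root_.mul_inv_rev, cM_mul, cM_mul])

theorem coe_phi (M : SL3) : (phi M : Mat) = psM (cM M) (cM M⁻¹) := rfl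

/-- transvections -/
def tv (i j : Fin 3) (c : F4) : Matrix (Fin 3) (Fin 3) F4 := fun a b =>
  (if a = b then 1 else 0) + if a = i ∧ b = j then c else 0

theorem tv_check : ∀ (i j : Fin 3), i ≠ j → ∀ c : F4, psM (tv i j c) (tv i j c) = 1 ∨
    ∃ (r : Fin 12) (t : Fin 3), psM (tv i j c) (tv i j c) = matOf (xc r t) := by
  decide +kernel

theorem phi_tv {i j : Fin 3} (h : i ≠ j) (c : F4) : phi (SpecialLinearGroup.transvection h c) ∈ L := by
  have e1 : cM (SpecialLinearGroup.transvection h c : SL3) = tv i j c := by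
    funext a b
    rw [tv]
    change transvection i j c a b = _
    rw [transvection, Matrix.add_apply, one_apply, single_apply]
    simp only [eq_comm]
  have e2 : cM (SpecialLinearGroup.transvection h c : SL3)⁻¹ = tv i j c := by
    have h1 : (SpecialLinearGroup.transvection h c : SL3)⁻¹ = SpecialLinearGroup.transvection h c := by
      rw [inv_eq_iff_mul_eq_one]
      apply Subtype.ext
      change transvection i j c * transvection i j c = 1
      rw [transvection_mul_transvection_same _ _ h, F4_add_self, transvection_zero]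
    rw [h1, e1]
  have e3 : (phi (SpecialLinearGroup.transvection h c) : Mat) = psM (tv i j c) (tv i j c) := by
    rw [coe_phi, e1, e2]
  rcases tv_check i j h c with h1 | ⟨r, t, h1⟩
  · have : phi (SpecialLinearGroup.transvection h c) = 1 := Units.ext (by rw [e3, h1]; rfl)
    rw [this]
    exact L.one_mem
  · have : phi (SpecialLinearGroup.transvection h c) = gx r t := Units.ext (by rw [e3, h1]; rfl)
    rw [this]
    exact gx_mem _ _

theorem phi_mem (M : SL3) : phi M ∈ L :=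
  Cfsg.Agent.LieClassical.SLGen.transvection_induction (fun M => phi M ∈ L) (fun _ _ h c => phi_tv h c)
    (fun A B hA hB => by rw [map_mul]; exact L.mul_mem hA hB) M

end Cfsg.Agent.H538.Pw.GFour
end

-- part: H876/PwU3/Crit
section
/-!
# S2465: the criterion with a matrix of prime power order; `SU_3(q)` (helper876)

`criterionQ` : copy of `H700.PwU.criterionP` with `Z ^ l ^ s = 1` (`l` prime) instead of `Z ^ l = 1`.
`pw_three` : a nonscalar isometry of determinant one of a three-dimensional hermitian space is a product of two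
isometries of `l`-power order, if the field with `q` elements contains an element `x` of `l`-power order, `x ^ 2 ≠ 1`.
-/

set_option autoImplicit false
set_option linter.unusedSectionVars false

namespace Cfsg.Agent.H876.PwU3

open Module Polynomial Cfsg.Agent.H951 Matrix Cfsg.Agent.H98.Ore Cfsg.Agent.H700.PwU

variable {F V : Type*} [Field F] [Fintype F] [AddCommGroup V] [Module F V] [FiniteDimensional F V]
  {q : ℕ} {σ : F →+* F} {B : V → V → F}
  {ι : Type} [Fintype ι] [DecidableEq ι] {w w' : ι → V}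

/-- the order of an isometry acting as `Z` on a frame -/
theorem orderOf_levQ (hB : HS q σ B) {e : ℕ} (he : e ≤ 1) (hn : finrank F V = 2 * Fintype.card ι + e)
    (h : Fr B w w') {z : V ≃ₗ[F] V} (hz : z ∈ SGr B) {Z : Matrix ι ι F} (hZ : Z.det ≠ 0)
    (hzw : ∀ j, z (w j) = ∑ i, Z i j • w i) (hcop : IsCoprime Z.charpoly (Z.charpoly.map σ).reverse)
    (hc : e = 1 → Z.charpoly.eval (σ Z.det * Z.det⁻¹) ≠ 0) {l s : ℕ} (hl : l.Prime) (hs : 1 ≤ s) (hZl : Z ^ l ^ s = 1) :
    ∃ c, orderOf z ∣ l ^ c := by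
  have hVf : Finite V := Module.finite_of_finite F
  have hfin : Finite (V ≃ₗ[F] V) := by
    have : Function.Injective (fun u : V ≃ₗ[F] V => (u : V → V)) := fun a b hab =>
      LinearEquiv.ext fun v => congrFun hab v
    exact Finite.of_injective _ this
  have hn0 : orderOf z ≠ 0 := (isOfFinOrder_of_finite z).orderOf_pos.ne'
  obtain ⟨c, n', hn', hord⟩ : ∃ c n', ¬ l ∣ n' ∧ orderOf z = l ^ c * n' :=
    Nat.exists_eq_pow_mul_and_not_dvd hn0 l hl.ne_one
  have hcopn : Nat.Coprime (l ^ s) n' := ((hl.coprime_iff_not_dvd).2 hn').pow_left s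
  obtain ⟨t, ht1, ht2⟩ := Nat.chineseRemainder hcopn 1 0
  have hZt : Z ^ t = Z := by
    have h1 : t % l ^ s = 1 % l ^ s := ht1
    rw [← Nat.div_add_mod t (l ^ s), h1, Nat.mod_eq_of_lt (Nat.one_lt_pow (by omega) hl.one_lt), pow_add, pow_mul,
      hZl, one_pow, one_mul, pow_one]
  have hmul : ∀ (n : ℕ) (v : V), (z ^ n) v = ((z : End F V) ^ n) v := by
    intro n
    induction n with
    | zero => intro v; rfl
    | succ n ih =>
      intro v
      rw [pow_succ', pow_succ', LinearEquiv.mul_apply, ih, Module.End.mul_apply]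
      rfl
  have hcoe : ((z ^ t : V ≃ₗ[F] V) : End F V) = (z : End F V) ^ t := by
    apply LinearMap.ext
    intro v
    exact hmul t v
  have hzw1 : ∀ j, (z : End F V) (w j) = ∑ i, Z i j • w i := hzw
  have hztw : ∀ j, (z ^ t) (w j) = ∑ i, Z i j • w i := by
    intro j
    rw [hmul]
    have h1 := aeval_frame (x := (z : End F V)) (w := w) hzw1 (X ^ t) j
    rw [map_pow, aeval_X, map_pow, aeval_X, hZt] at h1
    exact h1
  have hfw : ∀ j, aeval ((z ^ t : V ≃ₗ[F] V) : End F V) Z.charpoly (w j) = 0 := by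
    intro j
    rw [aeval_frame (x := ((z ^ t : V ≃ₗ[F] V) : End F V)) (w := w) hztw, Matrix.aeval_self_charpoly]
    simp only [_root_.Matrix.zero_apply, _root_.zero_smul, _root_.Finset.sum_const_zero]
  obtain ⟨u, -, hu⟩ := conj_same hB he hn h ((SGr B).pow_mem hz t) hz hZ hztw hzw hfw hcop hc
  have h3 : orderOf z = orderOf (z ^ t) := by
    have h4 : orderOf (u * z ^ t * u⁻¹) = orderOf (z ^ t) := orderOf_injective (MulAut.conj u).toMonoidHom
      (MulAut.conj u).injective (z ^ t)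
    rw [← h4, ← hu]
  refine ⟨c, ?_⟩
  rw [h3, orderOf_dvd_iff_pow_eq_one, ← pow_mul, ← orderOf_dvd_iff_pow_eq_one, hord, mul_comm t]
  exact Nat.mul_dvd_mul_left _ ((Nat.modEq_zero_iff_dvd).1 ht2)

/-- the criterion, with the order of `z` -/
theorem criterionQ (hB : HS q σ B) {g : End F V} (hg : Isom B g) (hdet : LinearMap.det g = 1)
    (hι : finrank F V = 2 * Fintype.card ι ∨ finrank F V = 2 * Fintype.card ι + 1) {P Z h : Matrix ι ι F}
    (hP : Cor B g P) (hPZ : P * Z * h = h * Z) (hh : h.det = 1) (hZ0 : Z.det ≠ 0)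
    (hZ : finrank F V = 2 * Fintype.card ι → σ Z.det = Z.det) (h1 : IsCoprime Z.charpoly (Z.charpoly.map σ).reverse)
    (h2 : Z.charpoly.eval (σ Z.det * Z.det⁻¹) ≠ 0) {l s : ℕ} (hl : l.Prime) (hs : 1 ≤ s) (hZl : Z ^ l ^ s = 1) : IsPw B l g := by
  obtain ⟨w, w', hw, hPw⟩ := hP
  obtain ⟨e, he, hn⟩ : ∃ e, e ≤ 1 ∧ finrank F V = 2 * Fintype.card ι + e := by
    rcases hι with h3 | h3
    · exact ⟨0, by norm_num, by omega⟩
    · exact ⟨1, le_rfl, h3⟩
  have hPZ0 : (P * Z).det ≠ 0 := by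
    have h3 := congrArg Matrix.det hPZ
    rw [Matrix.det_mul, Matrix.det_mul h, hh, mul_one, one_mul] at h3
    rw [h3]; exact hZ0
  have hh0 : h.det ≠ 0 := by rw [hh]; exact one_ne_zero
  -- g as an equivalence
  set G : V ≃ₗ[F] V := LinearEquiv.ofInjectiveEndo g (Isom.inj' hB hg) with hG
  have hGg : ∀ v, G v = g v := fun v => rfl
  have hGg' : (G : V →ₗ[F] V) = g := by ext v; rfl
  have hGmem : G ∈ SGr B := mem_SGr.2 ⟨fun u v => by rw [hGg, hGg, hg], by rw [hGg', hdet]⟩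
  -- the frame for z
  have hfr : Fr B (fun j => ∑ i, Z i j • w i) (fun j => G⁻¹ (∑ i, ist σ (P * Z) i j • w' i)) := by
    have hGG : ∀ v, g (G⁻¹ v) = v := fun v => by
      rw [← hGg, ← LinearEquiv.mul_apply, mul_inv_cancel]; rfl
    refine ⟨fun i j => ?_, fun i j => ?_, fun i j => ?_⟩
    · rw [sum_left' hB]
      simp only [sum_right' hB]
      simp only [hw.ww, _root_.MulZeroClass.mul_zero, _root_.Finset.sum_const_zero]
    · rw [← hg, hGG, map_sum]
      simp only [map_smul]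
      rw [sum_left' hB]
      simp only [sum_right' hB, hPw]
      rw [← ist_dual hB hPZ0 i j]
      simp only [Matrix.mul_apply, Finset.sum_mul, Finset.mul_sum]
      rw [Finset.sum_comm]
      refine Finset.sum_congr rfl fun k _ => Finset.sum_congr rfl fun m _ => ?_
      ring
    · rw [← hg, hGG, hGG, sum_left' hB]
      simp only [sum_right' hB]
      simp only [hw.ww', _root_.MulZeroClass.mul_zero, _root_.Finset.sum_const_zero]
  -- the three isometries
  obtain ⟨z₀, hz, hzw, hzw', hzd⟩ := exists_isom hB he hn hw hfr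
  obtain ⟨x₀, hx, hxw, hxw', hxd⟩ := exists_isom hB he hn hw (hw.trans hB (ist_dual hB hZ0))
  obtain ⟨k₀, hk, hkw, hkw', hkd⟩ := exists_isom hB he hn hw (hw.trans hB (ist_dual hB hh0))
  have hzd1 : LinearMap.det z₀ = 1 := by
    rcases Nat.le_one_iff_eq_zero_or_eq_one.1 he with h0 | h0
    · have h3 := det_even hB (by rw [hn, h0, add_zero]) hw hz hZ0 hzw
      rw [hZ (by rw [hn, h0, add_zero])] at h3
      exact mul_right_cancel₀ hZ0 (by rw [h3, one_mul])
    · exact hzd h0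
  have hxd1 : LinearMap.det x₀ = 1 := by
    rcases Nat.le_one_iff_eq_zero_or_eq_one.1 he with h0 | h0
    · have h3 := det_even hB (by rw [hn, h0, add_zero]) hw hx hZ0 hxw
      rw [hZ (by rw [hn, h0, add_zero])] at h3
      exact mul_right_cancel₀ hZ0 (by rw [h3, one_mul])
    · exact hxd h0
  have hkd1 : LinearMap.det k₀ = 1 := by
    rcases Nat.le_one_iff_eq_zero_or_eq_one.1 he with h0 | h0
    · have h3 := det_even hB (by rw [hn, h0, add_zero]) hw hk hh0 hkw
      rwa [hh, map_one, mul_one] at h3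
    · exact hkd h0
  set z : V ≃ₗ[F] V := LinearEquiv.ofInjectiveEndo z₀ (Isom.inj' hB hz) with hzdef
  set x : V ≃ₗ[F] V := LinearEquiv.ofInjectiveEndo x₀ (Isom.inj' hB hx) with hxdef
  set k : V ≃ₗ[F] V := LinearEquiv.ofInjectiveEndo k₀ (Isom.inj' hB hk) with hkdef
  have hz0 : (z : V →ₗ[F] V) = z₀ := by ext v; rfl
  have hx0 : (x : V →ₗ[F] V) = x₀ := by ext v; rfl
  have hk0 : (k : V →ₗ[F] V) = k₀ := by ext v; rfl
  have hzm : z ∈ SGr B := mem_SGr.2 ⟨hz, by rw [hz0, hzd1]⟩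
  have hxm : x ∈ SGr B := mem_SGr.2 ⟨hx, by rw [hx0, hxd1]⟩
  have hkm : k ∈ SGr B := mem_SGr.2 ⟨hk, by rw [hk0, hkd1]⟩
  have hxw1 : ∀ j, x (w j) = ∑ i, Z i j • w i := hxw
  have hzw1 : ∀ j, z (w j) = ∑ i, Z i j • w i := hzw
  have hxw1' : ∀ j, x (w' j) = ∑ i, ist σ Z i j • w' i := hxw'
  have hzw1' : ∀ j, z (w' j) = G⁻¹ (∑ i, ist σ (P * Z) i j • w' i) := hzw'
  have hkw1' : ∀ j, k (w' j) = ∑ i, ist σ h i j • w' i := hkw'
  have hfw : ∀ j, aeval (x : End F V) Z.charpoly (w j) = 0 := by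
    intro j
    rw [aeval_frame (x := (x : End F V)) hxw1, Matrix.aeval_self_charpoly]
    simp
  obtain ⟨u₁, hu₁, hzu⟩ := conj_same hB he hn hw hxm hzm hZ0 hxw1 hzw1 hfw h1 (fun _ => h2)
  -- the second conjugation
  set y : V ≃ₗ[F] V := k⁻¹ * (G * z) * k with hydef
  have hym : y ∈ SGr B :=
    (SGr B).mul_mem ((SGr B).mul_mem ((SGr B).inv_mem hkm) ((SGr B).mul_mem hGmem hzm)) hkm
  have hcomp : ∀ (X Y : Matrix ι ι F) (a : V ≃ₗ[F] V), (∀ j, a (w' j) = ∑ i, X i j • w' i) →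
      ∀ j, a (∑ i, Y i j • w' i) = ∑ i, (X * Y) i j • w' i := by
    intro X Y a ha j
    rw [map_sum]
    simp only [map_smul, ha, Finset.smul_sum, smul_smul]
    rw [Finset.sum_comm]
    simp only [← Finset.sum_smul]
    refine Finset.sum_congr rfl fun i _ => ?_
    rw [Matrix.mul_apply]
    congr 1
    exact Finset.sum_congr rfl fun k _ => mul_comm _ _
  have hGz : ∀ j, (G * z) (w' j) = ∑ i, ist σ (P * Z) i j • w' i := by
    intro j
    rw [LinearEquiv.mul_apply, hzw1', ← LinearEquiv.mul_apply, mul_inv_cancel]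
    rfl
  have hyw' : ∀ j, y (w' j) = ∑ i, ist σ Z i j • w' i := by
    intro j
    have h3 : k (∑ i, ist σ Z i j • w' i) = (G * z) (k (w' j)) := by
      rw [hcomp _ _ k hkw1', hkw1', hcomp _ _ (G * z) hGz, ← ist_mul, ← ist_mul, hPZ]
    rw [hydef, LinearEquiv.mul_apply, LinearEquiv.mul_apply, ← h3, ← LinearEquiv.mul_apply, inv_mul_cancel]
    rfl
  have hcoeff : Z.charpoly.coeff 0 ≠ 0 := by
    intro h0
    apply hZ0
    rw [Matrix.det_eq_sign_charpoly_coeff, h0, mul_zero]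
  have hxinv : (x : End F V) * ((x⁻¹ : V ≃ₗ[F] V) : End F V) = 1 := by
    ext v
    change x (x⁻¹ v) = v
    rw [← LinearEquiv.mul_apply, mul_inv_cancel]; rfl
  have hxinv' : ((x⁻¹ : V ≃ₗ[F] V) : End F V) * (x : End F V) = 1 := by
    ext v
    change x⁻¹ (x v) = v
    rw [← LinearEquiv.mul_apply, inv_mul_cancel]; rfl
  have hfw' : ∀ j, aeval (x : End F V) (Z.charpoly.map σ).reverse (w' j) = 0 := by
    intro j
    have h3 := aeval_frame (x := (x : End F V)) (w := w') hxw1' (Z.charpoly.map σ).reverse j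
    rw [h3]
    apply Finset.sum_eq_zero
    intro i _
    have h4 : B (aeval (x : End F V) (Z.charpoly.map σ).reverse (w' j)) (w i) = 0 := by
      rw [B_aeval hB (x := (x : End F V)) hx hxinv, map_rev_map hB.ss, aeval_reverse' hxinv', Module.End.mul_apply, hfw, map_zero,
        hB.zero_right]
    rw [h3, sum_left' hB] at h4
    simp only [hw.dual' hB, mul_ite, mul_one, mul_zero, Finset.sum_ite_eq', Finset.mem_univ, if_true] at h4
    rw [h4, zero_smul]
  have hσZ0 : σ Z.det ≠ 0 := (_root_.map_ne_zero σ).2 hZ0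
  have hist0 : (ist σ Z).det ≠ 0 := by
    rw [det_ist, map_inv₀]
    exact inv_ne_zero hσZ0
  obtain ⟨u₂, hu₂, hyu⟩ := conj_same hB he hn (hw.swap hB) hxm hym hist0 hxw1' hyw' hfw' (by
    rw [map_rev_map hB.ss, reverse_reverse' hcoeff]
    exact h1.symm) (by
    intro _ h3
    apply h2
    rw [det_ist, map_inv₀, inv_inv, map_inv₀, hB.ss] at h3
    set c := σ Z.det * Z.det⁻¹ with hcdef
    have hc0 : c ≠ 0 := mul_ne_zero hσZ0 (inv_ne_zero hZ0)
    have h4 : (Z.det)⁻¹ * σ Z.det = c := mul_comm _ _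
    rw [h4] at h3
    let _ : Invertible c⁻¹ := invertibleOfNonzero (inv_ne_zero hc0)
    have h5 := eval₂_reverse_eq_zero_iff (RingHom.id F) (c⁻¹) (Z.charpoly.map σ)
    have h6 : (⅟(c⁻¹) : F) = c := by rw [invOf_eq_inv, inv_inv]
    rw [h6, ← eval, h3, eq_self_iff_true, true_iff, ← eval, eval_map] at h5
    have h7 : c⁻¹ = σ c := by
      rw [hcdef, map_mul, map_inv₀, hB.ss, mul_inv, inv_inv, mul_comm]
    rw [h7, eval₂_at_apply] at h5
    exact (map_eq_zero σ).1 h5)
  -- assemble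
  set H : V ≃ₗ[F] V := k * u₂ * u₁⁻¹ with hH
  have hHm : H ∈ SGr B := (SGr B).mul_mem ((SGr B).mul_mem hkm hu₂) ((SGr B).inv_mem hu₁)
  have hfin : G * (z * H) = H * z := by
    have h3 : G * z = k * y * k⁻¹ := by rw [hydef]; group
    have h4 : x = u₁⁻¹ * z * u₁ := by rw [hzu]; group
    calc G * (z * H) = (G * z) * H := by group
      _ = k * (u₂ * x * u₂⁻¹) * k⁻¹ * H := by rw [h3, hyu]
      _ = k * (u₂ * (u₁⁻¹ * z * u₁) * u₂⁻¹) * k⁻¹ * H := by rw [← h4]
      _ = H * z := by rw [hH]; group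
  obtain ⟨c, hc⟩ := orderOf_levQ hB he hn hw hzm hZ0 hzw1 h1 (fun _ => h2) hl hs hZl
  refine ⟨H * z * H⁻¹, z⁻¹, (SGr B).mul_mem ((SGr B).mul_mem hHm hzm) ((SGr B).inv_mem hHm), (SGr B).inv_mem hzm,
    ⟨c, ?_⟩, ⟨c, by rwa [orderOf_inv]⟩, ?_⟩
  · have h3 : orderOf (H * z * H⁻¹) = orderOf z := orderOf_injective (MulAut.conj H).toMonoidHom
      (MulAut.conj H).injective z
    rwa [h3]
  · have h3 : G = H * z * H⁻¹ * z⁻¹ := by
      calc G = G * (z * H) * (z * H)⁻¹ := by group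
        _ = H * z * (z * H)⁻¹ := by rw [hfin]
        _ = _ := by group
    intro v
    rw [← hGg, h3]
    rfl

/-- **dimension three** -/
theorem pw_three (hB : HS q σ B) (hn : finrank F V = 3) {g : End F V}
    (hg : Isom B g) (hdet : LinearMap.det g = 1) (hns : ∀ c : F, g ≠ c • (1 : End F V)) {x : F} (hx0 : x ≠ 0)
    (hxq : x ^ q = x) (hx2 : x ^ 2 ≠ 1) {l s : ℕ} (hl : l.Prime) (hs : 1 ≤ s) (hxl : x ^ l ^ s = 1) :
    IsPw B l g := by
  have hx1 : x ^ (q + 1) ≠ 1 := by
    rw [pow_succ, hxq, ← pow_two]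
    exact hx2
  have hx3 : x ^ q ≠ x ^ 2 := by
    rw [hxq]
    intro h
    apply hx2
    have h1 : x = 1 := by
      have h2 : x * x = x * 1 := by rw [mul_one, ← pow_two]; exact h.symm
      exact mul_left_cancel₀ hx0 h2
    rw [h1, one_pow]
  obtain ⟨w, hw, hgw⟩ := Cfsg.Agent.H951.OreU.exists_typeI hB hg hns
  obtain ⟨U, g₁, b, h⟩ := Cfsg.Agent.H951.OreU.exists_step hB hg hw hgw
  obtain ⟨hU, hfr⟩ := Cfsg.Agent.H951.OreU.Step.hs hB hg h
  obtain ⟨R, -, hR⟩ := Cfsg.Agent.H24.Ore.cor_step_odd hB hg h (κ := Empty) (P₁ := 0)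
    (by rw [Fintype.card_empty]; omega)
    ⟨Empty.elim, Empty.elim, ⟨fun i => i.elim, fun i => i.elim, fun i => i.elim⟩, fun i => i.elim⟩ 1
  have hP : Matrix.fromBlocks (Matrix.of fun (_ _ : Unit) => (1 : F)) R 0 (0 : Matrix Empty Empty F) = 1 := by
    ext i j
    rcases i with i | i
    · rcases j with j | j
      · rw [Matrix.fromBlocks_apply₁₁, Subsingleton.elim j i, Matrix.one_apply_eq]
        rfl
      · exact j.elim
    · exact i.elim
  rw [hP] at hR
  set Z : Matrix (Unit ⊕ Empty) (Unit ⊕ Empty) F := Matrix.diagonal fun _ => x with hZdef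
  have hZd : Z.det = x := by
    rw [hZdef, Matrix.det_diagonal]
    simp only [_root_.Finset.prod_const, _root_.Finset.card_univ, _root_.Fintype.card_sum, _root_.Fintype.card_unique, _root_.Fintype.card_eq_zero, _root_.add_zero, _root_.pow_one]
  have hZc : Z.charpoly = X - C x := by
    rw [hZdef, Matrix.charpoly_diagonal]
    simp only [_root_.Finset.prod_const, _root_.Finset.card_univ, _root_.Fintype.card_sum, _root_.Fintype.card_unique, _root_.Fintype.card_eq_zero, _root_.add_zero, _root_.pow_one]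
  have hZp : Z ^ l ^ s = 1 := by
    rw [hZdef, Matrix.diagonal_pow]
    have h1 : ((fun _ : Unit ⊕ Empty => x) ^ l ^ s) = fun _ => 1 := by
      funext i
      rw [Pi.pow_apply, hxl]
    rw [h1, Matrix.diagonal_one]
  have hσx : σ x ≠ 0 := (_root_.map_ne_zero σ).2 hx0
  refine criterionQ hB hg hdet (ι := Unit ⊕ Empty) (Or.inr (by rw [hn]; rfl)) (h := 1) (Z := Z) hR
    (by rw [one_mul, mul_one]) Matrix.det_one (by rw [hZd]; exact hx0) (fun h2 => ?_) ?_ ?_ hl hs hZp
  · exfalso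
    rw [hn] at h2
    have h3 : Fintype.card (Unit ⊕ Empty) = 1 := rfl
    omega
  · rw [hZc]
    have h1 : ((X - C x : F[X]).map σ).reverse = C (-σ x) * (X - C (σ x)⁻¹) := by
      rw [Polynomial.map_sub, Polynomial.map_X, Polynomial.map_C]
      ext i
      rw [Polynomial.coeff_reverse, Polynomial.natDegree_X_sub_C, Polynomial.coeff_C_mul, Polynomial.coeff_sub,
        Polynomial.coeff_sub]
      rcases i with _ | _ | i
      · rw [Polynomial.revAt_le (by omega)]
        simp only [hσx, _root_.tsub_zero, _root_.Polynomial.coeff_X_one, _root_.Polynomial.coeff_C_succ, _root_.sub_zero, _root_.Polynomial.coeff_X_zero, _root_.Polynomial.coeff_C_zero, _root_.zero_sub, _root_.mul_neg, _root_.neg_mul, _root_.ne_eq, _root_.not_false_eq_true, _root_.mul_inv_cancel₀, _root_.neg_neg]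
      · rw [Polynomial.revAt_le (by omega)]
        simp only [_root_.zero_add, _root_.tsub_self, _root_.Polynomial.coeff_X_zero, _root_.Polynomial.coeff_C_zero, _root_.zero_sub, _root_.Polynomial.coeff_X_one, _root_.Polynomial.coeff_C_succ, _root_.sub_zero, _root_.mul_one]
      · rw [Polynomial.revAt_eq_self_of_lt (by omega)]
        simp only [Polynomial.coeff_X, Polynomial.coeff_C, _root_.Nat.right_eq_add, _root_.Nat.add_eq_zero_iff, _root_.one_ne_zero, _root_.and_false, ↓ _root_.reduceIte, _root_.Polynomial.coeff_C_succ, _root_.sub_self, _root_.MulZeroClass.mul_zero]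
    rw [h1]
    have h2 : IsUnit (C (-σ x) : F[X]) := Polynomial.isUnit_C.2 (isUnit_iff_ne_zero.2 (neg_ne_zero.2 hσx))
    rw [isCoprime_mul_unit_left_right h2]
    apply Polynomial.isCoprime_X_sub_C_of_isUnit_sub
    rw [isUnit_iff_ne_zero, sub_ne_zero]
    intro h3
    apply hx1
    calc x ^ (q + 1) = σ x * x := by rw [pow_succ, ← hB.sig]
      _ = σ x * (σ x)⁻¹ := by rw [← h3]
      _ = 1 := mul_inv_cancel₀ hσx
  · rw [hZd, hZc, Polynomial.eval_sub, Polynomial.eval_X, Polynomial.eval_C, hB.sig]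
    intro h1
    apply hx3
    have h2 : x ^ q * x⁻¹ = x := sub_eq_zero.1 h1
    calc x ^ q = x ^ q * x⁻¹ * x := by rw [inv_mul_cancel_right₀ hx0]
      _ = x ^ 2 := by rw [h2, pow_two]

end Cfsg.Agent.H876.PwU3
end

-- part: H876/PwU3/Code
section
/-!
# Coded arithmetic in a small field (helper876)

A field with `n + 1` elements and a generator `ω` of its multiplicative group: the code `0` stands for `0`, the code
`i + 1` for `ω ^ i`.  `T` is a table of Zech logarithms, one byte per entry: `1 + ω ^ k` has the code `zt T k`.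
`3 × 3` matrices with coded entries, the Cayley-Hamilton recursion, and the certificate `chk` for `SU_3(q)`, `q = 3, 4, 9`.
-/

set_option autoImplicit false

namespace Cfsg.Agent.H876.PwU3

/-- table of Zech logarithms, one byte per entry -/
def zt (T k : ℕ) : ℕ := (T >>> (8 * k)) % 256

/-- multiplication of codes -/
def mulc (n : ℕ) : ℕ → ℕ → ℕ
  | 0, _ => 0
  | _ + 1, 0 => 0
  | i + 1, j + 1 => (i + j) % n + 1

/-- addition of codes -/
def addc (n T : ℕ) : ℕ → ℕ → ℕ
  | 0, j => j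
  | i + 1, 0 => i + 1
  | i + 1, j + 1 => mulc n (i + 1) (zt T ((j + (n - 1) * i) % n))

/-- the `q`-th power -/
def barc (n q : ℕ) : ℕ → ℕ
  | 0 => 0
  | i + 1 => (i * q) % n + 1

/-- the value of a code -/
def ev {F : Type*} [Field F] (ω : F) : ℕ → F
  | 0 => 0
  | i + 1 => ω ^ i

/-- the hypotheses on the table -/
structure Cd {F : Type*} [Field F] (n q T m1 : ℕ) (ω : F) : Prop where
  npos : 0 < n
  qpos : 0 < q
  pow : ω ^ n = 1
  z : ∀ k < n, 1 + ω ^ k = ev ω (zt T k)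
  neg : ev ω m1 = -1

section

variable {F : Type*} [Field F] {n q T m1 : ℕ} {ω : F}

@[simp] theorem ev_zero : ev ω 0 = 0 := rfl
@[simp] theorem ev_succ (i : ℕ) : ev ω (i + 1) = ω ^ i := rfl
theorem ev_one : ev ω 1 = 1 := pow_zero ω

theorem Cd.ne (h : Cd n q T m1 ω) : ω ≠ 0 := by
  rintro rfl
  have h1 := h.pow
  rw [zero_pow h.npos.ne'] at h1
  exact zero_ne_one h1

theorem Cd.pow_mod (h : Cd n q T m1 ω) (i : ℕ) : ω ^ (i % n) = ω ^ i := by
  conv_rhs => rw [← Nat.div_add_mod i n, pow_add, pow_mul, h.pow, one_pow, one_mul]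

theorem Cd.mul (h : Cd n q T m1 ω) (i j : ℕ) : ev ω (mulc n i j) = ev ω i * ev ω j := by
  rcases i with _ | i
  · simp [mulc]
  rcases j with _ | j
  · simp [mulc]
  · rw [mulc, ev_succ, ev_succ, ev_succ, h.pow_mod, pow_add]

theorem Cd.add (h : Cd n q T m1 ω) (i j : ℕ) : ev ω (addc n T i j) = ev ω i + ev ω j := by
  rcases i with _ | i
  · simp [addc]
  rcases j with _ | j
  · simp [addc]
  · rw [addc, h.mul, ← h.z _ (Nat.mod_lt _ h.npos), h.pow_mod, ev_succ, ev_succ, mul_add, mul_one, ← pow_add]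
    congr 1
    obtain ⟨m, hm⟩ : ∃ m, n = m + 1 := ⟨n - 1, by have := h.npos; omega⟩
    have h1 : i + (j + (n - 1) * i) = n * i + j := by
      rw [hm, Nat.add_sub_cancel]; ring
    rw [h1, pow_add, pow_mul, h.pow, one_pow, one_mul]

theorem Cd.bar (h : Cd n q T m1 ω) (i : ℕ) : ev ω (barc n q i) = ev ω i ^ q := by
  rcases i with _ | i
  · rw [barc, ev_zero, zero_pow h.qpos.ne']
  · rw [barc, ev_succ, ev_succ, h.pow_mod, pow_mul]

theorem Cd.inv (h : Cd n q T m1 ω) (i : ℕ) : ev ω (barc n (n - 1) i) * ev ω i = if i = 0 then 0 else 1 := by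
  rcases i with _ | i
  · simp
  · rw [barc, ev_succ, ev_succ, h.pow_mod, if_neg (Nat.succ_ne_zero i), ← pow_add]
    have h1 : i * (n - 1) + i = n * i := by
      obtain ⟨m, hm⟩ : ∃ m, n = m + 1 := ⟨n - 1, by have := h.npos; omega⟩
      rw [hm, Nat.add_sub_cancel]; ring
    rw [h1, pow_mul, h.pow, one_pow]

theorem Cd.inv' (h : Cd n q T m1 ω) (i : ℕ) : ev ω (barc n (n - 1) (i + 1)) = (ev ω (i + 1))⁻¹ := by
  have h1 := h.inv (i + 1)
  rw [if_neg (Nat.succ_ne_zero i)] at h1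
  exact eq_inv_of_mul_eq_one_left h1

theorem Cd.ev_eq_zero (h : Cd n q T m1 ω) {i : ℕ} (hi : ev ω i = 0) : i = 0 := by
  rcases i with _ | i
  · rfl
  · exact absurd hi (pow_ne_zero _ h.ne)

end

/-- `3 × 3` matrices of codes -/
structure M3 where
  (a b c d e f g h i : ℕ)
deriving DecidableEq

/-- the matrix -/
def toM {F : Type*} [Field F] (ω : F) (A : M3) : Matrix (Fin 3) (Fin 3) F :=
  !![ev ω A.a, ev ω A.b, ev ω A.c; ev ω A.d, ev ω A.e, ev ω A.f; ev ω A.g, ev ω A.h, ev ω A.i]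

/-- product of matrices of codes -/
def mul3 (n T : ℕ) (A B : M3) : M3 :=
  let p := mulc n
  let s := addc n T
  ⟨s (p A.a B.a) (s (p A.b B.d) (p A.c B.g)), s (p A.a B.b) (s (p A.b B.e) (p A.c B.h)),
    s (p A.a B.c) (s (p A.b B.f) (p A.c B.i)),
   s (p A.d B.a) (s (p A.e B.d) (p A.f B.g)), s (p A.d B.b) (s (p A.e B.e) (p A.f B.h)),
    s (p A.d B.c) (s (p A.e B.f) (p A.f B.i)),
   s (p A.g B.a) (s (p A.h B.d) (p A.i B.g)), s (p A.g B.b) (s (p A.h B.e) (p A.i B.h)),
    s (p A.g B.c) (s (p A.h B.f) (p A.i B.i))⟩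

/-- transpose -/
def tr3 (A : M3) : M3 := ⟨A.a, A.d, A.g, A.b, A.e, A.h, A.c, A.f, A.i⟩

/-- entrywise `q`-th power -/
def bar3 (n q : ℕ) (A : M3) : M3 :=
  ⟨barc n q A.a, barc n q A.b, barc n q A.c, barc n q A.d, barc n q A.e, barc n q A.f, barc n q A.g, barc n q A.h,
    barc n q A.i⟩

/-- the Gram matrix -/
def J3 : M3 := ⟨0, 0, 1, 0, 1, 0, 1, 0, 0⟩

/-- the determinant -/
def det3 (n T m1 : ℕ) (A : M3) : ℕ :=
  let p := mulc n
  let s := addc n T
  s (s (p A.a (p A.e A.i)) (s (p A.b (p A.f A.g)) (p A.c (p A.d A.h))))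
    (p m1 (s (p A.c (p A.e A.g)) (s (p A.b (p A.d A.i)) (p A.a (p A.f A.h)))))

/-- the Gram matrix -/
def JJ (F : Type*) [Field F] : Matrix (Fin 3) (Fin 3) F := !![0, 0, 1; 0, 1, 0; 1, 0, 0]

section

variable {F : Type*} [Field F] {n q T m1 : ℕ} {ω : F}

theorem Cd.mul3 (h : Cd n q T m1 ω) (A B : M3) : toM ω (mul3 n T A B) = toM ω A * toM ω B := by
  ext i j
  (revert i j; simp only [toM, PwU3.mul3, Matrix.mul_apply, Fin.sum_univ_three, h.mul, h.add, add_assoc, _root_.Fin.forall_fin_succ, _root_.Matrix.of_apply, _root_.Matrix.cons_val', _root_.Matrix.cons_val_fin_one, Fin.isValue, _root_.Matrix.cons_val_zero, _root_.Matrix.cons_val_one, _root_.Matrix.cons_val, _root_.Matrix.cons_val_succ, _root_.forall_const, _root_.and_self, _root_.implies_true])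

theorem toM_tr3 (A : M3) : toM ω (tr3 A) = (toM ω A).transpose := by
  have h : ∀ a b c d e f g h i : F, !![a, d, g; b, e, h; c, f, i] = (!![a, b, c; d, e, f; g, h, i]).transpose := by
    intro a b c d e f g h i
    ext i j
    fin_cases i <;> fin_cases j <;> rfl
  exact h _ _ _ _ _ _ _ _ _

theorem toM_J3 : toM ω J3 = JJ F := by
  ext i j
  (revert i j; simp [toM, J3, JJ, ev_one, _root_.Fin.forall_fin_succ])

theorem Cd.bar3 (h : Cd n q T m1 ω) {σ : F →+* F} (hσ : ∀ a, σ a = a ^ q) (A : M3) :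
    toM ω (bar3 n q A) = (toM ω A).map σ := by
  ext i j
  rw [Matrix.map_apply, hσ]
  (revert i j; simp only [toM, PwU3.bar3, h.bar, _root_.Fin.forall_fin_succ, _root_.Matrix.of_apply, _root_.Matrix.cons_val', _root_.Matrix.cons_val_fin_one, Fin.isValue, _root_.Matrix.cons_val_zero, _root_.Matrix.cons_val_succ, _root_.forall_const, _root_.and_self, _root_.implies_true])

theorem Cd.det3 (h : Cd n q T m1 ω) (A : M3) : ev ω (det3 n T m1 A) = (toM ω A).det := by
  rw [Matrix.det_fin_three]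
  simp only [PwU3.det3, h.mul, h.add, h.neg, toM, Matrix.of_apply, Matrix.cons_val', Matrix.cons_val_zero,
    Matrix.cons_val_one, Matrix.cons_val]
  ring

end

/-! ### the certificate -/

/-- one step of the Cayley-Hamilton recursion: multiplication by `A`, `A³ = t A² - t̄ A + 1`; `k` steps from
`(c0, c1, c2)` give `(1, 0, 0)` -/
def ch (n T t tb : ℕ) : ℕ → ℕ → ℕ → ℕ → Bool
  | 0, c0, c1, c2 => Nat.beq c0 1 && (Nat.beq c1 0 && Nat.beq c2 0)
  | k + 1, c0, c1, c2 =>
    match addc n T c0 (mulc n tb c2), addc n T c1 (mulc n t c2) with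
    | 0, 0 => ch n T t tb k c2 0 0
    | x + 1, 0 => ch n T t tb k c2 (x + 1) 0
    | 0, y + 1 => ch n T t tb k c2 0 (y + 1)
    | x + 1, y + 1 => ch n T t tb k c2 (x + 1) (y + 1)

/-- the trace of `B * M`, where `M` has the rows `(0, 0, α), (0, β, ν), (γ, μ, ρ)` -/
def trc (n T : ℕ) (B : M3) (α β ν γ μ ρ : ℕ) : ℕ :=
  let p := mulc n
  let s := addc n T
  s (p B.c γ) (s (s (p B.e β) (p B.f μ)) (s (p B.g α) (s (p B.h ν) (p B.i ρ))))

/-- the certificate: the matrices `B` of the list `L` are unitary of determinant one with a trace in `S`, and for each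
matrix `M` in normal form there is a `B` such that the trace of `B * M` is in `S` -/
def chk (n q T m1 : ℕ) (S : List ℕ) (L : List M3) : Bool :=
  (L.all fun B => decide (mul3 n T (mul3 n T (tr3 B) J3) (bar3 n q B) = J3) && (Nat.beq (det3 n T m1 B) 1 &&
    S.elem (addc n T B.a (addc n T B.e B.i)))) &&
  (List.range (q + 1)).all fun k => (List.range q).all fun m => (List.range (n + 1)).all fun r =>
    let g := k + 1
    let gb := barc n q g
    let gi := barc n (n - 1) g
    let gbi := barc n (n - 1) gb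
    let mb := barc n q m
    !(Nat.beq (addc n T (addc n T (mulc n g (barc n q r)) (mulc n gb r)) (mulc n m mb)) 0) ||
      L.any fun B => S.elem (trc n T B gbi (mulc n m1 (mulc n gb gi)) (mulc n mb gi) g m r)

end Cfsg.Agent.H876.PwU3
end

-- part: H876/PwU3/Sound
section
/-!
# Soundness of the certificate (helper876)
-/

set_option autoImplicit false
set_option linter.unusedSectionVars false

namespace Cfsg.Agent.H876.PwU3

open Module Matrix Cfsg.Agent.H951 Cfsg.Agent.H98.Ore Cfsg.Agent.H700.PwU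

/-! ### Cayley-Hamilton -/

section

variable {F : Type*} [Field F]

theorem cayley_three (M : Matrix (Fin 3) (Fin 3) F) :
    M ^ 3 = M.trace • M ^ 2 - (M.adjugate).trace • M + M.det • (1 : Matrix (Fin 3) (Fin 3) F) := by
  rw [Matrix.adjugate_fin_three, Matrix.det_fin_three]
  ext i j
  (revert i j; simp only [pow_succ, Matrix.mul_apply, Fin.sum_univ_three, Matrix.trace, Matrix.add_apply, Matrix.sub_apply, Matrix.smul_apply, _root_.Fin.forall_fin_succ, _root_.pow_zero, _root_.one_mul, Fin.isValue, _root_.Matrix.diag_apply, _root_.Matrix.of_apply, _root_.Matrix.cons_val', _root_.Matrix.cons_val_fin_one, _root_.Matrix.cons_val_zero, _root_.Matrix.cons_val_one, _root_.Matrix.cons_val, _root_.smul_eq_mul, _root_.Fin.succ_zero_eq_one, _root_.Fin.succ_one_eq_two, _root_.IsEmpty.forall_iff, _root_.and_true, _root_.Matrix.one_apply_eq, _root_.mul_one, Nat.reduceAdd, _root_.ne_eq, _root_.zero_ne_one, _root_.not_false_eq_true, _root_.Matrix.one_apply_ne,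 _root_.MulZeroClass.mul_zero, _root_.add_zero, Fin.reduceEq, _root_.Fin.succ_ne_zero]) <;> (repeat' with_reducible apply And.intro) <;> ring

theorem JJ_mul : JJ F * JJ F = 1 := by
  ext i j
  (revert i j; simp only [JJ, Matrix.mul_apply, Fin.sum_univ_three, _root_.Fin.forall_fin_succ, _root_.Matrix.of_apply, _root_.Matrix.cons_val', _root_.Matrix.cons_val_fin_one, Fin.isValue, _root_.Matrix.cons_val_zero, _root_.Matrix.cons_val_one, _root_.Matrix.cons_val, _root_.MulZeroClass.mul_zero, _root_.add_zero, _root_.mul_one, _root_.zero_add, _root_.Matrix.cons_val_succ, _root_.IsEmpty.forall_iff, _root_.and_true, _root_.Matrix.one_apply_eq, Nat.reduceAdd, _root_.Fin.succ_zero_eq_one, _root_.ne_eq, _root_.zero_ne_one, _root_.not_false_eq_true, _root_.Matrix.one_apply_ne, _root_.Fin.succ_one_eq_two, Fin.reduceEq, _root_.and_self, _root_.Fin.succ_ne_zero, _root_.true_and])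

/-- a unitary matrix of determinant one -/
theorem cayley_unitary {σ : F →+* F} (hs : ∀ a, σ (σ a) = a) {M : Matrix (Fin 3) (Fin 3) F}
    (hM : Mᵀ * JJ F * M.map σ = JJ F) (hd : M.det = 1) :
    M ^ 3 = M.trace • M ^ 2 - σ M.trace • M + (1 : Matrix (Fin 3) (Fin 3) F) := by
  have hJs : (JJ F).map σ = JJ F := by
    ext i j
    (revert i j; simp only [JJ, _root_.Fin.forall_fin_succ, _root_.Matrix.map_apply, _root_.Matrix.of_apply, _root_.Matrix.cons_val', _root_.Matrix.cons_val_fin_one, Fin.isValue, _root_.Matrix.cons_val_zero, _root_.Matrix.cons_val_succ, _root_.forall_const, _root_.map_zero, _root_.map_one, _root_.and_self, _root_.implies_true])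
  have hss : (M.map σ).map σ = M := by
    ext i j
    simp [hs]
  have h1 : (Mᵀ).map σ * JJ F * M = JJ F := by
    have h2 := congrArg (fun X : Matrix (Fin 3) (Fin 3) F => X.map σ) hM
    simp only [Matrix.map_mul, hss, hJs] at h2
    exact h2
  have h3 : (JJ F * (Mᵀ).map σ * JJ F) * M = 1 := by
    calc (JJ F * (Mᵀ).map σ * JJ F) * M = JJ F * ((Mᵀ).map σ * JJ F * M) := by simp only [Matrix.mul_assoc]
      _ = 1 := by rw [h1, JJ_mul]
  have h4 : M.adjugate = JJ F * (Mᵀ).map σ * JJ F := by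
    have h5 : M * (JJ F * (Mᵀ).map σ * JJ F) = 1 := mul_eq_one_comm.1 h3
    have h6 : M.adjugate * M = 1 := by rw [Matrix.adjugate_mul, hd, one_smul]
    calc M.adjugate = M.adjugate * (M * (JJ F * (Mᵀ).map σ * JJ F)) := by rw [h5, mul_one]
      _ = (M.adjugate * M) * (JJ F * (Mᵀ).map σ * JJ F) := (Matrix.mul_assoc _ _ _).symm
      _ = _ := by rw [h6, one_mul]
  have h7 : M.adjugate.trace = σ M.trace := by
    rw [h4, Matrix.trace_mul_comm, ← Matrix.mul_assoc, JJ_mul, one_mul]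
    simp [Matrix.trace, Fin.sum_univ_three]
  rw [← h7]
  conv_lhs => rw [cayley_three M]
  rw [hd, one_smul]

variable {n q T m1 : ℕ} {ω : F}

theorem ch_sound (h : Cd n q T m1 ω) {A : Matrix (Fin 3) (Fin 3) F} {t tb : ℕ}
    (hA : A ^ 3 = ev ω t • A ^ 2 + ev ω tb • A + 1) : ∀ (k c0 c1 c2 : ℕ), ch n T t tb k c0 c1 c2 = true →
      A ^ k * (ev ω c2 • A ^ 2 + ev ω c1 • A + ev ω c0 • 1) = 1 := by
  have hstep : ∀ c0 c1 c2 : ℕ, A * (ev ω c2 • A ^ 2 + ev ω c1 • A + ev ω c0 • (1 : Matrix (Fin 3) (Fin 3) F)) =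
      ev ω (addc n T c1 (mulc n t c2)) • A ^ 2 + ev ω (addc n T c0 (mulc n tb c2)) • A +
        ev ω c2 • (1 : Matrix (Fin 3) (Fin 3) F) := by
    intro c0 c1 c2
    rw [h.add, h.add, h.mul, h.mul, mul_add, mul_add, mul_smul_comm, mul_smul_comm, mul_smul_comm, ← pow_succ',
      hA, mul_one, ← pow_two]
    simp only [smul_add, add_smul, smul_smul]
    rw [mul_comm (ev ω c2) (ev ω t), mul_comm (ev ω c2) (ev ω tb)]
    abel
  intro k
  induction k with
  | zero =>
    intro c0 c1 c2 hc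
    rw [ch, Bool.and_eq_true, Bool.and_eq_true, Nat.beq_eq, Nat.beq_eq, Nat.beq_eq] at hc
    obtain ⟨rfl, rfl, rfl⟩ := hc
    simp only [_root_.pow_zero, _root_.Cfsg.Agent.H876.PwU3.ev_zero, _root_.zero_smul, _root_.add_zero, _root_.Cfsg.Agent.H876.PwU3.ev_succ, _root_.one_smul, _root_.zero_add, _root_.mul_one]
  | succ k ih =>
    intro c0 c1 c2 hc
    have key : ch n T t tb k c2 (addc n T c0 (mulc n tb c2)) (addc n T c1 (mulc n t c2)) = true := by
      rw [ch] at hc
      split at hc <;> simp_all only [_root_.Nat.succ_eq_add_one]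
    rw [pow_succ, Matrix.mul_assoc, hstep]
    exact ih _ _ _ key

/-- a unitary matrix of determinant one whose trace has a code in `S` -/
theorem pow_eq_one (h : Cd n q T m1 ω) {σ : F →+* F} (hσ : ∀ a, σ a = a ^ q) (hs : ∀ a, σ (σ a) = a) {S : List ℕ}
    {N : ℕ} (hS : (S.all fun t => ch n T t (mulc n m1 (barc n q t)) N 1 0 0) = true)
    {A : Matrix (Fin 3) (Fin 3) F} (hA : Aᵀ * JJ F * A.map σ = JJ F) (hd : A.det = 1) {t : ℕ} (ht : t ∈ S)
    (htr : A.trace = ev ω t) : A ^ N = 1 := by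
  have h1 := cayley_unitary hs hA hd
  have h2 := List.all_eq_true.1 hS t ht
  have h3 := ch_sound h (A := A) (t := t) (tb := mulc n m1 (barc n q t)) (by
    rw [h1, htr, h.mul, h.neg, h.bar, ← hσ, neg_mul, one_mul, neg_smul, sub_eq_add_neg]) N 1 0 0 h2
  simpa only [ev_one, _root_.Cfsg.Agent.H876.PwU3.ev_zero, _root_.zero_smul, _root_.add_zero, _root_.Cfsg.Agent.H876.PwU3.ev_succ, _root_.pow_zero, _root_.one_smul, _root_.zero_add, _root_.mul_one] using h3

end

/-! ### coordinates -/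

section

variable {F V : Type*} [Field F] [Fintype F] [AddCommGroup V] [Module F V] [FiniteDimensional F V]
  {q : ℕ} {σ : F →+* F} {B : V → V → F}

/-- the form in coordinates -/
theorem form_eq (hB : HS q σ B) (b : Basis (Fin 3) F V) (hb : ∀ i j, B (b i) (b j) = JJ F i j) (u v : V) :
    B u v = (b.repr u : Fin 3 → F) ⬝ᵥ (JJ F *ᵥ fun j => σ (b.repr v j)) := by
  conv_lhs => rw [← b.sum_repr u, ← b.sum_repr v]
  rw [sum_left' hB, dotProduct]
  apply Finset.sum_congr rfl
  intro i _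
  rw [sum_right' hB, Matrix.mulVec, dotProduct]
  congr 1
  apply Finset.sum_congr rfl
  intro j _
  rw [hb, mul_comm]

theorem isom_toLin (hB : HS q σ B) (b : Basis (Fin 3) F V) (hb : ∀ i j, B (b i) (b j) = JJ F i j)
    {M : Matrix (Fin 3) (Fin 3) F} (hM : Mᵀ * JJ F * M.map σ = JJ F) : Isom B (Matrix.toLin b b M) := by
  intro u v
  rw [form_eq hB b hb, form_eq hB b hb]
  have h1 : ∀ u : V, (b.repr (Matrix.toLin b b M u) : Fin 3 → F) = M *ᵥ (b.repr u : Fin 3 → F) := by
    intro u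
    rw [Matrix.repr_toLin]
  have h2 : (fun j => σ (b.repr (Matrix.toLin b b M v) j)) = M.map σ *ᵥ fun j => σ (b.repr v j) := by
    funext j
    rw [show b.repr (Matrix.toLin b b M v) j = (M *ᵥ (b.repr v : Fin 3 → F)) j from congrFun (h1 v) j]
    simp only [Matrix.mulVec, dotProduct, map_sum, map_mul, Matrix.map_apply]
  have h3 : ∀ (U W : Fin 3 → F), (M *ᵥ U) ⬝ᵥ (JJ F *ᵥ (M.map σ *ᵥ W)) = U ⬝ᵥ ((Mᵀ * JJ F * M.map σ) *ᵥ W) := by
    intro U W
    rw [← Matrix.vecMul_transpose, ← Matrix.dotProduct_mulVec, Matrix.mulVec_mulVec, Matrix.mulVec_mulVec]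
  rw [h1 u, h2, h3, hM]

theorem toMatrix_isom (hB : HS q σ B) (b : Basis (Fin 3) F V) (hb : ∀ i j, B (b i) (b j) = JJ F i j)
    {g : End F V} (hg : Isom B g) :
    (LinearMap.toMatrix b b g)ᵀ * JJ F * (LinearMap.toMatrix b b g).map σ = JJ F := by
  ext i j
  have h1 := hg (b i) (b j)
  rw [hb, form_eq hB b hb] at h1
  rw [← h1, Matrix.mul_assoc, Matrix.mul_apply]
  refine Finset.sum_congr rfl fun k _ => ?_
  rw [Matrix.transpose_apply, LinearMap.toMatrix_apply, Matrix.mul_apply]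
  congr 1
  rw [Matrix.mulVec, dotProduct]
  apply Finset.sum_congr rfl
  intro l _
  rw [Matrix.map_apply, LinearMap.toMatrix_apply]

end

end Cfsg.Agent.H876.PwU3
end

-- part: H876/PwU3/Small
section
/-!
# `SU_3(q)`, `q = 3, 4, 9`: products of two elements of order `7`, `13`, `73` (helper876)
-/

set_option autoImplicit false
set_option linter.unusedSectionVars false

namespace Cfsg.Agent.H876.PwU3

open Module Matrix Cfsg.Agent.H951 Cfsg.Agent.H98.Ore Cfsg.Agent.H700.PwU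

section

variable {F : Type*} [Field F]

theorem gram_apply {σ : F →+* F} (M : Matrix (Fin 3) (Fin 3) F) (i j : Fin 3) :
    (Mᵀ * JJ F * M.map σ) i j = M 0 i * σ (M 2 j) + M 1 i * σ (M 1 j) + M 2 i * σ (M 0 j) := by
  simp only [Matrix.mul_apply, Fin.sum_univ_three, Matrix.map_apply, Matrix.transpose_apply, JJ, Matrix.of_apply,
    Matrix.cons_val', Matrix.cons_val_zero, Matrix.cons_val_one, Matrix.cons_val]
  ring

/-- the normal form -/
theorem normal_form {σ : F →+* F} (hs : ∀ a, σ (σ a) = a) {M : Matrix (Fin 3) (Fin 3) F} (h0 : M 0 0 = 0)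
    (h1 : M 1 0 = 0) (h2 : M 2 0 ≠ 0) (hM : Mᵀ * JJ F * M.map σ = JJ F) (hd : M.det = 1) :
    M 0 1 = 0 ∧ M 0 2 = (σ (M 2 0))⁻¹ ∧ M 1 1 = -(σ (M 2 0) * (M 2 0)⁻¹) ∧ M 1 2 = σ (M 2 1) * (M 2 0)⁻¹ ∧
      M 2 0 * σ (M 2 2) + σ (M 2 0) * M 2 2 + M 2 1 * σ (M 2 1) = 0 := by
  have hσ0 : σ (M 2 0) ≠ 0 := (map_ne_zero σ).2 h2
  have hg : ∀ i j, M 0 i * σ (M 2 j) + M 1 i * σ (M 1 j) + M 2 i * σ (M 0 j) = JJ F i j := by
    intro i j
    rw [← gram_apply, hM]
  have e01 : M 0 1 = 0 := by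
    have h := hg 1 0
    rw [h0, h1] at h
    simp [JJ] at h
    exact h.resolve_right h2
  have e02 : M 0 2 = (σ (M 2 0))⁻¹ := by
    have h := hg 2 0
    rw [h0, h1] at h
    simp only [JJ, _root_.Fin.isValue, _root_.map_zero, _root_.MulZeroClass.mul_zero, _root_.add_zero, _root_.Matrix.of_apply, _root_.Matrix.cons_val', _root_.Matrix.cons_val_zero, _root_.Matrix.cons_val_fin_one, _root_.Matrix.cons_val, _root_.Matrix.cons_val_one] at h
    exact eq_inv_of_mul_eq_one_left h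
  have e11 : M 1 1 = -(σ (M 2 0) * (M 2 0)⁻¹) := by
    rw [Matrix.det_fin_three, h0, h1, e01, e02] at hd
    have h3 : -((σ (M 2 0))⁻¹ * M 1 1 * M 2 0) = 1 := by linear_combination hd
    field_simp at h3 ⊢
    linear_combination -h3
  have e12 : M 1 2 = σ (M 2 1) * (M 2 0)⁻¹ := by
    have h := hg 2 1
    rw [e01, e11, e02, map_neg, map_mul, hs, map_inv₀, map_zero] at h
    simp only [JJ, _root_.Fin.isValue, _root_.mul_neg, _root_.MulZeroClass.mul_zero, _root_.add_zero, _root_.Matrix.of_apply, _root_.Matrix.cons_val', _root_.Matrix.cons_val_one, _root_.Matrix.cons_val_zero, _root_.Matrix.cons_val_fin_one, _root_.Matrix.cons_val] at h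
    field_simp at h ⊢
    linear_combination -h
  refine ⟨e01, e02, e11, e12, ?_⟩
  have h := hg 2 2
  rw [e02, e12, map_mul, map_inv₀, hs, map_inv₀, hs] at h
  simp only [JJ, _root_.Fin.isValue, _root_.Matrix.of_apply, _root_.Matrix.cons_val', _root_.Matrix.cons_val, _root_.Matrix.cons_val_fin_one, _root_.Matrix.cons_val_one] at h
  field_simp at h
  linear_combination h

end

section

variable {F V : Type*} [Field F] [Fintype F] [AddCommGroup V] [Module F V] [FiniteDimensional F V]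
  {q : ℕ} {σ : F →+* F} {B : V → V → F}

theorem exists_basis (hB : HS q σ B) (hn : finrank F V = 3) {w w' l : V} (hww : B w w = 0) (hd : B w w' = 1)
    (hww' : B w' w' = 0) (hll : B l l = 1) (hlw : B l w = 0) (hlw' : B l w' = 0) :
    ∃ b : Basis (Fin 3) F V, b 0 = w ∧ b 1 = l ∧ b 2 = w' ∧ ∀ i j, B (b i) (b j) = JJ F i j := by
  have hd' : B w' w = 1 := by rw [hB.symm w w', hd, map_one]
  have hwl : B w l = 0 := by rw [hB.symm l w, hlw, map_zero]
  have hw'l : B w' l = 0 := by rw [hB.symm l w', hlw', map_zero]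
  have hli : LinearIndependent F (![w, l, w'] : Fin 3 → V) := by
    rw [Fintype.linearIndependent_iff]
    intro a ha
    have h : ∀ y, a 0 * B w y + a 1 * B l y + a 2 * B w' y = 0 := by
      intro y
      have h1 : B (∑ i, a i • (![w, l, w'] : Fin 3 → V) i) y = 0 := by rw [ha, hB.zero_left]
      rw [sum_left' hB, Fin.sum_univ_three] at h1
      exact h1
    have h1 := h w'
    have h2 := h l
    have h3 := h w
    rw [hd, hlw', hww'] at h1
    rw [hwl, hll, hw'l] at h2
    rw [hww, hlw, hd'] at h3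
    intro i
    fin_cases i
    · simpa using h1
    · simpa using h2
    · simpa using h3
  let b := basisOfLinearIndependentOfCardEqFinrank hli (by rw [hn, Fintype.card_fin])
  have hb : ∀ i, b i = (![w, l, w'] : Fin 3 → V) i := fun i =>
    congrFun (coe_basisOfLinearIndependentOfCardEqFinrank hli _) i
  refine ⟨b, hb 0, hb 1, hb 2, ?_⟩
  intro i j
  rw [hb, hb]
  (revert i j; simp only [JJ, hww, hwl, hd, hlw, hll, hlw', hd', hw'l, hww', _root_.Fin.forall_fin_succ, _root_.Matrix.of_apply, _root_.Matrix.cons_val', _root_.Matrix.cons_val_fin_one, Fin.isValue, _root_.Matrix.cons_val_zero, _root_.Matrix.cons_val_succ, _root_.forall_const, _root_.and_self, _root_.implies_true])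

end

/-! ### scaling -/

section

variable {F : Type*} [Field F] [Fintype F] {n q : ℕ} {ω : F}

theorem exists_log (hF : Fintype.card F = n + 1) (hω : IsPrimitiveRoot ω n) {x : F} (hx : x ≠ 0) :
    ∃ i < n, ω ^ i = x := by
  have h1 : x ^ n = 1 := by
    have h2 := FiniteField.pow_card_sub_one_eq_one x hx
    rwa [hF, Nat.add_sub_cancel] at h2
  have hn : NeZero n := ⟨by
    rintro rfl
    have h3 : 1 < Fintype.card F := Fintype.one_lt_card
    omega⟩
  exact hω.eq_pow_of_pow_eq_one h1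

theorem scale_norm (hF : Fintype.card F = n + 1) (hω : IsPrimitiveRoot ω n) (hq : 2 ≤ q) (hn : n = (q - 1) * (q + 1))
    {x : F} (hx : x ≠ 0) : ∃ y : F, y ≠ 0 ∧ ∃ k < q + 1, y ^ (q + 1) * x = ω ^ k := by
  obtain ⟨j, -, rfl⟩ := exists_log hF hω hx
  have hω0 : ω ≠ 0 := by
    rintro rfl
    have h1 := hω.pow_eq_one
    rw [zero_pow (by rw [hn]; exact Nat.mul_ne_zero (by omega) (by omega))] at h1
    exact zero_ne_one h1
  refine ⟨ω ^ (j / (q + 1) * (q - 2)), pow_ne_zero _ hω0, j % (q + 1), Nat.mod_lt _ (by omega), ?_⟩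
  obtain ⟨m, rfl⟩ : ∃ m, q = m + 2 := ⟨q - 2, by omega⟩
  have h2 : j / (m + 2 + 1) * (m + 2 - 2) * (m + 2 + 1) + j = n * (j / (m + 2 + 1)) + j % (m + 2 + 1) := by
    conv_lhs => rw [← Nat.div_add_mod j (m + 2 + 1)]
    rw [Nat.mul_add_div (by omega), Nat.div_eq_of_lt (Nat.mod_lt _ (by omega)), add_zero, hn,
      show m + 2 - 2 = m by omega, show m + 2 - 1 = m + 1 by omega]
    ring
  rw [← pow_mul, ← pow_add, h2, pow_add, pow_mul, hω.pow_eq_one, one_pow, one_mul]

theorem scale_unit (hF : Fintype.card F = n + 1) (hω : IsPrimitiveRoot ω n) (hq : 2 ≤ q) (hn : n = (q - 1) * (q + 1))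
    (x : F) : ∃ y : F, y ^ (q + 1) = 1 ∧ ∃ m < q, y * x = ev ω m := by
  by_cases hx : x = 0
  · exact ⟨1, one_pow _, 0, by omega, by rw [hx, mul_zero]; rfl⟩
  obtain ⟨j, -, rfl⟩ := exists_log hF hω hx
  refine ⟨ω ^ ((q - 1) * (j / (q - 1) * q)), ?_, j % (q - 1) + 1, by have := Nat.mod_lt j (show 0 < q - 1 by omega); omega, ?_⟩
  · rw [← pow_mul, show (q - 1) * (j / (q - 1) * q) * (q + 1) = n * (j / (q - 1) * q) by rw [hn]; ring, pow_mul,
      hω.pow_eq_one, one_pow]
  · rw [ev_succ, ← pow_add]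
    have h2 : (q - 1) * (j / (q - 1) * q) + j = n * (j / (q - 1)) + j % (q - 1) := by
      conv_lhs => rw [← Nat.div_add_mod j (q - 1)]
      rw [Nat.mul_add_div (by omega), Nat.div_eq_of_lt (Nat.mod_lt _ (by omega)), add_zero, hn]
      ring
    rw [h2, pow_add, pow_mul, hω.pow_eq_one, one_pow, one_mul]

end

section

variable {F V : Type*} [Field F] [Fintype F] [AddCommGroup V] [Module F V] [FiniteDimensional F V]
  {n q T m1 : ℕ} {σ : F →+* F} {B : V → V → F} {ω : F}

/-- the normalised frame -/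
theorem exists_frame (hB : HS q σ B) (hn : finrank F V = 3) (hF : Fintype.card F = n + 1)
    (hω : IsPrimitiveRoot ω n) (hq : 2 ≤ q) (hnq : n = (q - 1) * (q + 1)) {g : End F V} (hg : Isom B g)
    (hns : ∀ c : F, g ≠ c • (1 : End F V)) :
    ∃ b : Basis (Fin 3) F V, (∀ i j, B (b i) (b j) = JJ F i j) ∧ ∃ k < q + 1, ∃ m < q, g (b 0) = ω ^ k • b 2 ∧
      B (g (b 1)) (b 0) = ev ω m := by
  obtain ⟨w₀, hw₀, hg₀⟩ := Cfsg.Agent.H951.OreU.exists_typeI hB hg hns
  obtain ⟨y, hy0, k, hk, hyk⟩ := scale_norm hF hω hq hnq hg₀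
  have hω0 : ω ≠ 0 := by
    rintro rfl
    have h1 := hω.pow_eq_one
    rw [zero_pow (by rw [hnq]; exact Nat.mul_ne_zero (by omega) (by omega))] at h1
    exact zero_ne_one h1
  have hγ : ω ^ k ≠ 0 := pow_ne_zero _ hω0
  set w := y • w₀ with hw
  have hww : B w w = 0 := by rw [hw, hB.smul_left, hB.smul_right, hw₀, mul_zero, mul_zero]
  have hgw : B (g w) w = ω ^ k := by
    rw [hw, map_smul, hB.smul_left, hB.smul_right, ← hyk, hB.sig, pow_succ]
    ring
  set w' := (ω ^ k)⁻¹ • g w with hw'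
  have hgw' : g w = ω ^ k • w' := by rw [hw', smul_smul, mul_inv_cancel₀ hγ, one_smul]
  have hd : B w w' = 1 := by
    rw [hw', hB.smul_right, hB.symm (g w) w, hgw, ← map_mul, inv_mul_cancel₀ hγ, map_one]
  have hww' : B w' w' = 0 := by
    rw [hw', hB.smul_left, hB.smul_right, hg, hww, mul_zero, mul_zero]
  have hfr : Fr B (fun _ : Unit => w) (fun _ : Unit => w') :=
    ⟨fun _ _ => hww, fun _ _ => by rw [hd, if_pos (Subsingleton.elim _ _)], fun _ _ => hww'⟩
  obtain ⟨l, hl⟩ := exists_FF_odd hB hfr (by rw [hn]; rfl)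
  obtain ⟨z, hz, m, hm, hzm⟩ := scale_unit hF hω hq hnq (B (g (l 0)) w)
  have hzz : z * σ z = 1 := by rw [hB.sig, ← pow_succ', hz]
  obtain ⟨b, hb0, hb1, hb2, hb⟩ := exists_basis hB hn hww hd hww' (l := z • l 0)
    (by rw [hB.smul_left, hB.smul_right, hl.ll, if_pos rfl, mul_one, hzz])
    (by rw [hB.smul_left, hl.lw 0 (), mul_zero]) (by rw [hB.smul_left, hl.lw' 0 (), mul_zero])
  refine ⟨b, hb, k, hk, m, hm, by rw [hb0, hb2, hgw'], ?_⟩
  rw [hb0, hb1, map_smul, hB.smul_left, hzm]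

/-- the trace of a product -/
theorem trace_trc (h : Cd n q T m1 ω) (A : M3) {M : Matrix (Fin 3) (Fin 3) F} {α β ν γ μ ρ : ℕ}
    (h00 : M 0 0 = 0) (h01 : M 0 1 = 0) (h02 : M 0 2 = ev ω α) (h10 : M 1 0 = 0) (h11 : M 1 1 = ev ω β)
    (h12 : M 1 2 = ev ω ν) (h20 : M 2 0 = ev ω γ) (h21 : M 2 1 = ev ω μ) (h22 : M 2 2 = ev ω ρ) :
    (toM ω A * M).trace = ev ω (trc n T A α β ν γ μ ρ) := by
  rw [trc]
  simp only [h.mul, h.add]
  rw [Matrix.trace, Fin.sum_univ_three]
  simp only [Matrix.diag_apply, Matrix.mul_apply, Fin.sum_univ_three, h00, h01, h02, h10, h11, h12, h20, h21, h22,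
    toM, Matrix.of_apply, Matrix.cons_val', Matrix.cons_val_zero, Matrix.cons_val_one, Matrix.cons_val]
  ring

/-- **the small fields** -/
theorem pw_of_chk (hB : HS q σ B) (hn : finrank F V = 3) (hF : Fintype.card F = n + 1)
    (hω : IsPrimitiveRoot ω n) (hq : 2 ≤ q) (hnq : n = (q - 1) * (q + 1)) (h : Cd n q T m1 ω) {S : List ℕ}
    {L : List M3} {N : ℕ} (hc : chk n q T m1 S L = true)
    (hS : (S.all fun t => ch n T t (mulc n m1 (barc n q t)) N 1 0 0) = true) {g : End F V} (hg : Isom B g)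
    (hdet : LinearMap.det g = 1) (hns : ∀ c : F, g ≠ c • (1 : End F V)) : IsPw B N g := by
  obtain ⟨b, hb, k, hk, m, hm, hgk, hgm⟩ := exists_frame hB hn hF hω hq hnq hg hns
  have hω0 : ω ≠ 0 := h.ne
  set M := LinearMap.toMatrix b b g with hMdef
  have hM : Mᵀ * JJ F * M.map σ = JJ F := toMatrix_isom hB b hb hg
  have hMd : M.det = 1 := by rw [hMdef, LinearMap.det_toMatrix, hdet]
  have hcol : ∀ i, M i 0 = ω ^ k * (if i = 2 then 1 else 0) := by
    intro i
    rw [hMdef, LinearMap.toMatrix_apply, hgk, map_smul, Finsupp.smul_apply, Basis.repr_self, Finsupp.single_apply,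
      smul_eq_mul]
    simp only [eq_comm (a := i)]
  have h00 : M 0 0 = 0 := by rw [hcol, if_neg (by decide), mul_zero]
  have h10 : M 1 0 = 0 := by rw [hcol, if_neg (by decide), mul_zero]
  have h20 : M 2 0 = ev ω (k + 1) := by rw [hcol, if_pos rfl, mul_one, ev_succ]
  have h21 : M 2 1 = ev ω m := by
    have h1 := form_eq hB b hb (g (b 1)) (b 0)
    rw [hgm] at h1
    rw [h1, hMdef, LinearMap.toMatrix_apply]
    simp [dotProduct, Matrix.mulVec, Fin.sum_univ_three, JJ]
  obtain ⟨h01, h02, h11, h12, hrel⟩ := normal_form hB.ss h00 h10 (by rw [h20, ev_succ]; exact pow_ne_zero _ hω0) hM hMd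
  obtain ⟨r, hr, hr22⟩ : ∃ r < n + 1, M 2 2 = ev ω r := by
    by_cases h0 : M 2 2 = 0
    · exact ⟨0, by omega, h0⟩
    · obtain ⟨i, hi, hi'⟩ := exists_log hF hω h0
      exact ⟨i + 1, by omega, hi'.symm⟩
  -- the certificate
  rw [chk, Bool.and_eq_true] at hc
  obtain ⟨hc1, hc2⟩ := hc
  rw [List.all_eq_true] at hc1 hc2
  have hc3 := hc2 k (List.mem_range.2 hk)
  rw [List.all_eq_true] at hc3
  have hc4 := hc3 m (List.mem_range.2 hm)
  rw [List.all_eq_true] at hc4
  have hc5 := hc4 r (List.mem_range.2 hr)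
  simp only [Bool.or_eq_true, Bool.not_eq_true'] at hc5
  have hcond : addc n T (addc n T (mulc n (k + 1) (barc n q r)) (mulc n (barc n q (k + 1)) r))
      (mulc n m (barc n q m)) = 0 := by
    apply h.ev_eq_zero
    rw [h.add, h.add, h.mul, h.mul, h.mul, h.bar, h.bar, h.bar, ← h20, ← hr22, ← h21, ← hB.sig, ← hB.sig, ← hB.sig]
    exact hrel
  have hc6 : (L.any fun B => S.elem (trc n T B (barc n (n - 1) (barc n q (k + 1)))
      (mulc n m1 (mulc n (barc n q (k + 1)) (barc n (n - 1) (k + 1)))) (mulc n (barc n q m) (barc n (n - 1) (k + 1)))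
      (k + 1) m r)) = true := by
    rcases hc5 with h1 | h1
    · exfalso
      rw [hcond] at h1
      revert h1
      decide
    · exact h1
  obtain ⟨A, hAL, hA⟩ := List.any_eq_true.1 hc6
  have hA1 := hc1 A hAL
  rw [Bool.and_eq_true, Bool.and_eq_true, decide_eq_true_eq, Nat.beq_eq, List.elem_eq_mem, decide_eq_true_eq] at hA1
  rw [List.elem_eq_mem, decide_eq_true_eq] at hA
  obtain ⟨hAu, hAd, hAt⟩ := hA1
  -- the matrix `A`
  have hAu' : (toM ω A)ᵀ * JJ F * (toM ω A).map σ = JJ F := by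
    have h1 := congrArg (toM ω) hAu
    rwa [h.mul3, h.mul3, toM_tr3, toM_J3, h.bar3 hB.sig] at h1
  have hAd' : (toM ω A).det = 1 := by rw [← h.det3, hAd, ev_one]
  have hAN : (toM ω A) ^ N = 1 := by
    refine pow_eq_one h hB.sig hB.ss hS hAu' hAd' hAt ?_
    rw [h.add, h.add, Matrix.trace, Fin.sum_univ_three]
    simp only [Matrix.diag_apply, toM, Matrix.of_apply, Matrix.cons_val', Matrix.cons_val_zero, Matrix.cons_val_one,
      Matrix.cons_val]
    ring
  have hiv : ∀ x : F, ∀ i, x = ev ω (i + 1) → x⁻¹ = ev ω (barc n (n - 1) (i + 1)) := by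
    rintro x i rfl
    rw [h.inv']
  have hgi : (M 2 0)⁻¹ = ev ω (barc n (n - 1) (k + 1)) := hiv _ _ h20
  have hgb : σ (M 2 0) = ev ω (barc n q (k + 1)) := by rw [hB.sig, h20, h.bar]
  have hgbi : (σ (M 2 0))⁻¹ = ev ω (barc n (n - 1) (barc n q (k + 1))) := by
    rw [hgb, barc]
    rw [h.inv']
  have htr : (toM ω A * M).trace = ev ω (trc n T A (barc n (n - 1) (barc n q (k + 1)))
      (mulc n m1 (mulc n (barc n q (k + 1)) (barc n (n - 1) (k + 1)))) (mulc n (barc n q m) (barc n (n - 1) (k + 1)))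
      (k + 1) m r) := by
    refine trace_trc h A h00 h01 (by rw [h02, hgbi]) h10 ?_ ?_ h20 h21 hr22
    · rw [h11, hgi, hgb, h.mul, h.mul, h.neg]
      ring
    · rw [h12, hgi, h21, hB.sig, h.mul, h.bar]
  have hAMu : (toM ω A * M)ᵀ * JJ F * (toM ω A * M).map σ = JJ F := by
    rw [Matrix.transpose_mul, Matrix.map_mul]
    calc Mᵀ * (toM ω A)ᵀ * JJ F * ((toM ω A).map σ * M.map σ) =
        Mᵀ * ((toM ω A)ᵀ * JJ F * (toM ω A).map σ) * M.map σ := by simp only [Matrix.mul_assoc]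
      _ = JJ F := by rw [hAu', hM]
  have hAMN : (toM ω A * M) ^ N = 1 :=
    pow_eq_one h hB.sig hB.ss hS hAMu (by rw [Matrix.det_mul, hAd', hMd, one_mul]) hA htr
  -- the isometries
  have hpow : ∀ (X : Matrix (Fin 3) (Fin 3) F), X ^ N = 1 → (Matrix.toLin b b X) ^ N = 1 := by
    intro X hX
    have h1 : ∀ j : ℕ, (Matrix.toLin b b X) ^ j = Matrix.toLin b b (X ^ j) := by
      intro j
      induction j with
      | zero => rw [pow_zero, pow_zero, Matrix.toLin_one]; rfl
      | succ j ih => rw [pow_succ, ih, pow_succ, Matrix.toLin_mul b b b]; rfl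
    rw [h1, hX, Matrix.toLin_one]
    rfl
  have hai : Isom B (Matrix.toLin b b (toM ω A)) := isom_toLin hB b hb hAu'
  set a : V ≃ₗ[F] V := LinearEquiv.ofInjectiveEndo _ (Isom.inj' hB hai) with ha
  set G : V ≃ₗ[F] V := LinearEquiv.ofInjectiveEndo g (Isom.inj' hB hg) with hG
  have ha0 : (a : V →ₗ[F] V) = Matrix.toLin b b (toM ω A) := by ext v; rfl
  have hG0 : (G : V →ₗ[F] V) = g := by ext v; rfl
  have ham : a ∈ SGr B := mem_SGr.2 ⟨hai, by rw [ha0, LinearMap.det_toLin, hAd']⟩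
  have hGm : G ∈ SGr B := mem_SGr.2 ⟨hg, by rw [hG0, hdet]⟩
  have hcoe : ∀ (x : V ≃ₗ[F] V) (j : ℕ), ((x ^ j : V ≃ₗ[F] V) : V →ₗ[F] V) = (x : Module.End F V) ^ j := by
    intro x j
    induction j with
    | zero => rfl
    | succ j ih => rw [pow_succ, pow_succ, ← ih]; rfl
  have hord : ∀ x : V ≃ₗ[F] V, (x : Module.End F V) ^ N = 1 → orderOf x ∣ N ^ 1 := by
    intro x hx
    rw [pow_one, orderOf_dvd_iff_pow_eq_one]
    apply LinearEquiv.toLinearMap_injective
    refine (hcoe x N).trans (hx.trans ?_)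
    rfl
  have haG : ((a * G : V ≃ₗ[F] V) : V →ₗ[F] V) = Matrix.toLin b b (toM ω A * M) := by
    rw [Matrix.toLin_mul b b b, hMdef, Matrix.toLin_toMatrix, ← ha0]
    rfl
  refine ⟨a⁻¹, a * G, (SGr B).inv_mem ham, (SGr B).mul_mem ham hGm, ⟨1, ?_⟩, ⟨1, ?_⟩, ?_⟩
  · rw [orderOf_inv]
    apply hord
    rw [ha0]
    exact hpow _ hAN
  · apply hord
    rw [haG]
    exact hpow _ hAMN
  · intro v
    rw [← LinearEquiv.mul_apply, inv_mul_cancel_left]
    rfl

end

end Cfsg.Agent.H876.PwU3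
end

-- part: H876/PwU3/Field
section
/-!
# The fields with `9`, `16` and `81` elements (helper876)

`ω ^ d = 1 + ω`, `d = 2, 4, 4`; `vs d r k` is the vector of coordinates of `ω ^ k`.
-/

set_option autoImplicit false
set_option maxRecDepth 100000

namespace Cfsg.Agent.H876.PwU3

open Module Polynomial Cfsg.Agent.H951 Cfsg.Agent.H98.Ore Cfsg.Agent.H700.PwU

/-- multiplication by `ω`, where `ω ^ d = 1 + ω` (`d = 2` or `4`) -/
def stp (d r : ℕ) : ℕ × ℕ × ℕ × ℕ → ℕ × ℕ × ℕ × ℕ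
  | (a, b, c, e) => if d = 2 then (b, (a + b) % r, 0, 0) else (e, (a + e) % r, b, c)

/-- the coordinates of `ω ^ k` -/
def vs (d r : ℕ) : ℕ → ℕ × ℕ × ℕ × ℕ
  | 0 => (1, 0, 0, 0)
  | k + 1 => stp d r (vs d r k)

/-- the value -/
def val {R : Type*} [CommRing R] (ω : R) (v : ℕ × ℕ × ℕ × ℕ) : R :=
  (v.1 : R) + (v.2.1 : R) * ω + (v.2.2.1 : R) * ω ^ 2 + (v.2.2.2 : R) * ω ^ 3

theorem cast_mod {R : Type*} [CommRing R] {r : ℕ} (hr : (r : R) = 0) (a : ℕ) : ((a % r : ℕ) : R) = a := by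
  conv_rhs => rw [← Nat.div_add_mod a r]
  rw [Nat.cast_add, Nat.cast_mul, hr, zero_mul, zero_add]

theorem vs_zero {r : ℕ} : ∀ k, (vs 2 r k).2.2.1 = 0 ∧ (vs 2 r k).2.2.2 = 0
  | 0 => ⟨rfl, rfl⟩
  | k + 1 => by
    rw [vs, stp, if_pos rfl]
    exact ⟨rfl, rfl⟩

theorem val_vs {R : Type*} [CommRing R] {r d : ℕ} (hr : (r : R) = 0) (hd : d = 2 ∨ d = 4) {ω : R}
    (hω : ω ^ d = 1 + ω) (k : ℕ) : val ω (vs d r k) = ω ^ k := by
  induction k with
  | zero => simp only [vs, val, _root_.Nat.cast_one, _root_.Nat.cast_zero, _root_.MulZeroClass.zero_mul, _root_.add_zero, _root_.pow_zero]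
  | succ k ih =>
    rw [pow_succ, ← ih, vs, stp, val, val]
    rcases hd with rfl | rfl
    · rw [if_pos rfl, (vs_zero k).1, (vs_zero k).2]
      simp only [cast_mod hr, Nat.cast_zero, Nat.cast_add]
      linear_combination (-((vs 2 r k).2.1 : R)) * hω
    · rw [if_neg (by norm_num)]
      simp only [cast_mod hr, Nat.cast_add]
      linear_combination (-((vs 4 r k).2.2.2 : R)) * hω

/-- the check of the table of Zech logarithms -/
def zchk (d r n T : ℕ) : Bool :=
  (List.range n).all fun k =>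
    match zt T k with
    | 0 => decide (((vs d r k).1 + 1) % r = 0) && decide ((vs d r k).2 = (0, 0, 0))
    | j + 1 => decide (((vs d r k).1 + 1) % r = (vs d r j).1) && decide ((vs d r k).2 = (vs d r j).2)

theorem zchk_sound {F : Type*} [Field F] {r d n T : ℕ} (hr : (r : F) = 0) (hd : d = 2 ∨ d = 4) {ω : F}
    (hω : ω ^ d = 1 + ω) (h : zchk d r n T = true) (k : ℕ) (hk : k < n) : 1 + ω ^ k = ev ω (zt T k) := by
  have h1 := List.all_eq_true.1 h k (List.mem_range.2 hk)
  rcases hz : zt T k with _ | j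
  · simp only [hz, Bool.and_eq_true, decide_eq_true_eq] at h1
    rw [← val_vs hr hd hω k, val, ev_zero, h1.2]
    have h2 := cast_mod hr ((vs d r k).1 + 1)
    rw [h1.1, Nat.cast_add, Nat.cast_zero, Nat.cast_one] at h2
    simp only [Nat.cast_zero]
    linear_combination -h2
  · simp only [hz, Bool.and_eq_true, decide_eq_true_eq] at h1
    rw [← val_vs hr hd hω k, ev_succ, ← val_vs hr hd hω j, val, val, h1.2]
    have h2 := cast_mod hr ((vs d r k).1 + 1)
    rw [h1.1, Nat.cast_add, Nat.cast_one] at h2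
    linear_combination -h2

/-- the polynomial `X ^ d - X - 1` has a root -/
theorem exists_root {F : Type*} [Field F] [Fintype F] {r d n : ℕ} [Fact r.Prime] [CharP F r]
    (hd : d = 2 ∨ d = 4) (hF : Fintype.card F = n + 1) (hv : vs d r n = (1, 0, 0, 0)) :
    ∃ ω : F, ω ^ d = 1 + ω := by
  let _ : Algebra (ZMod r) F := ZMod.algebra F r
  set p : (ZMod r)[X] := X ^ d - X - 1 with hp
  have hd1 : (X + C (1 : ZMod r)).degree < (d : WithBot ℕ) := by
    refine (Polynomial.degree_X_add_C (1 : ZMod r)).trans_lt ?_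
    rcases hd with rfl | rfl <;> norm_num
  have hpm : p.Monic := by
    rw [hp, sub_sub, add_comm, ← C_1, add_comm]
    exact Polynomial.monic_X_pow_sub hd1
  have hpd : p.natDegree = d := by
    rw [hp, sub_sub, ← C_1]
    apply Polynomial.natDegree_eq_of_degree_eq_some
    rw [Polynomial.degree_sub_eq_left_of_degree_lt (by rwa [Polynomial.degree_X_pow]), Polynomial.degree_X_pow]
  have hdvd : p ∣ X ^ n - 1 := by
    rw [← AdjoinRoot.mk_eq_zero]
    have hr0 : ((r : ℕ) : AdjoinRoot p) = 0 := by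
      rw [← map_natCast (AdjoinRoot.of p) r, ZMod.natCast_self, map_zero]
    have h1 : (AdjoinRoot.root p) ^ d = 1 + AdjoinRoot.root p := by
      have h2 : AdjoinRoot.mk p (X ^ d - X - 1) = 0 := AdjoinRoot.mk_self
      rw [map_sub, map_sub, map_pow, AdjoinRoot.mk_X, map_one] at h2
      linear_combination h2
    have h3 := val_vs hr0 hd h1 n
    rw [hv, val] at h3
    rw [map_sub, map_pow, AdjoinRoot.mk_X, map_one, ← h3]
    simp only [_root_.Nat.cast_one, _root_.Nat.cast_zero, _root_.MulZeroClass.zero_mul, _root_.add_zero, _root_.sub_self]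
  set P : F[X] := p.map (algebraMap (ZMod r) F) with hP
  have hPd : P.natDegree = d := by rw [hP, hpm.natDegree_map, hpd]
  have hPQ : P ∣ X ^ Fintype.card F - X := by
    have h1 : P ∣ X ^ n - 1 := by
      have h2 := Polynomial.map_dvd (algebraMap (ZMod r) F) hdvd
      simpa only [_root_.Polynomial.map_sub, _root_.Polynomial.map_pow, _root_.Polynomial.map_X, _root_.Polynomial.map_one] using h2
    have h2 : (X ^ Fintype.card F - X : F[X]) = (X ^ n - 1) * X := by
      rw [hF, pow_succ]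
      ring
    rw [h2]
    exact h1.mul_right X
  obtain ⟨H, hH⟩ := hPQ
  have hcard : 1 < Fintype.card F := Fintype.one_lt_card
  have hQ0 : (X ^ Fintype.card F - X : F[X]) ≠ 0 := FiniteField.X_pow_card_sub_X_ne_zero F hcard
  have hPH : P * H ≠ 0 := by rw [← hH]; exact hQ0
  have hroots := FiniteField.roots_X_pow_card_sub_X F
  have hdeg : (X ^ Fintype.card F - X : F[X]).natDegree = Fintype.card F :=
    FiniteField.X_pow_card_sub_X_natDegree_eq F hcard
  by_contra hcon
  push Not at hcon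
  have hPr : P.roots = 0 := by
    rw [Multiset.eq_zero_iff_forall_notMem]
    intro x hx
    have h1 := (Polynomial.mem_roots'.1 hx).2
    rw [Polynomial.IsRoot, hP, hp] at h1
    simp only [_root_.Polynomial.map_sub, _root_.Polynomial.map_pow, _root_.Polynomial.map_X, _root_.Polynomial.map_one, _root_.Polynomial.eval_sub, _root_.Polynomial.eval_pow, _root_.Polynomial.eval_X, _root_.Polynomial.eval_one] at h1
    exact hcon x (by linear_combination h1)
  rw [hH, Polynomial.roots_mul hPH, hPr, zero_add] at hroots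
  have h1 : Fintype.card F ≤ H.natDegree := by
    have h2 := Polynomial.card_roots' H
    rw [hroots] at h2
    exact h2
  rw [hH, Polynomial.natDegree_mul (left_ne_zero_of_mul hPH) (right_ne_zero_of_mul hPH), hPd] at hdeg
  omega

/-- the order of `ω` -/
theorem isPrimitive {F : Type*} [Field F] {n q T m1 : ℕ} {ω : F} (h : Cd n q T m1 ω)
    (hn : ∀ l : ℕ, l.Prime → l ∣ n → ∃ j < n, zt T j = n / l + 1) : IsPrimitiveRoot ω n := by
  rw [IsPrimitiveRoot.iff_orderOf]
  apply orderOf_eq_of_pow_and_pow_div_prime h.npos h.pow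
  intro l hl hln h1
  obtain ⟨j, hj, hz⟩ := hn l hl hln
  have h2 := h.z j hj
  rw [hz, ev_succ, h1] at h2
  have h3 : ω ^ j = 0 := by linear_combination h2
  exact pow_ne_zero _ h.ne h3

/-- the data of a small field -/
theorem exists_cd {F : Type*} [Field F] [Fintype F] {r d n q T m1 : ℕ} [Fact r.Prime] [CharP F r]
    (hd : d = 2 ∨ d = 4) (hF : Fintype.card F = n + 1) (hv : vs d r n = (1, 0, 0, 0)) (hz : zchk d r n T = true)
    (hn0 : 0 < n) (hq0 : 0 < q) (hm : ∃ j < n, zt T j = 0 ∧ m1 = j + 1)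
    (hn : ∀ l : ℕ, l.Prime → l ∣ n → ∃ j < n, zt T j = n / l + 1) :
    ∃ ω : F, Cd n q T m1 ω ∧ IsPrimitiveRoot ω n := by
  obtain ⟨ω, hω⟩ := exists_root (F := F) hd hF hv
  have hr : (r : F) = 0 := CharP.cast_eq_zero F r
  have h1 : Cd n q T m1 ω := by
    refine ⟨hn0, hq0, ?_, zchk_sound hr hd hω hz, ?_⟩
    · rw [← val_vs hr hd hω n, hv, val]
      simp
    · obtain ⟨j, hj, hj0, rfl⟩ := hm
      have h2 := zchk_sound hr hd hω hz j hj
      rw [hj0, ev_zero] at h2
      rw [ev_succ]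
      linear_combination h2
  exact ⟨ω, h1, isPrimitive h1 hn⟩

/-- Zech logarithms of the field with `9` elements, `ω ^ 2 = 1 + ω` -/
def T3 : ℕ := 0x206040007080305

/-- traces of the elements of order 7 -/
def S3 : List ℕ := [6, 8]

/-- the matrices -/
def L3 : List M3 := [⟨8, 1, 4, 7, 1, 1, 3, 0, 5⟩, ⟨7, 3, 6, 2, 7, 0, 3, 5, 8⟩, ⟨3, 3, 3, 3, 2, 8, 3, 8, 4⟩, ⟨3, 0, 1, 8, 5, 6, 7, 8, 2⟩]

private noncomputable def mulR (n i j : ℕ) : ℕ :=
  Nat.rec 0 (fun a _ => Nat.rec 0 (fun b _ => Nat.succ (Nat.mod (Nat.add a b) n)) j) i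

private noncomputable def addR (n T i j : ℕ) : ℕ :=
  Nat.rec j (fun a _ => Nat.rec (Nat.succ a) (fun b _ => Nat.rec 0 (fun c _ => Nat.succ (Nat.mod (Nat.add a c) n))
    (Nat.mod (Nat.shiftRight T (Nat.mul 8 (Nat.mod (Nat.add b (Nat.mul (Nat.sub n 1) a)) n))) 256)) j) i

private noncomputable def barR (n q i : ℕ) : ℕ := Nat.rec 0 (fun a _ => Nat.succ (Nat.mod (Nat.mul a q) n)) i

private noncomputable def elR (x : ℕ) (S : List ℕ) : Bool :=
  List.rec false (fun a _ ih => Bool.rec ih true (Nat.beq x a)) S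

private theorem mulR_eq : mulc = mulR := by
  funext n i j
  cases i <;> cases j <;> rfl

private theorem addR_eq : addc = addR := by
  funext n T i j
  rcases i with _ | i
  · rfl
  rcases j with _ | j
  · rfl
  rw [addc, mulR_eq]
  rfl

private theorem barR_eq : barc = barR := by
  funext n q i
  cases i <;> rfl

private theorem elR_eq (x : ℕ) (S : List ℕ) : S.elem x = elR x S := by
  induction S with
  | nil => rfl
  | cons a S ih =>
    rw [List.elem_cons, ih]
    change _ = Bool.rec (motive := fun _ => Bool) (elR x S) true (Nat.beq x a)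
    by_cases h : x = a
    · rw [beq_iff_eq.2 h, h, Nat.beq_refl]
    · rw [beq_eq_false_iff_ne.2 h, Bool.eq_false_iff.2 fun h1 => h (Nat.eq_of_beq_eq_true h1)]

theorem chk3 : chk 8 3 T3 5 S3 L3 = true := by decide +kernel

theorem chs3 : (S3.all fun t => ch 8 T3 t (mulc 8 5 (barc 8 3 t)) 7 1 0 0) = true := by decide +kernel

/-- Zech logarithms of the field with `16` elements, `ω ^ 4 = 1 + ω` -/
def T4 : ℕ := 0x4070c0d0608030a0e0b020f090500

/-- traces of the elements of order 13 -/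
def S4 : List ℕ := [8, 12, 14, 15]

/-- the matrices -/
def L4 : List M3 := [⟨10, 11, 1, 13, 2, 10, 12, 9, 5⟩, ⟨15, 7, 9, 15, 5, 2, 2, 10, 5⟩, ⟨1, 3, 12, 6, 10, 11, 4, 0, 9⟩, ⟨8, 7, 11, 11, 6, 15, 9, 5, 5⟩, ⟨13, 12, 10, 11, 6, 13, 5, 9, 11⟩]

theorem chk4 : chk 15 4 T4 1 S4 L4 = true := by decide +kernel

theorem chs4 : (S4.all fun t => ch 15 T4 t (mulc 15 1 (barc 15 4 t)) 13 1 0 0) = true := by decide +kernel

/-- Zech logarithms of the field with `81` elements, `ω ^ 4 = 1 + ω` -/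
def T9 : ℕ := 0x4170a321643110c1c3d4c44202e402b3027240b314a03223f09022c2115260f42344b2a28120e0035384d4e1e06132f45333e481d23083a1a10461f3739413b4f3c2d500747251418491b360d190529

/-- traces of the elements of order 73 -/
def S9 : List ℕ := [3, 5, 7, 8, 13, 15, 18, 19, 22, 29, 30, 37, 43, 47, 52, 54, 55, 59, 60, 64, 72, 74, 78, 80]

/-- the matrices -/
def L9 : List M3 := [⟨60, 52, 6, 22, 62, 64, 80, 46, 9⟩, ⟨12, 11, 23, 28, 65, 43, 38, 6, 45⟩, ⟨1, 14, 77, 32, 42, 48, 69, 24, 48⟩, ⟨6, 2, 46, 10, 35, 71, 46, 63, 39⟩, ⟨31, 11, 54, 74, 2, 70, 44, 77, 3⟩, ⟨62, 65, 33, 56, 29, 64, 80, 14, 6⟩, ⟨36, 23, 15, 42, 28, 46, 10, 70, 79⟩, ⟨79, 36, 70, 16, 52, 75, 9, 9, 38⟩, ⟨37, 7, 39, 46, 34, 54, 47, 33, 50⟩]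

theorem chk9 : chk 80 9 T9 41 S9 L9 = true := by
  unfold chk trc
  simp only [elR_eq]
  rw [mulR_eq, addR_eq, barR_eq]
  decide +kernel

theorem chs9 : (S9.all fun t => ch 80 T9 t (mulc 80 41 (barc 80 9 t)) 73 1 0 0) = true := by decide +kernel

section

variable {F V : Type*} [Field F] [Fintype F] [AddCommGroup V] [Module F V] [FiniteDimensional F V]
  {q : ℕ} {σ : F →+* F} {B : V → V → F}

theorem pw_three_three (hB : HS 3 σ B) (hn : finrank F V = 3) {g : End F V} (hg : Isom B g)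
    (hdet : LinearMap.det g = 1) (hns : ∀ c : F, g ≠ c • (1 : End F V)) : IsPw B 7 g := by
  have hF : Fintype.card F = 3 ^ 2 := hB.card
  have hr : Fact (Nat.Prime 3) := ⟨by norm_num⟩
  have hc : CharP F 3 := charP_of_card_eq_prime_pow hF
  obtain ⟨ω, h1, h2⟩ := exists_cd (F := F) (r := 3) (d := 2) (n := 8) (q := 3) (T := T3) (m1 := 5) (Or.inl rfl)
    (by rw [hF]; norm_num) (by decide +kernel) (by decide +kernel) (by norm_num) (by norm_num)
    ⟨4, by norm_num, by decide +kernel, rfl⟩ (by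
      intro l hl hln
      have h3 : l ∣ 2 ^ 3 := hln
      have h4 : l = 2 := (Nat.prime_dvd_prime_iff_eq hl Nat.prime_two).1 (hl.dvd_of_dvd_pow h3)
      subst h4
      exact ⟨0, by norm_num, by decide +kernel⟩)
  exact pw_of_chk hB hn (by rw [hF]; norm_num) h2 (by norm_num) (by norm_num) h1 chk3 chs3 hg hdet hns

theorem pw_three_four (hB : HS 4 σ B) (hn : finrank F V = 3) {g : End F V} (hg : Isom B g)
    (hdet : LinearMap.det g = 1) (hns : ∀ c : F, g ≠ c • (1 : End F V)) : IsPw B 13 g := by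
  have hF : Fintype.card F = 2 ^ 4 := by rw [hB.card]; norm_num
  have hr : Fact (Nat.Prime 2) := ⟨by norm_num⟩
  have hc : CharP F 2 := charP_of_card_eq_prime_pow hF
  obtain ⟨ω, h1, h2⟩ := exists_cd (F := F) (r := 2) (d := 4) (n := 15) (q := 4) (T := T4) (m1 := 1) (Or.inr rfl)
    (by rw [hF]; norm_num) (by decide +kernel) (by decide +kernel) (by norm_num) (by norm_num)
    ⟨0, by norm_num, by decide +kernel, rfl⟩ (by
      intro l hl hln
      have h3 : l ∣ 3 * 5 := hln
      rcases (hl.dvd_mul).1 h3 with h4 | h4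
      · have h5 : l = 3 := (Nat.prime_dvd_prime_iff_eq hl (by norm_num)).1 h4
        subst h5
        exact ⟨10, by norm_num, by decide +kernel⟩
      · have h5 : l = 5 := (Nat.prime_dvd_prime_iff_eq hl (by norm_num)).1 h4
        subst h5
        exact ⟨14, by norm_num, by decide +kernel⟩)
  exact pw_of_chk hB hn (by rw [hF]; norm_num) h2 (by norm_num) (by norm_num) h1 chk4 chs4 hg hdet hns

theorem pw_three_nine (hB : HS 9 σ B) (hn : finrank F V = 3) {g : End F V} (hg : Isom B g)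
    (hdet : LinearMap.det g = 1) (hns : ∀ c : F, g ≠ c • (1 : End F V)) : IsPw B 73 g := by
  have hF : Fintype.card F = 3 ^ 4 := by rw [hB.card]; norm_num
  have hr : Fact (Nat.Prime 3) := ⟨by norm_num⟩
  have hc : CharP F 3 := charP_of_card_eq_prime_pow hF
  obtain ⟨ω, h1, h2⟩ := exists_cd (F := F) (r := 3) (d := 4) (n := 80) (q := 9) (T := T9) (m1 := 41) (Or.inr rfl)
    (by rw [hF]; norm_num) (by decide +kernel) (by decide +kernel) (by norm_num) (by norm_num)
    ⟨40, by norm_num, by decide +kernel, rfl⟩ (by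
      intro l hl hln
      have h3 : l ∣ 2 ^ 4 * 5 := hln
      rcases (hl.dvd_mul).1 h3 with h4 | h4
      · have h5 : l = 2 := (Nat.prime_dvd_prime_iff_eq hl Nat.prime_two).1 (hl.dvd_of_dvd_pow h4)
        subst h5
        exact ⟨0, by norm_num, by decide +kernel⟩
      · have h5 : l = 5 := (Nat.prime_dvd_prime_iff_eq hl (by norm_num)).1 h4
        subst h5
        exact ⟨73, by norm_num, by decide +kernel⟩)
  exact pw_of_chk hB hn (by rw [hF]; norm_num) h2 (by norm_num) (by norm_num) h1 chk9 chs9 hg hdet hns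

end

end Cfsg.Agent.H876.PwU3
end

-- part: H876/PwU3/Row
section
/-!
# S2465: the row `PSU_3(q)` (helper876)
-/

set_option autoImplicit false

namespace Cfsg.Agent.H876.PwU3

open Module Cfsg.Agent.H951 Cfsg.Agent.H98.Ore Cfsg.Agent.H700.PwU Cfsg.Agent.H78.Pw
open Cfsg.Agent.H514.DP (PW PE IsPE)

/-- from isometries to `SU_n(q)` -/
theorem su_of_isPw {F : Type*} [Field F] [Fintype F] {n q l : ℕ} (g : Cfsg.SU n F q)
    (h : IsPw (Cfsg.hermForm n F q) l (Matrix.toLin' ((g : Matrix.SpecialLinearGroup (Fin n) F) : Matrix (Fin n) (Fin n) F))) :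
    ∃ a b : Cfsg.SU n F q, g = a * b ∧ (∃ c, orderOf a ∣ l ^ c) ∧ ∃ c, orderOf b ∣ l ^ c := by
  obtain ⟨z, h, hz, hh, ⟨c, hc⟩, ⟨d, hd⟩, heq⟩ := h
  have e1 : ∀ x y : Cfsg.SU n F q, Matrix.toLin' (((x * y : Cfsg.SU n F q) : Matrix.SpecialLinearGroup (Fin n) F) :
      Matrix (Fin n) (Fin n) F) = Matrix.toLin' ((x : Matrix.SpecialLinearGroup (Fin n) F) : Matrix (Fin n) (Fin n) F) *
        Matrix.toLin' ((y : Matrix.SpecialLinearGroup (Fin n) F) : Matrix (Fin n) (Fin n) F) := by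
    intro x y
    rw [Module.End.mul_eq_comp, ← Matrix.toLin'_mul]
    rfl
  have e2 : ∀ (x : Cfsg.SU n F q) (k : ℕ), Matrix.toLin' (((x ^ k : Cfsg.SU n F q) :
      Matrix.SpecialLinearGroup (Fin n) F) : Matrix (Fin n) (Fin n) F) =
        Matrix.toLin' ((x : Matrix.SpecialLinearGroup (Fin n) F) : Matrix (Fin n) (Fin n) F) ^ k := by
    intro x k
    induction k with
    | zero =>
      rw [pow_zero, pow_zero]
      exact Matrix.toLin'_one
    | succ k ih => rw [pow_succ, e1, ih, pow_succ]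
  have hmk : ∀ x : (Fin n → F) ≃ₗ[F] (Fin n → F), x ∈ Cfsg.Agent.H98.Ore.SGr (Cfsg.hermForm n F q) →
      ∃ y : Cfsg.SU n F q, Matrix.toLin' ((y : Matrix.SpecialLinearGroup (Fin n) F) : Matrix (Fin n) (Fin n) F) =
        (x : (Fin n → F) →ₗ[F] (Fin n → F)) ∧ orderOf y ∣ orderOf x := by
    intro x hx
    obtain ⟨hx1, hxd⟩ := Cfsg.Agent.H98.Ore.mem_SGr.1 hx
    let y₀ : Matrix.SpecialLinearGroup (Fin n) F := ⟨LinearMap.toMatrix' (x : (Fin n → F) →ₗ[F] (Fin n → F)), by
      rw [LinearMap.det_toMatrix', hxd]⟩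
    have h1 : Matrix.toLin' (y₀ : Matrix (Fin n) (Fin n) F) = (x : (Fin n → F) →ₗ[F] (Fin n → F)) :=
      Matrix.toLin'_toMatrix' _
    refine ⟨⟨y₀, Cfsg.Agent.H950.mem_SU_of_isom (by rw [h1]; exact hx1)⟩, h1, ?_⟩
    rw [orderOf_dvd_iff_pow_eq_one]
    apply Subtype.ext
    apply Subtype.ext
    apply Matrix.toLin'.injective
    refine (e2 _ _).trans ?_
    rw [h1]
    have h2 : ∀ k : ℕ, ((x : (Fin n → F) →ₗ[F] (Fin n → F)) : Module.End F (Fin n → F)) ^ k =
        ((x ^ k : (Fin n → F) ≃ₗ[F] (Fin n → F)) : (Fin n → F) →ₗ[F] (Fin n → F)) := by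
      intro k
      induction k with
      | zero => rfl
      | succ k ih => rw [pow_succ, ih, pow_succ]; rfl
    refine (h2 _).trans ?_
    rw [pow_orderOf_eq_one]
    exact Matrix.toLin'_one.symm
  obtain ⟨a, ha, ha'⟩ := hmk z hz
  obtain ⟨b, hb, hb'⟩ := hmk h hh
  refine ⟨a, b, ?_, ⟨c, ha'.trans hc⟩, ⟨d, hb'.trans hd⟩⟩
  apply Subtype.ext
  apply Subtype.ext
  apply Matrix.toLin'.injective
  refine Eq.trans ?_ (e1 a b).symm
  rw [ha, hb]
  apply LinearMap.ext
  intro v
  exact heq v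

/-- from nonscalar isometries of dimension three to `PSU_3(q)` -/
theorem all_of_isPw {F : Type*} [Field F] [Fintype F] {q N : ℕ}
    (h : ∀ g : Module.End F (Fin 3 → F), Isom (Cfsg.hermForm 3 F q) g → LinearMap.det g = 1 →
      (∀ c : F, g ≠ c • (1 : Module.End F (Fin 3 → F))) → ∃ l : ℕ, l.Coprime N ∧ IsPw (Cfsg.hermForm 3 F q) l g) :
    All N (Cfsg.PSU 3 F q) := by
  intro g
  obtain ⟨x, rfl⟩ := QuotientGroup.mk_surjective g
  by_cases hs : ∃ c : F, Matrix.toLin' ((x : Matrix.SpecialLinearGroup (Fin 3) F) : Matrix (Fin 3) (Fin 3) F) =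
      c • (1 : Module.End F (Fin 3 → F))
  · obtain ⟨c, hc⟩ := hs
    have hx : x ∈ Subgroup.center (Cfsg.SU 3 F q) := by
      rw [Subgroup.mem_center_iff]
      intro y
      apply Subtype.ext
      apply Subtype.ext
      apply Matrix.toLin'.injective
      have e1 : ∀ x y : Cfsg.SU 3 F q, Matrix.toLin' (((x * y : Cfsg.SU 3 F q) :
          Matrix.SpecialLinearGroup (Fin 3) F) : Matrix (Fin 3) (Fin 3) F) =
          Matrix.toLin' ((x : Matrix.SpecialLinearGroup (Fin 3) F) : Matrix (Fin 3) (Fin 3) F) *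
            Matrix.toLin' ((y : Matrix.SpecialLinearGroup (Fin 3) F) : Matrix (Fin 3) (Fin 3) F) := by
        intro x y
        rw [Module.End.mul_eq_comp, ← Matrix.toLin'_mul]
        rfl
      refine (e1 y x).trans ((e1 x y).trans ?_).symm
      rw [hc, smul_mul_assoc, one_mul, mul_smul_comm, mul_one]
    rw [show (QuotientGroup.mk x : Cfsg.PSU 3 F q) = 1 from (QuotientGroup.eq_one_iff x).2 hx]
    exact Pr.one N
  · push Not at hs
    have hdet : LinearMap.det (Matrix.toLin' ((x : Matrix.SpecialLinearGroup (Fin 3) F) :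
        Matrix (Fin 3) (Fin 3) F)) = 1 := by
      rw [LinearMap.det_toLin']
      exact x.1.2
    obtain ⟨l, hl, hpw⟩ := h _ (Cfsg.Agent.H950.isom_of_SU x.2) hdet hs
    obtain ⟨a, b, hab, ⟨c, hc⟩, d, hd⟩ := su_of_isPw x hpw
    have h1 : Pr N x := ⟨a, b, hab, Nat.Coprime.of_dvd_left hc (hl.pow_left _),
      Nat.Coprime.of_dvd_left hd (hl.pow_left _)⟩
    exact h1.map (QuotientGroup.mk' (Subgroup.center (Cfsg.SU 3 F q)))

/-- an element of the field with `q` elements of order `m` -/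
theorem exists_elt {F : Type*} [Field F] [Fintype F] {q m : ℕ} (hF : Fintype.card F = q ^ 2) (hm : m ∣ q - 1)
    (hm2 : 2 < m) : ∃ x : F, x ≠ 0 ∧ x ^ q = x ∧ x ^ 2 ≠ 1 ∧ x ^ m = 1 := by
  have hq : 1 < q := by
    by_contra h
    have h1 : q ^ 2 ≤ 1 := by
      have : q ≤ 1 := by omega
      calc q ^ 2 ≤ 1 ^ 2 := Nat.pow_le_pow_left this 2
        _ = 1 := one_pow 2
    have h2 : 1 < Fintype.card F := Fintype.one_lt_card
    omega
  classical
  obtain ⟨ω, hω⟩ := IsCyclic.exists_generator (α := Fˣ)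
  have hord : orderOf ω = q ^ 2 - 1 := by
    rw [orderOf_eq_card_of_forall_mem_zpowers hω, Nat.card_eq_fintype_card, Fintype.card_units, hF]
  have hmq : m ∣ q ^ 2 - 1 := by
    have h1 : q ^ 2 - 1 = (q + 1) * (q - 1) := by
      have := Nat.sq_sub_sq q 1
      rwa [one_pow] at this
    rw [h1]
    exact hm.mul_left _
  have hpos : 0 < q ^ 2 - 1 := by
    have : 2 ^ 2 ≤ q ^ 2 := Nat.pow_le_pow_left hq 2
    omega
  obtain ⟨k, hk⟩ := hmq
  have hk0 : k ≠ 0 := by
    rintro rfl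
    omega
  have hom : orderOf (ω ^ k) = m := by
    rw [orderOf_pow' ω hk0, hord, hk, Nat.gcd_eq_right (Dvd.intro_left m rfl)]
    exact Nat.mul_div_cancel m (Nat.pos_of_ne_zero hk0)
  refine ⟨((ω ^ k : Fˣ) : F), Units.ne_zero _, ?_, ?_, ?_⟩
  · obtain ⟨j, hj⟩ := hm
    have h1 : (ω ^ k) ^ (q - 1) = 1 := by
      rw [hj, pow_mul, ← hom, pow_orderOf_eq_one, one_pow]
    have h2 : (ω ^ k) ^ q = ω ^ k := by
      conv_lhs => rw [show q = (q - 1) + 1 by omega]
      rw [pow_succ, h1, one_mul]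
    have h3 := congrArg Units.val h2
    rwa [Units.val_pow_eq_pow_val] at h3
  · intro h1
    have h2 : (ω ^ k) ^ 2 = 1 := by
      apply Units.ext
      rw [Units.val_pow_eq_pow_val, h1]
      rfl
    have h3 := orderOf_dvd_of_pow_eq_one h2
    rw [hom] at h3
    exact absurd (Nat.le_of_dvd (by norm_num) h3) (by omega)
  · have h2 : (ω ^ k) ^ m = 1 := by
      conv_lhs => rw [← hom]
      exact pow_orderOf_eq_one _
    have h3 := congrArg Units.val h2
    rw [Units.val_pow_eq_pow_val] at h3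
    exact h3

theorem hs_herm {F : Type*} [Field F] [Fintype F] (n : ℕ) {q : ℕ} (hF : Fintype.card F = q ^ 2) :
    HS q (Cfsg.Agent.H950.cj hF) (Cfsg.hermForm n F q) :=
  ⟨hF, Cfsg.Agent.H950.cj_apply hF, Cfsg.Agent.H950.frm_herm hF n,
    fun _ hu => Cfsg.Agent.LieClassical.HermBasic.herm_nondeg hF hu⟩

/-- the main case -/
theorem all_of_dvd {F : Type*} [Field F] [Fintype F] {q N l s : ℕ} (hF : Fintype.card F = q ^ 2) (hl : l.Prime)
    (hlN : l.Coprime N) (hs : 1 ≤ s) (hls : 2 < l ^ s) (hd : l ^ s ∣ q - 1) : All N (Cfsg.PSU 3 F q) := by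
  obtain ⟨x, hx0, hxq, hx2, hxl⟩ := exists_elt hF hd hls
  refine all_of_isPw fun g hg hdet hns => ⟨l, hlN, ?_⟩
  exact pw_three (hs_herm 3 hF) (Module.finrank_fin_fun F) hg hdet hns hx0 hxq hx2 hl hs hxl

/-- own characteristic -/
theorem own_psu_three {F : Type*} [Field F] [Fintype F] {q r : ℕ} (hF : Fintype.card F = q ^ 2) (hr : r.Prime)
    (hr5 : 5 ≤ r) (hrq : r ∣ q) : All r (Cfsg.PSU 3 F q) := by
  have hq0 : 0 < q := by
    rcases Nat.eq_zero_or_pos q with h | h
    · rw [h] at hF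
      exact absurd hF (by simp)
    · exact h
  have hq5 : 5 ≤ q := hr5.trans (Nat.le_of_dvd hq0 hrq)
  have key : ∀ l : ℕ, l.Prime → l ∣ q - 1 → l.Coprime r := by
    intro l hl hlq
    rw [Nat.coprime_primes hl hr]
    rintro rfl
    have h1 := (Nat.dvd_sub hrq hlq)
    rw [show q - (q - 1) = 1 by omega] at h1
    exact hl.one_lt.ne' (Nat.dvd_one.1 h1)
  by_cases hodd : ∃ l : ℕ, l.Prime ∧ l ≠ 2 ∧ l ∣ q - 1
  · obtain ⟨l, hl, hl2, hlq⟩ := hodd
    have h2 := hl.two_le
    exact all_of_dvd hF hl (key l hl hlq) le_rfl (by rw [pow_one]; omega) (by rwa [pow_one])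
  · push Not at hodd
    have h1 := Nat.eq_prime_pow_of_unique_prime_dvd (p := 2) (show q - 1 ≠ 0 by omega) (fun {d} hd hdq => by
      by_contra h
      exact hodd d hd h hdq)
    have h2 : 2 ≤ (q - 1).primeFactorsList.length := by
      by_contra h
      have h3 : 2 ^ (q - 1).primeFactorsList.length ≤ 2 ^ 1 := Nat.pow_le_pow_right (by norm_num) (by omega)
      rw [← h1] at h3
      omega
    have h4 : 2 ^ 2 ∣ q - 1 := by
      rw [h1]
      exact pow_dvd_pow 2 h2
    exact all_of_dvd hF Nat.prime_two (key 2 Nat.prime_two ((dvd_pow_self 2 (by norm_num)).trans h4)) (by norm_num)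
      (by norm_num) h4

/-- powers of two -/
theorem exists_prime_two {f : ℕ} (hf : 3 ≤ f) : ∃ l : ℕ, l.Prime ∧ 5 ≤ l ∧ l ∣ 2 ^ f - 1 := by
  by_contra hcon
  push Not at hcon
  obtain ⟨g, rfl⟩ : ∃ g, f = g + 3 := ⟨f - 3, by omega⟩
  have h8 : 2 ^ (g + 3) = 8 * 2 ^ g := by rw [pow_add]; ring
  have hg : 1 ≤ 2 ^ g := Nat.one_le_two_pow
  have h1 := Nat.eq_prime_pow_of_unique_prime_dvd (p := 3) (n := 2 ^ (g + 3) - 1) (by omega) (fun {d} hd hdq => by
    have h2 := hd.two_le
    have h5 : d < 5 := by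
      by_contra h
      exact hcon d hd (by omega) hdq
    have h4 : d ≠ 4 := by
      rintro rfl
      exact absurd hd (by decide)
    have h22 : d ≠ 2 := by
      rintro rfl
      omega
    omega)
  have h2 : ∀ k : ℕ, 3 ^ k % 8 = 1 ∨ 3 ^ k % 8 = 3 := by
    intro k
    induction k with
    | zero => left; rfl
    | succ k ih =>
      rw [pow_succ]
      omega
  have h3 := h2 (2 ^ (g + 3) - 1).primeFactorsList.length
  rw [← h1] at h3
  omega

/-- powers of three -/
theorem exists_prime_three {f : ℕ} (hf : 3 ≤ f) : ∃ l : ℕ, l.Prime ∧ 5 ≤ l ∧ l ∣ 3 ^ f - 1 := by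
  by_contra hcon
  push Not at hcon
  have h27 : 3 ^ 3 ≤ 3 ^ f := Nat.pow_le_pow_right (by norm_num) hf
  have hpow : ∀ m : ℕ, m ≠ 0 → m ∣ 3 ^ f - 1 → ∃ k, m = 2 ^ k := by
    intro m hm0 hm
    refine ⟨_, Nat.eq_prime_pow_of_unique_prime_dvd (p := 2) hm0 (fun {d} hd hdq => ?_)⟩
    have h2 := hd.two_le
    have h5 : d < 5 := by
      by_contra h
      exact hcon d hd (by omega) (hdq.trans hm)
    have h4 : d ≠ 4 := by
      rintro rfl
      exact absurd hd (by decide)
    have h3 : d ≠ 3 := by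
      rintro rfl
      have h6 : 3 ∣ 3 ^ f := dvd_pow_self 3 (by omega)
      have h7 := hdq.trans hm
      omega
    omega
  have h2 : ∀ k : ℕ, 3 ^ k % 8 = 1 ∨ 3 ^ k % 8 = 3 := by
    intro k
    induction k with
    | zero => left; rfl
    | succ k ih =>
      rw [pow_succ]
      omega
  have hsmall : ∀ k x : ℕ, x = 2 ^ k → x % 8 ≠ 0 → x ≤ 4 := by
    intro k x hx h
    by_contra hcon'
    have h3 : 3 ≤ k := by
      by_contra h4
      have h5 : 2 ^ k ≤ 2 ^ 2 := Nat.pow_le_pow_right (by norm_num) (by omega)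
      omega
    obtain ⟨j, rfl⟩ : ∃ j, k = j + 3 := ⟨k - 3, by omega⟩
    rw [pow_add] at hx
    omega
  rcases Nat.even_or_odd' f with ⟨g, hg | hg⟩
  · -- `3 ^ g + 1` divides
    have h3 : 3 ^ g + 1 ∣ 3 ^ f - 1 := by
      refine ⟨3 ^ g - 1, ?_⟩
      have h4 := Nat.sq_sub_sq (3 ^ g) 1
      rw [one_pow, ← pow_mul, mul_comm g 2, ← hg] at h4
      exact h4
    obtain ⟨k, hk⟩ := hpow _ (Nat.succ_ne_zero _) h3
    have h5 := hsmall k _ hk (by have := h2 g; omega)
    have h6 : 3 ^ 2 ≤ 3 ^ g := Nat.pow_le_pow_right (by norm_num) (by omega)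
    omega
  · obtain ⟨k, hk⟩ := hpow (3 ^ f - 1) (by omega) dvd_rfl
    have h9 : 3 ^ f % 8 = 3 := by
      rw [hg, pow_succ, pow_mul]
      have h10 : ∀ j : ℕ, (3 ^ 2) ^ j % 8 = 1 := by
        intro j
        induction j with
        | zero => rfl
        | succ j ih => rw [pow_succ]; omega
      have := h10 g
      omega
    have h5 := hsmall k _ hk (by omega)
    omega

theorem coprime_six {l : ℕ} (hl : l.Prime) (hl5 : 5 ≤ l) : l.Coprime 6 := by
  rw [hl.coprime_iff_not_dvd]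
  intro h
  have h1 := Nat.le_of_dvd (by norm_num) h
  have h2 : l = 5 ∨ l = 6 := by omega
  rcases h2 with rfl | rfl
  · revert h; decide
  · revert hl; decide

/-- **order prime to six** -/
theorem six_psu_three {F : Type*} [Field F] [Fintype F] {q r : ℕ} [hr : Fact r.Prime] [CharP F r]
    (hF : Fintype.card F = q ^ 2) (hr5 : r < 5) (hq : q ≠ 2) : All 6 (Cfsg.PSU 3 F q) := by
  have hr23 : r = 2 ∨ r = 3 := by
    have h2 := hr.out.two_le
    have h4 : r ≠ 4 := by
      intro h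
      exact absurd hr.out (by rw [h]; decide)
    omega
  obtain ⟨k, hk, hkF⟩ := FiniteField.card F r
  have hqd : q ∣ r ^ (k : ℕ) := by
    rw [← hkF, hF]
    exact dvd_pow_self q (by norm_num)
  obtain ⟨f, -, hf⟩ := (Nat.dvd_prime_pow hr.out).1 hqd
  have hf0 : f ≠ 0 := by
    rintro rfl
    rw [hf, pow_zero, one_pow] at hF
    have h1 : 1 < Fintype.card F := Fintype.one_lt_card
    omega
  have hB : HS q (Cfsg.Agent.H950.cj hF) (Cfsg.hermForm 3 F q) := hs_herm 3 hF
  by_cases hf3 : 3 ≤ f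
  · obtain ⟨l, hl, hl5, hlq⟩ : ∃ l : ℕ, l.Prime ∧ 5 ≤ l ∧ l ∣ q - 1 := by
      rcases hr23 with h | h
      · rw [hf, h]
        exact exists_prime_two hf3
      · rw [hf, h]
        exact exists_prime_three hf3
    exact all_of_dvd hF hl (coprime_six hl hl5) le_rfl (by rw [pow_one]; omega) (by rwa [pow_one])
  · have hq349 : q = 3 ∨ q = 4 ∨ q = 9 := by
      rcases hr23 with h | h <;> rw [h] at hf
      · have : f = 1 ∨ f = 2 := by omega
        rcases this with rfl | rfl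
        · exact absurd hf (by norm_num; exact hq)
        · right; left; rw [hf]; norm_num
      · have : f = 1 ∨ f = 2 := by omega
        rcases this with rfl | rfl
        · left; rw [hf]; norm_num
        · right; right; rw [hf]; norm_num
    rcases hq349 with rfl | rfl | rfl
    · exact all_of_isPw fun g hg hdet hns => ⟨7, by decide,
        pw_three_three hB (Module.finrank_fin_fun F) hg hdet hns⟩
    · exact all_of_isPw fun g hg hdet hns => ⟨13, by decide,
        pw_three_four hB (Module.finrank_fin_fun F) hg hdet hns⟩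
    · exact all_of_isPw fun g hg hdet hns => ⟨73, by decide,
        pw_three_nine hB (Module.finrank_fin_fun F) hg hdet hns⟩

/-- **the row `PSU_3(q)`** -/
theorem pw_psu_three (F : Type) [Field F] [Fintype F] (q : ℕ) (hF : Fintype.card F = q ^ 2) (hq : q ≠ 2) :
    Pw (Cfsg.PSU 3 F q) := by
  have hsi : IsSimpleGroup (Cfsg.PSU 3 F q) := Cfsg.Agent.S0283.result hF 3 le_rfl (fun h => hq h.2)
  obtain ⟨r, hc⟩ := CharP.exists F
  have hr : Fact r.Prime := ⟨CharP.char_is_prime F r⟩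
  have hPW : PW r 2 (Cfsg.PSU 3 F q) := Cfsg.Agent.H346.PwU.pw_psu
    ⟨F, inferInstance, inferInstance, hc, 3, q, hF, le_rfl, fun h => hq h.2, ⟨MulEquiv.refl _⟩⟩
  have h' : ∀ g : Cfsg.PSU 3 F q, ∃ a b, g = a * b ∧ (∃ k, a ^ r ^ k = 1) ∧ ∃ k, b ^ r ^ k = 1 := by
    intro g
    obtain ⟨a, b, ha, ⟨c, d, hc, hd, hcd⟩, hab⟩ := hPW g
    have hd1 : d = 1 := hd
    rw [hd1, mul_one] at hcd
    rw [← hcd] at hab
    exact ⟨a, c, hab.symm, ha, hc⟩
  have hrq : r ∣ q := by
    obtain ⟨k, -, hk⟩ := FiniteField.card F r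
    have h1 : r ∣ q ^ 2 := by
      rw [← hF, hk]
      exact dvd_pow_self r k.ne_zero
    exact hr.out.dvd_of_dvd_pow h1
  rcases lt_or_ge r 5 with h5 | h5
  · exact Cfsg.Agent.H335.Pw.pw_of_six hr.out h5 h' (six_psu_three hF h5 hq)
  · exact Cfsg.Agent.H335.Pw.pw_of_own hr.out h5 h' (own_psu_three hF hr.out h5 hrq)

end Cfsg.Agent.H876.PwU3
end

private theorem dce_970417b26837 : _root_.True := by
  try have : _root_.True := by simp only [_root_.Cfsg.Agent.H876.PwU3.ch.eq_def]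
  try have : _root_.True := by simp only [_root_.Cfsg.Agent.H876.PwU3.mulc.eq_2]
  try have : _root_.True := by simp only [_root_.Cfsg.Agent.H876.PwU3.mulc.eq_1]
  try have : _root_.True := by simp only [_root_.Cfsg.Agent.H876.PwU3.vs.eq_1]
  try have : _root_.True := by simp only [_root_.Cfsg.Agent.H538.Pw.GFour.tv.eq_1]
  try have : _root_.True := by simp only [_root_.Cfsg.Agent.H876.PwU3.addc.eq_3]
  try have : _root_.True := by simp only [_root_.Cfsg.Agent.H876.PwU3.barc.eq_1]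
  try have : _root_.True := by simp only [_root_.Cfsg.Agent.H876.PwU3.barc.eq_2]
  try have : _root_.True := by simp only [_root_.Cfsg.Agent.H876.PwU3.toM.eq_1]
  try have : _root_.True := by simp only [_root_.Cfsg.Agent.H876.PwU3.ch.eq_2]
  try have : _root_.True := by simp only [_root_.Cfsg.Agent.H876.PwU3.stp.eq_1]
  try have : _root_.True := by simp only [_root_.Cfsg.Agent.H876.PwU3.J3.eq_1]
  try have : _root_.True := by simp only [_root_.Cfsg.Agent.H876.PwU3.val.eq_1]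
  try have : _root_.True := by simp only [_root_.Cfsg.Agent.H876.PwU3.ch.eq_1]
  try have : _root_.True := by simp only [_root_.Cfsg.Agent.H876.PwU3.trc.eq_1]
  try have : _root_.True := by simp only [_root_.Cfsg.Agent.H538.Pw.GFour.psM.eq_1]
  try have : _root_.True := by simp only [_root_.Cfsg.Agent.H876.PwU3.vs.eq_2]
  try have : _root_.True := by simp only [_root_.Cfsg.Agent.H876.PwU3.mulc.eq_3]
  try have : _root_.True := by simp only [_root_.Cfsg.Agent.H876.PwU3.JJ.eq_1]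
  try have : _root_.True := by simp only [_root_.Cfsg.Agent.H876.PwU3.bar3.eq_1]
  try have : _root_.True := by simp only [_root_.Cfsg.Agent.H876.PwU3.mul3.eq_1]
  try have : _root_.True := by simp only [_root_.Cfsg.Agent.H876.PwU3.addc.eq_1]
  try have : _root_.True := by simp only [_root_.Cfsg.Agent.H876.PwU3.addc.eq_2]
  try have : _root_.True := by simp only [_root_.Cfsg.Agent.H876.PwU3.det3.eq_1]
  try have : _root_.True := by simp only [_root_.Cfsg.Agent.H876.PwU3.vs.eq_def]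
  try have : _root_.True := by simp only [_root_.Cfsg.Agent.H876.PwU3.chk.eq_1]
  exact _root_.True.intro
end

-- part: H983/Pw/GTwoThree
section
prune_inst 0x5603044094002080000059651003e67ce0005b0002b8401dde10b4e0686d7224d82af60cd8019094a0aa20500350008111000f00240000004200400011900a098a85206f3c9a08c66001f803084400000000000000000000000000000041004000000000
set_option linter.all false
open scoped Cfsg.Agent.FastGrp

-- part: H983/Pw/Chain
section
/-!
# Polycyclic chains of permutations given by tables, and products of two elements (helper983)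

* `nf L n` : normal form number `n` of the chain `L` of tables, on points;
* `Gd` : `H` is the group of all normal forms, of order `M`; `Gd.step`, `Gd.stepB` : one more generator;
* `Cyc` : a cycle of length `7` or `13` at the point `0`; `pr_of_wit` : the Boolean check that every normal form is a
  product of two such permutations.
-/

set_option autoImplicit false

namespace Cfsg.Agent.H983.Pw

open Equiv Subgroup Cfsg.Agent.SporadicA.PermTab

/-- `k`-fold iterate -/
def it (f : ℕ → ℕ) (k p : ℕ) : ℕ := Nat.rec p (fun _ ih => f ih) k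

theorem it_succ (f : ℕ → ℕ) (k p : ℕ) : it f (k + 1) p = f (it f k p) := rfl

/-- normal form number `n`: entries `(P, M)`, outermost first; `M` is the order of the rest of the chain -/
def nf (L : List (ℕ × ℕ)) : ℕ → ℕ → ℕ :=
  List.rec (fun _ p => p) (fun a _ ih n p => it (lk a.1) (Nat.div n a.2) (ih (Nat.mod n a.2) p)) L

theorem nf_cons (P M : ℕ) (L : List (ℕ × ℕ)) (n p : ℕ) :
    nf ((P, M) :: L) n p = it (lk P) (n / M) (nf L (n % M) p) := rfl

variable {N : ℕ}

/-- `g` acts as the function `f` -/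
def Rep (g : Perm (Fin N)) (f : ℕ → ℕ) : Prop := ∀ i : Fin N, (g i : ℕ) = f i

theorem Rep.ext {g h : Perm (Fin N)} {f : ℕ → ℕ} (hg : Rep g f) (hh : Rep h f) : g = h :=
  Equiv.ext fun i => Fin.ext (by rw [hg i, hh i])

theorem Rep.one : Rep (1 : Perm (Fin N)) (fun p => p) := fun _ => rfl

theorem Rep.mul {g h : Perm (Fin N)} {a b : ℕ → ℕ} (hg : Rep g a) (hh : Rep h b) :
    Rep (g * h) (fun p => a (b p)) := fun i => by
  show (g (h i) : ℕ) = a (b i)
  rw [hg (h i), hh i]

theorem Rep.it {x g : Perm (Fin N)} {a b : ℕ → ℕ} (hx : Rep x a) (hg : Rep g b) (k : ℕ) :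
    Rep (x ^ k * g) (fun p => it a k (b p)) := by
  induction k with
  | zero => rw [pow_zero, one_mul]; exact hg
  | succ k ih => rw [pow_succ', mul_assoc]; exact hx.mul ih

theorem Rep.iter {x : Perm (Fin N)} {a : ℕ → ℕ} (hx : Rep x a) (k : ℕ) :
    Rep (x ^ k) (fun p => Cfsg.Agent.H983.Pw.it a k p) := by
  have := hx.it Rep.one k
  rwa [mul_one] at this

/-- tables of the chain -/
def tabs (L : List (ℕ × ℕ)) : List ℕ := L.map Prod.fst

/-- `H` is the group of the normal forms of the chain `L` -/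
structure Gd (L : List (ℕ × ℕ)) (M : ℕ) (H : Subgroup (Perm (Fin N))) : Prop where
  mem : ∀ g ∈ H, ∃ n < M, Rep g (nf L n)
  rep : ∀ n < M, ∃ g ∈ H, Rep g (nf L n)
  card : Nat.card ↥H = M
  gen : H = _root_.Subgroup.closure {g | ∃ P ∈ tabs L, Rep g (lk P)}

theorem Gd.nil : Gd (N := N) [] 1 ⊥ where
  mem g hg := ⟨0, one_pos, by rw [mem_bot.1 hg]; exact Rep.one⟩
  rep n _ := ⟨1, one_mem _, Rep.one⟩
  card := by simp
  gen := by
    rw [eq_comm, closure_eq_bot_iff]
    rintro g ⟨P, hP, -⟩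
    exact absurd hP List.not_mem_nil

/-- the group of the products `x ^ i * h` -/
theorem step_mem {G : Type*} [Group G] {H : Subgroup G} {x : G} {r : ℕ} (hr : 0 < r) (hx : x ^ r ∈ H)
    (hn : ∀ h ∈ H, x * h * x⁻¹ ∈ H) {g : G} (hg : g ∈ H ⊔ zpowers x) : ∃ i < r, ∃ h ∈ H, g = x ^ i * h := by
  -- powers of `x` normalise `H`
  have hn' : ∀ (i : ℕ), ∀ h ∈ H, x ^ i * h * (x ^ i)⁻¹ ∈ H := by
    intro i
    induction i with
    | zero => intro h hh; simpa using hh
    | succ i ih =>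
      intro h hh
      have := hn _ (ih h hh)
      have e : x * (x ^ i * h * (x ^ i)⁻¹) * x⁻¹ = x ^ (i + 1) * h * (x ^ (i + 1))⁻¹ := by
        rw [pow_succ']; group
      rwa [e] at this
  have hinv : x⁻¹ = x ^ (r - 1) * (x ^ r)⁻¹ := by
    have e : x ^ r = x * x ^ (r - 1) := by
      conv_lhs => rw [show r = (r - 1) + 1 by omega, pow_succ']
    have e' : x ^ r = x ^ (r - 1) * x := by
      conv_lhs => rw [show r = (r - 1) + 1 by omega, pow_succ]
    rw [e', mul_inv_rev]
    group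
  -- conjugation by powers of `x` to the right: `h * x ^ i = x ^ i * h'`
  have hninv : ∀ (i : ℕ), ∀ h ∈ H, (x ^ i)⁻¹ * h * x ^ i ∈ H := by
    intro i h hh
    -- (x^i)⁻¹ = x^{i(r-1)} * (x^{ri})⁻¹
    have hri : (x ^ r) ^ i ∈ H := pow_mem hx i
    have e : x ^ (i * (r - 1)) * x ^ i = (x ^ r) ^ i := by
      rw [← pow_add, ← pow_mul]
      congr 1
      obtain ⟨s, rfl⟩ : ∃ s, r = s + 1 := ⟨r - 1, by omega⟩
      rw [Nat.add_sub_cancel]; ring
    have e2 : x ^ i = (x ^ (i * (r - 1)))⁻¹ * (x ^ r) ^ i := by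
      rw [← e, inv_mul_cancel_left]
    have h1 := hn' (i * (r - 1)) h hh
    have h2 : ((x ^ r) ^ i)⁻¹ * (x ^ (i * (r - 1)) * h * (x ^ (i * (r - 1)))⁻¹) * (x ^ r) ^ i ∈ H :=
      H.mul_mem (H.mul_mem (H.inv_mem hri) h1) hri
    have e3 : (x ^ i)⁻¹ * h * x ^ i =
        ((x ^ r) ^ i)⁻¹ * (x ^ (i * (r - 1)) * h * (x ^ (i * (r - 1)))⁻¹) * (x ^ r) ^ i := by
      rw [e2, mul_inv_rev, inv_inv]
      simp only [mul_assoc]
    rw [e3]; exact h2
  -- reduce exponents
  have hred : ∀ (i : ℕ), ∀ h ∈ H, ∃ j < r, ∃ k ∈ H, x ^ i * h = x ^ j * k := by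
    intro i h hh
    refine ⟨i % r, Nat.mod_lt _ hr, (x ^ r) ^ (i / r) * h, H.mul_mem (pow_mem hx _) hh, ?_⟩
    rw [← mul_assoc, ← pow_mul, ← pow_add, Nat.mod_add_div]
  rw [← closure_eq H, zpowers_eq_closure, ← Subgroup.closure_union] at hg
  induction hg using closure_induction with
  | mem g hg =>
    rcases hg with h | h
    · exact ⟨0, hr, g, h, by simp⟩
    · rw [Set.mem_singleton_iff] at h
      subst h
      obtain ⟨j, hj, k, hk, e⟩ := hred 1 1 H.one_mem
      exact ⟨j, hj, k, hk, by rw [← e]; simp⟩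
  | one => exact ⟨0, hr, 1, H.one_mem, by simp⟩
  | mul a b _ _ iha ihb =>
    obtain ⟨i, hi, h, hh, rfl⟩ := iha
    obtain ⟨j, hj, k, hk, rfl⟩ := ihb
    obtain ⟨m, hm, l, hl, e⟩ := hred (i + j) ((x ^ j)⁻¹ * h * x ^ j * k)
      (H.mul_mem (hninv j h hh) hk)
    refine ⟨m, hm, l, hl, ?_⟩
    rw [← e, pow_add]
    group
  | inv a _ iha =>
    obtain ⟨i, hi, h, hh, rfl⟩ := iha
    -- (x^i h)⁻¹ = h⁻¹ x^{-i} = x^{i(r-1)} (x^{ri})⁻¹ ... 
    have hri : (x ^ r) ^ i ∈ H := pow_mem hx i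
    obtain ⟨m, hm, l, hl, e⟩ := hred (i * (r - 1))
      (((x ^ r) ^ i)⁻¹ * (x ^ i * h⁻¹ * (x ^ i)⁻¹)) (H.mul_mem (H.inv_mem hri) (hn' i _ (H.inv_mem hh)))
    refine ⟨m, hm, l, hl, ?_⟩
    have e0 : x ^ (i * (r - 1)) * x ^ i = (x ^ r) ^ i := by
      rw [← pow_add, ← pow_mul]
      congr 1
      obtain ⟨s, rfl⟩ : ∃ s, r = s + 1 := ⟨r - 1, by omega⟩
      rw [Nat.add_sub_cancel]; ring
    have e1 : x ^ (i * (r - 1)) = (x ^ r) ^ i * (x ^ i)⁻¹ := by rw [← e0]; group
    have e4 : Commute ((x ^ r) ^ i) (x ^ i) := by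
      rw [← pow_mul]; exact (Commute.refl x).pow_pow _ _
    have e5 : (x ^ r) ^ i * (x ^ i)⁻¹ = (x ^ i)⁻¹ * (x ^ r) ^ i := (e4.inv_right).eq
    rw [← e, e1, e5]
    group

theorem card_step {G : Type*} [Group G] [Finite G] {H : Subgroup G} {x : G} {r : ℕ} (hr : r.Prime)
    (hx : x ^ r ∈ H) (hn : ∀ h ∈ H, x * h * x⁻¹ ∈ H) (hxH : x ∉ H) :
    Nat.card ↥(H ⊔ zpowers x) = r * Nat.card ↥H := by
  -- the map `(i, h) ↦ x ^ i * h` is a bijection
  have hinj : ∀ i < r, ∀ j < r, ∀ h ∈ H, ∀ k ∈ H, x ^ i * h = x ^ j * k → i ≤ j → i = j := by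
    intro i hi j hj h hh k hk e hij
    by_contra hne
    have h1 : x ^ (j - i) ∈ H := by
      have e1 : x ^ j = x ^ i * x ^ (j - i) := by rw [← pow_add]; congr 1; omega
      rw [e1, mul_assoc] at e
      have e2 := mul_left_cancel e
      have e3 : x ^ (j - i) = h * k⁻¹ := by rw [e2]; group
      rw [e3]
      exact H.mul_mem hh (H.inv_mem hk)
    have hco : Nat.Coprime (j - i) r := by
      rw [Nat.coprime_comm, hr.coprime_iff_not_dvd]
      exact Nat.not_dvd_of_pos_of_lt (by omega) (by omega)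
    apply hxH
    have h2 : x ^ ((Nat.gcd (j - i) r : ℕ) : ℤ) ∈ H := by
      rw [Nat.gcd_eq_gcd_ab, zpow_add, zpow_mul, zpow_mul, zpow_natCast, zpow_natCast]
      exact H.mul_mem (H.zpow_mem h1 _) (H.zpow_mem hx _)
    rw [hco.gcd_eq_one] at h2
    simpa using h2
  have e : Fin r × ↥H ≃ ↥(H ⊔ zpowers x) := by
    refine Equiv.ofBijective (fun y => ⟨x ^ (y.1 : ℕ) * y.2, ?_⟩) ⟨?_, ?_⟩
    · exact mul_mem (pow_mem (mem_sup_right (mem_zpowers x)) _) (mem_sup_left y.2.2)
    · rintro ⟨i, h⟩ ⟨j, k⟩ hij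
      have h1 : x ^ (i : ℕ) * (h : G) = x ^ (j : ℕ) * k := congrArg Subtype.val hij
      have h2 : (i : ℕ) = j := by
        rcases le_total (i : ℕ) j with h3 | h3
        · exact hinj i i.2 j j.2 h h.2 k k.2 h1 h3
        · exact (hinj j j.2 i i.2 k k.2 h h.2 h1.symm h3).symm
      have h3 : i = j := Fin.ext h2
      subst h3
      rw [Prod.mk.injEq]
      exact ⟨rfl, Subtype.ext (mul_left_cancel h1)⟩
    · rintro ⟨g, hg⟩
      obtain ⟨i, hi, h, hh, rfl⟩ := step_mem hr.pos hx hn hg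
      exact ⟨(⟨i, hi⟩, ⟨h, hh⟩), rfl⟩
  rw [← Nat.card_congr e, Nat.card_prod, Nat.card_fin]

/-- one more generator -/
theorem Gd.step {L : List (ℕ × ℕ)} {M : ℕ} {H : Subgroup (Perm (Fin N))} (h : Gd L M H) {x : Perm (Fin N)}
    {P r : ℕ} (hxP : Rep x (lk P)) (hr : r.Prime) (hx : x ^ r ∈ H) (hn : ∀ h ∈ H, x * h * x⁻¹ ∈ H)
    (hxH : x ∉ H) : Gd ((P, M) :: L) (r * M) (H ⊔ zpowers x) := by
  have hM : 0 < M := by rw [← h.card]; exact Nat.card_pos
  refine ⟨fun g hg => ?_, fun n hn' => ?_, ?_, ?_⟩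
  · obtain ⟨i, hi, k, hk, rfl⟩ := step_mem hr.pos hx hn hg
    obtain ⟨n, hn', hr'⟩ := h.mem k hk
    refine ⟨i * M + n, ?_, ?_⟩
    · calc i * M + n < i * M + M := by omega
        _ = (i + 1) * M := by ring
        _ ≤ r * M := Nat.mul_le_mul_right _ hi
    · have := hxP.it hr' i
      intro j
      rw [this j, nf_cons, Nat.add_comm, Nat.add_mul_mod_self_right, Nat.add_mul_div_right _ _ hM,
        Nat.div_eq_of_lt hn', Nat.mod_eq_of_lt hn', Nat.zero_add]
  · obtain ⟨k, hk, hr'⟩ := h.rep (n % M) (Nat.mod_lt _ hM)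
    refine ⟨x ^ (n / M) * k, mul_mem (pow_mem (mem_sup_right (mem_zpowers x)) _) (mem_sup_left hk), ?_⟩
    exact hxP.it hr' (n / M)
  · rw [card_step hr hx hn hxH, h.card]
  · rw [h.gen, zpowers_eq_closure, ← Subgroup.closure_union]
    congr 1
    ext g
    constructor
    · rintro (⟨Q, hQ, hg⟩ | hg)
      · exact ⟨Q, List.mem_cons_of_mem _ hQ, hg⟩
      · rw [Set.mem_singleton_iff] at hg
        exact ⟨P, List.mem_cons_self, hg ▸ hxP⟩
    · rintro ⟨Q, hQ, hg⟩
      rcases List.mem_cons.1 hQ with h1 | h1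
      · right
        subst h1
        exact Rep.ext hg hxP
      · exact Or.inl ⟨Q, h1, hg⟩

/-! ### Boolean checks -/

/-- `x_P * x_T = h_n * x_P` -/
def relB (N P : ℕ) (L : List (ℕ × ℕ)) (T n : ℕ) : Bool :=
  allB (fun i => Nat.beq (lk P (lk T i)) (nf L n (lk P i))) N

/-- all conjugates of the generators -/
def relsB (N M P : ℕ) (L : List (ℕ × ℕ)) (Ts : List ℕ) : List ℕ → Bool :=
  List.rec (fun _ => true)
    (fun T _ ih D => List.rec false (fun n D' _ => band (Nat.blt n M) (band (relB N P L T n) (ih D'))) D) Ts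

theorem relsB_spec {N M P : ℕ} {L : List (ℕ × ℕ)} {Ts D : List ℕ} (h : relsB N M P L Ts D = true) :
    ∀ T ∈ Ts, ∃ n < M, relB N P L T n = true := by
  induction Ts generalizing D with
  | nil => intro T hT; exact absurd hT List.not_mem_nil
  | cons T Ts ih =>
    cases D with
    | nil => exact absurd h Bool.false_ne_true
    | cons n D =>
      have h' : band (Nat.blt n M) (band (relB N P L T n) (relsB N M P L Ts D)) = true := h
      rw [band_eq_true, band_eq_true] at h'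
      intro T' hT'
      rcases List.mem_cons.1 hT' with e | e
      · subst e
        exact ⟨n, Nat.blt_eq ▸ h'.1, h'.2.1⟩
      · exact ih h'.2.2 T' e

/-- the power -/
def powB (N P r : ℕ) (L : List (ℕ × ℕ)) (m : ℕ) : Bool :=
  allB (fun i => Nat.beq (it (lk P) r i) (nf L m i)) N

/-- some base point distinguishes -/
def difB (P : ℕ) (L : List (ℕ × ℕ)) (B : List ℕ) (n : ℕ) : Bool :=
  List.rec false (fun b _ ih => cond (nbeq (nf L n b) (lk P b)) true ih) B

theorem difB_spec {P : ℕ} {L : List (ℕ × ℕ)} {B : List ℕ} {n : ℕ} (h : difB P L B n = true) :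
    ∃ b ∈ B, nf L n b ≠ lk P b := by
  induction B with
  | nil => exact absurd h Bool.false_ne_true
  | cons b B ih =>
    have h' : cond (nbeq (nf L n b) (lk P b)) true (difB P L B n) = true := h
    cases hb : nbeq (nf L n b) (lk P b) with
    | true => exact ⟨b, List.mem_cons_self, (nbeq_iff _ _).1 hb⟩
    | false =>
      rw [hb] at h'
      obtain ⟨c, hc, h2⟩ := ih h'
      exact ⟨c, List.mem_cons_of_mem _ hc, h2⟩

/-- the base points are points -/
def ltB (N : ℕ) (B : List ℕ) : Bool := List.rec true (fun b _ ih => band (Nat.blt b N) ih) B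

theorem ltB_spec {N : ℕ} {B : List ℕ} (h : ltB N B = true) : ∀ b ∈ B, b < N := by
  induction B with
  | nil => intro b hb; exact absurd hb List.not_mem_nil
  | cons b B ih =>
    have h' : band (Nat.blt b N) (ltB N B) = true := h
    rw [band_eq_true] at h'
    intro c hc
    rcases List.mem_cons.1 hc with e | e
    · subst e; exact Nat.blt_eq ▸ h'.1
    · exact ih h'.2 c e

/-- everything for one step -/
def stepB (N M P r m : ℕ) (L : List (ℕ × ℕ)) (D B : List ℕ) : Bool :=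
  band (ltB N B) (band (Nat.blt m M) (band (powB N P r L m) (band (relsB N M P L (tabs L) D)
    (allB (difB P L B) M))))

theorem Gd.stepB {L : List (ℕ × ℕ)} {M : ℕ} {H : Subgroup (Perm (Fin N))} (h : Gd L M H) {x : Perm (Fin N)}
    {P r m : ℕ} {D B : List ℕ} (hxP : Rep x (lk P)) (hr : r.Prime)
    (hc : Cfsg.Agent.H983.Pw.stepB N M P r m L D B = true) : Gd ((P, M) :: L) (r * M) (H ⊔ zpowers x) := by
  unfold Cfsg.Agent.H983.Pw.stepB at hc
  rw [band_eq_true, band_eq_true, band_eq_true, band_eq_true] at hc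
  obtain ⟨hB, hm, hp, hrel, hd⟩ := hc
  refine h.step hxP hr ?_ ?_ ?_
  · obtain ⟨g, hg, hgr⟩ := h.rep m (Nat.blt_eq ▸ hm)
    have e : x ^ r = g := by
      refine Equiv.ext fun i => Fin.ext ?_
      rw [hxP.iter r i, hgr i]
      exact Nat.eq_of_beq_eq_true ((allB_iff _ _).1 hp i i.2)
    rw [e]; exact hg
  · -- generators
    have hgen : ∀ k ∈ {g : Perm (Fin N) | ∃ P ∈ tabs L, Rep g (lk P)}, x * k * x⁻¹ ∈ H := by
      rintro k ⟨T, hT, hk⟩
      obtain ⟨n, hn, hr'⟩ := relsB_spec hrel T hT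
      obtain ⟨g, hg, hgr⟩ := h.rep n hn
      have e : x * k = g * x := by
        refine Equiv.ext fun i => Fin.ext ?_
        rw [(hxP.mul hk) i, (hgr.mul hxP) i]
        exact Nat.eq_of_beq_eq_true ((allB_iff _ _).1 hr' i i.2)
      rw [e, mul_inv_cancel_right]
      exact hg
    intro k hk
    rw [h.gen] at hk
    induction hk using closure_induction with
    | mem k hk => exact hgen k hk
    | one => simpa using H.one_mem
    | mul a b _ _ iha ihb =>
      have := H.mul_mem iha ihb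
      have e : x * a * x⁻¹ * (x * b * x⁻¹) = x * (a * b) * x⁻¹ := by group
      rwa [e] at this
    | inv a _ iha =>
      have := H.inv_mem iha
      have e : (x * a * x⁻¹)⁻¹ = x * a⁻¹ * x⁻¹ := by group
      rwa [e] at this
  · intro hx
    obtain ⟨n, hn, hr'⟩ := h.mem x hx
    obtain ⟨b, hb, hne⟩ := difB_spec ((allB_iff _ _).1 hd n hn)
    have hbN := ltB_spec hB b hb
    apply hne
    have h1 := hr' ⟨b, hbN⟩
    have h2 := hxP ⟨b, hbN⟩
    rw [← h1, ← h2]

/-! ### Witnesses -/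

/-- a cycle of length `l` or `l'` at the point `0` -/
def Cyc (l l' : ℕ) [NeZero N] (g : Perm (Fin N)) : Prop := g 0 ≠ 0 ∧ ((g ^ l) 0 = 0 ∨ (g ^ l') 0 = 0)

theorem dvd_of_pow_fix {X : Type*} {g : Perm X} {x : X} {l : ℕ} (hl : l.Prime) (h0 : g x ≠ x)
    (h : (g ^ l) x = x) : l ∣ orderOf g := by
  by_contra hn
  have hco : Nat.Coprime l (orderOf g) := (Nat.Prime.coprime_iff_not_dvd hl).2 hn
  apply h0
  have h1 : g ^ l ∈ MulAction.stabilizer (Perm X) x := h
  have h2 : g ^ orderOf g ∈ MulAction.stabilizer (Perm X) x := by rw [pow_orderOf_eq_one]; exact one_mem _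
  have h3 : g ^ ((Nat.gcd l (orderOf g) : ℕ) : ℤ) ∈ MulAction.stabilizer (Perm X) x := by
    rw [Nat.gcd_eq_gcd_ab, zpow_add, zpow_mul, zpow_mul, zpow_natCast, zpow_natCast]
    exact mul_mem (zpow_mem h1 _) (zpow_mem h2 _)
  rw [hco.gcd_eq_one] at h3
  simpa using h3

theorem Cyc.dvd [NeZero N] {l l' : ℕ} {g : Perm (Fin N)} (hl : l.Prime) (hl' : l'.Prime) (h : Cyc l l' g) :
    l ∣ orderOf g ∨ l' ∣ orderOf g := by
  rcases h with ⟨h0, h | h⟩
  · exact Or.inl (dvd_of_pow_fix hl h0 h)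
  · exact Or.inr (dvd_of_pow_fix hl' h0 h)

/-- `f ^ l` or `f ^ (l + k)` fixes `0`, `f` does not -/
def cycB (l k : ℕ) (f : ℕ → ℕ) : Bool :=
  forceB (f 0) fun p1 => band (nbeq p1 0)
    (forceB (it f (Nat.pred l) p1) fun pl => cond (Nat.beq pl 0) true (Nat.beq (it f k pl) 0))

theorem it_add (f : ℕ → ℕ) (j k p : ℕ) : it f (j + k) p = it f j (it f k p) := by
  induction j with
  | zero => rw [Nat.zero_add]; rfl
  | succ j ih => rw [Nat.succ_add, it_succ, it_succ, ih]

theorem cycB_spec [NeZero N] {l k : ℕ} (hl : 1 ≤ l) {f : ℕ → ℕ} {g : Perm (Fin N)} (hg : Rep g f)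
    (h : cycB l k f = true) : Cyc l (l + k) g := by
  unfold cycB at h
  rw [forceB_eq, band_eq_true, forceB_eq] at h
  obtain ⟨h1, h2⟩ := h
  rw [nbeq_iff] at h1
  have e0 : ((0 : Fin N) : ℕ) = 0 := rfl
  have e1 : it f l 0 = it f (Nat.pred l) (f 0) := by
    obtain ⟨s, rfl⟩ : ∃ s, l = s + 1 := ⟨l - 1, by omega⟩
    show it f (s + 1) 0 = it f s (f 0)
    rw [it_add]; rfl
  refine ⟨fun hc => h1 ?_, ?_⟩
  · have := hg 0
    rw [hc, e0] at this
    exact this.symm
  · rw [← e1] at h2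
    cases hb : Nat.beq (it f l 0) 0 with
    | true =>
      left
      apply Fin.ext
      rw [hg.iter l 0, e0]
      exact Nat.eq_of_beq_eq_true hb
    | false =>
      right
      rw [hb, cond_false, ← it_add] at h2
      apply Fin.ext
      rw [hg.iter (l + k) 0, e0, Nat.add_comm]
      exact Nat.eq_of_beq_eq_true h2

/-- witness number `(W >>> 4 n) &&& 15` for the normal form number `n` -/
def witB (l k : ℕ) (L : List (ℕ × ℕ)) (A0 : ℕ) (As : List ℕ) (W n : ℕ) : Bool :=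
  cycB l k (fun p => lk (getT A0 As (Nat.land (Nat.shiftRight W (Nat.mul 4 n)) 15)) (nf L n p))

/-- all normal forms are products -/
theorem exists_of_wit [NeZero N] {l k : ℕ} (hl : 1 ≤ l) {L : List (ℕ × ℕ)} {M : ℕ}
    {H J : Subgroup (Perm (Fin N))} (hH : Gd L M H) {A0 : ℕ} {As : List ℕ} {W : ℕ}
    (hA : ∀ A ∈ A0 :: As, ∃ a ∈ J, Rep a (lk A) ∧ Cyc l (l + k) a)
    (hW : ∀ n < M, witB l k L A0 As W n = true) {g : Perm (Fin N)} (hg : g ∈ H) :
    ∃ a ∈ J, Cyc l (l + k) a ∧ Cyc l (l + k) (a * g) := by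
  obtain ⟨n, hn, hr⟩ := hH.mem g hg
  have h1 := hW n hn
  unfold witB at h1
  set A := getT A0 As (Nat.land (Nat.shiftRight W (Nat.mul 4 n)) 15) with hAdef
  have hAm : A ∈ A0 :: As := by
    rcases getT_mem A0 As (Nat.land (Nat.shiftRight W (Nat.mul 4 n)) 15) with h | h
    · rw [hAdef, h]; exact List.mem_cons_self
    · exact List.mem_cons_of_mem _ h
  obtain ⟨a, ha, har, hac⟩ := hA A hAm
  exact ⟨a, ha, hac, cycB_spec hl (har.mul hr) h1⟩

end Cfsg.Agent.H983.Pw
end

-- part: H983/Pw/GTwoThreeData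
section
/-!
# `G₂(3)` on 351 points: tables (helper983)

Six involutions generating `G₂(3)` (blocks of the permutations of degree 1053 of helper64), the chain of a Sylow
`3`-subgroup, the chain of the centraliser of an involution, and ten elements of order `7` or `13`.
Tables have 11 bits per entry.
-/

set_option autoImplicit false

namespace Cfsg.Agent.H983.Pw.G23

/-- the letters -/
def T : ℕ → ℕ
  | 0 => 0x404800ff20840c810fe1fa3f0851092104348610b20e418828f81ee3d87d8fa1f23d47a0f31cc394720e91d039c718e21c23bc770ed1e43c4780ec1d63a86e8dc1b63806f8de1b43646c0cb194324670cd198320638c61a834c690d71ac354688d019e308608c018a310618bf17c2f4a91512a0554aa15329e538a695b2b4564af15d2b8560ab956292520a394c296528a31452884dc9b1352744e49c1342664c8a013f27c50ca114127a4f09d92e25a4b09893025e4ac9512923846c8d11f23c4748c91822e4949212325049c93122242480899122224588a91422043c870af1602b8590b31622b0568ab1702e45b8bb1782e85a8b6168298538a51522a8540a31482884a09512625c4c0961222484809d13c270500a113e2684d8991162304508e11e2344408910e1f03e87b0f21e83c0760ee1d442886108208418810fe2003f0580b215c2a8560a81482985109e1402704c09a12c2484a09011823845086110210400820fc398740e41c03886f0da1b83606a0d61a4338680cc190328630c21883005e0be1742d85c0b40f41f03c0740ec1c8370700d81a0350660c41903005c0bc1682b0580a81402904e0941302402c05c0a8190340600981402407c1001e04408c1081c03a06c0680e0180400880f01402c0480500800c0400700c00800800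
  | 1 => 0x3dc7b0f81f23ec7d0f51e83cc800ff202408821031fc3f47e1092104288590d21841c831051dc3b4778f01e43c4760eb1d43706d8dd1bc3806f8da1b2360728e41cc39c748e81c6388708ca19232c660ce19a320638c61a63486a0d51ae358688d019e304600c2186314620bf17c2f4a4147292528a614b28c514a21512a0548a99552a853ca714d2b4564ad95c2bc574ac1572ac4fc9f14028250ca113d2784ec9692c25c4bc989302564a89493626a4dc9c13a2724d0999322364688e11d23e4788c91822e4909192524c4a093922242480891112264508b11522043c870a614e294548aa15028c520a215e2c0570b21662c4560ad1562e05c8b71762f05d0b516c2d04e89e1382805089f13426c4c88b1182284708f11a2204488712825449897130258488921201e43d0780ec1dc3a87c0fa1ec3f8800fc2144308410420c4084708a118210430881002083f0b215c2c0540aa158290530a21402704f09613026849094120358690d4198338680c8194318620c01842e85e0be16c2e05a0e81c83986f0e01c43686e0d80f81e03d0720e81d8370700d81a8330680c01883205c0bc1682c0540ac138280520941302403e0800f0220460840e01d0360340700c0200440780a0160240b01702a0640d0180260500900800e0180100100001402003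
  | 2 => 0x434851072184248310b210414790ef1d83c4770eb1e03b4750d71a83446b0d31a0354690cf2084047f1032003f4810ff1f83a4730e31d0394710e71c8384670cb190334650c7198324630fb1f03d47d0f71e83e47b0f31c03746d0df1b83646f0db1b0314610bf1883045f0c31802f4af15b2b0574ad1572b8564ab1432804f4a113f2785049f13b2504949112724848493123240554a914f2a8544a71532a05349d1372684e49b1332704d49911f2384648f11b2304748d117298524a314b290514a51472884c49712b2604b49512f2584a48b1132204548910f228444870b516c2d05c0b916e2ec5e0ba13a2784e09a136264500a113e2144308410420c4087f1001f8560ad1562c8598b115e2c057097130258488921202504a8930f81f43d8790f41e03b0770ea2a4550a814c29c528a31482884708f11a22c4608a1102244384c09e1242685009412c270480ce1a8320680d6194330690c60c41a02e0640d4178300660b42a8580a41582c8530a815c288700e61b4388740dc1bc3906c0740f41b83b07c0e01c83c06c10c2304008811c2084208a0fc2f0610b617c3105c0ba1802d0280560941482c04c09c150240460881081d03806c1001f03c04c0a01202c05c0a8190340600380800c010028030020080001002203c0680e01802805809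
  | 3 => 0x52c35893050204918a22681443988a2a64901487e1564ac2409c2bc1804212504e2d09e83f05647c3a8a809a4f8a28990d81ec1611d0aa4b85d15710e18c8f0780544d85884229c2402d0a516e2b8a41522b2094178362844c49c09611a27c1b82605a13c2c8450ce1c42e82e070090069041c83046b0011ea0507510c1b807c038c21aa3f8058e11de0587c8d70083008381d1b0310040c91f63981000a1d6414658c50043b80710b0263647e00519430c0b9031b6070710f31f04247f8100440645f0c819e08c0881a1d237c780d017e318740f21bc400850f618e3445e84b1764d41e87c24e170441460862a49683c0ec4983289a29e1585914007c1e49406e1225601807f2341884594c0a42b09e032104470390942b81005192a0622148d86a13a550248b526617c471490e025cad066140540280b8274118531300ae2bca08612aa254890830722902513b2ba2303483a226200568412642783a14a10c0ec888b60a64a48a8350ee2a89b8540b626cab07d22c0cc9f8441781b44494d0681e88a04c1664b03209228829c5c8b00bc1a03790f2324802c04709c260478a12424408b9392864bca895b28e4609110e19c34c030ed2040787a0da012330690001ba3e8061061c6048668d4006394868151fa3b00d8f1202084700f701e39c84018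
  | 4 => 0x4d87708b2002e0a40792483047309d25c548850a60f84946109427c36c579591ec1d8918c01d0508470b221852c8f08218825c791312085785491f10a3149c0a01bc54c5d8f923a1fc61891134220a715728a31c680be2684f4958ac16a28c640d117e384750d81f8414798c619e2f47293f1185445c8f70f434c8913713c3748095b14e1f46a11312a3b4960b021051c3b8d22224e47888f1665747d0cd1064544c1431c0554868aa19c2188b0e71424bc810bc2943304011412426c448fd20c3d08c12121e38c760da15a2d8521192444409913b252534ab14422e480870dc25a2288495a16e3288d8781de5004e0f82922946591c0f63909a8931fe540570c92341d46f93011a40caa0b11ac49c408e92742587d94c15035c940841e05044f90b2b82e86a9260fc388998901d64f04c8d925421c7f14f15641cac0b41ea518510170aa188338500200f80382809a1a8070220e21181e8040521c8100420ae0642e83c00209c278230be1583980d00a0c8158700b2044358160860201882c0341982281f096180010300541b83285c03804c0502e06e0940a01d0161482484005e0e0130480a20fc3186c0b40b41b0240b01a0108610880301a03b00611c2f00f0e81300a8350740182706f0301a42a01e0660e40004a0da048298640361042d809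
  | _ + 5 => 0x4dc8087d2aa3384c1191c62b4ad8d413c50c868862443b05b1131ba29c8b0e01544406d0a42a43983e11f20825c9a0c81584948509d2bc3c84293d1a22d4970c214c4c4628a92562fc5191c1961ec9d0e912c53c7f0ab2803bc4e1281ae210ac1071685247c0a52983ec541461ea288a88e50f44e4668b32303f44913f1a62e4ae8f11064848309b2243dc461151f423c878f41124d88007923c3a05914e18e244920ee170508860822ae3404d14818222ca58c411c5145f0882363283c1542062c4998e2120568848b724e3584093c1d6264968dc1144c06f88d254364438b012a1dc810e7198534991172103b4690bc142200ab13b24051c961112944bc8a144252438578940ec54c9c11d1f83846315927c48c5d8a00fe414750cf1ec36c600f91bc30c798d817a5409a91a1fe390648ae1261d4ae14124c42c780d517427c3f03e0ce05c2b04f00a1b81701c0a0154038320e608c32837026188140100be0ac0685c04a0282c83102c1c4350040701240e86b0e00202683d0440bc2901405810c0882908c038130400161d0260150760d0018530c806c1a83a00c1a02c0210941b4090470bc03c220610181042d8090cc12c180200320042886c06c0680f8020e415c1e0480c60b4228600541082e82707e1681204e0d20cc378540720600f000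

/-- Sylow 3-subgroup -/
def U1 : ℕ := 0x3dc2789f0521e0660a21d81b02c88d21033414075168368318962021143d8ce04e2ac7185a0583503f0a50ce39c7a0900a2210158d20e2380570fd10e120698810543c45b85d20c2641f8a81622e87d10d204098170361ca3747689c11424c1c02505a1ac3986009a1542102f06e0900895b2824548d80128c07099151260068021162345600513b27408ca391c00e450a78132524480292629250c0c80b266534941130044e40815003a4a8ab00824e4441115a25e0509e144298550ae00e02e0808792222e0580681f2804b49a9182204809f937258574aa94a242464870661603c01f086194100448f50be29c6f83c1003242489220e1c05c8e907a20c658521363f8180771aa118478f80dc2d8710310f435c2b8a11fe170520d90641f46b050130424328ad1d610c460fb0ac2788184b12a42c350b31de188550dc0e42f0720472142806207907228c320e12002382703b18a1d85a85b1d425c2c0f60f80e8618ac0da360608340fe2987906f0822447e0851840cc7405e15e14c4410506a208600681703782509a1e62a4590bb0881302a0be1a23183a0610d22744589418e2fc678ee1cc36c861041f2340640bd24a478019382b2060a292b01248c8e8002625200794e27a06c9211f00c508a90212ae4d0091362bc0549714b0184f8a981e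

/-- Sylow 3-subgroup -/
def U2 : ℕ := 0x2a4598ba2024247b15828a534550b11764287b8ff29e55ca20a81642f07c100210518a71561302384f8ef1ca36c9593c264258478a01ba3b87213d2664a44b88d1423986e0ed2684a89d8841021f8610c11804648c11710a2083f8cb1943248810f21c218418801a834c69122242480aa94b2b82985b8b020e3f47995e2a8528538b815c3f87a105298574a98a51722bc7a9061f84c49c94113822c4a8e31d63609d14225e274460931b4388751432604e04f08a1283b06c8e125049c9307d0f41dc5f8be17a4588a9140f61e03a8d11a033c8f91e23a1f03c87619031c631021f242ca89482b42b4518b41f4430819472b2540520b5156434820fb2b6548a48b6158288738de1e04dc971401242204c8e01e43a49613e26a2244d0901e23a06f93f26c4b44d89110e338628d719a3106b0cc186354899252384489211b22248c8d04c0ac10811011030170368630861342a021020068370640b41542204b04603c0c8650b61b0380680ba0340b81e0a6100240670be1bc0701503e1282903f0bc1c43300c02c080208490a20a0148270060180002f05c0b41d03b0720140400204c094120310640c0020070020e01b83609e1182c0720c01a40a00a0361142b84e0c41ac3a00b0380482c85008e1a83986103a04c0482c07c0d41583d0680a81e033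

/-- Sylow 3-subgroup -/
def U3 : ℕ := 0x3c84195c1a82dc9f107134480670b12703983d1501fc2448b8fb11c4507c08b2223d44410e21a208a08ef17248c688992ac3a45991d2021e49a8c81205346288d2943084514717e21ca20d7102498850b82b23b04d93b2082c8a98cb0f0468718922643804792f1ba230960da1124a443142216274ad0d2168484750972a83303e9361fe2ac8c0e11504546f0a522436c5110f1b0214ae8f0138490840b627833c4b11e2041f0a88e415a4cc630aa26030c5392d180290950bd10849c6a89e27e3b45a95720a2609c8e70f646c648ac29c3f05494b1f2298a40f6146514798801402e8698ee2124889e95819a3a0818771282b88c93429e4589894c2264b8a49102565185e07f13e56c9294020c3407595523e4e8580761263f4638e21f43106f8f71823707a0be1b250caf1281e24306b0a11761f89b952238394800ca12a2bc3a81506415c0206b0de070250360101c43482107c12c0985305a0402202a01a11c1380a0820900b068078014280540360bc360070ac138110740600481c06301e0a43000c058174048260b405c268720060d41c81d0ca1440303b06608c2c8660281b8240110be1140706208402c2e03f0e60f42c0190040782482e0c807c008180ce0c42605206e1b4218280bc118158610800942d8700aa0e82786a06806810000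

/-- Sylow 3-subgroup -/
def U4 : ℕ := 0x2544a09302003c088ab1582b44e89c13c0680c81814428c5208a11822c108230442d05a8b62a4544a804408410c708e21c6568ac95b0aa1582a0d81b2368a394929012c2604d1d43ac760ca1963241502b0584608b9191a434c6a03406a0cc8790e220308600c107c0f01e921240488730e51c81142384629e534a70ed1de3b82804f09c518a21451b836c6e8580ae164ac1562ae2c0578ae018034070921202445b8b917007c1001e11221c440a614a29c0b81502c26c4c89a2364708d02804e0a4630c818e494919240760e81c8bd17e2f8889122260c01903119e3446813626e4d42e85f0bc3f47e0fe27c4fca00710e01bc7a0f31ea4b89612d0ce1983410620a41c801011fe188300612644d09990a2104243506b0d24a49592a1ec3dc7c0720e61d09d93d2781f03b8780ec1e83d8790fa1d403802006004028060080200014c29452c790f11e0120250492ba578ae0df1bc380288530a454caa1551ce3a47403f0821004788d11c2f05d8ba0360700e8a014227c548a81540480981412c25c4c0b11662c80480a01630c628c424e4a09303706c0e06b8d61aa4508a91605c0b4178cd1983388f91d23c0941202625e4c49810c21a42c328630c850ca11411f23e87d86e0d81b49c938274410811030b81682d8830fe210400851022184107e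

/-- Sylow 3-subgroup -/
def U5 : ℕ := 0x52ca514c28e524a414628a510ae95c2bc564ad95a2b055cab1542a6554a81522a253ca714d2724e09d13526e4d89a1332644c0979312584b89692b2544a4a11412864f8a013f27a4f09d92724c4a0919252484889092023c4748f91a23846c8c91822e4548a11622244c8911021e4387d0f91f63d87c0f71ea3d07990c2164348410a21241c83105206408820ff2024007f0fd1f83a0738e91c8398728e31c43846f8de1c036c6e8dc1b43646c0f11e03c8768ef1dc3b0758ea1ac3546b8d21a834c688d019e334660ce19232c650c818e318620c318a300610c117e2f85e8aa1522a0538a614a290518a21782ec5d0b91702dc5b0b51682cc590b11602bc570ad1582ac4c09712c2544a0931242444808f11c2344608b114224440871422804f89e13a2704d89a13220c410811001fc3f08610a2103b8760ea1f43e07b0f41e43c0610c01882e85f0bc1702d85a0e61c83a06f0e21c03706d0d81a83486b0cc1a0338650c818c2784e0a012c2684c0941242404608a11c210440861042003f0b015c2c8540ac154298520a20f41e03e0720ec1d03806e0d81a03306a0c01903105e0b81682b0540b013829050098128240340640c01702c0540a0130240440800f01c0340600b014024118220420800f81e03a0700d80500800c0100100002003806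

/-- Sylow 3-subgroup -/
def U6 : ℕ := 0x4e41b8f026c0e87513307a3b44d00312826c028931320104a8dc0584a46f82625e3641492c29c1c06a9540e633ca886d1a42dc0e0761700743a8b90361dc7d04421c3d0239141ee1048891b0b042c8c05220a4782a9081060585788102a2b8410171602f82e14418217ca50c40c451c4880813e248030a112001c500f10764c87703826a3ac1f13825a0946d930056360950281bc2cc0987e162050400b20241fc8485922e4182b11a21814c8e9450c2300a405e17a52c2d8c30f00845d0790462f03d0221763403714d1ac1d0a80d30e254c8a8431ec43c200f32241187c93b27c5041902f06a3a0728e205c0c41a0e71c2390a113f2782204788a1162244688e11821c9012324c4007e9030a0134251572ba568660c619219c350640140440600d01603c0800e01231c668ca0ca1ac341562b25709212124e13c2484c2043f07f884158068430ad030214558192324342a11c2141448f9070ae308a485a17e530300c528c1745b07b03e2d43e01e1681f4101521a21bcaa8d70d853c6a0721f64581f8f82201147a9130842744c0021382580009e12e0049d0ef0724d07603626e3c81e0da2560907012e05437498827190338658660c61a4ad95e2b01202584e24a488941012083f8520a61502a8518a514e2a4510e31cc3a49e9432800b418033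

/-- chain -/
def UL0 : List (ℕ × ℕ) := []

/-- chain -/
def UL1 : List (ℕ × ℕ) := (U1, 1) :: UL0

/-- chain -/
def UL2 : List (ℕ × ℕ) := (U2, 3) :: UL1

/-- chain -/
def UL3 : List (ℕ × ℕ) := (U3, 9) :: UL2

/-- chain -/
def UL4 : List (ℕ × ℕ) := (U4, 27) :: UL3

/-- chain -/
def UL5 : List (ℕ × ℕ) := (U5, 81) :: UL4

/-- chain -/
def UL6 : List (ℕ × ℕ) := (U6, 243) :: UL5

/-- centraliser of an involution -/
def C1 : ℕ := 0x4d89b9352724e89c1332684c89f94027c508a19412784f49d92d25c4b09813125e4a8959292a2548a81542aa54ca714f29a568ad9592ba578ae1572b0558a414928e52ca614a28a518a211b2384688f11f23a4608c91724849491927250498909222404488991122a4588a10f220438728e61c83a0748e71c438c708ee1de3b4788f21e03ac760ea1b83746d8df1c03786c8da1b0400808ff206410810fd1fc3f08490a2104308690b20c41c828f71f03d87d0fb1f23d07a8f319432c648cd19c330638c818c34c6a0d21ac35c6a8d01a233c608c2180310628c317c2fc5e89512824c4c09712c2484889013c2744e0a114027c4d89a1322304588a11e2384688911021c580af15c2cc590b115a2b0558b91702dc5e0bb1742d85a8b414e298528aa1522a0520a31441e83c8780fa1f03d8770ec1d441882102218428841001fc3f04c09a12c2785009c124250480aa1582a0580b215c290530a210c2204208c11c228400820fc338680cc1a8358690c8194318700e21bc398740e41b43706c0bc17c2e8610c41802d85c0b40c4190300680d41982e05e0b41d03b0720f41f03c06e0e01b02805209c1582c0540941302404408c1081f0400780e01d0360640d01802c05c0a8130280480801101e0340700c01402c048070100180200500600401000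

/-- centraliser of an involution -/
def C2 : ℕ := 0x548aa94f2a2550a71502a65349b93a2684d89c93326a4e09911c23e4648d91e2304688e9172b6578ac15a2ba55cac95c2ac500a193d27e5089e13e2824ec929282444909392124649890149298518a414b28a51ca514425c4c49592d2604a89612f25244c8b11022445487911228438809041fc400818fd1fe4087e0e61d238c728e81c4390738e1196338640ca19a31c648cc18c4288690721243083108216414778f21d83b8788eb1da3c0750d41ae344698d61a03486a8cf1f03ec7a8f71f43d07b0f91e6374700da1b837c6c8db1bc360610c517e304620be18030c5e8ad1582ac598b21622c0578ae13025c4b0921222404a8941261f43e07b0f41e43c0770ec1d45b0b51682e45c0b71782ec5d09e13a2704d89a1322845009f10c214420831042044007f0fc29c530a51542a4540a41462884608b11423c4708d112220438680d61943386a0c81983486309a1402504c09e1242584e0900c81a82f0620d0170300660b4388740dc1c03986d0de1c8360560b214c2a8580a41502b8510760f81c03a07a0dc1c83c06c17c3105c0bc1842d85d0c01682204708210c230400841141f8290580981402b04a09c1502402c05c0a8130280480c81a0300740e01b0460881082003e0780200500601c040060020080000e01a0300881001e02c05009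

/-- centraliser of an involution -/
def C3 : ℕ := 0x4ac9613025e4a89712d2624a48c91a23c4748c11c23647c8b9582b2574ae1572b6568af15624448c9392624249492128240518a394b294514a49482985109a1352724e09993726c4e89914f2a0550a994e2a4544aa94d27a4f8a11412785009f9432764408891522843c8991222c4386d0db1be3786c8dd1b83806c0c8192334660c7196328670c620e4208610b20c4288490d20a344690d61aa3406a0d31ae33c7a8f61f43e47a0f81ee3ec798e31c83a0738e21cc394748e11fc3fc819021fa404801041f83b0768f11e03ac778ee1e43a85f8c018830c5f0c21823145e88f11c2344488810e2304588a0ee1d83a87d0f81ec3d0790f02d85a8b41782ec5d0b91702dc418821022003f87e10c214420a4146288538a614a2a8548a812a250498921222404c09712c2b4560ab1602bc570b31642c4508a013e26c4d09913c2744e0410841182284008810c2383f05e0c01a03305c0c81883505a1b8378730e41b4388700e81b01c03907a0f01b83b0740f81b05c0ba1843005b0be1783105a09412c2784e092134260500901943306a0d2190340670d618c298540b015c290560aa1642882604e0ac150250520a0160240020080000400a00c0380800c0340700c01402c0481002203c0a0130240680c81802e0580a81d03806c1001f03c08c11021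

/-- centraliser of an involution -/
def C4 : ℕ := 0x3c49c88f2ba2cc7d08319a454a18981c0434aa8aa10c3388b0a11ce4bc5e1022942006611427e394460b92a23dc6987a2242789b8dd2b6404538d40fa44c76895258420581471a41dc8889b124224830fd1e84848c10f1d838c6d0b615a290911192204ec991292ac534a212022e438a10e811c4305914b104478620f212e4c4af1041522148f8c51404e06f0bb2a63e43f91d1863b89b08b170400a41240f23044e8e625c428a90a624a1f06113e12836cac8af1ec48c3b0c01342444415729c514680c717c4f49a12b16a2b0518d11902fc750e11b04147e0f319e3185e9301be234aa10316249c6b0812743a44b14c1f62a0940d71085047809f2b842c5d1261aa1f8968dc114568848b72363283c1401de270a48f814a4706587b26a390499501fe2b88d0c90ea4f0758992663884812a1b221cac10716853c7f0ab28c3d4510220e21182686a01c0f4020290ce140080170aa1881f00705015c0c85d0e40802103c00209c358160861c02c8110100c4160560e6034278230be0141902b03e12c3001a0cc11401030054148248400280740582f0700980e0130141b83285c05c0dc128630d81682405107e0b41b0240e81300a8470bc03c1a83a00c1842200c0b01a01083407600c3485403c138378180660e4000640a606c3684a02416c20809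

/-- centraliser of an involution -/
def C5 : ℕ := 0x104990ad2262001d08c0d25749d8a40940e48908312a184aa8b60a64a44303b2222783a14a22c0cc3e88929a1b4220bc27e1dc8a8352ac16c4d8541544dc1a07a228190491440982cc9608f1422602384e0b04408b9210de178340b014e2e49010f232544ad94727250c97918244438051051d6310648081f6080730fc1b204c010c519642c070ee1c4070798ca00a30c818171b6304008d61ea3a80a00d1c84106a8c200e384058fe03e370860041ae3000e9071b0058778f91f03fc848100320885f0cf190068088231e037c748c617e340790e81bc428800f61a231c5e94f134194930760784b45484328c2202e1270f80f49a8bb0965604886e2501e41f1401641588e0820644a8518402b82503911a0fe0c09e0ac0a4530458622362141893316a124aa09d0d44c0530462822bc2b93a170140a80a00cc5244705f2b425c3812b0902ac1487e248228a98730a22889a1230502044994b0d62d09e83f1084941389c2bc1801611d0f621c3195725c2e82a87505647c361451324f85404d23c1e01514e1201689b0b10842344f8962624e0a102605a0dcac9482a42b8528b706c094178670e21742785908a0b81c0241a4330000e320c0487d0dd01834c670061b43d0049021da0786a0cd0063b07e81b21a3940a8e7210060700f701e3c480821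

/-- centraliser of an involution -/
def C6 : ℕ := 0x52ca514c28e524a414628a510ae95c2bc564ad95a2b055cab1542a6554a81522a253ca714d2724e09d13526e4d89a1332644c0979312584b89692b2544a4a11412864f8a013f27a4f09d92724c4a0919252484889092023c4748f91a23846c8c91822e4548a11622244c8911021e4387d0f91f63d87c0f71ea3d07990c2164348410a21241c83105206408820ff2024007f0fd1f83a0738e91c8398728e31c43846f8de1c036c6e8dc1b43646c0f11e03c8768ef1dc3b0758ea1ac3546b8d21a834c688d019e334660ce19232c650c818e318620c318a300610c117e2f85e8aa1522a0538a614a290518a21782ec5d0b91702dc5b0b51682cc590b11602bc570ad1582ac4c09712c2544a0931242444808f11c2344608b114224440871422804f89e13a2704d89a13220c410811001fc3f08610a2103b8760ea1f43e07b0f41e43c0610c01882e85f0bc1702d85a0e61c83a06f0e21c03706d0d81a83486b0cc1a0338650c818c2784e0a012c2684c0941242404608a11c210440861042003f0b015c2c8540ac154298520a20f41e03e0720ec1d03806e0d81a03306a0c01903105e0b81682b0540b013829050098128240340640c01702c0540a0130240440800f01c0340600b014024118220420800f81e03a0700d80500800c0100100002003806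

/-- centraliser of an involution -/
def C7 : ℕ := 0x3dc2789f0521e0660a21d81b02c88d21033414075168368318962021143d8ce04e2ac7185a0583503f0a50ce39c7a0900a2210158d20e2380570fd10e120698810543c45b85d20c2641f8a81622e87d10d204098170361ca3747689c11424c1c02505a1ac3986009a1542102f06e0900895b2824548d80128c07099151260068021162345600513b27408ca391c00e450a78132524480292629250c0c80b266534941130044e40815003a4a8ab00824e4441115a25e0509e144298550ae00e02e0808792222e0580681f2804b49a9182204809f937258574aa94a242464870661603c01f086194100448f50be29c6f83c1003242489220e1c05c8e907a20c658521363f8180771aa118478f80dc2d8710310f435c2b8a11fe170520d90641f46b050130424328ad1d610c460fb0ac2788184b12a42c350b31de188550dc0e42f0720472142806207907228c320e12002382703b18a1d85a85b1d425c2c0f60f80e8618ac0da360608340fe2987906f0822447e0851840cc7405e15e14c4410506a208600681703782509a1e62a4590bb0881302a0be1a23183a0610d22744589418e2fc678ee1cc36c861041f2340640bd24a478019382b2060a292b01248c8e8002625200794e27a06c9211f00c508a90212ae4d0091362bc0549714b0184f8a981e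

/-- centraliser of an involution -/
def C8 : ℕ := 0x404800ff20840c810fe1fa3f0851092104348610b20e418828f81ee3d87d8fa1f23d47a0f31cc394720e91d039c718e21c23bc770ed1e43c4780ec1d63a86e8dc1b63806f8de1b43646c0cb194324670cd198320638c61a834c690d71ac354688d019e308608c018a310618bf17c2f4a91512a0554aa15329e538a695b2b4564af15d2b8560ab956292520a394c296528a31452884dc9b1352744e49c1342664c8a013f27c50ca114127a4f09d92e25a4b09893025e4ac9512923846c8d11f23c4748c91822e4949212325049c93122242480899122224588a91422043c870af1602b8590b31622b0568ab1702e45b8bb1782e85a8b6168298538a51522a8540a31482884a09512625c4c0961222484809d13c270500a113e2684d8991162304508e11e2344408910e1f03e87b0f21e83c0760ee1d442886108208418810fe2003f0580b215c2a8560a81482985109e1402704c09a12c2484a09011823845086110210400820fc398740e41c03886f0da1b83606a0d61a4338680cc190328630c21883005e0be1742d85c0b40f41f03c0740ec1c8370700d81a0350660c41903005c0bc1682b0580a81402904e0941302402c05c0a8190340600981402407c1001e04408c1081c03a06c0680e0180400880f01402c0480500800c0400700c00800800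

/-- chain -/
def CL0 : List (ℕ × ℕ) := []

/-- chain -/
def CL1 : List (ℕ × ℕ) := (C1, 1) :: CL0

/-- chain -/
def CL2 : List (ℕ × ℕ) := (C2, 2) :: CL1

/-- chain -/
def CL3 : List (ℕ × ℕ) := (C3, 4) :: CL2

/-- chain -/
def CL4 : List (ℕ × ℕ) := (C4, 8) :: CL3

/-- chain -/
def CL5 : List (ℕ × ℕ) := (C5, 16) :: CL4

/-- chain -/
def CL6 : List (ℕ × ℕ) := (C6, 32) :: CL5

/-- chain -/
def CL7 : List (ℕ × ℕ) := (C7, 96) :: CL6

/-- chain -/
def CL8 : List (ℕ × ℕ) := (C8, 288) :: CL7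

/-- of order 7 or 13 -/
def A0 : ℕ := 0x4b07689527e394461371ba278a39081605447b8b92b6404539111a41dc890d30f444c6a07d27c36c4a1361dc22c970e613a5647b0af2904005c152214298918c00ec4906087924a3083e1351c824c968dc1145007789c2a03fc5715a2122dca48f814a468648752363283c11c1961eca18e01304bc738a12723c44795521a2a8a51021785747d0b322c338431141982008a8cd1064c479097270378501421d0238af10415254c7c8bb2964305911f18a2148e8c30fe478620822743a44b1411e027c980df11a5307d8a82b842c5d1542062c4940d71084986a87e24e3584089b112248760da1c64ec949321e83f4830a415a2d8a214d2ac4609090f232488881172404384d0881224f4959341d43607094529c55c518ac16a3cc7e10518e3405f0c81a22fc630cf17a4f0951331d63647109910e240a314f2b03d47f1071442ac5a0700b20443304503417c278230861ac0b04b0c007c2b07301a0c4160080600a801032056014338500201742b8190e2118110550c405c210720401343500e0500f8038270780041483d0081782380f0de1380c0680b00842607402a1503481e0881840603a06a0181c8330000ec1a0030a41002481c01404c3185a0d802c0e8140b81943703f0a21201c02f04c0dc1702506c0b4120410a61282d8640da0240d812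

/-- of order 7 or 13 -/
def A1 : ℕ := 0x1406193728a0d87e8ef24c1783f89e020418ab824280354238dd0ce474168f429c2703f00f25602c8706a12e348848b10664809a01d1e41dc268b72060e40a11727a444071312b4550000b31f45744c1431c0024368530540c00100d0ac1cc208120c84005c1480ec3009185b09406ca98072b6248318d01961d04f82814e3e46389b0d84700a9412022ec1f05a17c2243d84c1e01245f93207a51c8201e11a1e094852190420af0290d237c8d8d127610054804160150980ca1063348a93e12836c8394f14422c9b0ee04617c278b41fc5180d0450cc458670862b02ac7a8a00aa44c4891807e018858f82701883e8882421201d0ba2923780b8d413443c288352b82945182f2ac47c4a8460de4b4408ac04c5344292c0e20606e0d616a0e0a20c51da0882708a24e4902588f18207c788790c04e47b10d00a5645503215e5541591e0324fc5682e20a3902c0840ba230620fc16c0dc9a8212503944105704a3cc520930d035c328d82321c8890e80062a0571100dc384699420840d07d9501d44882e08e0401e81d94c1fe2f08114a24a1f0610eb26621c531522140582186b132388950080580c4978e71424f0480d9026368678f7002430648e9018070760bd1720f0a5875274184050e318c544138b2234258220592282743808025c044660e6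

/-- of order 7 or 13 -/
def A2 : ℕ := 0x30580921cc53c228c605046c5709101c1187214e18e0a48d09001a2bca68471ca3201391c2a010c718ad12604416119192388a884212803c5602b22e32c220e12a404055895054460651332684c82e85e0be1e83b07b0c2180310fd1fc3f03b87c0f03fc8090026c4d49b87d0f21d45b81f112140a30ed17a4941d81e1102e07704e28a2f89203910e2e4101441de13c5f923074150ad8da1480604f0d42200cc6c8562b20644e0a31a64381a95a1b01544e8a2034348878342544ac9493e2804fc0280100c4248410a1e83d47980200e00c3486b0d41c437870010010000a602e26c6e0582b0444180cf14e0584d0dd0b255c898311a02940a8991b615cab112064344a404d1d822c110b61820f4911490983ac4602316a3001e12028e12c7508a0422d06103e2423e03a13c1ee1cc9e8f60e44ec9706720c4b434107258198828121402a4ae8df0a2450170d713e2a80a0522b83808b02f1aa2a0098a11bc14caf11505a358780492962385d01d0703109314c1e41205e01b11e0dc619270945287881c11a2ec1b0c52503ec7d0f90c6190328851002043686c0dc4c49812f0fe20c4214128450c8690b2182084307e1d0554200b213002c8f0ce04c39ca983f1622580491f19a094749540822cc4b80a23a3301213a20616c9c1020b44e48205c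

/-- of order 7 or 13 -/
def A3 : ℕ := 0x1740c8570ce04028071044118138010780a00383e0520101e8420401c82a8170c41340706a1ce4bc508e02862607893911e3308a08019c458430cd22a20c8114a178434aa8aa1f4574598ae2a03fc5b95a212294a48f80ea468648782363283d91c19624c9a8e41144b46e09c2803bc160080620a801030056014190590221c02281a0cc13c1185f0d60582186003e12c3980d0ac34c8907a1a44443b8d42261f47b951172420a38b020256c538e527e2307692c12a3749b89e1084a06b87e24c354409271ac2589d0e913e5047808d26037c5414c1f62e8ae10b1625508186e0ca1700581403a1441f8480260280e0520921002d0630d8094170370700981782d06c0905b0ad1483d0830fd29a510ab0e31b43b04d8921124a49d9322204888c91821e4849011721c2404c8872664f0950e21d6364558b414453cac1461fc41c7a8791824903b0c02461f061125170400a40af1ec5645310a2a422c7713612836c9f09d1cc4b86288523e30c3f91d1882088f0f212e4c46f0a02703a0471422082a4af0f917654c860b22960e81a8060720cc0003b06800c2f04701e1bc270180d01601084c0e80542a06903c1103080c1222684412b2684f4750d81c255ca294e1582d4518f31f84145f0c71a03445f8c818c33c5e84a08214c3685b0c80480481b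

/-- of order 7 or 13 -/
def A4 : ℕ := 0x2f0278c101445ca70841f01a42f87920455c0990e1ae2942a12429408c901450384a0a481e0163d05e8860965485d11b0d033c0a0fd0c02988b15c0f0160830c603a4286701f2163281088523e3145d8f92a6024250642b629c808d30f44482d8120a61083902008c1c4110410da06c028e71dc2209482512c0e4a012f1160ac1b8912763a4000ef26c0c85093205c2689d0331382241c0ea1303981500325a5047089204c4b8011430762287802f1b026c180e013a0d06e09f12e4c47900407a0a4438e22780f0008271ca2309f92a1203ac6e93713c3789c0a01b24cc4c8562284002e0d02ac0603d8a801a2005c06517c5342711c1f61cc661480dc31ca206f1965302910f1f80683e0aa0c2354ad0492303cc330c22aa0303f0b70804848284524a434221262120643e8a90ba350af0572264102691d1ee0383f8b90d430ca88111f43005a9190c6204261502ba1d82c85a1464406b0151fe48c380b32441b0561270e82b85b04817e20c7b06b01e468aa0d1148144ac81622a1783a90307e3205684319a2bc238c91622088f0c4020140338b41ea53c310170aa3483b9112b02887f10828e2c08614b16441ca30ab1c64ac1b13e1e20b04689300c3b09e82412823c041301c80e86d13405a36c9c8311be4d41a92c1d00f84a88e00e3b4a1028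

/-- of order 7 or 13 -/
def A5 : ℕ := 0x4242c9170c2300a287e16604c2b11a20c5202f0bd1002c40a11d21814c6194b0b61fc590120883e8870d50e05385b876038450238f40e6550678b80ea0747b9110825446906d1721dc0d926246480ad15d2ae0300880a20040c7e8cc1923180680f0161342804a0d419c3200e0200242a10d2325246105a1080685610a2381443014c17e2180c0ad23e15c838c50ba518428191563e0229101ae5543601e0f82d48b0fb07e548378d103e1ec5b0422263d4390d429e0803e8b4250494910690cc18c528aa14612c2704819c32c640a6150290809041fc56caf15814e2a45105220a4602f94a182054570810b042c8d85c2882f80b0af1061548411e0c451c62017160208200f321e1d0a80d60462f03c8431ec4543714d1a00845d07808c3e4890712a634c110bb0f41307f92709e408920491f84843595919a1a0ae0ca0ca5586383b1e24c8968db04a27c040911dc4d41c02b260360508061244e01f0eb1bc0a0950a000e2406e02c2523c09c8370062504d12f1be0989b03a1d40144989b0524b06c83d1da4cc020951325049f13b0680c41708a11e2201903505e39c720e1116234448e51d03889f942278230470871c04b8151341d80d84e096000368958242743bc1c89d1300086e93104e4dc7903c13c25c008e62860c07494006638c9e82d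

/-- of order 7 or 13 -/
def A6 : ℕ := 0x4646d0b62584203b95d19a23c910e314851c690952723e8419101d82b4888ed160454788b32563205a9591b61d88f10c11c4d0688a32463d84a14b1d02089e8bf1584f8600af2843105915820e2d08d0c90ea4c06f88d28c3d4511351c824c938d610253c7f0ab2a03fc571542062c4978cc178460830892b63743e94a1ce200908f41244dc6a0a72284085090f1fa26c8990113c4746f0bb2ae31c4412e2141f09c0f90fe5146809124a39853153186280a70be1345486109d2b842c5d12a1b221c8e0cb0f64986a87e266388481491f0294a08f013e4f0758992803bc4e08c0f42e4700ce21a4a48b9561a63dc72886154260901442645449f9122aa50c8b14d276438458791704c48f95e1b0318829242904d8428a912e33c798e12003b8609041e43147e0ea17a4b48d95a1b83288488a0f02dc9414c27435c7d8e91082a04b04b08a0082e02e0260f43880e0601800d06e06e0282304d0081981501f0ca0940e06a0520882e8720020e02001409e0c806842078064178490161cc2f80504e15c100260a4074158560460e4198000941b4090610880303784e0301042d8090680ec018540d207829864036160340210860c43801000e05c2d0360900200881607c1882802d07e1b02c86b058154338280a218c1203508e1d01d05e09801807815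

/-- of order 7 or 13 -/
def A7 : ℕ := 0x2f8ab89118a5784b8c02b22506814e110410988851b648c578c728a2687911f1523d89f076026094370160581c00c8270e40701b85c0221ac1880108415c0502e0ca0202c8430401741e107168560848b72b442c5d15c1ea288a30ca0f046c7809f2823f85594f1b8228968d50fc498771480f23209e8a31f2474500c126c2e05f93416a30c9c0bb200490458d12562b06f1530fe0402a83e03a0bc200020c01980b8280a0050130490340a8258070ce188058380a407c228301ae210940d910e4a87f8ae2a03a44b13a1c4240998e41264d47d8a82983ac4c93c1921d48d08211c2c89715224a3f0678d828452c8f0a60f8274630ea1e6430620e8184398850e120a2f41905f0ac038110040c60d81f82301a0142303d0d40b42885a0e60ac2782909a1c42406c04832c7c0ef0f62944e11c2925006f8d6206234408b126049caa0862aa380449211fa2c0960d21304588689221e4184a9112102a8a18ce1364607a07728e3b49f87a1ee464520ec29428466112172394880b61c64505e0e72a22306992215a368978802041782380f0a61900d8330720002607402a1283681209c1bc0c03a06a0182085b0121a42a01e10623c598dd202350a69202523c47d0cd14e1f44f117276510ae91527244c9b95b264558870580c20d03404407608406003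

/-- of order 7 or 13 -/
def A8 : ℕ := 0x504301050442405491019a0e8309062862a81089221e3381d907284188488a8046438660390182805a9340d03e48e8bf0682d0068a10ce3ec9911e17c0cc4f8b601c3e89986623e2f41a9582ac55ca514c296014038001e03c8788e11c438c0100400c110218420ae1602c80800200c3a1311f82cc4381a2440a46a9301fa1c80c8b1112484138d61fc1cc978880302c8900281ae2340b0ac25640c3802c1a249c5588e02e408379290563409401515a23c3892a2080a86792629e534a705009c13c410801081302584d1b03646d0851061f86f8de1c0554aa1530fe2184086a2723cc078ba1320c0629190d64e07a01117626c188c32301a49d0f50202f04d03218845c100981461748693d0784586401e12c2882f90c2760f88a0c703e25c5205e2164f01e91518c150749460ac3a0a20551ce5142315d1d411cae0eb08a5787605b27c4285389303a4481b0ca2804202e01c14a254888371964242d13f12806c531130703244e00a1704d87c06505c3048e0b713a02c7b86426e0b46011a0122e44f06326a3d8178c2236568ad9590a414c2887c0f41d42084007e398720e50ec1f43c0ef1dc3b4a39492901e43b87b1162c0099002581b8920d204a230578141fe4b4369251a8090450ae0244049706c24634c130dc2a01286d951092374a9048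

/-- of order 7 or 13 -/
def A9 : ℕ := 0xb8520fc2182e41394c0065405b10504a004a59511500d07f8f306e2b47b83c1643ec1d8ae21001082144146098198b72a82a4a382916a0bca680021240c1e95e1600e0ab0ac072568589481704001900505641c5114f0040c0150aa21a5545a1461fc5747d0b32b23d8579581ea2ac6d00a17a1c83d14225024c2c01318c3b0470422242109a86819e38c0e0d31d00806b8e40421c44a8c524002c9e8df0f0150428461da0509a10e11a3283492c23e0889591703a4c08d81e2481e4608db1284f8368090a623c9c8f110c3388b0120821902586003e13c2f82309416c0d9100ca3a8410191183242213a2441b86c0c40ae4fc3a80c12c4642e0e123c1747291a0c23a48886a1e4320201321020604507701c25c5f85227649c378dc1a4134988d10924a46b04e25a33422936106068459150cc3b83b00d13048c398e0180158a183f11043c9b87f0ce32c0a8f0122484288101ba30c3d8742824602409a23a1404f11c09827c9c01722631c4486308e1f87787d1bc1544906c17c03c931400c43505005a1a026c2f0d5138330401140860583593310e3ac088700b21f0928c21203649e0e625c2747392f1423889509917629c038fd29c090a490b06a54c8082820c514168a51740187c95b07c3d0ab8361f05701d0a61780208514a0625488102c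

/-- witnesses -/
def WU : ℕ := 0x403011021403310021403011021002011251402010271402011260038001221203010221203001221100412024010414022010414350103210032110310032110310034100214034110403024110214030101025350101146300001122320100142380100145202001142360101103360101103220031103250320031102320101102320101102032100212032110202030110212203010221203001221034001221001122320101036320101125300100212032010914032010512340310021203011031203011031703320001165320100122503100125032102310032110210036110310203010651203011220003011271203011021203011021203310021024110502020110612024100612340100152902100162340001172310021203011031203011031403100412024110403022110414030001142340100144240100142603021203011031503210031203011912020110914036100703022110142502100142350001145260100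

/-- witnesses -/
def WC : ℕ := 0x303101070101206101025160440810102164540221000022540000337411114030123322000200210011001044110411000010110634528100003130220211112200002215333302140000372211110210023041026012011012106055100901000011110000555333331111222240801125240025111100112323472400003200110011002200225311431194202402033310106020052130204106571001015511113012000044140000332211110603123221007000210012000652151021000001116021552200001101447034371100004465111150110000438458443002100311100513200511020174068050000051260000242121232171441202022122540061332300541111472200004300150022006400213111381122011210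

end Cfsg.Agent.H983.Pw.G23
end

-- part: H983/Pw/GTwoThreeChk
section
/-!
# `G₂(3)` on 351 points: kernel checks (helper983)
-/

set_option autoImplicit false
set_option maxRecDepth 100000

namespace Cfsg.Agent.H983.Pw.G23

open Cfsg.Agent.SporadicA.PermTab

theorem wU1 : chkWord 351 U1 [T 3, T 0] = true := by decide +kernel
theorem sU1 : stepB 351 1 U1 3 0 UL0 [] [0] = true := by decide +kernel
theorem wU2 : chkWord 351 U2 [T 5, T 1, T 0, T 5] = true := by decide +kernel
theorem sU2 : stepB 351 3 U2 3 0 UL1 [1] [0] = true := by decide +kernel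
theorem wU3 : chkWord 351 U3 [T 2, T 5, T 1, T 0, T 5, T 2] = true := by decide +kernel
theorem sU3 : stepB 351 9 U3 3 0 UL2 [3, 1] [1] = true := by decide +kernel
theorem wU4 : chkWord 351 U4 [T 4, T 5, T 3, T 0, T 5, T 4] = true := by decide +kernel
theorem sU4 : stepB 351 27 U4 3 0 UL3 [9, 3, 1] [0] = true := by decide +kernel
theorem wU5 : chkWord 351 U5 [T 1, T 0] = true := by decide +kernel
theorem sU5 : stepB 351 81 U5 3 0 UL4 [27, 12, 3, 1] [0] = true := by decide +kernel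
theorem wU6 : chkWord 351 U6 [T 5, T 3, T 4, T 3, T 0, T 5] = true := by decide +kernel
theorem sU6 : stepB 351 243 U6 3 0 UL5 [122, 28, 9, 3, 1] [1] = true := by decide +kernel
theorem wC1 : chkWord 351 C1 [T 2, T 0, T 2, T 0] = true := by decide +kernel
theorem sC1 : stepB 351 1 C1 2 0 CL0 [] [1] = true := by decide +kernel
theorem wC2 : chkWord 351 C2 [T 2, T 0] = true := by decide +kernel
theorem sC2 : stepB 351 2 C2 2 1 CL1 [1] [0] = true := by decide +kernel
theorem wC3 : chkWord 351 C3 [T 0, T 1, T 2, T 0, T 1, T 0] = true := by decide +kernel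
theorem sC3 : stepB 351 4 C3 2 1 CL2 [3, 1] [0] = true := by decide +kernel
theorem wC4 : chkWord 351 C4 [T 4, T 0] = true := by decide +kernel
theorem sC4 : stepB 351 8 C4 2 1 CL3 [4, 2, 1] [1] = true := by decide +kernel
theorem wC5 : chkWord 351 C5 [T 0, T 3, T 4, T 0, T 3, T 0] = true := by decide +kernel
theorem sC5 : stepB 351 16 C5 2 1 CL4 [9, 4, 2, 1] [1] = true := by decide +kernel
theorem wC6 : chkWord 351 C6 [T 1, T 0] = true := by decide +kernel
theorem sC6 : stepB 351 32 C6 3 0 CL5 [16, 8, 6, 4, 1] [0] = true := by decide +kernel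
theorem wC7 : chkWord 351 C7 [T 3, T 0] = true := by decide +kernel
theorem sC7 : stepB 351 96 C7 3 0 CL6 [32, 24, 16, 4, 2, 1] [36] = true := by decide +kernel
theorem wC8 : chkWord 351 C8 [T 0] = true := by decide +kernel
theorem sC8 : stepB 351 288 C8 2 0 CL7 [192, 64, 25, 9, 7, 3, 1] [48, 3] = true := by decide +kernel
theorem wA0 : chkWord 351 A0 [T 5, T 2, T 1] = true := by decide +kernel
theorem cA0 : cycB 7 6 (lk A0) = true := by decide +kernel
theorem wA1 : chkWord 351 A1 [T 3, T 4, T 5, T 1, T 3, T 0] = true := by decide +kernel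
theorem cA1 : cycB 7 6 (lk A1) = true := by decide +kernel
theorem wA2 : chkWord 351 A2 [T 1, T 3, T 1, T 5, T 4] = true := by decide +kernel
theorem cA2 : cycB 7 6 (lk A2) = true := by decide +kernel
theorem wA3 : chkWord 351 A3 [T 5, T 2, T 1, T 3, T 0] = true := by decide +kernel
theorem cA3 : cycB 7 6 (lk A3) = true := by decide +kernel
theorem wA4 : chkWord 351 A4 [T 3, T 0, T 4, T 5, T 1, T 0] = true := by decide +kernel
theorem cA4 : cycB 7 6 (lk A4) = true := by decide +kernel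
theorem wA5 : chkWord 351 A5 [T 3, T 2, T 5, T 0] = true := by decide +kernel
theorem cA5 : cycB 7 6 (lk A5) = true := by decide +kernel
theorem wA6 : chkWord 351 A6 [T 5, T 1, T 2, T 0, T 1] = true := by decide +kernel
theorem cA6 : cycB 7 6 (lk A6) = true := by decide +kernel
theorem wA7 : chkWord 351 A7 [T 5, T 1, T 3, T 0, T 2] = true := by decide +kernel
theorem cA7 : cycB 7 6 (lk A7) = true := by decide +kernel
theorem wA8 : chkWord 351 A8 [T 3, T 1, T 5, T 4, T 1] = true := by decide +kernel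
theorem cA8 : cycB 7 6 (lk A8) = true := by decide +kernel
theorem wA9 : chkWord 351 A9 [T 0, T 3, T 4, T 5, T 1, T 0] = true := by decide +kernel
theorem cA9 : cycB 7 6 (lk A9) = true := by decide +kernel

theorem inv0 : chkInv 351 (T 0) (T 0) = true := by decide +kernel
theorem inv1 : chkInv 351 (T 1) (T 1) = true := by decide +kernel
theorem inv2 : chkInv 351 (T 2) (T 2) = true := by decide +kernel
theorem inv3 : chkInv 351 (T 3) (T 3) = true := by decide +kernel
theorem inv4 : chkInv 351 (T 4) (T 4) = true := by decide +kernel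
theorem inv5 : chkInv 351 (T 5) (T 5) = true := by decide +kernel

theorem inv_all : ∀ j, chkInv 351 (T j) (T j) = true
  | 0 => inv0
  | 1 => inv1
  | 2 => inv2
  | 3 => inv3
  | 4 => inv4
  | _ + 5 => inv5

/-- the tables of the witnesses -/
def As : List ℕ := [A0, A1, A2, A3, A4, A5, A6, A7, A8, A9]

theorem witU : allB (witB 7 6 UL6 A0 As WU) 729 = true := by decide +kernel
theorem witC : allB (witB 7 6 CL8 A0 As WC) 576 = true := by decide +kernel

end Cfsg.Agent.H983.Pw.G23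
end

-- part: H983/Pw/GTwoThreeJ
section
/-!
# `G₂(3)` on 351 points: the isomorphism (helper983)

`J` : the group generated by the six involutions; `exists_iso : Nonempty (J ≃* chevG2.group (ZMod 3))`.
-/

set_option autoImplicit false
set_option maxRecDepth 100000

namespace Cfsg.Agent.H983.Pw.G23

open Cfsg.Agent.SporadicA.PermTab Cfsg.Agent.H64.G23Abs

/-- value of a word at a point -/
def ap : List ℕ → ℕ → ℕ
  | [], p => p
  | l :: w, p => lk (T l) (ap w p)

/-- equality of two words -/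
def chk (u v : List ℕ) : Bool := allB (fun p => Nat.beq (ap u p) (ap v p)) 351

/-- the letters -/
def S (j : ℕ) : Equiv.Perm (Fin 351) := mkPerm (T j) (T j) (inv_all j)

theorem S_rep (j : ℕ) : Rep (S j) (lk (T j)) := fun _ => rfl

/-- value of a word -/
def ev (w : List ℕ) : Equiv.Perm (Fin 351) := (w.map S).prod

theorem ev_val (w : List ℕ) (p : Fin 351) : (ev w p).val = ap w p.val := by
  induction w generalizing p with
  | nil => rfl
  | cons l w ih =>
    show (S l (ev w p)).val = lk (T l) (ap w p)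
    rw [← ih]
    rfl

theorem ev_nil : ev [] = 1 := rfl

theorem mulw (u v : List ℕ) : ev u * ev v = ev (u ++ v) := by
  unfold ev
  rw [List.map_append, List.prod_append]

theorem key (u v : List ℕ) (h : chk u v = true) : ev u = ev v := by
  apply Equiv.ext
  intro p
  apply Fin.ext
  rw [ev_val, ev_val]
  exact Nat.eq_of_beq_eq_true ((allB_iff _ _).1 h p p.2)

theorem invw {u v : List ℕ} (h : chk (u ++ v) [] = true) : (ev u)⁻¹ = ev v :=
  inv_eq_of_mul_eq_one_right (by rw [mulw, key _ [] h, ev_nil])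

/-- the relations -/
theorem relC : RelC (ev [0, 1]) (ev [0, 2]) (ev [0, 3]) (ev [0, 4]) (ev [0]) (ev [5]) where
  a3 := by rw [pow_three', mulw, mulw]; exact key _ [] (by decide +kernel)
  c3 := by rw [pow_three', mulw, mulw]; exact key _ [] (by decide +kernel)
  b4 := by rw [pow_succ, pow_three', mulw, mulw, mulw]; exact key _ [] (by decide +kernel)
  bd2 := by rw [mulw, mulw]; exact key _ _ (by decide +kernel)
  rr := by rw [mulw]; exact key _ [] (by decide +kernel)
  tt := by rw [mulw]; exact key _ [] (by decide +kernel)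
  ad := by rw [mulw, mulw]; exact key _ _ (by decide +kernel)
  bc := by rw [mulw, mulw]; exact key _ _ (by decide +kernel)
  bd := by rw [mulw, mulw]; exact key _ _ (by decide +kernel)
  ab3 := by rw [pow_three', mulw, mulw, mulw]; exact key _ [] (by decide +kernel)
  cd3 := by rw [pow_three', mulw, mulw, mulw]; exact key _ [] (by decide +kernel)
  za := by rw [mulw, mulw, mulw]; exact key _ _ (by decide +kernel)
  zc := by rw [mulw, mulw, mulw]; exact key _ _ (by decide +kernel)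
  ra := by
    rw [mulw, mulw]
    exact eq_inv_of_mul_eq_one_left (by rw [mulw]; exact key _ [] (by decide +kernel))
  rb := by
    rw [mulw, mulw]
    exact eq_inv_of_mul_eq_one_left (by rw [mulw]; exact key _ [] (by decide +kernel))
  rc := by
    rw [mulw, mulw]
    exact eq_inv_of_mul_eq_one_left (by rw [mulw]; exact key _ [] (by decide +kernel))
  rd := by
    rw [mulw, mulw]
    exact eq_inv_of_mul_eq_one_left (by rw [mulw]; exact key _ [] (by decide +kernel))
  bt3 := by rw [pow_three', mulw, mulw, mulw]; exact key _ [] (by decide +kernel)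
  te := by simp only [mulw]; exact key _ _ (by decide +kernel)
  tz := by simp only [mulw]; exact key _ _ (by decide +kernel)
  k1 := by simp only [mulw]; exact key _ _ (by decide +kernel)
  k2 := by
    have h : (ev ([5] ++ ([0, 2] ++ [0, 4])))⁻¹ = ev [4, 0, 2, 0, 5] := invw (by decide +kernel)
    simp only [mulw, h]
    exact key _ _ (by decide +kernel)
  k3 := by simp only [mulw]; exact key _ _ (by decide +kernel)

theorem ac_comm : ev [0, 1] * ev [0, 3] = ev [0, 3] * ev [0, 1] := by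
  rw [mulw, mulw]; exact key _ _ (by decide +kernel)

theorem a_ne : ev [0, 1] ≠ 1 := by
  intro h
  have h1 : (ev [0, 1] 0).val = ((1 : Equiv.Perm (Fin 351)) 0).val := by rw [h]
  rw [ev_val] at h1
  revert h1
  decide +kernel

/-- the generators -/
abbrev gens : Set (Equiv.Perm (Fin 351)) := {ev [0, 1], ev [0, 2], ev [0, 3], ev [0, 4], ev [0], ev [5]}

/-- **The group** -/
abbrev J : Subgroup (Equiv.Perm (Fin 351)) := Subgroup.closure gens

theorem mem_a : ev [0, 1] ∈ J := Subgroup.subset_closure (by simp [gens])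
theorem mem_b : ev [0, 2] ∈ J := Subgroup.subset_closure (by simp [gens])
theorem mem_c : ev [0, 3] ∈ J := Subgroup.subset_closure (by simp [gens])
theorem mem_d : ev [0, 4] ∈ J := Subgroup.subset_closure (by simp [gens])
theorem mem_r : ev [0] ∈ J := Subgroup.subset_closure (by simp [gens])
theorem mem_t : ev [5] ∈ J := Subgroup.subset_closure (by simp [gens])

theorem mem_S {j : ℕ} (h : ev [0, j] ∈ J) : S j ∈ J := by
  have e : S j = ev [0] * ev [0, j] := by
    have e1 : ev [0] * ev [0, j] = ev [0] * ev [0] * ev [j] := by rw [mul_assoc, mulw, mulw, mulw]; rfl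
    rw [e1, relC.rr, one_mul]
    exact (mul_one _).symm
  rw [e]
  exact mul_mem mem_r h

theorem inG_T : ∀ j, InG J (T j)
  | 0 => ⟨S 0, (by simpa [ev] using mem_r : S 0 ∈ J), S_rep 0⟩
  | 1 => ⟨S 1, mem_S mem_a, S_rep 1⟩
  | 2 => ⟨S 2, mem_S mem_b, S_rep 2⟩
  | 3 => ⟨S 3, mem_S mem_c, S_rep 3⟩
  | 4 => ⟨S 4, mem_S mem_d, S_rep 4⟩
  | _ + 5 => ⟨S 5, (by simpa [ev] using mem_t : S 5 ∈ J), S_rep 5⟩

theorem relC_lift : RelC (⟨_, mem_a⟩ : J) ⟨_, mem_b⟩ ⟨_, mem_c⟩ ⟨_, mem_d⟩ ⟨_, mem_r⟩ ⟨_, mem_t⟩ where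
  a3 := Subtype.ext relC.a3
  c3 := Subtype.ext relC.c3
  b4 := Subtype.ext relC.b4
  bd2 := Subtype.ext relC.bd2
  rr := Subtype.ext relC.rr
  tt := Subtype.ext relC.tt
  ad := Subtype.ext relC.ad
  bc := Subtype.ext relC.bc
  bd := Subtype.ext relC.bd
  ab3 := Subtype.ext relC.ab3
  cd3 := Subtype.ext relC.cd3
  za := Subtype.ext relC.za
  zc := Subtype.ext relC.zc
  ra := Subtype.ext relC.ra
  rb := Subtype.ext relC.rb
  rc := Subtype.ext relC.rc
  rd := Subtype.ext relC.rd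
  bt3 := Subtype.ext relC.bt3
  te := Subtype.ext relC.te
  tz := Subtype.ext relC.tz
  k1 := Subtype.ext relC.k1
  k2 := Subtype.ext relC.k2
  k3 := Subtype.ext relC.k3

theorem closure_lift : Subgroup.closure {(⟨_, mem_a⟩ : J), ⟨_, mem_b⟩, ⟨_, mem_c⟩, ⟨_, mem_d⟩, ⟨_, mem_r⟩,
    ⟨_, mem_t⟩} = ⊤ := by
  have h1 := Subgroup.closure_closure_coe_preimage (k := gens)
  have h2 : (Subtype.val : J → Equiv.Perm (Fin 351)) ⁻¹' gens = {(⟨_, mem_a⟩ : J), ⟨_, mem_b⟩, ⟨_, mem_c⟩,
      ⟨_, mem_d⟩, ⟨_, mem_r⟩, ⟨_, mem_t⟩} := by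
    ext x
    simp only [gens, Set.mem_preimage, Set.mem_insert_iff, Set.mem_singleton_iff, Subtype.ext_iff]
  rw [← h2]
  exact h1

/-! ### the centre is trivial -/

/-- orbit certificate from the point 283 -/
def Orb : ℕ := 0xb410819058068140220580741101804a0a41581904609010812054080090230480881601c0580ac1001a0420941502a0380441202d040094108280420541501004a0880d02d058080128190300740e8200420b41102504a094128100000441682d0440740e81803a0600c8220340b41482c0320ac0982d0440900e82c026094148230460a01601d0300881681305406c1102a04806c168210300a0168240440600d02305a0a41501905808c0d02803608c1600a0500a80d01d0120200c02503a0b41682d04a0940e8210340540e02a05a0a80e01503a07410815044094168140480700e024046070060240420801181c0380800801c0380901081c058064118110380881281c0280701201b0280641002403806c1201c0220500c01a0420a4058240480400c0130420941601d0440941182403a064128290240941181b0340741002d0540ac1182d06806c1a0230500ac1a82d0460800d83503608c188290420c4118230660ac118340440ac1483405a06c1182b0460b01402d0360d4128200680ac1182d0480a41e01b046090118230680b01a0230540ac1a034066090140240540ac1582b0580ac1202c0560cc1903305608c168290560c41682d06a0ac1a83d0500a41682b04a0d41182b0620c01403305a0ac1e8320540cc1983307a0cc19843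

theorem orb_chk : chkOrb 351 283 (T 0) [T 0, T 1, T 2, T 3, T 4, T 5] Orb = true := by decide +kernel

theorem orb_all : allB (fun v => nbeq (lk Orb v) 2047) 351 = true := by decide +kernel

theorem trans (v : Fin 351) : ∃ g ∈ J, g 283 = v :=
  orb_of_chk (n := 351) (x := (283 : Fin 351)) (inG_T 0) (by
    intro P hP
    simp only [List.mem_cons, List.not_mem_nil, or_false] at hP
    rcases hP with rfl | rfl | rfl | rfl | rfl | rfl <;> exact inG_T _) orb_chk v
    ((nbeq_iff _ _).1 ((allB_iff _ _).1 orb_all v v.2))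

/-- the table `A3` fixes the point 283 only -/
theorem fix_chk : allB (fun i => cond (Nat.beq i 283) true (nbeq (lk A3 i) i)) 351 = true := by
  decide +kernel

theorem fix_chk' : Nat.beq (lk A3 283) 283 = true := by decide +kernel

theorem inG_of_word {P : ℕ} {L : List ℕ} (hL : ∀ Q ∈ L, ∃ j, Q = T j) (h : chkWord 351 P L = true) :
    InG J P :=
  InG.word (fun Q hQ => by obtain ⟨j, rfl⟩ := hL Q hQ; exact inG_T j) h

theorem center_J : Subgroup.center ↥J = ⊥ := by
  rw [eq_bot_iff]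
  rintro ⟨k, hk⟩ hkc
  rw [Subgroup.mem_center_iff] at hkc
  have hkc' : ∀ g ∈ J, g * k = k * g := fun g hg => congrArg Subtype.val (hkc ⟨g, hg⟩)
  obtain ⟨h, hh, hr⟩ := inG_of_word (L := [T 5, T 2, T 1, T 3, T 0]) (by
    intro Q hQ
    simp only [List.mem_cons, List.not_mem_nil, or_false] at hQ
    rcases hQ with rfl | rfl | rfl | rfl | rfl <;> exact ⟨_, rfl⟩) wA3
  have h0 : h 283 = 283 := by
    apply Fin.ext
    rw [hr 283]
    exact Nat.eq_of_beq_eq_true fix_chk'
  have h1 : h (k 283) = k 283 := by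
    rw [← Equiv.Perm.mul_apply, hkc' h hh, Equiv.Perm.mul_apply, h0]
  have h2 : k 283 = 283 := by
    by_contra hne
    have h3 := (allB_iff _ _).1 fix_chk (k 283) (k 283).2
    cases hb : Nat.beq ((k 283 : Fin 351) : ℕ) 283 with
    | true => exact hne (Fin.ext (Nat.eq_of_beq_eq_true hb))
    | false =>
      rw [hb, cond_false, nbeq_iff] at h3
      exact h3 (by rw [← hr (k 283), h1])
  rw [Subgroup.mem_bot]
  apply Subtype.ext
  apply Equiv.ext
  intro v
  obtain ⟨g, hg, rfl⟩ := trans v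
  show k (g 283) = g 283
  rw [← Equiv.Perm.mul_apply, ← hkc' g hg, Equiv.Perm.mul_apply, h2]

/-- **`J` is `G₂(3)`** -/
theorem exists_iso : Nonempty (↥J ≃* ↥(Cfsg.Lie.chevG2.group (ZMod 3))) := by
  obtain ⟨a', b', c', d', r', t', h', ha', hgen'⟩ := Cfsg.Agent.GTwoThree.Model.model
  have hsimp : IsSimpleGroup ↥(Cfsg.Lie.chevG2.group (ZMod 3)) :=
    (Cfsg.Agent.S1055.result (F := ZMod 3) ⟨2, by decide, by decide⟩).1
  have hac : (⟨_, mem_a⟩ : J) * ⟨_, mem_c⟩ = ⟨_, mem_c⟩ * ⟨_, mem_a⟩ := Subtype.ext ac_comm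
  have ha : (⟨_, mem_a⟩ : J) ≠ 1 := fun h => a_ne (congrArg Subtype.val h)
  obtain ⟨ρ, hs, hk⟩ := exists_hom (relC_lift.toRel hac) ha closure_lift h' ha' hgen'
  have hi : Function.Injective ρ := by
    rw [← MonoidHom.ker_eq_bot_iff, eq_bot_iff, ← center_J]
    exact hk
  exact ⟨MulEquiv.ofBijective ρ ⟨hi, hs⟩⟩

end Cfsg.Agent.H983.Pw.G23
end

-- part: H983/Pw/GTwoThree
section
/-!
# `G₂(3)`: every element is a product of two elements of order prime to 6 (helper983)

* `six_g2_three : Fintype.card F = 3 → All 6 (chevG2.group F)`.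
-/

set_option autoImplicit false
set_option maxRecDepth 100000

namespace Cfsg.Agent.H983.Pw

open Subgroup Cfsg.Agent.H78.Pw Cfsg.Agent.SporadicA.PermTab

/-! ### general tools -/

section gen

variable {G : Type*} [Group G]

/-- the centralisers of the elements of order `r` have order `r` -/
theorem orderOf_eq_of_dvd {r : ℕ} (hc : ∀ x : G, orderOf x = r → Nat.card ↥(centralizer {x}) ∣ r)
    [Finite G] {g : G} (hg : r ∣ orderOf g) : orderOf g = r := by
  obtain ⟨m, hm⟩ := hg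
  have hpos : 0 < orderOf g := orderOf_pos g
  have hm0 : m ≠ 0 := by rintro rfl; rw [mul_zero] at hm; omega
  have h1 : orderOf (g ^ m) = r := by
    rw [orderOf_pow' g hm0, hm, Nat.gcd_mul_left_left, Nat.mul_div_cancel _ (Nat.pos_of_ne_zero hm0)]
  have h2 : g ∈ centralizer {g ^ m} :=
    mem_centralizer_singleton_iff.2 ((Commute.refl g).pow_right m).eq
  have h3 : orderOf g ∣ r := by
    have h4 := _root_.orderOf_dvd_natCard (⟨g, h2⟩ : ↥(centralizer {g ^ m}))
    rw [orderOf_mk] at h4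
    exact h4.trans (hc _ h1)
  exact Nat.dvd_antisymm h3 ⟨m, hm⟩

/-- elements of `r`-power order are conjugate into a Sylow subgroup -/
theorem exists_conj_mem [Finite G] {r n m : ℕ} (hr : r.Prime) (hG : Nat.card G = r ^ n * m) (hm : ¬ r ∣ m)
    {H : Subgroup G} (hH : Nat.card ↥H = r ^ n) {g : G} (hg : ∃ k, g ^ r ^ k = 1) : ∃ x : G, x * g * x⁻¹ ∈ H := by
  have := Fact.mk hr
  have hf : (Nat.card G).factorization r = n := by
    rw [hG, Nat.factorization_mul (pow_ne_zero _ hr.ne_zero) (by rintro rfl; exact hm (dvd_zero _)),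
      Finsupp.add_apply, hr.factorization_pow, Finsupp.single_eq_same, Nat.factorization_eq_zero_of_not_dvd hm,
      add_zero]
  let P : Sylow r G := Sylow.ofCard H (by rw [hH, hf])
  have hz : IsPGroup r ↥(zpowers g) := by
    rw [IsPGroup.iff_card]
    obtain ⟨k, hk⟩ := hg
    rw [Nat.card_zpowers]
    obtain ⟨j, -, hj⟩ := (Nat.dvd_prime_pow hr).1 (orderOf_dvd_of_pow_eq_one hk)
    exact ⟨j, hj⟩
  obtain ⟨Q, hQ⟩ := hz.exists_le_sylow
  obtain ⟨x, hx⟩ := MulAction.exists_smul_eq G Q P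
  refine ⟨x, ?_⟩
  have h1 : g ∈ (Q : Subgroup G) := hQ (mem_zpowers g)
  have h2 : x * g * x⁻¹ ∈ ((x • Q : Sylow r G) : Subgroup G) := by
    rw [Sylow.coe_subgroup_smul]
    exact ⟨g, h1, rfl⟩
  rw [hx] at h2
  exact h2

end gen

/-- the last step, for groups of permutations -/
theorem pr_of_exists {N : ℕ} [NeZero N] {J : Subgroup (Equiv.Perm (Fin N))} {l l' n : ℕ} (hl : l.Prime) (hl' : l'.Prime)
    (hiso : ∀ x : ↥J, l ∣ orderOf x ∨ l' ∣ orderOf x → (orderOf x).Coprime n) (g : ↥J)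
    (h : ∃ a ∈ J, Cyc l l' a ∧ Cyc l l' (a * (g : Equiv.Perm (Fin N)))) : Pr n g := by
  obtain ⟨a, ha, h1, h2⟩ := h
  refine ⟨⟨a, ha⟩⁻¹, ⟨a, ha⟩ * g, by group, ?_, ?_⟩
  · rw [orderOf_inv]
    refine hiso _ ?_
    rw [orderOf_mk]
    exact h1.dvd hl hl'
  · refine hiso _ ?_
    rw [← orderOf_coe]
    exact h2.dvd hl hl'

namespace G23

/-! ### the two chains -/

theorem inG_of_word' {P : ℕ} {L : List ℕ} (h : chkWord 351 P L = true) (hL : ∀ Q ∈ L, ∃ j, Q = T j) :
    ∃ g ∈ J, Rep g (lk P) := inG_of_word hL h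

theorem exU : ∃ H ≤ J, Gd (N := 351) UL6 729 H := by
  obtain ⟨x1, m1, r1⟩ := inG_of_word' wU1 (by simp)
  obtain ⟨x2, m2, r2⟩ := inG_of_word' wU2 (by simp only [_root_.List.mem_cons, _root_.List.not_mem_nil, _root_.or_false, _root_.forall_eq_or_imp, _root_.exists_apply_eq_apply', _root_.forall_eq, _root_.and_self])
  obtain ⟨x3, m3, r3⟩ := inG_of_word' wU3 (by simp only [_root_.List.mem_cons, _root_.List.not_mem_nil, _root_.or_false, _root_.forall_eq_or_imp, _root_.exists_apply_eq_apply', _root_.forall_eq, _root_.and_self])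
  obtain ⟨x4, m4, r4⟩ := inG_of_word' wU4 (by simp only [_root_.List.mem_cons, _root_.List.not_mem_nil, _root_.or_false, _root_.forall_eq_or_imp, _root_.exists_apply_eq_apply', _root_.forall_eq, _root_.and_self])
  obtain ⟨x5, m5, r5⟩ := inG_of_word' wU5 (by simp)
  obtain ⟨x6, m6, r6⟩ := inG_of_word' wU6 (by simp only [_root_.List.mem_cons, _root_.List.not_mem_nil, _root_.or_false, _root_.forall_eq_or_imp, _root_.exists_apply_eq_apply', _root_.forall_eq, _root_.and_self])
  have g1 : Gd (N := 351) UL1 3 _ := Gd.nil.stepB r1 Nat.prime_three sU1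
  have g2 : Gd (N := 351) UL2 9 _ := g1.stepB r2 Nat.prime_three sU2
  have g3 : Gd (N := 351) UL3 27 _ := g2.stepB r3 Nat.prime_three sU3
  have g4 : Gd (N := 351) UL4 81 _ := g3.stepB r4 Nat.prime_three sU4
  have g5 : Gd (N := 351) UL5 243 _ := g4.stepB r5 Nat.prime_three sU5
  have g6 : Gd (N := 351) UL6 729 _ := g5.stepB r6 Nat.prime_three sU6
  refine ⟨_, ?_, g6⟩
  simp only [sup_le_iff, zpowers_le]
  exact ⟨⟨⟨⟨⟨⟨bot_le, m1⟩, m2⟩, m3⟩, m4⟩, m5⟩, m6⟩

/-- the tables of the second chain commute with the first one -/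
def comB (P : ℕ) : Bool := allB (fun i => Nat.beq (lk P (lk C1 i)) (lk C1 (lk P i))) 351

theorem comB_spec {P : ℕ} (h : comB P = true) {g z : Equiv.Perm (Fin 351)} (hg : Rep g (lk P)) (hz : Rep z (lk C1)) :
    g * z = z * g := by
  refine Equiv.ext fun i => Fin.ext ?_
  rw [(hg.mul hz) i, (hz.mul hg) i]
  exact Nat.eq_of_beq_eq_true ((allB_iff _ _).1 h i i.2)

theorem exC : ∃ H ≤ J, Gd (N := 351) CL8 576 H ∧ ∃ z ∈ J, orderOf z = 2 ∧ H ≤ centralizer {z} := by
  obtain ⟨x1, m1, r1⟩ := inG_of_word' wC1 (by simp only [_root_.List.mem_cons, _root_.List.not_mem_nil, _root_.or_false, _root_.forall_eq_or_imp, _root_.exists_apply_eq_apply', _root_.forall_eq, _root_.and_self])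
  obtain ⟨x2, m2, r2⟩ := inG_of_word' wC2 (by simp)
  obtain ⟨x3, m3, r3⟩ := inG_of_word' wC3 (by simp only [_root_.List.mem_cons, _root_.List.not_mem_nil, _root_.or_false, _root_.forall_eq_or_imp, _root_.exists_apply_eq_apply', _root_.forall_eq, _root_.and_self])
  obtain ⟨x4, m4, r4⟩ := inG_of_word' wC4 (by simp)
  obtain ⟨x5, m5, r5⟩ := inG_of_word' wC5 (by simp only [_root_.List.mem_cons, _root_.List.not_mem_nil, _root_.or_false, _root_.forall_eq_or_imp, _root_.exists_apply_eq_apply', _root_.forall_eq, _root_.and_self])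
  obtain ⟨x6, m6, r6⟩ := inG_of_word' wC6 (by simp)
  obtain ⟨x7, m7, r7⟩ := inG_of_word' wC7 (by simp)
  obtain ⟨x8, m8, r8⟩ := inG_of_word' wC8 (by simp)
  have g1 : Gd (N := 351) CL1 2 _ := Gd.nil.stepB r1 Nat.prime_two sC1
  have g2 : Gd (N := 351) CL2 4 _ := g1.stepB r2 Nat.prime_two sC2
  have g3 : Gd (N := 351) CL3 8 _ := g2.stepB r3 Nat.prime_two sC3
  have g4 : Gd (N := 351) CL4 16 _ := g3.stepB r4 Nat.prime_two sC4
  have g5 : Gd (N := 351) CL5 32 _ := g4.stepB r5 Nat.prime_two sC5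
  have g6 : Gd (N := 351) CL6 96 _ := g5.stepB r6 Nat.prime_three sC6
  have g7 : Gd (N := 351) CL7 288 _ := g6.stepB r7 Nat.prime_three sC7
  have g8 : Gd (N := 351) CL8 576 _ := g7.stepB r8 Nat.prime_two sC8
  refine ⟨_, ?_, g8, x1, m1, ?_, ?_⟩
  · simp only [sup_le_iff, zpowers_le]
    exact ⟨⟨⟨⟨⟨⟨⟨⟨bot_le, m1⟩, m2⟩, m3⟩, m4⟩, m5⟩, m6⟩, m7⟩, m8⟩
  · have h1 : Nat.card ↥((⊥ : Subgroup (Equiv.Perm (Fin 351))) ⊔ zpowers x1) = 2 := g1.card
    rwa [bot_sup_eq, Nat.card_zpowers] at h1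
  · simp only [sup_le_iff, zpowers_le, mem_centralizer_singleton_iff]
    exact ⟨⟨⟨⟨⟨⟨⟨⟨bot_le, trivial⟩,
      comB_spec (P := C2) (by decide +kernel) r2 r1⟩, comB_spec (P := C3) (by decide +kernel) r3 r1⟩,
      comB_spec (P := C4) (by decide +kernel) r4 r1⟩, comB_spec (P := C5) (by decide +kernel) r5 r1⟩,
      comB_spec (P := C6) (by decide +kernel) r6 r1⟩, comB_spec (P := C7) (by decide +kernel) r7 r1⟩,
      comB_spec (P := C8) (by decide +kernel) r8 r1⟩

theorem As_ok : ∀ A ∈ A0 :: As, ∃ a ∈ J, Rep a (lk A) ∧ Cyc (N := 351) 7 (7 + 6) a := by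
  have key : ∀ {A : ℕ} {L : List ℕ}, chkWord 351 A L = true → (∀ Q ∈ L, ∃ j, Q = T j) →
      cycB 7 6 (lk A) = true → ∃ a ∈ J, Rep a (lk A) ∧ Cyc (N := 351) 7 (7 + 6) a := by
    intro A L h hL hc
    obtain ⟨a, ha, hr⟩ := inG_of_word' h hL
    exact ⟨a, ha, hr, cycB_spec (by norm_num) hr hc⟩
  intro A hA
  simp only [As, List.mem_cons, List.not_mem_nil, or_false] at hA
  rcases hA with rfl | rfl | rfl | rfl | rfl | rfl | rfl | rfl | rfl | rfl | rfl
  · exact key wA0 (by simp only [_root_.List.mem_cons, _root_.List.not_mem_nil, _root_.or_false, _root_.forall_eq_or_imp, _root_.exists_apply_eq_apply', _root_.forall_eq, _root_.and_self]) cA0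
  · exact key wA0 (by simp only [_root_.List.mem_cons, _root_.List.not_mem_nil, _root_.or_false, _root_.forall_eq_or_imp, _root_.exists_apply_eq_apply', _root_.forall_eq, _root_.and_self]) cA0
  · exact key wA1 (by simp only [_root_.List.mem_cons, _root_.List.not_mem_nil, _root_.or_false, _root_.forall_eq_or_imp, _root_.exists_apply_eq_apply', _root_.forall_eq, _root_.and_self]) cA1
  · exact key wA2 (by simp only [_root_.List.mem_cons, _root_.List.not_mem_nil, _root_.or_false, _root_.forall_eq_or_imp, _root_.exists_apply_eq_apply', _root_.forall_eq, _root_.and_self]) cA2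
  · exact key wA3 (by simp only [_root_.List.mem_cons, _root_.List.not_mem_nil, _root_.or_false, _root_.forall_eq_or_imp, _root_.exists_apply_eq_apply', _root_.forall_eq, _root_.and_self]) cA3
  · exact key wA4 (by simp only [_root_.List.mem_cons, _root_.List.not_mem_nil, _root_.or_false, _root_.forall_eq_or_imp, _root_.exists_apply_eq_apply', _root_.forall_eq, _root_.and_self]) cA4
  · exact key wA5 (by simp only [_root_.List.mem_cons, _root_.List.not_mem_nil, _root_.or_false, _root_.forall_eq_or_imp, _root_.exists_apply_eq_apply', _root_.forall_eq, _root_.and_self]) cA5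
  · exact key wA6 (by simp only [_root_.List.mem_cons, _root_.List.not_mem_nil, _root_.or_false, _root_.forall_eq_or_imp, _root_.exists_apply_eq_apply', _root_.forall_eq, _root_.and_self]) cA6
  · exact key wA7 (by simp only [_root_.List.mem_cons, _root_.List.not_mem_nil, _root_.or_false, _root_.forall_eq_or_imp, _root_.exists_apply_eq_apply', _root_.forall_eq, _root_.and_self]) cA7
  · exact key wA8 (by simp only [_root_.List.mem_cons, _root_.List.not_mem_nil, _root_.or_false, _root_.forall_eq_or_imp, _root_.exists_apply_eq_apply', _root_.forall_eq, _root_.and_self]) cA8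
  · exact key wA9 (by simp only [_root_.List.mem_cons, _root_.List.not_mem_nil, _root_.or_false, _root_.forall_eq_or_imp, _root_.exists_apply_eq_apply', _root_.forall_eq, _root_.and_self]) cA9

/-! ### arithmetic -/

theorem card_Z3 : Fintype.card (ZMod 3) = 3 := ZMod.card 3

theorem prim3 : H436.Prim 3 3 13 := by
  obtain ⟨r, hr⟩ := H436.exists_prim (q := 3) (e := 3) (by norm_num) (by norm_num) (by norm_num)
  have h1 : r ∣ 2 * 13 := (hr.dvd_iff 3).2 dvd_rfl
  have h2 : r = 2 ∨ r = 13 := by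
    rcases (hr.prime.dvd_mul).1 h1 with h | h
    · exact Or.inl ((Nat.prime_dvd_prime_iff_eq hr.prime Nat.prime_two).1 h)
    · exact Or.inr ((Nat.prime_dvd_prime_iff_eq hr.prime (by norm_num)).1 h)
  rcases h2 with rfl | rfl
  · have h3 := (hr.dvd_iff 1).1 (by norm_num)
    omega
  · exact hr

theorem prim6 : H436.Prim 3 6 7 := by
  obtain ⟨r, hr⟩ := H436.exists_prim (q := 3) (e := 6) (by norm_num) (by norm_num) (by norm_num)
  have h1 : r ∣ 2 ^ 3 * (13 * 7) := (hr.dvd_iff 6).2 dvd_rfl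
  have h2 : r = 2 ∨ r = 13 ∨ r = 7 := by
    rcases (hr.prime.dvd_mul).1 h1 with h | h
    · exact Or.inl ((Nat.prime_dvd_prime_iff_eq hr.prime Nat.prime_two).1 (hr.prime.dvd_of_dvd_pow h))
    · rcases (hr.prime.dvd_mul).1 h with h | h
      · exact Or.inr (Or.inl ((Nat.prime_dvd_prime_iff_eq hr.prime (by norm_num)).1 h))
      · exact Or.inr (Or.inr ((Nat.prime_dvd_prime_iff_eq hr.prime (by norm_num)).1 h))
  rcases h2 with rfl | rfl | rfl
  · have h3 := (hr.dvd_iff 1).1 (by norm_num)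
    omega
  · have h3 := (hr.dvd_iff 3).1 (by norm_num)
    omega
  · exact hr

seal _root_.Finset.sum _root_.dotProduct in
/-- **`All 6 J`** -/
theorem all_J : All 6 ↥J := by
  obtain ⟨e⟩ := exists_iso
  have hb3 : Cfsg.Agent.H56.Exc.Big ↥J 13 13 6 :=
    (Cfsg.Agent.H56.Exc.big_G2_3 (F := ZMod 3) card_Z3 (m := 13) (by norm_num) prim3).congr e.symm
  have hb6 : Cfsg.Agent.H56.Exc.Big ↥J 7 7 6 :=
    (Cfsg.Agent.H56.Exc.big_G2_6 (F := ZMod 3) card_Z3 (m := 7) (by norm_num) prim6).congr e.symm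
  have hiso : ∀ x : ↥J, 7 ∣ orderOf x ∨ 13 ∣ orderOf x → (orderOf x).Coprime 6 := by
    rintro x (h | h)
    · rw [orderOf_eq_of_dvd hb6.card h]; decide
    · rw [orderOf_eq_of_dvd hb3.card h]; decide
  have hcard : Nat.card ↥J = 4245696 := by
    rw [Nat.card_congr e.toEquiv, Cfsg.Agent.S1059.result card_Z3]
    norm_num
  have hodd : Odd (Fintype.card (ZMod 3)) := by rw [card_Z3]; decide
  intro g
  by_cases h7 : 7 ∣ orderOf g ∨ 13 ∣ orderOf g
  · exact Pr.of_coprime (hiso g h7)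
  rw [not_or] at h7
  by_cases h2 : 2 ∣ orderOf g
  · -- even order
    obtain ⟨H, hHJ, hH, z, hzJ, hz2, hHz⟩ := exC
    obtain ⟨m, hm⟩ := h2
    have hpos : 0 < orderOf g := (orderOf_pos g :)
    have hm0 : m ≠ 0 := by rintro rfl; rw [mul_zero] at hm; omega
    have h1 : orderOf (g ^ m) = 2 := by
      rw [orderOf_pow' g hm0, hm, Nat.gcd_mul_left_left, Nat.mul_div_cancel _ (Nat.pos_of_ne_zero hm0)]
    have hzo : orderOf (⟨z, hzJ⟩ : ↥J) = 2 := by rw [orderOf_mk, hz2]
    have hconj : IsConj (g ^ m) (⟨z, hzJ⟩ : ↥J) := by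
      have h3 := Cfsg.Agent.S4278.result (F := ZMod 3) hodd (e (g ^ m)) (e ⟨z, hzJ⟩)
        (by rw [MulEquiv.orderOf_eq, h1]) (by rw [MulEquiv.orderOf_eq, hzo])
      obtain ⟨c, hc⟩ := isConj_iff.1 h3
      refine isConj_iff.2 ⟨e.symm c, ?_⟩
      apply e.injective
      rw [map_mul, map_mul, map_inv, MulEquiv.apply_symm_apply, hc]
    obtain ⟨c, hc⟩ := isConj_iff.1 hconj
    have hcz : c * g * c⁻¹ ∈ centralizer {(⟨z, hzJ⟩ : ↥J)} := by
      rw [mem_centralizer_singleton_iff, ← hc]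
      group
    have hcard' : Nat.card ↥(centralizer {(⟨z, hzJ⟩ : ↥J)}) = 576 := by
      have h4 := (Cfsg.Agent.S4279.result (F := ZMod 3) hodd (e ⟨z, hzJ⟩)
        (by rw [MulEquiv.orderOf_eq, hzo])).1
      rw [card_Z3] at h4
      have h5 : Nat.card ↥(centralizer {(⟨z, hzJ⟩ : ↥J)}) = Nat.card ↥(centralizer {e ⟨z, hzJ⟩}) := by
        refine Nat.card_congr (e.toEquiv.subtypeEquiv fun x => ?_)
        rw [mem_centralizer_singleton_iff]
        show _ ↔ e x ∈ centralizer {e ⟨z, hzJ⟩}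
        rw [mem_centralizer_singleton_iff, ← map_mul, ← map_mul, e.injective.eq_iff]
      rw [h5, h4]
      norm_num
    have heq : H.subgroupOf J = centralizer {(⟨z, hzJ⟩ : ↥J)} := by
      refine Subgroup.eq_of_le_of_card_ge ?_ ?_
      · intro x hx
        have h6 := hHz (mem_subgroupOf.1 hx)
        rw [mem_centralizer_singleton_iff] at h6 ⊢
        exact Subtype.ext h6
      · rw [hcard', Nat.card_congr (subgroupOfEquivOfLe hHJ).toEquiv, hH.card]
    rw [← heq, mem_subgroupOf] at hcz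
    refine Pr.of_conj (x := c) (pr_of_exists (l := 7) (l' := 13) (by norm_num) (by norm_num) hiso _ ?_)
    exact exists_of_wit (l := 7) (k := 6) (by norm_num) hH As_ok
      (fun n hn => (allB_iff _ _).1 witC n hn) hcz
  · -- a `3`-element
    obtain ⟨H, hHJ, hH⟩ := exU
    have hdvd : orderOf g ∣ 3 ^ 6 := by
      have h3 : orderOf g ∣ 3 ^ 6 * (2 ^ 6 * (7 * 13)) := by
        have := _root_.orderOf_dvd_natCard g
        rwa [hcard] at this
      have hco : Nat.Coprime (orderOf g) (2 ^ 6 * (7 * 13)) := by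
        refine Nat.Coprime.mul_right (Nat.Coprime.pow_right _ ?_) (Nat.Coprime.mul_right ?_ ?_)
        · exact ((Nat.Prime.coprime_iff_not_dvd Nat.prime_two).2 h2).symm
        · exact ((Nat.Prime.coprime_iff_not_dvd (by norm_num)).2 h7.1).symm
        · exact ((Nat.Prime.coprime_iff_not_dvd (by norm_num)).2 h7.2).symm
      exact hco.dvd_of_dvd_mul_right h3
    obtain ⟨c, hc⟩ := exists_conj_mem (n := 6) (m := 2 ^ 6 * (7 * 13)) Nat.prime_three (by rw [hcard]; norm_num)
      (by norm_num) (H := H.subgroupOf J)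
      (by rw [Nat.card_congr (subgroupOfEquivOfLe hHJ).toEquiv, hH.card]; norm_num)
      (g := g) ⟨6, orderOf_dvd_iff_pow_eq_one.1 hdvd⟩
    rw [mem_subgroupOf] at hc
    refine Pr.of_conj (x := c) (pr_of_exists (l := 7) (l' := 13) (by norm_num) (by norm_num) hiso _ ?_)
    exact exists_of_wit (l := 7) (k := 6) (by norm_num) hH As_ok
      (fun n hn => (allB_iff _ _).1 witU n hn) hc

end G23

/-- **`G₂(3)`: every element is a product of two elements of order prime to `6`.** -/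
theorem six_g2_three {F : Type*} [Field F] [Fintype F] (hF : Fintype.card F = 3) :
    All 6 ↥(Cfsg.Lie.chevG2.group F) := by
  obtain ⟨e⟩ := G23.exists_iso
  have hc : Fintype.card (ZMod 3) = Fintype.card F := by rw [G23.card_Z3, hF]
  have e2 := Cfsg.Agent.ChevalleyStructure.FieldIso.groupEquiv Cfsg.Lie.chevG2 (FiniteField.ringEquivOfCardEq hc)
  exact G23.all_J.congr (e.trans e2)

end Cfsg.Agent.H983.Pw
end

private theorem dce_ef80cf6a31bb : _root_.True := by
  try have : _root_.True := by simp only [_root_.Cfsg.Agent.H983.Pw.G23.ev.eq_1]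
  try have : _root_.True := by simp only [_root_.Cfsg.Agent.H983.Pw.G23.As.eq_1]
  exact _root_.True.intro
end

-- part: H922/TD/Main
section
prune_inst 0x55024400840000800000584110020044c0004b0002000008820084c000083004080014005801002120a020100050020021000c04040000004200000000400001008000400000008000010000004000000000000000000000000000000000004000000000
set_option linter.all false
open scoped Cfsg.Agent.FastGrp

-- part: H922/TD/Sieve
section
/-!
# `³D₄(3)`: elements with small centralizers are products of two elements of order 73 (helper922, S2465)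

The characters not vanishing on an element `x` of order 73: degrees 1, 531441, 10584, 9126 (value `± 1`) and 18 of degree
529984.  `∑ |χ(x)|⁴ / χ(1)² - 1 ≤ 1 / 531441² + 1 / 10584² + 1 / 9126² + 69² / 529984² < 3.8e-8`.
-/

set_option autoImplicit false
set_option linter.unusedSectionVars false

open Cfsg Cfsg.Lie

namespace Cfsg.Agent.H922.TD

open Cfsg.Agent.H33 Cfsg.Agent.Nodes
open Cfsg.Agent.Characters Cfsg.Agent.Characters.CCBasic Cfsg.Agent.Characters.CCEstimates
  Cfsg.Agent.Characters.CCValues Cfsg.Agent.H678.CCExact Cfsg.Agent.H501.PSq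

universe u

/-- the finite check -/
theorem chk : ∀ i < 7, ∀ j < 13, ∀ k < 3, ∀ l < 3, ∀ e ∈ [(1 : ℤ), -1],
    ((2 : ℤ) ^ i * 3 ^ j * 7 ^ k * 13 ^ l - 4 * e) % 73 = 0 →
    (281655226944 : ℤ) % (e * (2 ^ i * 3 ^ j * 7 ^ k * 13 ^ l) - 520858) = 0 →
    e * ((2 : ℤ) ^ i * 3 ^ j * 7 ^ k * 13 ^ l) = 529984 := by
  decide +kernel

section

variable {K : Type} [Field K] [Fintype K]

/-- the CC-subgroup of order 73 -/
theorem exists_cc (hK : Fintype.card K = 3 ^ 3) : ∃ A : Subgroup ↥(twistedD4 K 3), Nat.card A = 73 ∧ IsCC A ∧ len A = 4 := by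
  classical
  have hq : IsPrimePow 3 := Nat.prime_three.isPrimePow
  obtain ⟨p, hch⟩ := CharP.exists K
  have hpf : Fact p.Prime := ⟨CharP.char_is_prime K p⟩
  have hfin : Finite ↥(twistedD4 K 3) := inferInstance
  have := Fintype.ofFinite ↥(twistedD4 K 3)
  obtain ⟨x0, hx0, hx0c, -⟩ := H83.TorD4.exists_x0 hq hK p
  have hcard : Nat.card ↥(Subgroup.zpowers x0) = 73 := by rw [Nat.card_zpowers, hx0]; norm_num
  have hA : IsCC (Subgroup.zpowers x0) := by
    refine ⟨fun h => ?_, hx0c⟩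
    rw [h, Subgroup.card_bot] at hcard
    omega
  have h73 : Nat.Prime 73 := by norm_num
  have hidx : (Subgroup.zpowers x0).index ≡ 4 [MOD 73] := by
    have h1 := (Subgroup.zpowers x0).card_mul_index
    rw [hcard, S1067.result hq hK] at h1
    have h2 : (Subgroup.zpowers x0).index = 281655226944 := by
      norm_num at h1
      omega
    rw [h2]
    decide
  have hN := H83.Eight.CC.card_normalizer hA inferInstance h73 (by rw [hcard]) hidx (by norm_num) (by norm_num)
  have hlen : len (Subgroup.zpowers x0) = 4 := by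
    have h1 := len_mul_card (Subgroup.zpowers x0)
    rw [hN] at h1
    exact Nat.eq_of_mul_eq_mul_right Nat.card_pos h1
  exact ⟨_, hcard, hA, hlen⟩


theorem sum_sq_le {ι : Type*} (s : Finset ι) (a : ι → ℝ) (h : ∀ i ∈ s, 0 ≤ a i) :
    ∑ i ∈ s, a i ^ 2 ≤ (∑ i ∈ s, a i) ^ 2 := by
  classical
  induction s using Finset.induction_on with
  | empty => simp
  | insert i s hi ih =>
    rw [Finset.sum_insert hi, Finset.sum_insert hi]
    have h1 := ih fun j hj => h j (Finset.mem_insert_of_mem hj)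
    have h2 : 0 ≤ a i := h i (Finset.mem_insert_self _ _)
    have h3 : 0 ≤ ∑ j ∈ s, a j := Finset.sum_nonneg fun j hj => h j (Finset.mem_insert_of_mem hj)
    nlinarith only [h1, h2, h3]

/-- **The weight of an element of order 73.** -/
theorem exists_weight (hK : Fintype.card K = 3 ^ 3) [Fintype (IrrCharacter ↥(twistedD4 K 3))] :
    ∃ x : ↥(twistedD4 K 3), orderOf x = 73 ∧ ∑ χ : IrrCharacter ↥(twistedD4 K 3),
      (‖(χ : ↥(twistedD4 K 3) → ℂ) x‖ * ‖(χ : ↥(twistedD4 K 3) → ℂ) x‖ / ‖(χ : ↥(twistedD4 K 3) → ℂ) 1‖) ^ 2 ≤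
        1 + 38 / 10 ^ 9 := by
  classical
  have hq : IsPrimePow 3 := Nat.prime_three.isPrimePow
  obtain ⟨A, hA73, hA, hlen⟩ := exists_cc hK
  set G := ↥(twistedD4 K 3) with hG
  have := Fintype.ofFinite G
  have hcG : Nat.card G = 20560831566912 := by rw [S1067.result hq hK]; norm_num
  obtain ⟨D⟩ := nonempty_ccData hA hlen (s := 18) (by rw [hA73]) (by norm_num)
  have hε := D.hε
  have hsq := D.sq
  have hsd := D.sd
  have hddvd := D.ddvd
  rw [hA73] at hddvd
  have hnn : 0 ≤ ∑ ψ : IrrCharacter G, D.f ψ ^ 2 := Finset.sum_nonneg fun _ _ => sq_nonneg _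
  push_cast at hsq hddvd hsd
  -- `c = 0`
  have hc0 : D.c = 0 := by
    have h1 : (18 : ℤ) * D.c ^ 2 ≤ 4 + 2 * D.ε * D.c := by linarith only [hsq, hnn]
    have h5 : D.c < 1 ∧ -1 < D.c := by
      rcases hε with h | h <;> rw [h] at h1 <;> constructor <;> nlinarith only [h1]
    omega
  rw [hc0] at hsq hsd hddvd
  simp only [mul_zero, add_zero, ne_eq, OfNat.ofNat_ne_zero, not_false_eq_true, zero_pow] at hsq hsd hddvd
  -- the characters
  obtain ⟨χ₂, d2⟩ := H83.Eight.TwD4.st hq hK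
  obtain ⟨-, -, ⟨χ₃, d3⟩, -⟩ := H83.Eight.TwD4.unip hq hK (P := 73) (d2 := 15768) (d3 := 10584) (by norm_num)
    (by norm_num) (by norm_num)
  norm_num at d2 d3
  have hdeg1 : charDegree ((one G : IrrCharacter G) : G → ℂ) = 1 := by
    unfold charDegree
    rw [coe_one, Pi.one_apply]
    simp
  have hnR : ∀ χ : IrrCharacter G, ∀ e : ℤ, (e = 1 ∨ e = -1) →
      (73 : ℤ) ∣ charDegree (χ : G → ℂ) - e → χ ∉ D.R := by
    intro χ e he hdv hR
    rw [D.deg χ hR] at hdv
    have h1 := dvd_sub hdv hddvd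
    rw [show (D.d : ℤ) - e - ((D.d : ℤ) - D.ε * 4) = D.ε * 4 - e by ring] at h1
    rcases hε with h | h <;> rcases he with h'' | h'' <;> rw [h, h''] at h1 <;> norm_num at h1
  have hbig : ∀ χ : IrrCharacter G, D.f χ ^ 2 ≤ 4 := by
    intro χ
    have h1 : D.f χ ^ 2 ≤ ∑ ψ : IrrCharacter G, D.f ψ ^ 2 :=
      Finset.single_le_sum (f := fun ψ : IrrCharacter G => D.f ψ ^ 2) (fun _ _ => sq_nonneg _) (Finset.mem_univ χ)
    linarith only [hsq, h1]
  have hval : ∀ χ : IrrCharacter G, ∀ e : ℤ, (e = 1 ∨ e = -1) →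
      (73 : ℤ) ∣ charDegree (χ : G → ℂ) - e → D.f χ = e := by
    intro χ e he hdv
    have h0 := D.dvd χ (hnR χ e he hdv)
    rw [hA73] at h0
    have h1 := dvd_sub hdv h0
    rw [sub_sub_sub_cancel_left] at h1
    have h2 := hbig χ
    have h5 : D.f χ ≤ 2 ∧ -2 ≤ D.f χ := by constructor <;> nlinarith only [h2]
    have h6 : |D.f χ - e| < 73 := by
      rw [abs_lt]
      rcases he with h'' | h'' <;> rw [h''] <;> constructor <;> linarith only [h5]
    have h7 := Int.eq_zero_of_abs_lt_dvd h1 h6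
    linarith only [h7]
  have hf1 : D.f (one G) = 1 := hval _ 1 (Or.inl rfl) (by rw [hdeg1]; simp)
  have hf2 : D.f χ₂ = 1 := hval _ 1 (Or.inl rfl) (by rw [d2]; norm_num)
  have hf3 : D.f χ₃ = -1 := hval _ (-1) (Or.inr rfl) (by rw [d3]; norm_num)
  have n12 : one G ≠ χ₂ := by
    intro h
    rw [← h, hdeg1] at d2
    norm_num at d2
  have n13 : one G ≠ χ₃ := by
    intro h
    rw [← h, hf1] at hf3
    norm_num at hf3
  have n23 : χ₂ ≠ χ₃ := by
    intro h
    rw [← h, hf2] at hf3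
    norm_num at hf3
  let B : Finset (IrrCharacter G) := {one G, χ₂, χ₃}
  have hB : ∀ g : IrrCharacter G → ℤ, ∑ ψ : IrrCharacter G, g ψ = g (one G) + g χ₂ + g χ₃ + ∑ ψ ∈ Bᶜ, g ψ := by
    intro g
    rw [← Finset.sum_add_sum_compl B g, Finset.sum_insert (by simp [n12, n13]), Finset.sum_pair n23]
    ring
  have hsq' := hsq
  rw [hB, hf1, hf2, hf3] at hsq
  rw [hB (fun ψ => (charDegree (ψ : G → ℂ) : ℤ) * D.f ψ), hf1, hf2, hf3, hdeg1, d2, d3] at hsd
  have hsum : ∑ ψ ∈ Bᶜ, D.f ψ ^ 2 = 1 := by linarith only [hsq]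
  obtain ⟨ψ, hψB, hψ⟩ : ∃ ψ ∈ Bᶜ, D.f ψ ≠ 0 := by
    by_contra hcon
    push Not at hcon
    rw [Finset.sum_eq_zero fun ψ hψ => by rw [hcon ψ hψ]; ring] at hsum
    norm_num at hsum
  have hge : 1 ≤ D.f ψ ^ 2 := by
    have : 0 < D.f ψ ^ 2 := by (clear * - hψ; positivity)
    omega
  rw [← Finset.add_sum_erase _ _ hψB] at hsum
  have hnn3 : 0 ≤ ∑ ψ ∈ Bᶜ.erase ψ, D.f ψ ^ 2 := Finset.sum_nonneg fun _ _ => sq_nonneg _
  have hz0 : ∑ ψ ∈ Bᶜ.erase ψ, D.f ψ ^ 2 = 0 := by linarith only [hsum, hge, hnn3]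
  have hz : ∀ χ ∈ Bᶜ.erase ψ, D.f χ = 0 := by
    rw [Finset.sum_eq_zero_iff_of_nonneg (fun _ _ => sq_nonneg _)] at hz0
    intro χ hχ
    exact (pow_eq_zero_iff (two_ne_zero)).1 (hz0 χ hχ)
  have hf4 : D.f ψ ^ 2 = 1 := by linarith only [hsum, hge, hnn3]
  have hf4' : D.f ψ = 1 ∨ D.f ψ = -1 := mul_self_eq_one_iff.1 (by rw [← sq]; exact hf4)
  rw [← Finset.add_sum_erase _ _ hψB, Finset.sum_eq_zero fun χ hχ => by rw [hz χ hχ, mul_zero]] at hsd
  have hψR : ψ ∉ D.R := fun h => hψ (D.hf0 ψ h)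
  have hψdvd : (73 : ℤ) ∣ charDegree (ψ : G → ℂ) - D.f ψ := by
    have h0 := D.dvd ψ hψR
    rw [hA73] at h0
    exact h0
  -- the degrees
  have hRne : D.R.Nonempty := by
    rw [← Finset.card_pos, D.hcard]
    omega
  obtain ⟨ρ, hρ⟩ := hRne
  have hdG : D.d ∣ 20560831566912 := by
    rw [← D.deg ρ hρ, ← hcG]
    exact dvd_of_im ρ
  have hψG : charDegree (ψ : G → ℂ) ∣ 20560831566912 := by
    rw [← hcG]
    exact dvd_of_im ψ
  have e1 : D.d ∣ 2 ^ 6 * 3 ^ 12 * 7 ^ 2 * 13 ^ 2 := by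
    refine dvd_of_cong (P := 73) (m := D.ε * 4) (by norm_num) (by rcases hε with h | h <;> rw [h] <;> norm_num)
      (by rcases hε with h | h <;> rw [h] <;> norm_num) (hdG.trans (by norm_num)) hddvd
  have e2 : charDegree (ψ : G → ℂ) ∣ 2 ^ 6 * 3 ^ 12 * 7 ^ 2 * 13 ^ 2 := by
    refine dvd_of_cong (P := 73) (m := D.f ψ) (by norm_num) (by rcases hf4' with h | h <;> rw [h] <;> norm_num)
      (by rcases hf4' with h | h <;> rw [h] <;> norm_num) (hψG.trans (by norm_num)) hψdvd
  have hrel : D.f ψ * charDegree (ψ : G → ℂ) = D.ε * D.d - 520858 := by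
    push_cast at hsd
    linarith only [hsd]
  obtain ⟨hε1, hd⟩ : D.ε = 1 ∧ (D.d : ℤ) = 529984 := by
    obtain ⟨abc, l', habc, hl', hdabc⟩ := (Nat.dvd_mul).1 e1
    obtain ⟨ab, c, hab, hc, rfl⟩ := (Nat.dvd_mul).1 habc
    obtain ⟨a, b, ha, hb, rfl⟩ := (Nat.dvd_mul).1 hab
    obtain ⟨i, hi, rfl⟩ := (Nat.dvd_prime_pow Nat.prime_two).1 ha
    obtain ⟨j, hj, rfl⟩ := (Nat.dvd_prime_pow Nat.prime_three).1 hb
    obtain ⟨k, hk, rfl⟩ := (Nat.dvd_prime_pow (by norm_num)).1 hc
    obtain ⟨l, hl, rfl⟩ := (Nat.dvd_prime_pow (by norm_num)).1 hl'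
    have hdZ : (D.d : ℤ) = 2 ^ i * 3 ^ j * 7 ^ k * 13 ^ l := by rw [← hdabc]; push_cast; rfl
    have h9 := chk i (by omega) j (by omega) k (by omega) l (by omega) D.ε
      (by rcases hε with h | h <;> rw [h] <;> simp) (by
        rw [← hdZ, mul_comm 4]
        exact Int.emod_eq_zero_of_dvd hddvd) (by
        rw [← hdZ]
        apply Int.emod_eq_zero_of_dvd
        rw [← hrel]
        have h7 : ((charDegree (ψ : G → ℂ) : ℕ) : ℤ) ∣ 281655226944 := by
          have := Int.natCast_dvd_natCast.2 e2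
          norm_num at this
          exact this
        rcases hf4' with h | h <;> rw [h]
        · rw [one_mul]; exact h7
        · rw [neg_one_mul, neg_dvd]; exact h7)
    rw [← hdZ] at h9
    rcases hε with h | h
    · rw [h, one_mul] at h9
      exact ⟨h, h9⟩
    · rw [h] at h9
      omega
  have hψ9 : charDegree (ψ : G → ℂ) = 9126 := by
    rw [hε1, hd] at hrel
    rcases hf4' with h | h
    · rw [h] at hrel
      omega
    · rw [h] at hrel
      omega
  -- the element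
  obtain ⟨x, hxA, hx1⟩ := (Subgroup.ne_bot_iff_exists_ne_one.1 hA.ne_bot).elim
    (fun y hy => (⟨y, y.2, fun h => hy (Subtype.ext h)⟩ : ∃ y ∈ A, y ≠ 1))
  have hxo : orderOf x = 73 := by
    have h1 : orderOf x ∣ 73 := by
      rw [← hA73]
      exact Subgroup.orderOf_dvd_natCard A hxA
    rcases (Nat.dvd_prime (by norm_num)).1 h1 with h2 | h2
    · exact absurd (orderOf_eq_one_iff.1 h2) hx1
    · exact h2
  refine ⟨x, hxo, ?_⟩
  have hcx : Nat.card (Subgroup.centralizer ({x} : Set G)) = 73 := by rw [hA.cent x hxA hx1, hA73]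
  have hdegC : ∀ χ : IrrCharacter G, ‖(χ : G → ℂ) 1‖ = (charDegree (χ : G → ℂ) : ℝ) := by
    intro χ
    rw [← H686.CharKit.charDegree_irr χ]
    simp
  have hnotR : ∀ χ : IrrCharacter G, χ ∉ D.R → ‖(χ : G → ℂ) x‖ ^ 2 = ((D.f χ ^ 2 : ℤ) : ℝ) := by
    intro χ hχ
    rw [D.hf χ hχ x hxA hx1, Complex.norm_intCast, sq_abs]
    push_cast
    rfl
  have hS : ∑ χ ∈ D.R, ‖(χ : G → ℂ) x‖ ^ 2 = 69 := by
    have h1 := H686.CharKit.sum_normSq x
    simp only [Complex.normSq_eq_norm_sq] at h1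
    rw [hcx, ← Finset.sum_add_sum_compl D.R] at h1
    have h2 : ∑ χ ∈ D.Rᶜ, ‖(χ : G → ℂ) x‖ ^ 2 = 4 := by
      rw [Finset.sum_congr rfl fun χ hχ => hnotR χ (Finset.mem_compl.1 hχ), ← Int.cast_sum]
      have h3 : ∑ χ ∈ D.Rᶜ, D.f χ ^ 2 = 4 := by
        have h4 : ∑ χ ∈ D.R, D.f χ ^ 2 = 0 := Finset.sum_eq_zero fun χ hχ => by rw [D.hf0 χ hχ]; ring
        rw [← hsq', ← Finset.sum_add_sum_compl D.R, h4, zero_add]
      rw [h3]
      norm_num
    rw [h2] at h1
    push_cast at h1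
    linarith only [h1]
  have hR4 : ∑ χ ∈ D.R, (‖(χ : G → ℂ) x‖ * ‖(χ : G → ℂ) x‖ / ‖(χ : G → ℂ) 1‖) ^ 2 ≤ 69 ^ 2 / 529984 ^ 2 := by
    have h1 : ∀ χ ∈ D.R, (‖(χ : G → ℂ) x‖ * ‖(χ : G → ℂ) x‖ / ‖(χ : G → ℂ) 1‖) ^ 2 =
        (‖(χ : G → ℂ) x‖ ^ 2) ^ 2 / 529984 ^ 2 := by
      intro χ hχ
      rw [hdegC, D.deg χ hχ]
      have : (D.d : ℝ) = 529984 := by exact_mod_cast hd
      rw [this, div_pow]
      ring
    rw [Finset.sum_congr rfl h1, ← Finset.sum_div]
    apply div_le_div_of_nonneg_right _ (by positivity)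
    rw [← hS]
    exact sum_sq_le _ _ fun χ _ => by (clear * -; positivity)
  have hterm : ∀ χ : IrrCharacter G, χ ∉ D.R → (‖(χ : G → ℂ) x‖ * ‖(χ : G → ℂ) x‖ / ‖(χ : G → ℂ) 1‖) ^ 2 =
      (((D.f χ ^ 2 : ℤ) : ℝ) / (charDegree (χ : G → ℂ) : ℝ)) ^ 2 := by
    intro χ hχ
    rw [← pow_two, hnotR χ hχ, hdegC]
  have hnr : ∀ χ : IrrCharacter G, D.f χ ≠ 0 → χ ∉ D.R := fun χ h h' => h (D.hf0 χ h')
  have h1R : one G ∉ D.R := hnr _ (by rw [hf1]; norm_num)
  have h2R : χ₂ ∉ D.R := hnr _ (by rw [hf2]; norm_num)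
  have h3R : χ₃ ∉ D.R := hnr _ (by rw [hf3]; norm_num)
  have hψn : ψ ≠ one G ∧ ψ ≠ χ₂ ∧ ψ ≠ χ₃ := by
    have h1 : ψ ∉ B := Finset.mem_compl.1 hψB
    simpa [B] using h1
  have hsub : ({ψ, one G, χ₂, χ₃} : Finset (IrrCharacter G)) ⊆ D.Rᶜ := by
    intro χ hχ
    rw [Finset.mem_compl]
    simp only [Finset.mem_insert, Finset.mem_singleton] at hχ
    rcases hχ with rfl | rfl | rfl | rfl
    · exact hψR
    · exact h1R
    · exact h2R
    · exact h3R
  rw [← Finset.sum_add_sum_compl D.R]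
  have hC : ∑ χ ∈ D.Rᶜ, (‖(χ : G → ℂ) x‖ * ‖(χ : G → ℂ) x‖ / ‖(χ : G → ℂ) 1‖) ^ 2 =
      1 + 1 / 531441 ^ 2 + 1 / 10584 ^ 2 + 1 / 9126 ^ 2 := by
    rw [← Finset.sum_subset hsub (f := fun χ : IrrCharacter G =>
      (‖(χ : G → ℂ) x‖ * ‖(χ : G → ℂ) x‖ / ‖(χ : G → ℂ) 1‖) ^ 2) ?_]
    · rw [Finset.sum_insert (by simp [hψn]), Finset.sum_insert (by simp [n12, n13]), Finset.sum_pair n23,
        hterm _ hψR, hterm _ h1R, hterm _ h2R, hterm _ h3R, hf4, hf1, hf2, hf3, hψ9, hdeg1, d2, d3]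
      norm_num
    · intro χ hχ hχB
      rw [hterm χ (Finset.mem_compl.1 hχ)]
      have h5 : D.f χ = 0 := by
        apply hz
        rw [Finset.mem_erase, Finset.mem_compl]
        simp only [Finset.mem_insert, Finset.mem_singleton, not_or] at hχB
        refine ⟨hχB.1, ?_⟩
        simp only [B, Finset.mem_insert, Finset.mem_singleton, not_or]
        exact ⟨hχB.2.1, hχB.2.2.1, hχB.2.2.2⟩
      rw [h5]
      norm_num
  rw [hC]
  have h9 : (69 : ℝ) ^ 2 / 529984 ^ 2 + (1 + 1 / 531441 ^ 2 + 1 / 10584 ^ 2 + 1 / 9126 ^ 2) ≤ 1 + 38 / 10 ^ 9 := by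
    norm_num
  linarith only [hR4]

/-- **Elements of `³D₄(3)` with a centralizer of order at most `2.6 * 10 ^ 7`** are products of two elements of order 73. -/
theorem pr_of_cent (hK : Fintype.card K = 3 ^ 3) (g : ↥(twistedD4 K 3))
    (hg : Nat.card (Subgroup.centralizer ({g} : Set ↥(twistedD4 K 3))) ≤ 26000000) : H78.Pw.Pr 6 g := by
  classical
  have : Finite (IrrCharacter ↥(twistedD4 K 3)) := Core.finite_irr
  have := Fintype.ofFinite (IrrCharacter ↥(twistedD4 K 3))
  obtain ⟨x, hx, hW⟩ := exists_weight hK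
  obtain ⟨a, b, rfl⟩ : H65.Ore.Prd x x g := by
    apply H65.Ore.prd_of_weighted
    have h1 : (Nat.card (Subgroup.centralizer ({g} : Set ↥(twistedD4 K 3))) : ℝ) ≤ 26000000 := by exact_mod_cast hg
    have h2 : 1 ≤ Nat.card (Subgroup.centralizer ({g} : Set ↥(twistedD4 K 3))) := Nat.card_pos
    have h3 : (1 : ℝ) ≤ Nat.card (Subgroup.centralizer ({g} : Set ↥(twistedD4 K 3))) := by exact_mod_cast h2
    nlinarith only [hW, h1, h3]
  have hc : ∀ a : ↥(twistedD4 K 3), (orderOf (a * x * a⁻¹)).Coprime 6 := by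
    intro a
    have h1 : orderOf (a * x * a⁻¹) = 73 := by
      rw [← hx]
      exact orderOf_injective (MulAut.conj a).toMonoidHom (MulAut.conj a).injective x
    rw [h1]
    norm_num
  exact H78.Pw.Pr.mk rfl (hc a) (hc b)

end

end Cfsg.Agent.H922.TD
end

-- part: H922/TD/Hex
section
/-!
# Groups of type `³D₄`: the centre of the positive part, the centralizer of a torus element of norm one (helper922, S2465)

* `center_pos` : an element of the positive part `U` commuting with `U` lies in the long root group `X 4`;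
* `cent_pos` : an element of odd order commuting with `U` lies in `X 4`;
* `form_y` : `y` acting by `(w, 1)` with `nrm w = 1`, `w ≠ 1`: an element commuting with `y` is `u n h v` with `u`, `v` in
  `⟨X 2, X 4, X 6⟩`;
* `cent_y_mem` : it is in `M ⟨y⟩`, `M` the subgroup over the fixed field, if `w` is a primitive 13-th root of unity and
  `|E| = 27`;
* `card_cent_y` : a bound for the order of the centralizer.
-/

set_option autoImplicit false

namespace Cfsg.Agent.H922.TD

open Cfsg.Agent.SplitTwo Cfsg.Agent.TitsThree.RankTwoZ Cfsg.Agent.Lib.SL2Mat Cfsg.Agent.Cit.HexBase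
  Cfsg.Agent.TitsThree.RankTwoIdx Cfsg.Agent.TitsThree.RankTwoRGD Cfsg.Agent.Cit.HexBase.HexGrp

universe u

variable {E : Type*} [Field E] {σ : E ≃+* E} {L : Type u} [Group L] (c : HexGrp σ L)

/-! ### The centre of the positive part -/

theorem mem_sg {s : Finset (ZMod (2 * 6))} {k : ZMod (2 * 6)} (hk : k ∈ s) {g : L} (hg : g ∈ c.X k) : g ∈ Sg c.X s :=
  X_le_Sg hk hg

/-- the order `6 1 5 3 2 4` -/
theorem exists_prod' {g : L} (hg : g ∈ Sg c.X Pos) : ∃ a b d e f t : E, σ a = a ∧ σ f = f ∧ σ t = t ∧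
    g = c.x6 a * c.x1 b * c.x5 d * c.x3 e * c.x2 f * c.x4 t := by
  have e1 : (Pos : Finset (ZMod (2 * 6))) = insert 6 {1, 2, 3, 4, 5} := by decide
  rw [e1] at hg
  obtain ⟨a6, h6, v1, hv1, rfl⟩ := c.exists_mul (by decide +kernel) hg
  obtain ⟨a1, h1, v2, hv2, rfl⟩ := c.exists_mul (k := 1) (s := {2, 3, 4, 5}) (by decide +kernel) hv1
  have e2 : ({2, 3, 4, 5} : Finset (ZMod (2 * 6))) = insert 5 {2, 3, 4} := by decide
  rw [e2] at hv2
  obtain ⟨a5, h5, v3, hv3, rfl⟩ := c.exists_mul (k := 5) (s := {2, 3, 4}) (by decide +kernel) hv2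
  obtain ⟨a2, h2, v4, hv4, rfl⟩ := c.exists_mul (k := 2) (s := {3, 4}) (by decide +kernel) hv3
  obtain ⟨a3, h3, v5, hv5, rfl⟩ := c.exists_mul (k := 3) (s := {4}) (by decide +kernel) hv4
  have h4 : v5 ∈ c.X 4 := by
    have : Sg c.X {4} ≤ c.X 4 := Sg_le fun k hk => by rw [Finset.mem_singleton.1 hk]
    exact this hv5
  obtain ⟨b1, rfl⟩ := (c.par.mem1 _).1 h1
  obtain ⟨b2, f2, rfl⟩ := (c.par.mem2 _).1 h2
  obtain ⟨b3, rfl⟩ := (c.par.mem3 _).1 h3
  obtain ⟨b4, f4, rfl⟩ := (c.par.mem4 _).1 h4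
  obtain ⟨b5, rfl⟩ := (c.par.mem5 _).1 h5
  obtain ⟨b6, f6, rfl⟩ := (c.par.mem6 _).1 h6
  have h23 := H240.HexZ.m23 c.par.rel f2 b3
  exact ⟨b6, b1, b5, b3, b2, b4, f6, f2, f4, by simp only [mul_assoc]; rw [← mul_assoc (c.x2 b2), h23, mul_assoc]⟩

theorem uniq' {a b d e f t a' b' d' e' f' t' : E} (ha : σ a = a) (ha' : σ a' = a') (hf : σ f = f) (hf' : σ f' = f')
    (ht : σ t = t) (ht' : σ t' = t')
    (h : c.x6 a * c.x1 b * c.x5 d * c.x3 e * c.x2 f * c.x4 t =
      c.x6 a' * c.x1 b' * c.x5 d' * c.x3 e' * c.x2 f' * c.x4 t') :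
    a = a' ∧ b = b' ∧ d = d' ∧ e = e' ∧ f = f' ∧ t = t' := by
  have m : ∀ {s : Finset (ZMod (2 * 6))} {k : ZMod (2 * 6)}, k ∈ s → ∀ {g : L}, g ∈ c.X k → g ∈ Sg c.X s :=
    fun hk g hg => X_le_Sg hk hg
  have e1 : c.x6 a * (c.x1 b * (c.x5 d * (c.x3 e * (c.x2 f * c.x4 t)))) =
      c.x6 a' * (c.x1 b' * (c.x5 d' * (c.x3 e' * (c.x2 f' * c.x4 t')))) := by
    simpa only [mul_assoc] using h
  obtain ⟨r6, e2⟩ := c.peel (k := 6) (s := {1, 2, 3, 4, 5}) (by decide +kernel) (c.mem6 ha)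
    (mul_mem (m (by decide) (c.mem1 _)) (mul_mem (m (by decide) (c.mem5 _)) (mul_mem (m (by decide) (c.mem3 _))
      (mul_mem (m (by decide) (c.mem2 hf)) (m (by decide) (c.mem4 ht)))))) (c.mem6 ha')
    (mul_mem (m (by decide) (c.mem1 _)) (mul_mem (m (by decide) (c.mem5 _)) (mul_mem (m (by decide) (c.mem3 _))
      (mul_mem (m (by decide) (c.mem2 hf')) (m (by decide) (c.mem4 ht')))))) e1
  obtain ⟨r1, e3⟩ := c.peel (k := 1) (s := {2, 3, 4, 5}) (by decide +kernel) (c.mem1 _)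
    (mul_mem (m (by decide) (c.mem5 _)) (mul_mem (m (by decide) (c.mem3 _))
      (mul_mem (m (by decide) (c.mem2 hf)) (m (by decide) (c.mem4 ht))))) (c.mem1 _)
    (mul_mem (m (by decide) (c.mem5 _)) (mul_mem (m (by decide) (c.mem3 _))
      (mul_mem (m (by decide) (c.mem2 hf')) (m (by decide) (c.mem4 ht'))))) e2
  obtain ⟨r5, e4⟩ := c.peel (k := 5) (s := {2, 3, 4}) (by decide +kernel) (c.mem5 _)
    (mul_mem (m (by decide) (c.mem3 _))
      (mul_mem (m (by decide) (c.mem2 hf)) (m (by decide) (c.mem4 ht)))) (c.mem5 _)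
    (mul_mem (m (by decide) (c.mem3 _))
      (mul_mem (m (by decide) (c.mem2 hf')) (m (by decide) (c.mem4 ht')))) e3
  rw [← mul_assoc, ← H240.HexZ.m23 c.par.rel hf e, ← mul_assoc (c.x3 e'), ← H240.HexZ.m23 c.par.rel hf' e', mul_assoc,
    mul_assoc] at e4
  obtain ⟨r2, e5⟩ := c.peel (k := 2) (s := {3, 4}) (by decide +kernel) (c.mem2 hf)
    (mul_mem (m (by decide) (c.mem3 _)) (m (by decide) (c.mem4 ht))) (c.mem2 hf')
    (mul_mem (m (by decide) (c.mem3 _)) (m (by decide) (c.mem4 ht'))) e4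
  obtain ⟨r3, r4⟩ := c.peel (k := 3) (s := {4}) (by decide +kernel) (c.mem3 _) (m (by decide) (c.mem4 ht))
    (c.mem3 _) (m (by decide) (c.mem4 ht')) e5
  exact ⟨c.x6_inj ha ha' r6, c.x1_inj r1, c.x5_inj r5, c.x3_inj r3, c.x2_inj hf hf' r2, c.x4_inj ht ht' r4⟩

/-- **The centre of the positive part.** -/
theorem center_pos (hnd : ∀ a : E, a ≠ 0 → ∃ b, trc σ a b ≠ 0) {g : L} (hg : g ∈ Sg c.X Pos)
    (hc : ∀ u ∈ Sg c.X Pos, g * u = u * g) : g ∈ c.X 4 := by
  obtain ⟨a, b, d, e, f, t, ha, hf, ht, rfl⟩ := exists_prod' c hg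
  have h := H240.HexZ.center_eq c.par.rel
    (fun a b c_1 d e f a' b' c' d' e' f' h1 h2 h3 h4 h5 h6 h7 => uniq' c h1 h2 h3 h4 h5 h6 h7) hnd
    (a := a) (b := b) (c := d) (d := e) (e := f) (f := t) ha hf ht (fun t => hc _ (mem_sg c (by decide) (c.mem1 t)))
    (fun t => hc _ (mem_sg c (by decide) (c.mem3 t))) (hc _ (mem_sg c (by decide) (c.mem6 (map_one σ))))
  rw [h]
  exact c.mem4 ht

/-- `K 1 ∩ Q 4 = 1` -/
theorem K1_inf_Q4 [Finite E] (h2 : (2 : E) ≠ 0) {g : L} (h1 : g ∈ c.K1) (h4 : g ∈ c.Q4) : g = 1 := by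
  obtain ⟨x, rfl⟩ := h1
  obtain ⟨a, ha, b, hb, e⟩ := c.fix_z h2 (c.Q4_le_Pos h4) (c.z_pb x)
  have hb4 : b ∈ c.Q4 := X_le_Sg (by decide) hb
  have ha4 : a ∈ Sg c.X {2, 3, 4, 5, 6} := by
    have : a = c.pb x * b⁻¹ := by rw [e]; group
    rw [this]
    exact mul_mem h4 (inv_mem hb4)
  have ha1 : a = 1 := c.eq_one_of_mem (k := 1) (s := {2, 3, 4, 5, 6}) (by decide +kernel) ha ha4
  rw [ha1, one_mul] at e
  obtain ⟨t, ht⟩ := c.mem_X4.1 hb
  rcases c.eq_of_pb_eq_p4 (y := up t) (e.trans ht.symm) with h | h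
  · exact h
  · exfalso
    rw [h] at e
    obtain ⟨s, hs, hs'⟩ := (c.par.mem4 _).1 hb
    have h3 : c.x4 (s + s) = c.x4 0 := by
      rw [c.x4_add hs hs, hs', ← e, c.z_sq, c.x4_zero]
    have h5 := c.x4_inj (by rw [map_add, hs]) (map_zero σ) h3
    have h6 : s = 0 := by
      have : (2 : E) * s = 0 := by linear_combination h5
      exact (mul_eq_zero.1 this).resolve_left h2
    rw [h6, c.x4_zero, ← e] at hs'
    exact c.z_ne h2 hs'.symm

/-- **An element of odd order commuting with the positive part is in `X 4`.** -/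
theorem cent_pos [Finite E] (h2 : (2 : E) ≠ 0) (hnd : ∀ a : E, a ≠ 0 → ∃ b, trc σ a b ≠ 0) {g : L}
    (hodd : Odd (orderOf g)) (hc : ∀ u ∈ Sg c.X Pos, g * u = u * g) : g ∈ c.X 4 := by
  obtain ⟨q, hq, k, hk, hgq⟩ := c.centralizer_X4 h2 (fun x hx => hc x (mem_sg c (by decide) hx))
  obtain ⟨x, rfl⟩ := hk
  have hx : ∀ a : E, x * up a = up a * x := by
    intro a
    have h1 := hc (c.pb (up a)) (by rw [c.pb_up]; exact mem_sg c (by decide) (c.mem1 a))
    have h3 : c.pb (x * up a * x⁻¹ * (up a)⁻¹) = q⁻¹ * (c.pb (up a) * q * (c.pb (up a))⁻¹) := by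
      rw [map_mul, map_mul, map_mul, map_inv, map_inv]
      rw [hgq] at h1
      calc c.pb x * c.pb (up a) * (c.pb x)⁻¹ * (c.pb (up a))⁻¹ =
          q⁻¹ * (q * c.pb x * c.pb (up a)) * (c.pb x)⁻¹ * (c.pb (up a))⁻¹ := by group
        _ = _ := by rw [h1]; group
    have h4 : c.pb (x * up a * x⁻¹ * (up a)⁻¹) = 1 :=
      K1_inf_Q4 c h2 ⟨_, rfl⟩ (by
        rw [h3]
        exact mul_mem (inv_mem hq) (c.K1_Q4 ⟨_, rfl⟩ hq))
    have h5 : x * up a * x⁻¹ * (up a)⁻¹ = 1 := c.pb_inj h2 (h4.trans (map_one c.pb).symm)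
    have h6 : x * up a * x⁻¹ = up a := mul_inv_eq_one.1 h5
    rwa [mul_inv_eq_iff_eq_mul] at h6
  -- `k ^ 2` is in `X 1`
  have h10 : ent x 1 0 = 0 := by
    have h := congrArg (fun y => ent y 0 0) (hx 1)
    simp [ent_mul] at h
    exact h
  have h00 : ent x 0 0 = ent x 1 1 := by
    have h := congrArg (fun y => ent y 0 1) (hx 1)
    simp only [ent_mul, _root_.Fin.isValue, _root_.Cfsg.Agent.Lib.SL2Mat.up_01, _root_.mul_one, _root_.Cfsg.Agent.Lib.SL2Mat.up_11, _root_.Cfsg.Agent.Lib.SL2Mat.up_00, _root_.one_mul] at h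
    linear_combination h
  have hd := det_eq x
  rw [h10, h00] at hd
  have hxx : x * x = up (2 * ent x 0 0 * ent x 0 1) := by
    refine ext_ent ?_ ?_ ?_ ?_
    · simp only [ent_mul, h10, h00, _root_.Fin.isValue, _root_.MulZeroClass.mul_zero, _root_.add_zero, _root_.Cfsg.Agent.Lib.SL2Mat.up_00]
      linear_combination hd
    · simp only [ent_mul, h10, h00, _root_.Fin.isValue, _root_.Cfsg.Agent.Lib.SL2Mat.up_01]
      ring
    · simp [ent_mul, h10]
    · simp [ent_mul, h10]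
      linear_combination hd
  have hg2 : g * g ∈ Sg c.X Pos := by
    have e : g * g = q * (c.pb x * q * (c.pb x)⁻¹) * (c.pb (x * x)) := by
      rw [hgq, map_mul]
      group
    rw [e, hxx, c.pb_up]
    exact mul_mem (mul_mem (c.Q4_le_Pos hq) (c.Q4_le_Pos (c.K1_Q4 ⟨_, rfl⟩ hq))) (mem_sg c (by decide) (c.mem1 _))
  have h4 : g * g ∈ c.X 4 := by
    refine center_pos c hnd hg2 fun u hu => ?_
    rw [mul_assoc, hc u hu, ← mul_assoc, hc u hu, mul_assoc]
  obtain ⟨k, hk⟩ := hodd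
  have h5 : g = (g * g) ^ (k + 1) := by
    rw [← pow_two, ← pow_mul, show 2 * (k + 1) = orderOf g + 1 by omega, pow_succ, pow_orderOf_eq_one, one_mul]
  rw [h5]
  exact pow_mem h4 _

/-! ### The centralizer of a torus element -/

/-- the Bruhat factors of an element commuting with a torus element -/
theorem bruhat_comm [Finite E] (h2 : (2 : E) ≠ 0) {y : L} (hy : y ∈ c.T0) {g : L} (hg : g * y = y * g) :
    ∃ u ∈ Sg c.X Pos, ∃ w f, c.IsRep w f ∧ ∃ h ∈ c.T0, ∃ v ∈ Sg c.X Pos, g = u * w * h * v ∧ y * u = u * y ∧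
      y * v = v * y := by
  obtain ⟨u, hu, w, f, hw, h, hh, t, ht, hft, v, hv, rfl⟩ := c.bruhat h2 g
  refine ⟨u, hu, w, f, hw, h, hh, v, Sg_mono ht hv, rfl, ?_⟩
  have hwz : w * y * w⁻¹ ∈ c.T0 := hw.conj hy
  have hhz : h * y = y * h := c.T0_comm hh hy
  have hv1 : v * (y * v⁻¹ * y⁻¹) ∈ Sg c.X t := mul_mem hv (c.T0_conj hy (inv_mem hv))
  have hu1 : u⁻¹ * (y * u * y⁻¹) ∈ Sg c.X Pos := mul_mem (inv_mem hu) (c.T0_conj hy hu)
  obtain ⟨τ, hτ⟩ : ∃ τ, τ = w * y * w⁻¹ * y⁻¹ := ⟨_, rfl⟩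
  have hτT : τ ∈ c.T0 := by rw [hτ]; exact mul_mem hwz (inv_mem hy)
  have hy' : w * h * (v * (y * v⁻¹ * y⁻¹)) * (w * h)⁻¹ ∈ Sg c.X _root_.Cfsg.Agent.Cit.HexBase.HexGrp.Neg := by
    have h1 := conj_Sg hw.maps hft (c.T0_conj hh hv1)
    convert h1 using 1
    group
  have e0 : w * h * y * (w * h)⁻¹ = τ * y := by
    rw [hτ]
    calc w * h * y * (w * h)⁻¹ = w * (h * y) * h⁻¹ * w⁻¹ := by group
      _ = w * y * w⁻¹ * y⁻¹ * y := by rw [hhz]; group
  have e1 : u⁻¹ * (y * u * y⁻¹) = (w * h * (v * (y * v⁻¹ * y⁻¹)) * (w * h)⁻¹) * τ := by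
    have e2 : y * u = u * w * h * v * y * v⁻¹ * (w * h)⁻¹ := by
      calc y * u = (y * (u * w * h * v)) * v⁻¹ * (w * h)⁻¹ := by group
        _ = _ := by rw [← hg]
    calc u⁻¹ * (y * u * y⁻¹) = u⁻¹ * (u * w * h * v * y * v⁻¹ * (w * h)⁻¹) * y⁻¹ := by rw [← e2]; group
      _ = (w * h * (v * (y * v⁻¹ * y⁻¹)) * (w * h)⁻¹) * (w * h * y * (w * h)⁻¹) * y⁻¹ := by group
      _ = _ := by rw [e0]; group
  obtain ⟨s, hs, r, hr, hτ'⟩ := c.exists_of_mem_T0 h2 hτT
  have hy'' : τ⁻¹ * (w * h * (v * (y * v⁻¹ * y⁻¹)) * (w * h)⁻¹) * τ ∈ Sg c.X _root_.Cfsg.Agent.Cit.HexBase.HexGrp.Neg := by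
    have := c.T0_conj (inv_mem hτT) hy'
    rwa [inv_inv] at this
  obtain ⟨k1, k2⟩ := c.tri _ hu1 _ hy'' s hs r hr (by rw [← hτ', e1]; group)
  constructor
  · have : y * u * y⁻¹ = u := (inv_mul_eq_one.1 k1).symm
    rw [mul_inv_eq_iff_eq_mul] at this
    exact this
  · have hv2 : v * (y * v⁻¹ * y⁻¹) = 1 := by
      have h3 : w * h * (v * (y * v⁻¹ * y⁻¹)) * (w * h)⁻¹ = 1 := by
        have : τ⁻¹ * (w * h * (v * (y * v⁻¹ * y⁻¹)) * (w * h)⁻¹) * τ = τ⁻¹ * 1 * τ := by rw [k2]; group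
        exact mul_left_cancel (mul_right_cancel this)
      have : w * h * (v * (y * v⁻¹ * y⁻¹)) = w * h * 1 := by rw [mul_one]; exact mul_inv_eq_one.1 h3
      exact mul_left_cancel this
    have : v * y * v⁻¹ * y⁻¹ = 1 := by rw [← hv2]; group
    have h3 : v * y * v⁻¹ = y := mul_inv_eq_one.1 this
    rw [mul_inv_eq_iff_eq_mul] at h3
    exact h3.symm

section y

variable {y : L} {w : E} (hy : c.Act y w 1) (hn : nrm σ w = 1) (hw : w ≠ 1)

include hn in
omit c in
theorem mul_shp : w * shp σ w = 1 := by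
  rw [← hn]
  unfold nrm shp
  ring

include hy hn hw

/-- the fixed points of `y` on the positive part -/
theorem fix_y {g : L} (hg : g ∈ Sg c.X Pos) (h : y * g = g * y) :
    ∃ a b d : ↥(fx σ), g = c.x2 a * c.x4 b * c.x6 d := by
  obtain ⟨a1, h1, a2, h2', a3, h3, a4, h4, a5, h5, a6, h6, rfl⟩ := c.exists_prod hg
  obtain ⟨b1, rfl⟩ := (c.par.mem1 _).1 h1
  obtain ⟨b2, f2, rfl⟩ := (c.par.mem2 _).1 h2'
  obtain ⟨b3, rfl⟩ := (c.par.mem3 _).1 h3
  obtain ⟨b4, f4, rfl⟩ := (c.par.mem4 _).1 h4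
  obtain ⟨b5, rfl⟩ := (c.par.mem5 _).1 h5
  obtain ⟨b6, f6, rfl⟩ := (c.par.mem6 _).1 h6
  have e : c.x1 (w * b1) * c.x2 b2 * c.x3 (shp σ w * b3) * c.x4 b4 * c.x5 (w * b5) * c.x6 b6 =
      c.x1 b1 * c.x2 b2 * c.x3 b3 * c.x4 b4 * c.x5 b5 * c.x6 b6 := by
    calc _ = (y * c.x1 b1 * y⁻¹) * (y * c.x2 b2 * y⁻¹) * (y * c.x3 b3 * y⁻¹) * (y * c.x4 b4 * y⁻¹) *
          (y * c.x5 b5 * y⁻¹) * (y * c.x6 b6 * y⁻¹) := by
          rw [hy.a1, hy.a2 _ f2, hy.a3, hy.a4 _ f4, hy.a5, hy.a6 _ f6, hn]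
          simp only [one_mul, one_pow]
      _ = y * (c.x1 b1 * c.x2 b2 * c.x3 b3 * c.x4 b4 * c.x5 b5 * c.x6 b6) * y⁻¹ := by group
      _ = _ := by rw [h]; group
  obtain ⟨e1, -, e3, -, e5, -⟩ := c.uniq16 (c.mem1 _) (c.mem2 f2) (c.mem3 _) (c.mem4 f4) (c.mem5 _)
    (c.mem6 f6) (c.mem1 _) (c.mem2 f2) (c.mem3 _) (c.mem4 f4) (c.mem5 _) (c.mem6 f6) e
  have hz : ∀ {k b : E}, k ≠ 1 → k * b = b → b = 0 := by
    intro k b hk h
    have : (k - 1) * b = 0 := by linear_combination h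
    exact (mul_eq_zero.1 this).resolve_left (sub_ne_zero.2 hk)
  have hs : shp σ w ≠ 1 := by
    intro h
    have := mul_shp (σ := σ) hn
    rw [h, mul_one] at this
    exact hw this
  have k1 := hz hw (c.x1_inj e1)
  have k3 := hz hs (c.x3_inj e3)
  have k5 := hz hw (c.x5_inj e5)
  refine ⟨⟨b2, f2⟩, ⟨b4, f4⟩, ⟨b6, f6⟩, ?_⟩
  rw [k1, k3, k5, c.x1_zero, c.x3_zero, c.x5_zero, mul_one, mul_one, one_mul]

/-- **The elements commuting with `y`.** -/
theorem form_y [Finite E] (h2 : (2 : E) ≠ 0) {g : L} (hg : g * y = y * g) :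
    ∃ a b d a' b' d' : ↥(fx σ), ∃ n f, c.IsRep n f ∧ ∃ h ∈ c.T0,
      g = c.x2 a * c.x4 b * c.x6 d * n * h * (c.x2 a' * c.x4 b' * c.x6 d') ∧
      y * (c.x2 a' * c.x4 b' * c.x6 d') = (c.x2 a' * c.x4 b' * c.x6 d') * y := by
  obtain ⟨u, hu, n, f, hnf, h, hh, v, hv, e, e1, e2⟩ := bruhat_comm c h2 ⟨_, _, hy⟩ hg
  obtain ⟨a, b, d, rfl⟩ := fix_y c hy hn hw hu e1
  obtain ⟨a', b', d', rfl⟩ := fix_y c hy hn hw hv e2
  exact ⟨a, b, d, a', b', d', n, f, hnf, h, hh, e, e2⟩

omit hn hw in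
theorem act_pow (k : ℕ) : c.Act (y ^ k) (w ^ k) 1 := by
  induction k with
  | zero => exact c.act_one.congr (by simp) (by simp) rfl
  | succ k ih => exact (ih.mul hy).congr (by rw [pow_succ]) (by rw [pow_succ]) (by simp)

end y

section M

variable {M : Subgroup L} (ha : ∀ x, c.pa x ∈ M) (hb : ∀ x : SL2 ↥(fx σ), c.pb (Matrix.SpecialLinearGroup.map (fx σ).subtype x) ∈ M)

include ha in
theorem x6_mem (t : ↥(fx σ)) : c.x6 t ∈ M := by
  rw [← c.pa_up]
  exact ha _

include ha in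
theorem n6_mem : c.n6 ∈ M := ha _

include hb in
theorem n1_mem : c.n1 ∈ M := by
  have h := hb (wm 1 one_ne_zero)
  have e : Matrix.SpecialLinearGroup.map (fx σ).subtype (wm 1 one_ne_zero) = wm (1 : E) one_ne_zero := by
    refine ext_ent ?_ ?_ ?_ ?_
    · exact map_zero (fx σ).subtype
    · exact map_one (fx σ).subtype
    · show (fx σ).subtype (-(1 : ↥(fx σ))⁻¹) = -(1 : E)⁻¹
      rw [map_neg, map_inv₀, map_one]
    · exact map_zero (fx σ).subtype
  rw [e] at h
  exact h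

include ha hb

theorem x2_mem (t : ↥(fx σ)) : c.x2 t ∈ M := by
  have h := c.n1_x6 ((-t : ↥(fx σ)) : E) (-t : ↥(fx σ)).2
  have e : -(((-t : ↥(fx σ)) : E)) = (t : E) := by
    rw [show (((-t : ↥(fx σ)) : E)) = -(t : E) from rfl, neg_neg]
  rw [e] at h
  rw [← h]
  exact mul_mem (mul_mem (n1_mem c hb) (x6_mem c ha _)) (inv_mem (n1_mem c hb))

theorem x4_mem (t : ↥(fx σ)) : c.x4 t ∈ M := by
  obtain ⟨s, hs⟩ := c.mem_X4.1 (c.mem4 t.2)
  rw [← hs, c.p4_apply]
  exact mul_mem (mul_mem (mul_mem (n6_mem c ha) (n1_mem c hb)) (ha _))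
    (inv_mem (mul_mem (n6_mem c ha) (n1_mem c hb)))

theorem alt_mem (r : ℕ) : alt c.n1 c.n6 r ∈ M ∧ alt c.n6 c.n1 r ∈ M := by
  induction r with
  | zero => exact ⟨one_mem _, one_mem _⟩
  | succ r ih => exact ⟨mul_mem (n1_mem c hb) ih.2, mul_mem (n6_mem c ha) ih.1⟩

theorem rep_mem {n : L} {f : ZMod (2 * 6) → ZMod (2 * 6)} (h : c.IsRep n f) : n ∈ M := by
  obtain ⟨r, _, ⟨rfl, _⟩ | ⟨rfl, _⟩⟩ := h
  · exact (alt_mem c ha hb r).1
  · exact (alt_mem c ha hb r).2

/-- the torus over the fixed field -/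
theorem tor_mem {h : L} {c1 c6 : E} (hA : c.Act h c1 c6) (h1 : σ c1 = c1) (h6 : σ c6 = c6) : h ∈ M := by
  have n1' := hA.ne1
  have n6' := hA.ne6
  let d1 : ↥(fx σ) := ⟨c1, h1⟩
  let d6 : ↥(fx σ) := ⟨c6, h6⟩
  have hd1 : d1 ≠ 0 := fun h => n1' (congrArg Subtype.val h)
  have hd6 : d6 ≠ 0 := fun h => n6' (congrArg Subtype.val h)
  have hs : d6 * d1 ^ 2 ≠ 0 := mul_ne_zero hd6 (pow_ne_zero _ hd1)
  have ht : d6 ^ 2 * d1 ^ 3 ≠ 0 := mul_ne_zero (pow_ne_zero _ hd6) (pow_ne_zero _ hd1)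
  have hs' : c6 * c1 ^ 2 ≠ 0 := mul_ne_zero n6' (pow_ne_zero _ n1')
  have hB := (c.act_b (c6 * c1 ^ 2) hs').mul (c.act_a (d6 ^ 2 * d1 ^ 3) ht)
  have hnr : nrm σ (c6 * c1 ^ 2) = (c6 * c1 ^ 2) ^ 3 :=
    nrm_of_fix (by rw [map_mul, map_pow, h1, h6])
  have hC : c.Act (c.pb (dg (c6 * c1 ^ 2) hs') * c.pa (dg (d6 ^ 2 * d1 ^ 3) ht)) c1 c6 := by
    refine hB.congr rfl ?_ ?_
    · show (c6 * c1 ^ 2) ^ 2 * (c6 ^ 2 * c1 ^ 3)⁻¹ = c1
      field_simp
    · show (nrm σ (c6 * c1 ^ 2))⁻¹ * (c6 ^ 2 * c1 ^ 3) ^ 2 = c6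
      rw [hnr]
      field_simp
  rw [hA.unique hC]
  refine mul_mem ?_ (ha _)
  have h := hb (dg (d6 * d1 ^ 2) hs)
  have e : Matrix.SpecialLinearGroup.map (fx σ).subtype (dg (d6 * d1 ^ 2) hs) = dg (c6 * c1 ^ 2) hs' := by
    refine ext_ent ?_ ?_ ?_ ?_
    · rfl
    · exact map_zero (fx σ).subtype
    · exact map_zero (fx σ).subtype
    · show (fx σ).subtype (d6 * d1 ^ 2)⁻¹ = (c6 * c1 ^ 2)⁻¹
      rw [map_inv₀]
      rfl
  rw [e] at h
  exact h

/-- **Elements commuting with `y` are in `M ⟨y⟩`.** -/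
theorem cent_y_mem [Fintype E] (hE : Fintype.card E = 27) (h2 : (2 : E) ≠ 0) {y : L} {w : E} (hy : c.Act y w 1)
    (hn : nrm σ w = 1) (hw : IsPrimitiveRoot w 13) {g : L} (hg : g * y = y * g) : ∃ i, g * y ^ i ∈ M := by
  have hw1 : w ≠ 1 := hw.ne_one (by norm_num)
  obtain ⟨a, b, d, a', b', d', n, f, hnf, h, hh, e, e2⟩ := form_y c hy hn hw1 h2 hg
  obtain ⟨c1, c6, hA⟩ := hh
  have hc1 := hA.ne1
  have h26 : c1 ^ 26 = 1 := by
    have := FiniteField.pow_card_sub_one_eq_one c1 hc1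
    rwa [hE] at this
  obtain ⟨i, hi⟩ : ∃ i, σ (c1 * w ^ i) = c1 * w ^ i := by
    have h13 : c1 ^ 13 = 1 ∨ c1 ^ 13 = -1 := by
      have h1 : (c1 ^ 13 - 1) * (c1 ^ 13 + 1) = 0 := by linear_combination h26
      rcases mul_eq_zero.1 h1 with h | h
      · exact Or.inl (sub_eq_zero.1 h)
      · exact Or.inr (eq_neg_of_add_eq_zero_left h)
    rcases h13 with h13 | h13
    · obtain ⟨i, hi, e⟩ := hw.eq_pow_of_pow_eq_one h13
      refine ⟨13 - i, ?_⟩
      rw [← e, ← pow_add, Nat.add_sub_cancel' hi.le, hw.pow_eq_one, map_one]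
    · have h14 : (-c1) ^ 13 = 1 := by rw [Odd.neg_pow (by decide), h13, neg_neg]
      obtain ⟨i, hi, e⟩ := hw.eq_pow_of_pow_eq_one h14
      refine ⟨13 - i, ?_⟩
      have e3 : c1 = -(w ^ i) := by rw [e, neg_neg]
      rw [e3, neg_mul, ← pow_add, Nat.add_sub_cancel' hi.le, hw.pow_eq_one, map_neg, map_one]
  refine ⟨i, ?_⟩
  have hB := hA.mul (act_pow c hy i)
  have h3 : h * y ^ i ∈ M := by
    refine tor_mem c ha hb hB hi ?_
    rw [mul_one]
    exact hA.fix
  have e4 : (c.x2 a' * c.x4 b' * c.x6 d') * y ^ i = y ^ i * (c.x2 a' * c.x4 b' * c.x6 d') := by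
    have : Commute y (c.x2 a' * c.x4 b' * c.x6 d') := e2
    exact (this.pow_left i).eq.symm
  have e5 : g * y ^ i = c.x2 a * c.x4 b * c.x6 d * n * (h * y ^ i) * (c.x2 a' * c.x4 b' * c.x6 d') := by
    rw [e, mul_assoc _ _ (y ^ i), e4]
    group
  rw [e5]
  exact mul_mem (mul_mem (mul_mem (mul_mem (mul_mem (x2_mem c ha hb _) (x4_mem c ha hb _)) (x6_mem c ha _))
    (rep_mem c ha hb hnf)) h3) (mul_mem (mul_mem (x2_mem c ha hb _) (x4_mem c ha hb _)) (x6_mem c ha _))

end M

end Cfsg.Agent.H922.TD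
end

-- part: H922/TD/HexB
section
/-!
# Groups of type `³D₄`: orders (helper922, S2465)

* `card_cent_y` : `|C(y)| ≤ f³ · 14 · (|E| f) · f³`, `f` the order of the fixed field;
* `card_pos` : `|U| = (|E| f)³`.
-/

set_option autoImplicit false

namespace Cfsg.Agent.H922.TD

open Cfsg.Agent.SplitTwo Cfsg.Agent.TitsThree.RankTwoZ Cfsg.Agent.Lib.SL2Mat Cfsg.Agent.Cit.HexBase
  Cfsg.Agent.TitsThree.RankTwoIdx Cfsg.Agent.TitsThree.RankTwoRGD Cfsg.Agent.Cit.HexBase.HexGrp

universe u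

variable {E : Type*} [Field E] {σ : E ≃+* E} {L : Type u} [Group L] (c : HexGrp σ L)

/-- **The order of the positive part.** -/
theorem card_pos : Nat.card ↥(Sg c.X Pos) = (Nat.card E * Nat.card ↥(fx σ)) ^ 3 := by
  have m : ∀ {k : ZMod (2 * 6)}, k ∈ Pos → ∀ {g : L}, g ∈ c.X k → g ∈ Sg c.X Pos := fun hk g hg => X_le_Sg hk hg
  let F : (↥(fx σ) × E × E) × (E × ↥(fx σ) × ↥(fx σ)) → ↥(Sg c.X Pos) := fun p =>
    ⟨c.x6 p.1.1 * c.x1 p.1.2.1 * c.x5 p.1.2.2 * c.x3 p.2.1 * c.x2 p.2.2.1 * c.x4 p.2.2.2,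
      mul_mem (mul_mem (mul_mem (mul_mem (mul_mem (m (by decide) (c.mem6 p.1.1.2)) (m (by decide) (c.mem1 _)))
        (m (by decide) (c.mem5 _))) (m (by decide) (c.mem3 _))) (m (by decide) (c.mem2 p.2.2.1.2)))
        (m (by decide) (c.mem4 p.2.2.2.2))⟩
  have hF : Function.Bijective F := by
    constructor
    · rintro ⟨⟨a, b, d⟩, e, f, t⟩ ⟨⟨a', b', d'⟩, e', f', t'⟩ h
      obtain ⟨h1, h2, h3, h4, h5, h6⟩ := uniq' c a.2 a'.2 f.2 f'.2 t.2 t'.2 (congrArg Subtype.val h)
      have k2 : b = b' := h2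
      have k3 : d = d' := h3
      have k4 : e = e' := h4
      rw [Subtype.ext h1, Subtype.ext h5, Subtype.ext h6, k2, k3, k4]
    · rintro ⟨g, hg⟩
      obtain ⟨a, b, d, e, f, t, ha, hf, ht, rfl⟩ := exists_prod' c hg
      exact ⟨((⟨a, ha⟩, b, d), e, ⟨f, hf⟩, ⟨t, ht⟩), rfl⟩
  rw [← Nat.card_eq_of_bijective F hF]
  simp only [Nat.card_prod]
  ring

/-- **The order of the centralizer of `y`.** -/
theorem card_cent_y [Finite E] (h2 : (2 : E) ≠ 0) {y : L} {w : E} (hy : c.Act y w 1) (hn : nrm σ w = 1) (hw : w ≠ 1) :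
    Nat.card ↥(Subgroup.centralizer ({y} : Set L)) ≤
      Nat.card ↥(fx σ) ^ 3 * 14 * (Nat.card E * Nat.card ↥(fx σ)) * Nat.card ↥(fx σ) ^ 3 := by
  classical
  let F : (↥(fx σ) × ↥(fx σ) × ↥(fx σ)) × (Bool × Fin 7) × (E × ↥(fx σ)) × (↥(fx σ) × ↥(fx σ) × ↥(fx σ)) → L :=
    fun p => c.x2 p.1.1 * c.x4 p.1.2.1 * c.x6 p.1.2.2 * (if p.2.1.1 then alt c.n1 c.n6 p.2.1.2 else alt c.n6 c.n1 p.2.1.2) *
      (if h : p.2.2.1.1 ≠ 0 ∧ p.2.2.1.2 ≠ 0 then c.pb (dg p.2.2.1.1 h.1) * c.pa (dg p.2.2.1.2 h.2) else 1) *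
      (c.x2 p.2.2.2.1 * c.x4 p.2.2.2.2.1 * c.x6 p.2.2.2.2.2)
  have hF : ∀ g : ↥(Subgroup.centralizer ({y} : Set L)), ∃ p, F p = g := by
    rintro ⟨g, hg⟩
    have hg' : g * y = y * g := Subgroup.mem_centralizer_singleton_iff.1 hg
    obtain ⟨a, b, d, a', b', d', n, f, hnf, h, hh, e, -⟩ := form_y c hy hn hw h2 hg'
    obtain ⟨s, hs, t, ht, rfl⟩ := c.exists_of_mem_T0 h2 hh
    obtain ⟨r, hr, ⟨rfl, -⟩ | ⟨rfl, -⟩⟩ := hnf
    · refine ⟨((a, b, d), (true, ⟨r, by omega⟩), (s, t), (a', b', d')), ?_⟩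
      show c.x2 a * c.x4 b * c.x6 d * (if true = true then alt c.n1 c.n6 r else _) *
        (if h : s ≠ 0 ∧ t ≠ 0 then c.pb (dg s h.1) * c.pa (dg t h.2) else 1) * _ = g
      rw [if_pos rfl, dif_pos ⟨hs, ht⟩, e]
    · refine ⟨((a, b, d), (false, ⟨r, by omega⟩), (s, t), (a', b', d')), ?_⟩
      show c.x2 a * c.x4 b * c.x6 d * (if false = true then _ else alt c.n6 c.n1 r) *
        (if h : s ≠ 0 ∧ t ≠ 0 then c.pb (dg s h.1) * c.pa (dg t h.2) else 1) * _ = g
      rw [if_neg (by simp), dif_pos ⟨hs, ht⟩, e]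
  choose G hG using hF
  have hinj : Function.Injective G := by
    intro x x' h
    apply Subtype.ext
    rw [← hG x, ← hG x', h]
  refine (Nat.card_le_card_of_injective G hinj).trans ?_
  simp only [Nat.card_prod, Nat.card_eq_fintype_card (α := Bool), Nat.card_eq_fintype_card (α := Fin 7),
    Fintype.card_bool, Fintype.card_fin]
  apply le_of_eq
  ring

end Cfsg.Agent.H922.TD
end

-- part: H922/TD/Final
section
/-!
# `³D₄(3)`: every element is a product of two elements of order prime to 6 (helper922, S2465)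
-/

set_option autoImplicit false

open Cfsg Cfsg.Lie

namespace Cfsg.Agent.H922.TD

open Cfsg.Agent.SplitTwo Cfsg.Agent.TitsThree.RankTwoZ Cfsg.Agent.Lib.SL2Mat Cfsg.Agent.Cit.HexBase
  Cfsg.Agent.TitsThree.RankTwoIdx Cfsg.Agent.TitsThree.RankTwoRGD Cfsg.Agent.Cit.HexBase.HexGrp
  Cfsg.Agent.ChevalleyStructure Cfsg.Agent.H78.Pw

/-- two elements of order `p` of a subgroup of order not divisible by `p ^ 2` -/
theorem conj_of_prime {G : Type*} [Group G] [Finite G] {p : ℕ} [hp : Fact p.Prime] (P : Subgroup G)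
    (h2 : ¬ p ^ 2 ∣ Nat.card P) {x y : G} (hx : x ∈ P) (hy : y ∈ P) (ox : orderOf x = p) (oy : orderOf y = p) :
    ∃ b : G, b * x * b⁻¹ ∈ Subgroup.zpowers y := by
  have key : ∀ z : P, orderOf z = p → ∃ S : Sylow p P, (S : Subgroup P) = Subgroup.zpowers z := by
    intro z hz
    have h1 : IsPGroup p (Subgroup.zpowers z) := IsPGroup.of_card (n := 1) (by rw [Nat.card_zpowers, hz, pow_one])
    obtain ⟨S, hS⟩ := h1.exists_le_sylow
    refine ⟨S, ?_⟩
    symm
    apply Subgroup.eq_of_le_of_card_ge hS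
    obtain ⟨n, hn⟩ := IsPGroup.iff_card.1 S.isPGroup'
    have h3 : n < 2 := by
      by_contra hc
      apply h2
      refine (pow_dvd_pow p (not_lt.1 hc)).trans ?_
      rw [← hn]
      exact Subgroup.card_subgroup_dvd_card _
    rw [Nat.card_zpowers, hz, hn]
    calc p ^ n ≤ p ^ 1 := Nat.pow_le_pow_right hp.out.pos (by omega)
      _ = p := pow_one p
  obtain ⟨S, hS⟩ := key ⟨x, hx⟩ (by rw [← Subgroup.orderOf_coe]; exact ox)
  obtain ⟨T, hT⟩ := key ⟨y, hy⟩ (by rw [← Subgroup.orderOf_coe]; exact oy)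
  obtain ⟨b, hb⟩ := MulAction.exists_smul_eq P S T
  refine ⟨b, ?_⟩
  have h1 : b * (⟨x, hx⟩ : P) * b⁻¹ ∈ (T : Subgroup P) := by
    rw [← hb, Sylow.coe_subgroup_smul]
    exact Subgroup.smul_mem_pointwise_smul _ _ _ (by rw [hS]; exact Subgroup.mem_zpowers _)
  rw [hT] at h1
  obtain ⟨k, hk⟩ := Subgroup.mem_zpowers_iff.1 h1
  exact Subgroup.mem_zpowers_iff.2 ⟨k, congrArg Subtype.val hk⟩

/-- a subgroup whose order is divisible by the order of a Sylow subgroup contains a conjugate of every `p`-subgroup -/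
theorem conj_of_sylow {G : Type*} [Group G] [Finite G] {p n : ℕ} [hp : Fact p.Prime] (C U : Subgroup G)
    (hn : ¬ p ^ (n + 1) ∣ Nat.card G) (hC : p ^ n ∣ Nat.card C) (hU : Nat.card U = p ^ n) :
    ∃ b : G, ∀ u ∈ U, b * u * b⁻¹ ∈ C := by
  obtain ⟨S, hS⟩ := Sylow.exists_subgroup_card_pow_prime p hC
  have hcS : Nat.card (S.map C.subtype) = p ^ n := by
    rw [Nat.card_congr (Subgroup.equivMapOfInjective S C.subtype C.subtype_injective).symm.toEquiv, hS]
  have key : ∀ V : Subgroup G, Nat.card V = p ^ n → ∃ T : Sylow p G, (T : Subgroup G) = V := by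
    intro V hV
    obtain ⟨T, hT⟩ := (IsPGroup.of_card hV).exists_le_sylow
    refine ⟨T, ?_⟩
    symm
    apply Subgroup.eq_of_le_of_card_ge hT
    obtain ⟨m, hm⟩ := IsPGroup.iff_card.1 T.isPGroup'
    have h3 : m < n + 1 := by
      by_contra hc
      apply hn
      refine (pow_dvd_pow p (not_lt.1 hc)).trans ?_
      rw [← hm]
      exact Subgroup.card_subgroup_dvd_card _
    rw [hV, hm]
    exact Nat.pow_le_pow_right hp.out.pos (by omega)
  obtain ⟨T, hT⟩ := key U hU
  obtain ⟨T', hT'⟩ := key _ hcS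
  obtain ⟨b, hb⟩ := MulAction.exists_smul_eq G T T'
  refine ⟨b, fun u hu => ?_⟩
  have h1 : b * u * b⁻¹ ∈ (T' : Subgroup G) := by
    rw [← hb, Sylow.coe_subgroup_smul]
    exact Subgroup.smul_mem_pointwise_smul _ _ _ (by rw [hT]; exact hu)
  rw [hT'] at h1
  obtain ⟨s, -, hs⟩ := h1
  rw [← hs]
  exact s.2

theorem exists_prim {K : Type*} [Field K] [Fintype K] (hK : Fintype.card K = 3 ^ 3) : ∃ s : K, IsPrimitiveRoot s 13 := by
  have : Fact (Nat.Prime 13) := ⟨by norm_num⟩
  obtain ⟨z, hz⟩ := exists_prime_orderOf_dvd_card' (G := Kˣ) 13 (by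
    rw [Nat.card_units, Nat.card_eq_fintype_card, hK]
    norm_num)
  refine ⟨z, ?_⟩
  rw [IsPrimitiveRoot.coe_units_iff, ← hz]
  exact IsPrimitiveRoot.orderOf z

/-! ### small identities in a group -/

theorem gi1 {G : Type*} [Group G] {a b v z : G} (h : a * z * a⁻¹ = b * v * b⁻¹) :
    z = a⁻¹ * b * v * (a⁻¹ * b)⁻¹ := by
  calc z = a⁻¹ * (a * z * a⁻¹) * a := by group
    _ = a⁻¹ * (b * v * b⁻¹) * a := by rw [h]
    _ = _ := by group

theorem gi2 {G : Type*} [Group G] {b g v : G} (h : g * v = v * g) :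
    b * g * b⁻¹ * (b * v * b⁻¹) = b * v * b⁻¹ * (b * g * b⁻¹) := by
  calc b * g * b⁻¹ * (b * v * b⁻¹) = b * (g * v) * b⁻¹ := by group
    _ = b * (v * g) * b⁻¹ := by rw [h]
    _ = _ := by group

theorem gi3 {G : Type*} [Group G] {b g x : G} (h : b * x * b⁻¹ * g = g * (b * x * b⁻¹)) :
    b⁻¹ * g * b * x = x * (b⁻¹ * g * b) := by
  calc b⁻¹ * g * b * x = b⁻¹ * (g * (b * x * b⁻¹)) * b := by group
    _ = b⁻¹ * (b * x * b⁻¹ * g) * b := by rw [h]
    _ = _ := by group

theorem gi4 {G : Type*} [Group G] {b g y : G} (h : y * (b⁻¹ * g * b) = b⁻¹ * g * b * y) :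
    b * y * b⁻¹ * g = g * (b * y * b⁻¹) := by
  calc b * y * b⁻¹ * g = b * (y * (b⁻¹ * g * b)) * b⁻¹ := by group
    _ = b * ((b⁻¹ * g * b) * y) * b⁻¹ := by rw [h]
    _ = _ := by group

section

variable {K : Type} [Field K] [Fintype K]

/-- **`³D₄(3)`**, from the two boxes. -/
theorem all_six_of (hK : Fintype.card K = 3 ^ 3) {σ : K ≃+* K} (hσ : ∀ x, σ x = x ^ 3)
    (c : HexGrp σ ↥(twistedD4 K 3))
    (hdiag : ∀ (s : K) (hs : s ≠ 0), ((c.pb (dg s hs) : ↥(twistedD4 K 3)) : GL chevD4.Idx K) ∈ chevD4.diagonalSubgroup K)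
    (hpar : ∀ u : ↥(twistedD4 K 3), orderOf u = 3 → ∃ (P : Subgroup ↥(twistedD4 K 3)) (a : ↥(twistedD4 K 3)),
      Subgroup.centralizer ({u} : Set ↥(twistedD4 K 3)) ≤ P ∧ (Nat.card P = 110539728 ∨ Nat.card P = 773778096) ∧
      (∀ t : ↥(twistedD4 K 3), (t : GL chevD4.Idx K) ∈ chevD4.diagonalSubgroup K → a * t * a⁻¹ ∈ P))
    {M : Subgroup ↥(twistedD4 K 3)} (hM : All 6 M) (ha : ∀ x, c.pa x ∈ M)
    (hb : ∀ x : SL2 ↥(fx σ), c.pb (Matrix.SpecialLinearGroup.map (fx σ).subtype x) ∈ M) :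
    All 6 ↥(twistedD4 K 3) := by
  classical
  set G := ↥(twistedD4 K 3) with hG
  have hfin : Finite G := inferInstance
  have hq : IsPrimePow 3 := Nat.prime_three.isPrimePow
  have hcG : Nat.card G = 20560831566912 := by rw [S1067.result hq hK]; norm_num
  have h13 : Fact (Nat.Prime 13) := ⟨by norm_num⟩
  have h3p : Fact (Nat.Prime 3) := ⟨Nat.prime_three⟩
  have h27 : Fintype.card K = 27 := by rw [hK]; norm_num
  have h2 : (2 : K) ≠ 0 := by
    intro h
    have h3 : CharP K 2 := CharTwo.of_one_ne_zero_of_two_eq_zero one_ne_zero h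
    obtain ⟨n, -, hn⟩ := FiniteField.card K 2
    rw [hK] at hn
    have h4 : 2 ∣ 3 ^ 3 := by rw [hn]; exact dvd_pow_self 2 n.ne_zero
    omega
  have hfx : Nat.card ↥(fx σ) = 3 :=
    Cfsg.Agent.ChevalleyStructure.D4U.card_fix_field (φ := (σ : K →+* K)) (by norm_num) hK hσ
  have hcK : Nat.card K = 27 := by rw [Nat.card_eq_fintype_card, h27]
  have hnd := H121.TwD4.trc_nondeg (q := 3) (by norm_num) hK hσ
  -- the element `y`
  obtain ⟨s, hs⟩ := exists_prim hK
  have hs0 : s ≠ 0 := hs.ne_zero (by norm_num)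
  have hns : nrm σ s = 1 := by
    unfold nrm
    rw [hσ, hσ, ← pow_mul, ← hs.pow_eq_one]
    ring
  set w : K := s ^ 2 with hw
  have hwp : IsPrimitiveRoot w 13 := hs.pow_of_coprime 2 (by norm_num)
  have hw1 : w ≠ 1 := hwp.ne_one (by norm_num)
  have hnw : nrm σ w = 1 := by rw [hw, pow_two, nrm_mul, hns, one_mul]
  set y : G := c.pb (dg s hs0) with hyd
  have hy : c.Act y w 1 := (c.act_b s hs0).congr rfl rfl (by rw [hns, inv_one])
  have oy : orderOf y = 13 := by
    apply orderOf_eq_prime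
    · have h1 := act_pow c hy 13
      rw [hwp.pow_eq_one] at h1
      exact h1.eq_one
    · intro h
      have h1 := hy.a1 1
      rw [h, one_mul, inv_one, mul_one, mul_one] at h1
      exact hw1 (c.x1_inj h1).symm
  have hcy : Nat.card (Subgroup.centralizer ({y} : Set G)) ≤ 826686 := by
    have h1 := card_cent_y c h2 hy hnw hw1
    rw [hfx, hcK] at h1
    exact h1.trans (by norm_num)
  -- elements of order 13 commuting with elements of order 3
  have hcj : ∀ u v : G, orderOf u = 3 → orderOf v = 13 → v * u = u * v → ∃ b : G, b * v * b⁻¹ ∈ Subgroup.zpowers y := by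
    intro u v hu hv huv
    obtain ⟨P, a, hP, hcP, hT⟩ := hpar u hu
    have h1 : a * y * a⁻¹ ∈ P := hT y (hdiag s hs0)
    have h4 : v ∈ P := hP (Subgroup.mem_centralizer_singleton_iff.2 huv)
    have h5 : ¬ 13 ^ 2 ∣ Nat.card P := by
      rcases hcP with h | h <;> rw [h] <;> norm_num
    obtain ⟨b, hb⟩ := conj_of_prime P h5 h4 h1 hv (by
      rw [← oy]
      exact orderOf_injective (MulAut.conj a).toMonoidHom (MulAut.conj a).injective y)
    obtain ⟨k, hk⟩ := Subgroup.mem_zpowers_iff.1 hb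
    refine ⟨a⁻¹ * b, Subgroup.mem_zpowers_iff.2 ⟨k, ?_⟩⟩
    have h6 : (a * y * a⁻¹) ^ k = a * y ^ k * a⁻¹ := by
      have := (map_zpow (MulAut.conj a) y k)
      exact this.symm
    rw [h6] at hk
    exact gi1 hk
  have hcj2 : ∀ u v : G, orderOf u = 3 → orderOf v = 13 → v * u = u * v → ∃ b : G, ∀ g : G, g * v = v * g →
      (b * g * b⁻¹) * y = y * (b * g * b⁻¹) := by
    intro u v hu hv huv
    obtain ⟨b, hb⟩ := hcj u v hu hv huv
    refine ⟨b, fun g hg => ?_⟩
    have h1 : orderOf (b * v * b⁻¹) = 13 := by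
      rw [← hv]
      exact orderOf_injective (MulAut.conj b).toMonoidHom (MulAut.conj b).injective v
    have h4 : Subgroup.zpowers (b * v * b⁻¹) = Subgroup.zpowers y := by
      apply Subgroup.eq_of_le_of_card_ge ((Subgroup.zpowers_le).2 hb)
      rw [Nat.card_zpowers, Nat.card_zpowers, h1, oy]
    have h5 : y ∈ Subgroup.zpowers (b * v * b⁻¹) := by rw [h4]; exact Subgroup.mem_zpowers y
    obtain ⟨k, hk⟩ := Subgroup.mem_zpowers_iff.1 h5
    have h6 : Commute (b * g * b⁻¹) (b * v * b⁻¹) := gi2 hg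
    rw [← hk]
    exact (h6.zpow_right k).eq
  intro g
  -- powers
  have hpw : ∀ p : ℕ, p.Prime → p ∣ orderOf g → ∃ u ∈ Subgroup.zpowers g, orderOf u = p := by
    intro p hp hd
    have hpos : 0 < orderOf g := orderOf_pos g
    refine ⟨g ^ (orderOf g / p), Subgroup.npow_mem_zpowers _ _, ?_⟩
    rw [orderOf_pow_of_dvd (Nat.div_pos (Nat.le_of_dvd hpos hd) hp.pos).ne' (Nat.div_dvd_of_dvd hd)]
    exact Nat.div_div_self hd hpos.ne'
  have hcle : ∀ u ∈ Subgroup.zpowers g, Subgroup.centralizer ({g} : Set G) ≤ Subgroup.centralizer ({u} : Set G) := by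
    intro u hu x hx
    obtain ⟨k, rfl⟩ := Subgroup.mem_zpowers_iff.1 hu
    rw [Subgroup.mem_centralizer_singleton_iff] at hx ⊢
    have : Commute x g := hx
    exact (this.zpow_right k).eq
  have hcomm : ∀ u ∈ Subgroup.zpowers g, g * u = u * g := by
    intro u hu
    obtain ⟨k, rfl⟩ := Subgroup.mem_zpowers_iff.1 hu
    exact ((Commute.refl g).zpow_right k).eq
  by_cases h2g : 2 ∣ orderOf g
  · obtain ⟨t, ht, hto⟩ := hpw 2 Nat.prime_two h2g
    refine pr_of_cent hK g ?_
    exact (Subgroup.card_le_of_le (hcle t ht)).trans ((H874.Pw.card_cent_inv_three hK hto).trans (by norm_num))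
  have hodd : Odd (orderOf g) := by
    rw [← Nat.not_even_iff_odd, even_iff_two_dvd]
    exact h2g
  by_cases h3g : 3 ∣ orderOf g
  · obtain ⟨u, hu, huo⟩ := hpw 3 Nat.prime_three h3g
    have hgu := hcomm u hu
    by_cases hC : 13 ∣ Nat.card (Subgroup.centralizer ({g} : Set G))
    · by_cases h13g : 13 ∣ orderOf g
      · obtain ⟨v, hv, hvo⟩ := hpw 13 h13.out h13g
        have hvu : v * u = u * v := by
          obtain ⟨k, rfl⟩ := Subgroup.mem_zpowers_iff.1 hu
          have : Commute v g := (hcomm v hv).symm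
          exact (this.zpow_right k).eq
        obtain ⟨b, hb⟩ := hcj2 u v huo hvo hvu
        refine pr_of_cent hK g ?_
        refine le_trans ?_ (hcy.trans (by norm_num))
        refine Nat.card_le_card_of_injective (fun x : ↥(Subgroup.centralizer ({g} : Set G)) =>
          (⟨b * x * b⁻¹, Subgroup.mem_centralizer_singleton_iff.2 (hb x (Subgroup.mem_centralizer_singleton_iff.1
            (hcle v hv x.2)))⟩ : ↥(Subgroup.centralizer ({y} : Set G)))) ?_
        intro x x' h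
        have h1 := congrArg Subtype.val h
        apply Subtype.ext
        exact mul_left_cancel (mul_right_cancel h1)
      · obtain ⟨v, hv⟩ := exists_prime_orderOf_dvd_card' (G := ↥(Subgroup.centralizer ({g} : Set G))) 13 hC
        have hvo : orderOf (v : G) = 13 := by rw [Subgroup.orderOf_coe, hv]
        have hvg : (v : G) * g = g * v := Subgroup.mem_centralizer_singleton_iff.1 v.2
        have hvu : (v : G) * u = u * v := by
          obtain ⟨k, rfl⟩ := Subgroup.mem_zpowers_iff.1 hu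
          have : Commute (v : G) g := hvg
          exact (this.zpow_right k).eq
        obtain ⟨b, hb'⟩ := hcj2 u v huo hvo hvu
        have h4 := hb' g hvg.symm
        obtain ⟨i, hi⟩ := cent_y_mem c ha hb h27 h2 hy hnw hwp h4
        set g' := b * g * b⁻¹ with hg'
        have hog : orderOf g' = orderOf g :=
          orderOf_injective (MulAut.conj b).toMonoidHom (MulAut.conj b).injective g
        have h5 : g' ^ 13 ∈ M := by
          have h6 := pow_mem hi 13
          have h7 : Commute g' (y ^ i) := by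
            have : Commute g' y := h4
            exact this.pow_right i
          rw [h7.mul_pow, ← pow_mul, mul_comm i 13, pow_mul, ← oy, pow_orderOf_eq_one, one_pow, mul_one, oy] at h6
          exact h6
        have h8 : g' ∈ M := by
          have hcop : Nat.Coprime 13 (orderOf g') := by
            rw [hog]
            exact (Nat.Prime.coprime_iff_not_dvd h13.out).2 h13g
          have h9 : g' ∈ Subgroup.zpowers (g' ^ 13) := by
            have h10 : orderOf (g' ^ 13) = orderOf g' := Nat.Coprime.orderOf_pow hcop.symm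
            have h11 : Subgroup.zpowers (g' ^ 13) = Subgroup.zpowers g' := by
              apply Subgroup.eq_of_le_of_card_ge ((Subgroup.zpowers_le).2 (Subgroup.npow_mem_zpowers _ _))
              rw [Nat.card_zpowers, Nat.card_zpowers, h10]
            rw [h11]
            exact Subgroup.mem_zpowers _
          exact (Subgroup.zpowers_le.2 h5) h9
        exact Pr.of_conj (x := b) (Pr.of_mem hM h8)
    · refine pr_of_cent hK g ?_
      obtain ⟨P, a, hP, hcP, hT⟩ := hpar u huo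
      have hle : Subgroup.centralizer ({g} : Set G) ≤ P := (hcle u hu).trans hP
      have hd := Subgroup.card_dvd_of_le hle
      have hcop : Nat.Coprime (Nat.card (Subgroup.centralizer ({g} : Set G))) 13 :=
        ((Nat.Prime.coprime_iff_not_dvd h13.out).2 hC).symm
      rcases hcP with h | h
      · rw [h, show 110539728 = 8503056 * 13 by norm_num] at hd
        exact (Nat.le_of_dvd (by norm_num) (hcop.dvd_of_dvd_mul_right hd)).trans (by norm_num)
      · rw [h, show 773778096 = 59521392 * 13 by norm_num] at hd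
        have hd' := hcop.dvd_of_dvd_mul_right hd
        by_cases h12 : 3 ^ 12 ∣ Nat.card (Subgroup.centralizer ({g} : Set G))
        · exfalso
          apply hC
          obtain ⟨b, hb'⟩ := conj_of_sylow (p := 3) (n := 12) (Subgroup.centralizer ({g} : Set G)) (Sg c.X Pos)
            (by rw [hcG]; norm_num) h12 (by rw [card_pos c, hfx, hcK]; norm_num)
          have h4 : b⁻¹ * g * b ∈ c.X 4 := by
            refine cent_pos c h2 hnd ?_ fun x hx => ?_
            · have : orderOf (b⁻¹ * g * b) = orderOf g := by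
                have := orderOf_injective (MulAut.conj b⁻¹).toMonoidHom (MulAut.conj b⁻¹).injective g
                rw [← this]
                congr 1
              rw [this]
              exact hodd
            · have h5 := Subgroup.mem_centralizer_singleton_iff.1 (hb' x hx)
              exact gi3 h5
          obtain ⟨t, ht, ht'⟩ := (c.par.mem4 _).1 h4
          have h6 : b * y * b⁻¹ ∈ Subgroup.centralizer ({g} : Set G) := by
            rw [Subgroup.mem_centralizer_singleton_iff]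
            have h7 := hy.a4 t ht
            rw [hnw, one_pow, one_mul, one_mul, mul_inv_eq_iff_eq_mul, ht'] at h7
            exact gi4 h7
          have h8 : orderOf (b * y * b⁻¹) = 13 := by
            rw [← oy]
            exact orderOf_injective (MulAut.conj b).toMonoidHom (MulAut.conj b).injective y
          rw [← h8]
          exact Subgroup.orderOf_dvd_natCard _ h6
        · -- the order divides `3 ^ 11 * 112`
          have h4 : Nat.card (Subgroup.centralizer ({g} : Set G)) ∣ 19840464 := by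
            obtain ⟨a, b, ha', hb', hab⟩ := (Nat.dvd_mul).1 (show Nat.card (Subgroup.centralizer ({g} : Set G)) ∣
              3 ^ 12 * 112 by rw [show 3 ^ 12 * 112 = 59521392 by norm_num]; exact hd')
            obtain ⟨i, hi, rfl⟩ := (Nat.dvd_prime_pow Nat.prime_three).1 ha'
            have hi12 : i ≠ 12 := by
              rintro rfl
              exact h12 ⟨b, hab.symm⟩
            have h5 : 3 ^ i ∣ 3 ^ 11 := pow_dvd_pow 3 (by omega)
            rw [← hab, show 19840464 = 3 ^ 11 * 112 by norm_num]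
            exact Nat.mul_dvd_mul h5 hb'
          exact (Nat.le_of_dvd (by norm_num) h4).trans (by norm_num)
  · refine Pr.of_coprime ?_
    rw [show 6 = 2 * 3 by norm_num]
    exact Nat.Coprime.mul_right (((Nat.Prime.coprime_iff_not_dvd Nat.prime_two).2 h2g).symm)
      (((Nat.Prime.coprime_iff_not_dvd Nat.prime_three).2 h3g).symm)

end

end Cfsg.Agent.H922.TD
end

-- part: H512/TDFour/OneCls
section
/-!
# Involutions of `³D₄(q)`, `q` odd (helper512)

* `exists_gtwo` : `G₂(q) ≤ ³D₄(q)`;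
* `one_class` : one class of involutions (`G₂(q) ≤ ³D₄(q)` has odd index, S4278);
-/

set_option autoImplicit false

namespace Cfsg.Agent.H512.TDFour

open Subgroup Cfsg Cfsg.Lie Cfsg.Agent.ChevalleyStructure Cfsg.Agent.ChevalleyStructure.Elts
  Cfsg.Agent.ChevalleyStructure.D4Fixed Cfsg.Agent.ChevalleyStructure.D4NConj
  Cfsg.Agent.ChevalleyStructure.D4NCheck Cfsg.Agent.ChevalleyStructure.D4Perfect Cfsg.Agent.ChevalleyStructure.D4Comm

/-! ### `G₂(q) ≤ ³D₄(q)` -/

end Cfsg.Agent.H512.TDFour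
end

-- part: H878/TD/Root
section
/-!
# Long root elements of `³D₄(q)` are in `G₂(q)` (helper878, S2465)

* `exists_gtwo` : `G₂(q) ≤ ³D₄(q)` containing the long root group `X φ q (sr 0)`;
* `pr_root` : every element of a long root group is a product of two elements of order prime to `n`, if this is true
  in `G₂(q)`.
-/

set_option autoImplicit false

namespace Cfsg.Agent.H878.TD.Root

open Subgroup Cfsg Cfsg.Lie Cfsg.Agent.ChevalleyStructure Cfsg.Agent.ChevalleyStructure.Elts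
  Cfsg.Agent.ChevalleyStructure.D4Fixed Cfsg.Agent.ChevalleyStructure.D4NConj
  Cfsg.Agent.ChevalleyStructure.D4NCheck Cfsg.Agent.ChevalleyStructure.D4Perfect Cfsg.Agent.ChevalleyStructure.D4Comm
open Cfsg.Agent.ChevalleyStructure.CoxeterGeom Cfsg.Agent.Tits.Roots Cfsg.Agent.Tits.Core
open CoxeterSystem Cfsg.Agent.Tits.RootComb Cfsg.Agent.Nodes.Comb Cfsg.Agent.Nodes.Reps Cfsg.Agent.Nodes.BNOf Cfsg.Agent.H78.Pw

end Cfsg.Agent.H878.TD.Root
end

-- part: H922/TD/GTwoIn
section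
/-!
# `G₂(q) ≤ ³D₄(q)` and the rank one groups of the hexagon (helper922, S2465)
-/

set_option autoImplicit false

open Cfsg Cfsg.Lie

namespace Cfsg.Agent.H922.TD

open Cfsg.Agent.ChevalleyStructure Cfsg.Agent.ChevalleyStructure.D4NConj
  Cfsg.Agent.SplitTwo Cfsg.Agent.TitsThree.RankTwoZ Cfsg.Agent.Lib.SL2Mat Cfsg.Agent.Cit.HexBase
  Cfsg.Agent.Cit.HexD4
open Cfsg.Agent.Lib.SL2Mat (up lo exists_up_lo)

/-- **`G₂(q) ≤ ³D₄(q)`** contains the `F_q`-points of the two rank one groups. -/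
theorem exists_gtwo_hex {K : Type} [Field K] [Fintype K] {q : ℕ} (hq : IsPrimePow q)
    (hK : Fintype.card K = q ^ 3) {σ : K ≃+* K} (hσ : ∀ x, σ x = x ^ q) :
    ∃ (k : Type) (_ : Field k) (_ : Fintype k) (M : Subgroup ↥(twistedD4 K q)), Fintype.card k = q ∧
      Nonempty (↥M ≃* ↥(chevG2.group k)) ∧ (∀ x, (d4 hq hK hσ).pa x ∈ M) ∧
      (∀ x : SL2 ↥(fx σ), (d4 hq hK hσ).pb (Matrix.SpecialLinearGroup.map (fx σ).subtype x) ∈ M) := by
  let φ : K →+* K := (σ : K →+* K)
  have hφ : ∀ x, φ x = x ^ q := hσ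
  let S : Set (K →+* K) := {RingHom.id K, φ}
  have hid : RingHom.id K ∈ S := Or.inl rfl
  have hmem : ∀ t : K, t ∈ CpAutTri.Gen.kF S ↔ φ t = t := by
    intro t
    rw [CpAutTri.Gen.mem_kF]
    constructor
    · intro h
      exact h φ (Or.inr rfl)
    · rintro h ψ (rfl | hψ)
      · rfl
      · rw [Set.mem_singleton_iff.1 hψ]
        exact h
  have hXX : ∀ t : K, φ t = t → CpAutTri.Gen.X t = D4Fixed.X φ t := by
    intro t h1
    rw [CpAutTri.Gen.X_eq]
    unfold D4Fixed.X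
    rw [h1, h1]
    rfl
  have hYY : ∀ t : K, φ t = t → CpAutTri.Gen.Y t = D4Fixed.Y φ t := by
    intro t h1
    rw [CpAutTri.Gen.Y_eq]
    unfold D4Fixed.Y
    rw [h1, h1]
    rfl
  have hle : CpAutTri.Nor.DS S ≤ twistedD4 K q := by
    refine CpAutTri.Gen.DS_le hid ?_ ?_ ?_ ?_
    · intro t ht
      have h1 := (hmem t).1 ht
      rw [hφ] at h1
      exact D4Fixed.x14_mem h1
    · intro t ht
      have h1 := (hmem t).1 ht
      rw [hφ] at h1
      exact D4Fixed.x9_mem h1
    · intro t ht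
      rw [hXX t ((hmem t).1 ht)]
      exact D4Fixed.X_mem hφ t
    · intro t ht
      rw [hYY t ((hmem t).1 ht)]
      exact D4Fixed.Y_mem hφ t
  obtain ⟨e⟩ := CpAutTri.Hom.equivG2 hid (by
    intro g hg h
    have hf : g ∈ D4Fixed.fix (RingHom.id K) := CpAutTri.Hom.DS_le_fix hid hg
    refine H207.TriFix.rho3_inj (CpAutTri.Nor.DS_le_G _ hg) hf ?_
    apply Units.ext
    rw [CpAutTri.Hom.coe_rho3]
    show CpAutTri.Iota.J K * ((g : Matrix chevD4.Idx chevD4.Idx K) * CpAutTri.Iota.I K) = 1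
    rw [h, CpAutTri.Iota.J_mul_I])
  classical
  have hfin : Fintype ↥(CpAutTri.Gen.kF S) := Fintype.ofFinite _
  have hcard : Fintype.card ↥(CpAutTri.Gen.kF S) = q := by
    rw [← Nat.card_eq_fintype_card, ← D4U.card_fix_field hq.one_lt hK hφ]
    exact Nat.card_congr (Equiv.subtypeEquivRight hmem)
  refine ⟨_, inferInstance, hfin, (CpAutTri.Nor.DS S).subgroupOf (twistedD4 K q), hcard,
    ⟨(Subgroup.subgroupOfEquivOfLe hle).trans e⟩, ?_, ?_⟩
  · intro x
    rw [Subgroup.mem_subgroupOf]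
    change pa0 (fx σ).subtype x ∈ _
    obtain ⟨a, b, c, d, rfl⟩ := exists_up_lo x
    have h1 : ∀ t : ↥(fx σ), (t : K) ∈ CpAutTri.Gen.kF S := fun t => (hmem t).2 t.2
    simp only [map_mul, pa0_up, pa0_lo]
    exact mul_mem (mul_mem (mul_mem (CpAutTri.Gen.x14_mem (h1 _)) (CpAutTri.Gen.x9_mem (h1 _)))
      (CpAutTri.Gen.x14_mem (h1 _))) (CpAutTri.Gen.x9_mem (h1 _))
  · intro x
    rw [Subgroup.mem_subgroupOf]
    change pb0 (σ : K →+* K) (Matrix.SpecialLinearGroup.map (fx σ).subtype x) ∈ _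
    obtain ⟨a, b, c, d, rfl⟩ := exists_up_lo x
    have h1 : ∀ t : ↥(fx σ), (t : K) ∈ CpAutTri.Gen.kF S := fun t => (hmem t).2 t.2
    have h2 : ∀ t : ↥(fx σ), Matrix.SpecialLinearGroup.map (fx σ).subtype (up t) = up (t : K) :=
      fun t => Cfsg.Agent.GH.LowRankD4.map_up _ t
    have h3 : ∀ t : ↥(fx σ), Matrix.SpecialLinearGroup.map (fx σ).subtype (lo t) = lo (t : K) :=
      fun t => Cfsg.Agent.GH.LowRankD4.map_lo _ t
    simp only [map_mul, h2, h3, pb0_up, pb0_lo]
    have h4 : ∀ t : ↥(fx σ), D4Fixed.X (σ : K →+* K) (t : K) ∈ CpAutTri.Nor.DS S := fun t => by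
      rw [← hXX _ t.2]
      exact CpAutTri.Gen.X_mem (h1 t)
    have h5 : ∀ t : ↥(fx σ), D4Fixed.Y (σ : K →+* K) (t : K) ∈ CpAutTri.Nor.DS S := fun t => by
      rw [← hYY _ t.2]
      exact CpAutTri.Gen.Y_mem (h1 t)
    exact mul_mem (mul_mem (mul_mem (h4 _) (h5 _)) (h4 _)) (h5 _)

end Cfsg.Agent.H922.TD
end

-- part: H922/TD/Assemble
section
/-!
# `³D₄(3)`: every element is a product of two elements of order prime to 6, from the parabolic box (helper922, S2465)
-/

set_option autoImplicit false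

open Cfsg Cfsg.Lie

namespace Cfsg.Agent.H922.TD

open Cfsg.Agent.ChevalleyStructure Cfsg.Agent.ChevalleyStructure.D4NConj
  Cfsg.Agent.SplitTwo Cfsg.Agent.TitsThree.RankTwoZ Cfsg.Agent.Lib.SL2Mat Cfsg.Agent.Cit.HexBase
  Cfsg.Agent.Cit.HexD4 Cfsg.Agent.H78.Pw Cfsg.Agent.ChevalleyStructure.D4Twisted
  Cfsg.Agent.Hexagon.TwD4RGD Cfsg.Agent.Hexagon.TwD4Par Cfsg.Agent.Hexagon.TwD4Rel Cfsg.Agent.ChevalleyStructure.D4RGD

/-- **`³D₄(3)`** from the box on the centralizers of the elements of order 3. -/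
theorem six_of_par {K : Type} [Field K] [Fintype K] (hK : Fintype.card K = 3 ^ 3)
    (hpar : ∀ u : ↥(twistedD4 K 3), orderOf u = 3 → ∃ (P : Subgroup ↥(twistedD4 K 3)) (a : ↥(twistedD4 K 3)),
      Subgroup.centralizer ({u} : Set ↥(twistedD4 K 3)) ≤ P ∧ (Nat.card P = 110539728 ∨ Nat.card P = 773778096) ∧
      (∀ t : ↥(twistedD4 K 3), (t : GL chevD4.Idx K) ∈ chevD4.diagonalSubgroup K → a * t * a⁻¹ ∈ P)) :
    All 6 ↥(twistedD4 K 3) := by
  have hq : IsPrimePow 3 := Nat.prime_three.isPrimePow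
  obtain ⟨φ, hφ⟩ := Cfsg.Agent.ChevalleyStructure.D4Fixed.exists_frob hq hK
  have hb : Function.Bijective φ := by
    rw [Fintype.bijective_iff_injective_and_card]
    exact ⟨RingHom.injective (φ : K →+* K), rfl⟩
  obtain ⟨σ, hσ⟩ : ∃ σ : K ≃+* K, ∀ x, σ x = x ^ 3 := ⟨RingEquiv.ofBijective φ hb, hφ⟩
  obtain ⟨k, _, _, M, hk, ⟨e⟩, ha, hb'⟩ := exists_gtwo_hex hq hK hσ
  refine all_six_of hK hσ (d4 hq hK hσ) ?_ hpar (M := M) ?_ ha hb'
  · intro s hs
    change pb0 (σ : K →+* K) (dg s hs) ∈ _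
    rw [pb0_dg]
    exact hb_mem_diagonal _ hs
  · exact (H983.Pw.six_g2_three hk).congr e.symm

end Cfsg.Agent.H922.TD
end

-- part: H922/TD/ParThree
section
/-!
# The parabolic subgroups of `³D₄(3)` and the centralizers of the elements of order 3 (helper922, S2465)
-/

set_option autoImplicit false
set_option linter.unusedSectionVars false

namespace Cfsg.Agent.H922.TD

open CoxeterSystem Cfsg Cfsg.Lie Cfsg.Agent.ChevalleyStructure Cfsg.Agent.ChevalleyStructure.CoxeterGeom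
  Cfsg.Agent.ChevalleyStructure.CoxeterGeomTypes
  Cfsg.Agent.Tits.Roots Cfsg.Agent.Tits.Core Cfsg.Agent.Nodes.Reps Cfsg.Agent.Nodes.BNOf
  Cfsg.Agent.Nodes.RGDChev
  Cfsg.Agent.Nodes.StabComb Cfsg.Agent.Nodes.Bruhat Cfsg.Agent.Nodes.LeviDec
  Cfsg.Agent.ParSys.RootCount Cfsg.Agent.ParSys.RootExc
open Cfsg.Agent.Nodes.RGDFold hiding refl
open Cfsg.Agent.KFacts.RgdCharP Cfsg.Agent.H585.SuOwn
open Cfsg.Agent.H35.Poin hiding PJ_empty
open Cfsg.Agent.Nodes.RGDTwD4 Cfsg.Agent.ClosedExc.TwD4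

theorem par_three {K : Type} [Field K] [Fintype K] (hK : Fintype.card K = 3 ^ 3)
    (u : ↥(twistedD4 K 3)) (hu : orderOf u = 3) :
    ∃ (P : Subgroup ↥(twistedD4 K 3)) (a : ↥(twistedD4 K 3)),
      Subgroup.centralizer ({u} : Set ↥(twistedD4 K 3)) ≤ P ∧ (Nat.card P = 110539728 ∨ Nat.card P = 773778096) ∧
      (∀ t : ↥(twistedD4 K 3), (t : GL chevD4.Idx K) ∈ chevD4.diagonalSubgroup K → a * t * a⁻¹ ∈ P) := by
  classical
  have hq : IsPrimePow 3 := Nat.prime_three.isPrimePow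
  have i3 : Fact (Nat.Prime 3) := ⟨Nat.prime_three⟩
  have hch : CharP K 3 := by
    obtain ⟨r, hr⟩ := CharP.exists K
    have hrp : r.Prime := CharP.char_is_prime K r
    obtain ⟨m, -, hm⟩ := FiniteField.card K r
    rw [hK] at hm
    have : 3 = r := by
      have h1 : 3 ∣ r ^ (m : ℕ) := by rw [← hm]; exact dvd_pow_self 3 (by omega)
      exact (Nat.prime_dvd_prime_iff_eq Nat.prime_three hrp).1 (Nat.prime_three.dvd_of_dvd_pow h1)
    rw [this]; exact hr
  have hTfin : Finite ↥(twistedD4 K 3) := inferInstance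
  obtain ⟨φ, hφ⟩ := D4Fixed.exists_frob hq hK
  have hle := D4Fixed.twisted_le_fix hK hφ
  let cs := CoxeterMatrix.G₂.toCoxeterSystem
  have hW : Finite CoxeterMatrix.G₂.Group := Cfsg.Agent.Nodes.RGDFold.finite_W
    (hp := Cfsg.Agent.Nodes.RGDTwD4.hp) cs isCartan foldData
  have R := _root_.Cfsg.Agent.Nodes.RGDTwD4.rgd cs hK hφ 3
  have c0 := card_X0 hφ hle hq.two_le hK
  have c1 := card_X1 (K := K) hφ hle
  rw [hK] at c1
  have hBT : KFacts.RgdCharP.BT cs isCartan 3 _ (X φ 3) :=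
    fun K' hK' hK1 => KFacts.RgdFilt.borel_tits_of_filt
      (KFacts.RgdFiltTwAll.filt_fold cs isCartan foldData (foldGrp hφ hle) 3) (_root_.Cfsg.Agent.Nodes.RGDTwD4.G1_eq_top cs hK hφ) hK' hK1
  obtain ⟨m, hm⟩ := IsPGroup.iff_card.1 R.isPGroup_Upos
  have hG : GG cs isCartan (T K 3) (X φ 3) = ⊤ := KFacts.RgdRigid.GG_eq_top (_root_.Cfsg.Agent.Nodes.RGDTwD4.G1_eq_top cs hK hφ)
  have hm12 : m = 12 := by
    have h1 := KFacts.RgdSyl.not_dvd_relIndex R
    rw [hG, Subgroup.relIndex_top_right] at h1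
    have h2 := Subgroup.index_mul_card (RGD.Sup (X φ 3) (RGD.Pos cs isCartan))
    rw [hm, Cfsg.Agent.S1067.result hq hK] at h2
    have h3 : (RGD.Sup (X φ 3) (RGD.Pos cs isCartan)).index * 3 ^ m = 3 ^ 12 * 38688832 := by
      rw [h2]; norm_num
    have h4 : ¬ 3 ∣ 38688832 := by norm_num
    have h5 : 3 ^ m ∣ 3 ^ 12 := by
      have h6 : Nat.Coprime (3 ^ m) 38688832 := Nat.Coprime.pow_left m ((Nat.Prime.coprime_iff_not_dvd i3.out).2 h4)
      exact h6.dvd_of_dvd_mul_right (Dvd.intro_left _ h3)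
    have h6 : 3 ^ 12 ∣ 3 ^ m := by
      have h7 : Nat.Coprime (3 ^ 12) (RGD.Sup (X φ 3) (RGD.Pos cs isCartan)).index :=
        Nat.Coprime.pow_left 12 ((Nat.Prime.coprime_iff_not_dvd i3.out).2 h1)
      exact h7.dvd_of_dvd_mul_left (Dvd.intro _ h3.symm)
    exact Nat.pow_right_injective (le_refl 3 |>.trans' (by norm_num)) (Nat.dvd_antisymm h5 h6)
  have hT : Nat.card ↥(T K 3) = 52 := by
    have h1 := Cfsg.Agent.S1106.result hq hK
    have h2 : Nat.card ↥(T K 3) = (3 - 1) ^ 2 * (3 ^ 2 + 3 + 1) := by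
      rw [← h1]
      exact Nat.card_congr (Subgroup.subgroupOfEquivOfLe inf_le_right).toEquiv
    exact h2.trans (by norm_num)
  have hPJ : ∀ j : Fin 2, Nat.card ↥(PJ cs isCartan (T K 3) (X φ 3) {j}) =
      (1 + Nat.card (X φ 3 (sr j))) * (3 ^ 12 * 52) := by
    intro j
    rw [card_PJ_path R (J := {j}) (c := fun _ => j) (m := 1) (y := Nat.card (X φ 3 (sr j)))
      ⟨fun t ht => rfl, fun t ht => by omega, fun s t h1 h2 => by omega, fun i hi h1 => by
        exact absurd (Set.mem_singleton_iff.1 hi).symm (h1 0 (by norm_num)), fun s hs t ht _ => by omega⟩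
      (fun t _ => rfl)]
    have h1 : ({j} : Set (Fin 2)) \ {i | ∃ t < 1, (fun _ : ℕ => j) t = i} = ∅ := by
      ext i
      simp only [Set.mem_sdiff, Set.mem_singleton_iff, Set.mem_ofPred_eq, Set.mem_empty_iff_false, iff_false,
        not_and, not_not]
      rintro rfl
      exact ⟨0, by norm_num, rfl⟩
    rw [h1, Cfsg.Agent.H35.Poin.PJ_empty, card_B' R, hm, hT, hm12]
    simp only [Finset.sum_range_succ, _root_.Finset.range_one, _root_.Nat.card_eq_fintype_card, _root_.Finset.prod_singleton, _root_.Finset.range_zero, _root_.Finset.sum_empty, _root_.pow_zero, _root_.zero_add, _root_.pow_one, _root_.Nat.reducePow, _root_.Nat.reduceMul]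
  obtain ⟨g, J, hJ, hKV, hNP⟩ := hBT (Subgroup.zpowers u)
    (IsPGroup.of_card (n := 1) (by rw [Nat.card_zpowers, hu, pow_one])) (by
      intro h
      rw [Subgroup.zpowers_eq_bot] at h
      rw [h, orderOf_one] at hu
      norm_num at hu)
  obtain ⟨i, hi⟩ := (Set.ne_univ_iff_exists_notMem _).1 hJ
  have hJi : J ⊆ {i}ᶜ := fun j hj => by
    rw [Set.mem_compl_iff, Set.mem_singleton_iff]
    rintro rfl
    exact hi hj
  have h1 : Subgroup.normalizer (Subgroup.zpowers u : Set ↥(twistedD4 K 3)) ≤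
      cj g (PJ cs isCartan (T K 3) (X φ 3) {i}ᶜ) := hNP.trans (cj_mono g (PJ_mono hJi))
  have hcompl : ∃ j : Fin 2, ({i}ᶜ : Set (Fin 2)) = {j} := by
    fin_cases i
    · refine ⟨1, ?_⟩
      ext k
      (revert k; simp only [_root_.Fin.forall_fin_succ, _root_.Fin.zero_eta, Fin.isValue, _root_.Set.mem_compl_iff, _root_.Set.mem_singleton_iff, _root_.not_true_eq_false, _root_.zero_ne_one, _root_.Fin.succ_ne_zero, _root_.not_false_eq_true, _root_.true_iff, _root_.Fin.succ_zero_eq_one, _root_.IsEmpty.forall_iff, _root_.and_self])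
    · refine ⟨0, ?_⟩
      ext k
      (revert k; simp only [_root_.Fin.forall_fin_succ, _root_.Fin.mk_one, Fin.isValue, _root_.Set.mem_compl_iff, _root_.Set.mem_singleton_iff, _root_.zero_ne_one, _root_.not_false_eq_true, _root_.Fin.succ_ne_zero, _root_.iff_false, _root_.Decidable.not_not, _root_.Fin.succ_zero_eq_one, _root_.IsEmpty.forall_iff, _root_.and_self])
  obtain ⟨j, hj⟩ := hcompl
  rw [hj] at h1
  refine ⟨cj g (PJ cs isCartan (T K 3) (X φ 3) {j}), g, ?_, ?_, ?_⟩
  · refine le_trans ?_ h1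
    rw [← Subgroup.centralizer_closure, ← Subgroup.zpowers_eq_closure]
    exact Subgroup.centralizer_le_normalizer _
  · rw [Cfsg.Agent.Nodes.CardSup.card_cj, hPJ j]
    fin_cases j
    · left
      show (1 + Nat.card (X φ 3 (sr 0))) * _ = _
      rw [c0]
      norm_num
    · right
      show (1 + Nat.card (X φ 3 (sr 1))) * _ = _
      rw [c1]
      norm_num
  · intro t ht
    have h2 : t ∈ T K 3 := Subgroup.mem_subgroupOf.2 ⟨ht, t.2⟩
    have h3 : t ∈ PJ cs isCartan (T K 3) (X φ 3) {j} := (T_le_LJ.trans LJ_le_PJ) h2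
    rw [mem_cj]
    rwa [show g⁻¹ * (g * t * g⁻¹) * g = t by group]

end Cfsg.Agent.H922.TD
end

-- part: H922/TD/Main
section
/-!
# `³D₄(3)`: every element is a product of two elements of order prime to 6 (helper922, S2465)
-/

set_option autoImplicit false

open Cfsg Cfsg.Lie

namespace Cfsg.Agent.H922.TD

/-- **`³D₄(3)`.** -/
theorem six_td4_three {K : Type} [Field K] [Fintype K] (hK : Fintype.card K = 3 ^ 3) :
    Cfsg.Agent.H78.Pw.All 6 ↥(twistedD4 K 3) :=
  six_of_par hK (par_three hK)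

end Cfsg.Agent.H922.TD
end
end

-- part: H85/Pw/ESevenSix
section
set_option linter.all false
open scoped Cfsg.Agent.FastGrp
attribute [local instance] Cfsg.Agent.TitsThree.RTFast.decRTb Cfsg.Agent.TitsThree.RTFast.decRTc

-- part: H85/Pw/Spec
section
/-!
# The eigenvalues of an irreducible element over a given finite extension (S2465)

* `ev_spec` : the eigenvalues of `X` in `SL_k(K)`, irreducible characteristic polynomial, over `K'`, `|K'| = q ^ d`,
  `k ∣ d`, are `z ^ (q ^ a)`, `a < k`.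
-/

set_option autoImplicit false
set_option linter.unusedSectionVars false

namespace Cfsg.Agent.H85.Pw

open Polynomial

universe u

theorem ev_spec {K : Type u} [Field K] [Finite K] {K' : Type} [Field K'] [Finite K'] [Algebra K K'] {d k : ℕ}
    (hK' : Nat.card K' = Nat.card K ^ d) (hk : k ∣ d) (hk0 : 0 < k) {x : Matrix.SpecialLinearGroup (Fin k) K}
    (hx : Irreducible x.1.charpoly) {E : (Fin k → K') → Prop}
    (hE : ∀ z : K', z ^ (Nat.card K ^ k) = z → Function.Injective (fun a : Fin k => z ^ (Nat.card K ^ (a : ℕ))) →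
      ∏ a : Fin k, z ^ (Nat.card K ^ (a : ℕ)) = 1 → (∀ N : ℕ, x ^ N = 1 → z ^ N = 1) →
      E fun a : Fin k => z ^ (Nat.card K ^ (a : ℕ))) : Ev (algebraMap K K') E x := by
  classical
  have := Fintype.ofFinite K
  have hcard : Fintype.card K = Nat.card K := (Nat.card_eq_fintype_card).symm
  obtain ⟨f, hf⟩ : ∃ f, f = x.1.charpoly := ⟨_, rfl⟩
  have hfi : Irreducible f := by rw [hf]; exact hx
  have hm : f.Monic := hf ▸ Matrix.charpoly_monic _
  have hd : f.natDegree = k := by rw [hf, Matrix.charpoly_natDegree_eq_dim, Fintype.card_fin]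
  obtain ⟨lam, h1, h2⟩ := exists_lam_map (K' := K') hK' hm hd (irr_dvd hfi (by rw [hd]; exact hk))
  obtain ⟨z, hz⟩ : ∃ z, z = lam ⟨0, hk0⟩ := ⟨_, rfl⟩
  have hroot : (f.map (algebraMap K K')).IsRoot z := by
    rw [h2, IsRoot.def, eval_prod]
    exact Finset.prod_eq_zero (Finset.mem_univ ⟨0, hk0⟩) (by rw [hz]; simp)
  have haz : aeval z f = 0 := by rwa [IsRoot.def, eval_map_algebraMap] at hroot
  have hmin : minpoly K z = f := by
    rw [← minpoly.eq_of_irreducible_of_monic hfi haz hm]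
  have hinj : Function.Injective fun a : Fin k => z ^ (Nat.card K ^ (a : ℕ)) := by
    have h3 : (minpoly K z).natDegree = k := by rw [hmin, hd]
    have := Cfsg.Agent.H934.MF.pow_inj h3
    rwa [hcard] at this
  have hr : ∀ a : ℕ, (f.map (algebraMap K K')).IsRoot (z ^ (Nat.card K ^ a)) := by
    intro a
    rw [IsRoot.def, eval_map_algebraMap, ← hcard]
    exact Cfsg.Agent.H934.MF.root_pow haz a
  have hsplit : f.map (algebraMap K K') = ∏ a : Fin k, (X - C (z ^ (Nat.card K ^ (a : ℕ)))) := by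
    have g1 : (∏ a : Fin k, (X - C (z ^ (Nat.card K ^ (a : ℕ))))) ∣ f.map (algebraMap K K') := by
      refine Finset.prod_dvd_of_coprime ?_ fun a _ => dvd_iff_isRoot.2 (hr a)
      intro a _ b _ hab
      exact isCoprime_X_sub_C_of_isUnit_sub (sub_ne_zero.2 (fun h => hab (hinj h))).isUnit
    have g2 : (∏ a : Fin k, (X - C (z ^ (Nat.card K ^ (a : ℕ))))).Monic :=
      monic_prod_of_monic _ _ fun a _ => monic_X_sub_C _
    have g3 : (∏ a : Fin k, (X - C (z ^ (Nat.card K ^ (a : ℕ))))).natDegree = k := by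
      rw [natDegree_prod_of_monic _ _ fun a _ => monic_X_sub_C _, Finset.sum_congr rfl fun a _ => natDegree_X_sub_C _]
      simp
    refine (eq_of_monic_of_dvd_of_natDegree_le g2 (hm.map _) g1 ?_)
    rw [g3, natDegree_map, hd]
  refine ⟨_, hE z ?_ hinj ?_ fun N hN => root_pow hN (by rw [← hf]; exact hroot), hinj, by rw [← hf]; exact hsplit⟩
  · have h3 : f ∣ X ^ Nat.card K ^ k - X := irr_dvd hfi (by rw [hd])
    have h4 := hroot.dvd (map_dvd (algebraMap K K') h3)
    rwa [Polynomial.map_sub, Polynomial.map_pow, Polynomial.map_X, IsRoot.def, eval_sub, eval_pow, eval_X,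
      sub_eq_zero] at h4
  · exact prod_of_map x (by rw [← hf]; exact hsplit)

end Cfsg.Agent.H85.Pw
end

-- part: H85/Pw/ESevenThree
section
/-!
# `E_7(3)`: the blocks `A_4`, `A_2` (S2465)

* `T₁`, `T₂`, `sub`, `com`, `chk` : the tables, `J = {0, 2, 3, 1, 5, 6}`;
* `pairs_of` : every element of `E_7(3)` is `a b`, `a ^ 1573 = b ^ 1573 = 1`, from products in `SL_5(3)`, `SL_3(3)`.
-/

set_option autoImplicit false
set_option linter.unusedSectionVars false

namespace Cfsg.Agent.H85.Pw.ESevenThree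

open CoxeterSystem Cfsg.Agent.ChevalleyStructure.CoxeterGeom Cfsg.Agent.Tits.Roots Cfsg.Agent.Tits.Core
  Cfsg.Agent.Nodes.Reps Cfsg.Agent.Nodes.BNOf Cfsg.Agent.Nodes.RGDLib Cfsg.Agent.Nodes.Bruhat
  Cfsg.Agent.Nodes.OppDec Cfsg.Agent.Nodes.LeviDec Cfsg.Agent.Nodes.KindChev Cfsg.Agent.Nodes.ChevCls
  Cfsg.Agent.OddHalf.NI.ModelChev
  Cfsg.Agent.H162.GaussDec Cfsg.Agent.H162.GaussLevi Cfsg.Agent.H162.GaussSL Cfsg.Agent.H162.GaussReg
  Cfsg.Agent.H162.GaussMain Cfsg.Agent.H162.GaussPQ Cfsg.Agent.H162.GaussExc Cfsg.Agent.H162.GaussExcMain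
open Cfsg.Lie Cfsg.Agent.ChevalleyStructure Cfsg.Agent.ChevalleyStructure.Elts
  Cfsg.Agent.ChevalleyStructure.RootVec Cfsg.Agent.ChevalleyStructure.NPerm
  Cfsg.Agent.ChevalleyStructure.CoxeterGeomTypes Cfsg.Agent.Nodes.RGDChev Cfsg.Agent.KFacts.RgdChevCoord
open Cfsg.Agent.TitsThree.KExcRT
open Cfsg.Agent.H85.Ore Cfsg.Agent.H78.Pw Cfsg.Agent.H85.Pw Cfsg.Agent.H85.Pw.TwoS
open Cfsg.Agent.H194.Pw (exists_hom_S)
open Polynomial (X C)

universe u

/-- the type -/
theorem h7 : IsType chevE7 7 CoxeterMatrix.E₇ := Cfsg.Agent.Nodes.KindE.isType7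

/-- the nodes -/
def J : List (Fin 7) := [0, 1, 2, 3, 5, 6]

/-- the roots of the block `A_4` -/
def rA : Fin 5 → Fin 5 → ℕ :=
  ![![0, 93, 94, 95, 99], ![32, 0, 73, 74, 83], ![31, 52, 0, 69, 79], ![30, 51, 56, 0, 78], ![26, 42, 46, 47, 0]]

/-- the signs of the block `A_4` -/
def sA : Fin 5 → Fin 5 → ℤ :=
  ![![-1, -1, -1, -1, -1], ![-1, -1, -1, -1, -1], ![-1, -1, -1, -1, 1], ![-1, -1, -1, -1, -1], ![-1, -1, 1, -1, -1]]

/-- the nodes of the block `A_4` -/
def jA : Fin 4 → Fin 7 := ![0, 2, 3, 1]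

/-- the roots of the block `A_2` -/
def rB : Fin 3 → Fin 3 → ℕ := ![![0, 64, 65], ![61, 0, 63], ![60, 62, 0]]

/-- the signs of the block `A_2` -/
def sB : Fin 3 → Fin 3 → ℤ := fun _ _ => -1

/-- the nodes of the block `A_2` -/
def jB : Fin 2 → Fin 7 := ![5, 6]

theorem rtA : RTa chevE7 rA ∧ RTb chevE7 rA sA ∧ RTc chevE7 rA ∧ RTd sA ∧ (∀ i j, sA j i = sA i j) ∧
    ∀ i j, i ≠ j → rA j i = chevE7.neg (rA i j) := by decide +kernel

theorem rtB : RTa chevE7 rB ∧ RTb chevE7 rB sB ∧ RTc chevE7 rB ∧ RTd sB ∧ (∀ i j, sB j i = sB i j) ∧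
    ∀ i j, i ≠ j → rB j i = chevE7.neg (rB i j) := by decide +kernel

theorem aA : (∀ a : Fin 4, rA a.castSucc a.succ = chevE7.simple (jA a)) ∧
    ∀ a b, a ≠ b → ∀ k, k ∉ J → vec chevE7 7 (rA a b) k = 0 := by decide +kernel

theorem aB : (∀ a : Fin 2, rB a.castSucc a.succ = chevE7.simple (jB a)) ∧
    ∀ a b, a ≠ b → ∀ k, k ∉ J → vec chevE7 7 (rB a b) k = 0 := by decide +kernel

theorem sub : Sub2 chevE7 7 J 3 1 rA rB := by decide +kernel

theorem com : Com2 chevE7 3 1 rA rB := by decide +kernel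

/-- two of the exponents are different -/
def Dbl {k : ℕ} (w : Fin k → ℤ) : Prop :=
  ∃ a b, a ≠ b ∧ ∃ c ∈ ([-2, -1, 0, 1, 2] : List ℤ), (∀ d, d ≠ a → d ≠ b → w d = c) ∧
    ((w a = c + 1 ∧ w b = c + 1) ∨ (w a = c + -1 ∧ w b = c + -1))

instance {k : ℕ} (w : Fin k → ℤ) : Decidable (Dbl w) := by unfold Dbl; infer_instance

/-- the table of the roots outside `J` -/
def Chk : Prop :=
  ∀ q < chevE7.nroots, (∃ k : Fin 7, k ∉ J ∧ vec chevE7 7 q k ≠ 0) → Sgl (wt chevE7 jA q) ∨ Dbl (wt chevE7 jA q)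

instance : Decidable Chk := by
  unfold Chk
  refine @Nat.decidableBallLT _ _ fun q _ => ?_
  infer_instance

theorem chk : Chk := by decide +kernel

theorem exists_A (K : Type u) [Field K] : ∃ φ : Matrix.SpecialLinearGroup (Fin (3 + 2)) K →* ↥(chevE7.group K),
    ∀ a b (hab : a ≠ b) c, φ (Matrix.SpecialLinearGroup.transvection hab c) =
      xc h7 (vec chevE7 7 (rA a b)) ((sA a b : K) * c) :=
  exists_hom_S h7 rtA.1 rtA.2.1 rtA.2.2.1 rtA.2.2.2.1 rtA.2.2.2.2.1 rtA.2.2.2.2.2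

theorem exists_B (K : Type u) [Field K] : ∃ φ : Matrix.SpecialLinearGroup (Fin (1 + 2)) K →* ↥(chevE7.group K),
    ∀ a b (hab : a ≠ b) c, φ (Matrix.SpecialLinearGroup.transvection hab c) =
      xc h7 (vec chevE7 7 (rB a b)) ((sB a b : K) * c) :=
  exists_hom_S h7 rtB.1 rtB.2.1 rtB.2.2.1 rtB.2.2.2.1 rtB.2.2.2.2.1 rtB.2.2.2.2.2

theorem T₁ : TwoS.Tb h7 J 3 rA jA sA where
  eps := rtA.2.2.2.1
  sym := rtA.2.2.2.2.1
  up := aA.1
  neg := rtA.2.2.2.2.2
  rlt := rtA.1
  rJ := aA.2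
  hom := fun F _ => exists_A F

theorem T₂ : TwoS.Tb h7 J 1 rB jB sB where
  eps := rtB.2.2.2.1
  sym := rtB.2.2.2.2.1
  up := aB.1
  neg := rtB.2.2.2.2.2
  rlt := rtB.1
  rJ := aB.2
  hom := fun F _ => exists_B F

/-! ### The eigenvalues -/

/-- the eigenvalues of the block `A_4` -/
def Ea (N : ℕ) {K' : Type} [Field K'] (lam : Fin 5 → K') : Prop :=
  (∏ a, lam a = 1) ∧ (∀ a, lam a ^ N = 1) ∧ (∀ a, lam a ≠ 1) ∧ ∀ a b, a ≠ b → lam a * lam b ≠ 1

/-- the eigenvalues of the block `A_2` -/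
def Eb (N : ℕ) {K' : Type} [Field K'] (mu : Fin 3 → K') : Prop := ∀ a, mu a ^ N = 1

section

variable {K' : Type} [Field K']

theorem val_dbl {k : ℕ} {lam : Fin k → K'} (h : ∏ a, lam a = 1) {w : Fin k → ℤ} (hw : Dbl w) :
    ∃ a b, a ≠ b ∧ (∏ d, lam d ^ w d = lam a * lam b ∨ ∏ d, lam d ^ w d = (lam a * lam b)⁻¹) := by
  obtain ⟨a, b, hab, c, -, h1, h2⟩ := hw
  have key : ∀ e : ℤ, w a = c + e → w b = c + e → ∏ d, lam d ^ w d = (lam a * lam b) ^ e := by
    intro e ha hb
    have h3 : ∀ d, lam d ^ w d = lam d ^ c * ((if d = a then lam a ^ e else 1) * (if d = b then lam b ^ e else 1)) := by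
      intro d
      by_cases hd : d = a
      · have hdb : d ≠ b := fun h => hab (hd.symm.trans h)
        rw [if_pos hd, if_neg hdb, mul_one, hd, ha, zpow_add₀ (ne_zero_of_prod h a)]
      · by_cases hd' : d = b
        · rw [if_neg hd, if_pos hd', one_mul, hd', hb, zpow_add₀ (ne_zero_of_prod h b)]
        · rw [if_neg hd, if_neg hd', h1 d hd hd', mul_one, mul_one]
    rw [Finset.prod_congr rfl fun d _ => h3 d, Finset.prod_mul_distrib, Finset.prod_zpow, h, one_zpow, one_mul,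
      Finset.prod_mul_distrib, Finset.prod_ite_eq' Finset.univ a, if_pos (Finset.mem_univ a),
      Finset.prod_ite_eq' Finset.univ b, if_pos (Finset.mem_univ b), mul_zpow]
  refine ⟨a, b, hab, h2.imp (fun h3 => ?_) fun h3 => ?_⟩
  · rw [key 1 h3.1 h3.2, zpow_one]
  · rw [key (-1) h3.1 h3.2, zpow_neg_one]

theorem eq_one_of_coprime {N₁ N₂ : ℕ} (hc : N₁.Coprime N₂) {v : K'} (h1 : v ^ N₁ = 1) (h2 : v ^ N₂ = 1) : v = 1 := by
  have h3 := Nat.dvd_gcd (orderOf_dvd_of_pow_eq_one h1) (orderOf_dvd_of_pow_eq_one h2)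
  rw [hc.gcd_eq_one, Nat.dvd_one] at h3
  exact orderOf_eq_one_iff.1 h3

theorem out_ne {N₁ N₂ : ℕ} (hc : N₁.Coprime N₂) {lam : Fin 5 → K'} (h₁ : Ea N₁ lam) {mu : Fin 3 → K'} (h₂ : Eb N₂ mu)
    {q : ℕ} (hq : q < chevE7.nroots) (hk : ∃ k : Fin 7, k ∉ J ∧ vec chevE7 7 q k ≠ 0) :
    (∏ b, lam b ^ wt chevE7 jA q b) * ∏ b, mu b ^ wt chevE7 jB q b ≠ 1 := by
  intro h3
  have h4 := congrArg (· ^ N₂) h3
  simp only [mul_pow, one_pow] at h4
  rw [prod_pow_one h₂, mul_one] at h4
  have h5 : (∏ b, lam b ^ wt chevE7 jA q b) ^ N₁ = 1 := prod_pow_one h₁.2.1 _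
  have h6 := eq_one_of_coprime hc h5 h4
  rcases chk q hq hk with h | h
  · obtain ⟨a, ha | ha⟩ := val_sgl h₁.1 h
    · exact h₁.2.2.1 a (ha.symm.trans h6)
    · exact h₁.2.2.1 a (inv_eq_one.1 (ha.symm.trans h6))
  · obtain ⟨a, b, hab, ha | ha⟩ := val_dbl h₁.1 h
    · exact h₁.2.2.2 a b hab (ha.symm.trans h6)
    · exact h₁.2.2.2 a b hab (inv_eq_one.1 (ha.symm.trans h6))

/-- powers of the Frobenius map on an element of `F_{q^5}` -/
theorem two_ne {q : ℕ} {z : K'} (h5 : z ^ (q ^ 5) = z) (hinj : Function.Injective fun a : Fin 5 => z ^ (q ^ (a : ℕ))) :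
    (∀ a : Fin 5, z ^ (q ^ (a : ℕ)) ≠ 1) ∧ ∀ a b : Fin 5, a ≠ b → z ^ (q ^ (a : ℕ)) * z ^ (q ^ (b : ℕ)) ≠ 1 := by
  have hadd : ∀ i : ℕ, z ^ (q ^ (i + 5)) = z ^ (q ^ i) := by
    intro i
    rw [add_comm, pow_add, pow_mul, h5]
  have hmod : ∀ i : ℕ, z ^ (q ^ i) = z ^ (q ^ (i % 5)) := by
    have h : ∀ k b : ℕ, z ^ (q ^ (b + 5 * k)) = z ^ (q ^ b) := by
      intro k
      induction k with
      | zero => intro b; rfl
      | succ k ih => intro b; rw [Nat.mul_succ, ← add_assoc, hadd, ih]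
    intro i
    conv_lhs => rw [← Nat.mod_add_div i 5]
    rw [h]
  have hiff : ∀ i j : ℕ, z ^ (q ^ i) = z ^ (q ^ j) → i % 5 = j % 5 := by
    intro i j h
    rw [hmod i, hmod j] at h
    exact congrArg Fin.val (@hinj ⟨i % 5, Nat.mod_lt _ (by norm_num)⟩ ⟨j % 5, Nat.mod_lt _ (by norm_num)⟩ h)
  have hpow : ∀ i j : ℕ, (z ^ (q ^ i)) ^ (q ^ j) = z ^ (q ^ (i + j)) := fun i j => by rw [← pow_mul, ← pow_add]
  refine ⟨fun a h => ?_, fun a b hab h => ?_⟩
  · have h1 := congrArg (· ^ (q ^ 1)) h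
    simp only [one_pow] at h1
    rw [hpow, ← h] at h1
    have := hiff _ _ h1
    omega
  · have ha := a.2
    have hb := b.2
    have h1 := congrArg (· ^ (q ^ ((b : ℕ) + 5 - a))) h
    simp only [one_pow, mul_pow] at h1
    rw [hpow, hpow] at h1
    have e1 : (a : ℕ) + ((b : ℕ) + 5 - a) = b + 5 := by omega
    rw [e1, hadd, ← h, mul_comm (z ^ q ^ (a : ℕ))] at h1
    have h0 : z ^ (q ^ (b : ℕ)) ≠ 0 := right_ne_zero_of_mul (a := z ^ (q ^ (a : ℕ))) (by rw [h]; exact one_ne_zero)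
    have h2 := hiff _ _ (mul_left_cancel₀ h0 h1)
    exact hab (Fin.ext (by omega))

end

section

variable {K : Type u} [Field K] [Finite K]

end

end Cfsg.Agent.H85.Pw.ESevenThree
end

-- part: H85/Pw/ESevenSix
section
/-!
# `E_7(3)`: products of two elements of order prime to `6` (S2465)

* `pairs_E7_three` : every element of `E_7(3)` is `a b`, `a ^ 143 = b ^ 143 = 1`;
* `six_E7_three` : `All 6 (E_7(3))`.
-/

set_option autoImplicit false
set_option linter.unusedSectionVars false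

namespace Cfsg.Agent.H85.Pw.ESevenThree

open Cfsg.Lie Cfsg.Agent.H162.GaussSL Cfsg.Agent.H78.Pw Cfsg.Agent.H85.Pw
open Polynomial (X C)

universe u

theorem Ea_inv {N : ℕ} {K' : Type} [Field K'] {lam : Fin 5 → K'} (h : Ea N lam) :
    (∀ a, lam a ≠ 0) ∧ Ea N fun a => (lam a)⁻¹ := by
  refine ⟨ne_zero_of_prod h.1, ?_, fun a => ?_, fun a => ?_, fun a b hab => ?_⟩
  · rw [Finset.prod_inv_distrib, h.1, inv_one]
  · rw [inv_pow, h.2.1, inv_one]
  · rw [ne_eq, inv_eq_one]
    exact h.2.2.1 a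
  · rw [← mul_inv, ne_eq, inv_eq_one]
    exact h.2.2.2 a b hab

/-- nonscalar elements of `SL_5(3)` -/
theorem p_five_three {K : Type u} [Field K] [Finite K] (hK : Nat.card K = 3) (A : Matrix.SpecialLinearGroup (Fin 5) K)
    (hA : ∀ c : K, A.1 ≠ c • (1 : Matrix (Fin 5) (Fin 5) K)) :
    ∃ x y : Matrix.SpecialLinearGroup (Fin 5) K, A = x * y ∧ Irreducible x.1.charpoly ∧ Irreducible y.1.charpoly ∧
      x ^ 11 = 1 ∧ y ^ 11 = 1 := by
  obtain ⟨hch, -⟩ := Cfsg.Agent.H374.Ore.Sl3.exists_cast (K := K) hK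
  obtain ⟨x, y, h1, h2, h3⟩ := Cfsg.Agent.H126.PwO.Five.p5_3 hK A.1 A.2 hA
  have key : ∀ z : Matrix (Fin 5) (Fin 5) K, z.charpoly = Cfsg.Agent.H126.PwO.Five.pF K →
      z.det = 1 ∧ Irreducible z.charpoly ∧ z ^ 11 = 1 := by
    intro z hz
    refine ⟨?_, ?_, ?_⟩
    · rw [Matrix.det_eq_sign_charpoly_coeff, hz, Cfsg.Agent.H126.PwO.Five.pF, Fintype.card_fin]
      have h3 : (3 : K) = 0 := by
        have : ((3 : ℕ) : K) = 0 := CharP.cast_eq_zero K 3
        exact_mod_cast this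
      simp
      linear_combination -h3
    · rw [hz]
      exact Cfsg.Agent.H126.PwO.Five.pF_irr hK
    · exact Cfsg.Agent.H962.PP.pow_eq_one_of_charpoly (by
        rw [hz]
        exact Cfsg.Agent.H126.PwO.Five.pF_dvd)
  obtain ⟨hx, hxi, hx11⟩ := key x h2
  obtain ⟨hy, hyi, hy11⟩ := key y h3
  exact ⟨⟨x, hx⟩, ⟨y, hy⟩, Subtype.ext h1, hxi, hyi,
    Subtype.ext ((Matrix.SpecialLinearGroup.coe_pow _ 11).trans (hx11.trans Matrix.SpecialLinearGroup.coe_one.symm)),
    Subtype.ext ((Matrix.SpecialLinearGroup.coe_pow _ 11).trans (hy11.trans Matrix.SpecialLinearGroup.coe_one.symm))⟩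

/-- `L * U` is one or not scalar -/
theorem lu_five {K : Type u} [Field K] {L U : Matrix.SpecialLinearGroup (Fin 5) K} (hL : L ∈ LT 5 K) (hU : U ∈ UT 5 K)
    (h : L * U ≠ 1) (c : K) : (L * U).1 ≠ c • (1 : Matrix (Fin 5) (Fin 5) K) := by
  intro hc
  apply h
  have h1 : ((L * U : Matrix.SpecialLinearGroup (Fin 5) K) : Matrix (Fin 5) (Fin 5) K) 0 0 = 1 := by
    have h2 : ((L * U : Matrix.SpecialLinearGroup (Fin 5) K) : Matrix (Fin 5) (Fin 5) K) 0 0 =
        ∑ k, (L : Matrix (Fin 5) (Fin 5) K) 0 k * (U : Matrix (Fin 5) (Fin 5) K) k 0 := by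
      rw [Matrix.SpecialLinearGroup.coe_mul, Matrix.mul_apply]
    have e1 : (U : Matrix (Fin 5) (Fin 5) K) 1 0 = 0 := hU.1 (i := 1) (j := 0) (by decide)
    have e2 : (U : Matrix (Fin 5) (Fin 5) K) 2 0 = 0 := hU.1 (i := 2) (j := 0) (by decide)
    have e3 : (U : Matrix (Fin 5) (Fin 5) K) 3 0 = 0 := hU.1 (i := 3) (j := 0) (by decide)
    have e4 : (U : Matrix (Fin 5) (Fin 5) K) 4 0 = 0 := hU.1 (i := 4) (j := 0) (by decide)
    have e5 : (U : Matrix (Fin 5) (Fin 5) K) 0 0 = 1 := hU.2 0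
    have e6 : (L : Matrix (Fin 5) (Fin 5) K) 0 0 = 1 := hL.2 0
    rw [h2, Fin.sum_univ_five, e1, e2, e3, e4, e5, e6]
    simp
  rw [hc, Matrix.smul_apply, Matrix.one_apply_eq, smul_eq_mul, mul_one] at h1
  apply Subtype.ext
  rw [hc, h1, one_smul]
  exact Matrix.SpecialLinearGroup.coe_one.symm

/-- **`E_7(3)`** -/
theorem pairs_E7_three {K : Type u} [Field K] [Finite K] (hK : Nat.card K = 3) (g : ↥(chevE7.group K)) :
    ∃ a b : ↥(chevE7.group K), g = a * b ∧ a ^ 143 = 1 ∧ b ^ 143 = 1 := by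
  obtain ⟨p, hpc⟩ := CharP.exists K
  have hpp : Fact p.Prime := ⟨(CharP.char_is_prime_or_zero K p).resolve_right (CharP.char_ne_zero_of_finite K p)⟩
  have hK' : Nat.card (FiniteField.Extension K p 15) = Nat.card K ^ 15 := FiniteField.natCard_extension K p 15
  obtain ⟨φ₁, hφ₁⟩ := exists_A K
  obtain ⟨φ₂, hφ₂⟩ := exists_B K
  have k1 : ∀ x : Matrix.SpecialLinearGroup (Fin 5) K, Irreducible x.1.charpoly → x ^ 11 = 1 →
      Ev (algebraMap K (FiniteField.Extension K p 15)) (Ea 11) x := by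
    intro x hx hN
    refine ev_spec hK' (by norm_num) (by norm_num) hx fun z h1 h2 h3 h4 => ?_
    obtain ⟨h5, h6⟩ := two_ne h1 h2
    refine ⟨h3, fun a => ?_, h5, h6⟩
    rw [← pow_mul, mul_comm, pow_mul, h4 _ hN, one_pow]
  have k2 : ∀ x : Matrix.SpecialLinearGroup (Fin 3) K, Irreducible x.1.charpoly → x ^ 13 = 1 →
      Ev (algebraMap K (FiniteField.Extension K p 15)) (Eb 13) x := by
    intro x hx hN
    refine ev_spec hK' (by norm_num) (by norm_num) hx fun z h1 h2 h3 h4 a => ?_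
    rw [← pow_mul, mul_comm, pow_mul, h4 _ hN, one_pow]
  refine TwoS.pairs_of_two h7 T₁ T₂ sub com hφ₁ hφ₂ (algebraMap K (FiniteField.Extension K p 15)) (by norm_num)
    (Cfsg.Agent.S1054.result chevE7 (by simp)) Cfsg.Agent.Nodes.ChevChart.irr7 (E₁ := Ea 11) (E₂ := Eb 13)
    (fun lam h₁ mu h₂ q hq hk => out_ne (by norm_num) h₁ h₂ hq hk) (fun lam h a => ?_) (fun mu h a => ?_) ?_ ?_ g
  · rw [show 143 = 11 * 13 by norm_num, pow_mul, h.2.1, one_pow]
  · rw [show 143 = 13 * 11 by norm_num, pow_mul, h, one_pow]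
  · intro L hL U hU
    by_cases h : L * U = 1
    · obtain ⟨x, y, -, h1, -, h2, -⟩ := p_five_three hK
        (Matrix.SpecialLinearGroup.transvection (show (0 : Fin 5) ≠ 1 by decide) (1 : K)) (by
          intro c hc
          have h1 := congrFun (congrFun hc 0) 1
          rw [Matrix.smul_apply, Matrix.one_apply_ne (by decide), smul_zero] at h1
          simp [Matrix.SpecialLinearGroup.transvection, Matrix.transvection] at h1)
      exact ⟨x, x⁻¹, by rw [h, mul_inv_cancel], k1 x h1 h2, ev_inv (fun lam => Ea_inv) (k1 x h1 h2)⟩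
    · obtain ⟨x, y, h1, h2, h3, h4, h5⟩ := p_five_three hK (L * U) (lu_five hL hU h)
      exact ⟨x, y, h1, k1 x h2 h4, k1 y h3 h5⟩
  · intro L _ U _
    obtain ⟨x, y, h1, h2, h3, h4, h5⟩ := p_three_three hK (L * U)
    exact ⟨x, y, h1, k2 x h2 h4, k2 y h3 h5⟩

/-- **`All 6 (E_7(3))`** -/
theorem six_E7_three {K : Type u} [Field K] [Finite K] (hK : Nat.card K = 3) : All 6 ↥(chevE7.group K) :=
  all_of_pairs (N := 143) (by norm_num) (pairs_E7_three hK)

end Cfsg.Agent.H85.Pw.ESevenThree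
end
end

-- part: H124/PwO/Minus_mg
section
prune_inst 0x345075043d4002080018001662001e63fa000420004b84002ca10b0a0f810c606d82ae60bb30011bda8200c57035006813000120424000000e200400011d00a098800000e1c9018c46001f000000400000000000000000000000000000000000000000000
set_option linter.all false
open scoped Cfsg.Agent.FastGrp

-- part: H124/PwO/Glue
section
/-!
# S2465: from `Ω(Q)` to `PΩ` (helper124, for helper126 and helper367)

* `all_of`                          : `All N (POmega F Q)` from the non-scalar elements of `Om Q`;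
* `all_plus`, `all_minus`, `all_odd` : the three families of `Def_Classical`;
* `maxTS_plus`, `maxTS_minus`, `maxTS_odd` : the Witt indices;
* `base_plus`, `base_minus`, `base_odd` : the base corners of helper434;
* `all_plus'`, `all_minus'`, `all_odd'` : the same, with the base corner as a hypothesis.
-/

set_option autoImplicit false
set_option linter.unusedSectionVars false

namespace Cfsg.Agent.H124.PwO

open Module QuadraticMap Cfsg.Agent.LieClassical.OrthCore Cfsg.Agent.LieClassical.OrthTrans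
  Cfsg.Agent.LieClassical.OrthFinite Cfsg.Agent.LieClassical.OrthForms Cfsg.Agent.H140.OreO Cfsg.Agent.H126.PwO
open Cfsg.Agent.H78.Pw (Pr All)
open Cfsg.Agent.H434.Corn (MaxTS baseCorner TS)

section all

variable {ι : Type} [Fintype ι] [DecidableEq ι] {F : Type*} [Field F]

/-- **From `Ω` to `PΩ`.** -/
theorem all_of (Q : QuadraticForm F (ι → F)) {N : ℕ}
    (H : ∀ g ∈ Om Q, (∀ c : F, ¬ ∀ v, g v = c • v) → PrO N Q g) : All N (Cfsg.POmega F ⇑Q) := by
  intro y
  obtain ⟨x, rfl⟩ := QuotientGroup.mk_surjective y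
  by_cases hsc : ∃ c : F, ∀ v, (omegaEquiv Q x : (ι → F) ≃ₗ[F] (ι → F)) v = c • v
  · obtain ⟨c, hc⟩ := hsc
    have hx : x ∈ Subgroup.center (Cfsg.Omega F ⇑Q) := by
      rw [Subgroup.mem_center_iff]
      intro z
      apply (omegaEquiv Q).injective
      rw [map_mul, map_mul]
      apply Subtype.ext
      apply LinearEquiv.ext
      intro v
      change (omegaEquiv Q z : (ι → F) ≃ₗ[F] (ι → F)) ((omegaEquiv Q x : (ι → F) ≃ₗ[F] (ι → F)) v) =
        (omegaEquiv Q x : (ι → F) ≃ₗ[F] (ι → F)) ((omegaEquiv Q z : (ι → F) ≃ₗ[F] (ι → F)) v)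
      rw [hc, hc, map_smul]
    rw [(QuotientGroup.eq_one_iff x).2 hx]
    exact Pr.one N
  · have h1 : ∀ c : F, ¬ ∀ v, (omegaEquiv Q x : (ι → F) ≃ₗ[F] (ι → F)) v = c • v := fun c hc => hsc ⟨c, hc⟩
    obtain ⟨a, ha, b, hb, s, t, e, hs, ht, has, hbt⟩ := H _ (omegaEquiv Q x).2 h1
    have e1 : x = (omegaEquiv Q).symm ⟨a, ha⟩ * (omegaEquiv Q).symm ⟨b, hb⟩ := by
      apply (omegaEquiv Q).injective
      rw [map_mul, MulEquiv.apply_symm_apply, MulEquiv.apply_symm_apply]
      exact Subtype.ext e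
    have h2 : Pr N x := by
      refine Pr.mk e1 ?_ ?_
      · rw [MulEquiv.orderOf_eq, ← Subgroup.orderOf_coe]
        exact Nat.Coprime.of_dvd_left (orderOf_dvd_of_pow_eq_one has) hs
      · rw [MulEquiv.orderOf_eq, ← Subgroup.orderOf_coe]
        exact Nat.Coprime.of_dvd_left (orderOf_dvd_of_pow_eq_one hbt) ht
    exact h2.map (QuotientGroup.mk' _)

end all

section plus

variable {F : Type*} [Field F] {m : ℕ}

theorem finrank_plus : finrank F (Fin m ⊕ Fin m → F) = 2 * m := by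
  rw [finrank_fintype_fun_eq_card]; simp only [_root_.Fintype.card_sum, _root_.Fintype.card_fin]; ring

theorem all_plus {N : ℕ} (H : ∀ g ∈ Om (plusForm m F), (∀ c : F, ¬ ∀ v, g v = c • v) → PrO N (plusForm m F) g) :
    All N (Cfsg.POmega F (Cfsg.quadFormPlus m F)) := by
  have h := all_of (plusForm m F) H
  rwa [coe_plusForm] at h

/-- the standard totally singular subspace -/
def inclP (m : ℕ) (F : Type*) [Field F] : (Fin m → F) →ₗ[F] (Fin m ⊕ Fin m → F) where
  toFun u := Sum.elim u 0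
  map_add' u v := by ext i; rcases i with i | i <;> simp
  map_smul' c v := by ext i; rcases i with i | i <;> simp

theorem inclP_injective : Function.Injective (inclP m F) := by
  intro u v h
  funext i
  exact congrFun h (Sum.inl i)

theorem maxTS_range_plus : MaxTS (plusForm m F) (LinearMap.range (inclP m F)) where
  ts := by
    rintro _ ⟨u, rfl⟩
    rw [coe_plusForm, quadFormPlus_apply]
    exact Finset.sum_eq_zero fun i _ => by simp [inclP]
  max := by
    intro x _ hp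
    refine ⟨fun i => x (Sum.inl i), ?_⟩
    funext i
    rcases i with i | i
    · rfl
    · classical
      have h1 := hp _ ⟨Pi.single i 1, rfl⟩
      rw [polar_plusForm] at h1
      have h2 : ∑ j : Fin m, ((inclP m F (Pi.single i 1)) (Sum.inl j) * x (Sum.inr j) +
          x (Sum.inl j) * (inclP m F (Pi.single i 1)) (Sum.inr j)) = x (Sum.inr i) := by
        simp only [inclP, Pi.single_apply, _root_.LinearMap.coe_mk, _root_.AddHom.coe_mk, _root_.Sum.elim_inl, _root_.ite_mul, _root_.one_mul, _root_.MulZeroClass.zero_mul, _root_.Sum.elim_inr, _root_.Pi.zero_apply, _root_.MulZeroClass.mul_zero, _root_.add_zero, _root_.Finset.sum_ite_eq', _root_.Finset.mem_univ, ↓ _root_.reduceIte]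
      rw [h2] at h1
      exact h1.symm

theorem maxTS_plus {W : Submodule F (Fin m ⊕ Fin m → F)} (hW : MaxTS (plusForm m F) W) : finrank F W = m := by
  rw [maxTS_range_plus.finrank_eq hW, LinearMap.finrank_range_of_inj inclP_injective]
  simp only [_root_.Module.finrank_fintype_fun_eq_card, _root_.Fintype.card_fin]

theorem base_plus [Finite F] (hm : 3 ≤ m) {g : (Fin m ⊕ Fin m → F) ≃ₗ[F] (Fin m ⊕ Fin m → F)}
    (hg : g ∈ Om (plusForm m F)) (hs : ∀ c : F, ¬ ∀ v, g v = c • v) : BaseCorner m (plusForm m F) g :=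
  baseCorner (nondeg_plusForm m F) hg (fun c => not_forall.1 (hs c)) hm fun _ hW => maxTS_plus hW

theorem all_plus' [Finite F] {N : ℕ} (hm : 3 ≤ m) (H : ∀ g ∈ Om (plusForm m F), (∀ c : F, ¬ ∀ v, g v = c • v) →
    BaseCorner m (plusForm m F) g → PrO N (plusForm m F) g) : All N (Cfsg.POmega F (Cfsg.quadFormPlus m F)) :=
  all_plus fun g hg hs => H g hg hs (base_plus hm hg hs)

end plus

section minus

variable {F : Type*} [Field F] {m : ℕ} {a b : F}

theorem finrank_minus : finrank F ((Fin m ⊕ Fin m) ⊕ Fin 2 → F) = 2 * m + 2 := by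
  rw [finrank_fintype_fun_eq_card]; simp only [_root_.Fintype.card_sum, _root_.Fintype.card_fin, _root_.Nat.add_right_cancel_iff]; ring

theorem all_minus {N : ℕ} (H : ∀ g ∈ Om (minusForm m F a b), (∀ c : F, ¬ ∀ v, g v = c • v) →
    PrO N (minusForm m F a b) g) : All N (Cfsg.POmega F (Cfsg.quadFormMinus m F a b)) := by
  have h := all_of (minusForm m F a b) H
  rwa [coe_minusForm] at h

/-- the standard totally singular subspace -/
def inclM (m : ℕ) (F : Type*) [Field F] : (Fin m → F) →ₗ[F] ((Fin m ⊕ Fin m) ⊕ Fin 2 → F) where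
  toFun u := Sum.elim (Sum.elim u 0) 0
  map_add' u v := by ext i; rcases i with (i | i) | i <;> simp
  map_smul' c v := by ext i; rcases i with (i | i) | i <;> simp

theorem inclM_injective : Function.Injective (inclM m F) := by
  intro u v h
  funext i
  exact congrFun h (Sum.inl (Sum.inl i))

theorem maxTS_range_minus (hab : ∀ z₁ z₂ : F, z₁ ^ 2 + a * z₁ * z₂ + b * z₂ ^ 2 = 0 → z₁ = 0 ∧ z₂ = 0) :
    MaxTS (minusForm m F a b) (LinearMap.range (inclM m F)) where
  ts := by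
    rintro _ ⟨u, rfl⟩
    rw [coe_minusForm, quadFormMinus_apply]
    simp only [inclM, _root_.LinearMap.coe_mk, _root_.AddHom.coe_mk, _root_.Sum.elim_inl, _root_.Sum.elim_inr, _root_.Pi.zero_apply, _root_.MulZeroClass.mul_zero, _root_.Finset.sum_const_zero, _root_.Fin.isValue, _root_.ne_eq, _root_.OfNat.ofNat_ne_zero, _root_.not_false_eq_true, _root_.zero_pow, _root_.add_zero]
  max := by
    intro x hx hp
    have h0 : ∀ i, x (Sum.inl (Sum.inr i)) = 0 := by
      intro i
      classical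
      have h1 := hp _ ⟨Pi.single i 1, rfl⟩
      rw [polar_minusForm] at h1
      have h2 : (∑ j : Fin m, ((inclM m F (Pi.single i 1)) (Sum.inl (Sum.inl j)) * x (Sum.inl (Sum.inr j)) +
          x (Sum.inl (Sum.inl j)) * (inclM m F (Pi.single i 1)) (Sum.inl (Sum.inr j)))) +
          (2 * (inclM m F (Pi.single i 1)) (Sum.inr 0) * x (Sum.inr 0) +
            a * ((inclM m F (Pi.single i 1)) (Sum.inr 0) * x (Sum.inr 1) +
              (inclM m F (Pi.single i 1)) (Sum.inr 1) * x (Sum.inr 0)) +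
            2 * b * (inclM m F (Pi.single i 1)) (Sum.inr 1) * x (Sum.inr 1)) = x (Sum.inl (Sum.inr i)) := by
        simp only [inclM, Pi.single_apply, _root_.LinearMap.coe_mk, _root_.AddHom.coe_mk, _root_.Sum.elim_single_zero, _root_.Sum.elim_inl, _root_.Sum.inl.injEq, _root_.ite_mul, _root_.one_mul, _root_.MulZeroClass.zero_mul, _root_.ne_eq, _root_.reduceCtorEq, _root_.not_false_eq_true, _root_.Pi.single_eq_of_ne, _root_.MulZeroClass.mul_zero, _root_.add_zero, _root_.Finset.sum_ite_eq', _root_.Finset.mem_univ, ↓ _root_.reduceIte, _root_.Fin.isValue, _root_.Sum.elim_inr, _root_.Pi.zero_apply]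
      rw [h2] at h1
      exact h1
    rw [coe_minusForm, quadFormMinus_apply] at hx
    have h1 : ∑ i : Fin m, x (Sum.inl (Sum.inl i)) * x (Sum.inl (Sum.inr i)) = 0 :=
      Finset.sum_eq_zero fun i _ => by rw [h0, mul_zero]
    rw [h1, zero_add] at hx
    obtain ⟨h2, h3⟩ := hab _ _ hx
    refine ⟨fun i => x (Sum.inl (Sum.inl i)), ?_⟩
    funext i
    rcases i with (i | i) | i
    · rfl
    · exact (h0 i).symm
    · fin_cases i
      · exact h2.symm
      · exact h3.symm

theorem maxTS_minus (hab : ∀ z₁ z₂ : F, z₁ ^ 2 + a * z₁ * z₂ + b * z₂ ^ 2 = 0 → z₁ = 0 ∧ z₂ = 0)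
    {W : Submodule F ((Fin m ⊕ Fin m) ⊕ Fin 2 → F)} (hW : MaxTS (minusForm m F a b) W) : finrank F W = m := by
  rw [(maxTS_range_minus hab).finrank_eq hW, LinearMap.finrank_range_of_inj inclM_injective]
  simp only [_root_.Module.finrank_fintype_fun_eq_card, _root_.Fintype.card_fin]

theorem base_minus [Finite F] (hm : 3 ≤ m)
    (hab : ∀ z₁ z₂ : F, z₁ ^ 2 + a * z₁ * z₂ + b * z₂ ^ 2 = 0 → z₁ = 0 ∧ z₂ = 0)
    {g : ((Fin m ⊕ Fin m) ⊕ Fin 2 → F) ≃ₗ[F] ((Fin m ⊕ Fin m) ⊕ Fin 2 → F)}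
    (hg : g ∈ Om (minusForm m F a b)) (hs : ∀ c : F, ¬ ∀ v, g v = c • v) : BaseCorner m (minusForm m F a b) g :=
  baseCorner (nondeg_minusForm m F a b hab) hg (fun c => not_forall.1 (hs c)) hm fun _ hW => maxTS_minus hab hW

theorem all_minus' [Finite F] {N : ℕ} (hm : 3 ≤ m)
    (hab : ∀ z₁ z₂ : F, z₁ ^ 2 + a * z₁ * z₂ + b * z₂ ^ 2 = 0 → z₁ = 0 ∧ z₂ = 0)
    (H : ∀ g ∈ Om (minusForm m F a b), (∀ c : F, ¬ ∀ v, g v = c • v) →
      BaseCorner m (minusForm m F a b) g → PrO N (minusForm m F a b) g) :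
    All N (Cfsg.POmega F (Cfsg.quadFormMinus m F a b)) :=
  all_minus fun g hg hs => H g hg hs (base_minus hm hab hg hs)

end minus

section odd

variable {F : Type*} [Field F] {m : ℕ}

end odd

end Cfsg.Agent.H124.PwO
end

-- part: H124/PwO/Minus
section
/-!
# S2465: `PΩ⁻` (helper124)

* `own_minus` : `N = r ≥ 5`, every `m ≥ 4`: the hypothesis `hown` of `H346.PwU.row_pom`;
* `six_minus_of` : `hsix` from the fields with 2, 3, 4, 9 elements and `PΩ₈⁻(8)`.
-/

set_option autoImplicit false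
set_option linter.unusedSectionVars false
set_option linter.unusedVariables false

namespace Cfsg.Agent.H124.PwO

open Module QuadraticMap Matrix Cfsg.Agent.LieClassical.OrthCore Cfsg.Agent.LieClassical.OrthTrans
  Cfsg.Agent.LieClassical.OrthFinite Cfsg.Agent.LieClassical.OrthForms Cfsg.Agent.H140.OreO Cfsg.Agent.H126.PwO
open Cfsg.Agent.H78.Pw (Pr All)

theorem own_minus (F : Type) [Field F] [Fintype F] (r : ℕ) [hr : Fact r.Prime] [CharP F r] (m : ℕ) (a b : F) (h5 : 5 ≤ r)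
    (hm : 4 ≤ m) (hab : ∀ z₁ z₂ : F, z₁ ^ 2 + a * z₁ * z₂ + b * z₂ ^ 2 = 0 → z₁ = 0 ∧ z₂ = 0) :
    All r (Cfsg.POmega F (Cfsg.quadFormMinus (m - 1) F a b)) := by
  obtain ⟨k, hp, hk⟩ := FiniteField.card F r
  have hrF : r ∣ Nat.card F := by
    rw [Nat.card_eq_fintype_card, hk]
    exact dvd_pow_self r k.ne_zero
  have hq : 4 ≤ Nat.card F := by
    have := Nat.le_of_dvd Nat.card_pos hrF
    omega
  obtain ⟨j, hj⟩ : ∃ j, m - 1 = j + 2 := ⟨m - 3, by omega⟩
  rw [hj]
  refine all_minus' (by omega) hab fun g hg _ hB => ?_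
  have hfin : finrank F ((Fin (j + 2) ⊕ Fin (j + 2)) ⊕ Fin 2 → F) = 2 * (j + 2) + 2 := finrank_minus
  obtain ⟨w, w', hfr, hS, hdet, hA⟩ := hB
  exact prO_own (by omega) (nondeg_minusForm _ F a b hab) hfr (Om_le hg) hS hdet (hA.imp id fun h => h.1) (by omega) hrF hq

/-- the remaining fields -/
def Rest (F : Type) [Field F] [Fintype F] (m : ℕ) : Prop :=
  Fintype.card F = 2 ∨ Fintype.card F = 3 ∨ Fintype.card F = 4 ∨ Fintype.card F = 9 ∨ (Fintype.card F = 8 ∧ m = 4)

theorem six_minus_of (H : ∀ (F : Type) [Field F] [Fintype F] (m : ℕ) (a b : F), 4 ≤ m → Rest F m →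
      (∀ z₁ z₂ : F, z₁ ^ 2 + a * z₁ * z₂ + b * z₂ ^ 2 = 0 → z₁ = 0 ∧ z₂ = 0) →
      All 6 (Cfsg.POmega F (Cfsg.quadFormMinus (m - 1) F a b)))
    (F : Type) [Field F] [Fintype F] (r : ℕ) [hr : Fact r.Prime] [CharP F r] (m : ℕ) (a b : F) (h5 : r < 5)
    (hm : 4 ≤ m) (hab : ∀ z₁ z₂ : F, z₁ ^ 2 + a * z₁ * z₂ + b * z₂ ^ 2 = 0 → z₁ = 0 ∧ z₂ = 0) :
    All 6 (Cfsg.POmega F (Cfsg.quadFormMinus (m - 1) F a b)) := by
  obtain ⟨e, hp, he⟩ := FiniteField.card F r
  have hr2 := hp.two_le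
  have hr4 : r ≠ 4 := by rintro rfl; revert hp; decide
  by_cases hrest : Rest F m
  · exact H F m a b hm hrest hab
  · have he3 : 3 ≤ (e : ℕ) := by
      by_contra hcon
      have he1 := e.pos
      have he12 : (e : ℕ) = 1 ∨ (e : ℕ) = 2 := by omega
      have hr23 : r = 2 ∨ r = 3 := by omega
      apply hrest
      rw [Rest, he]
      rcases hr23 with rfl | rfl <;> rcases he12 with h | h <;> rw [h] <;> norm_num
    obtain ⟨j, hj⟩ : ∃ j, m - 1 = j + 2 := ⟨m - 3, by omega⟩
    rw [hj]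
    refine all_minus' (by omega) hab fun g hg _ hB => ?_
    have hfin : finrank F ((Fin (j + 2) ⊕ Fin (j + 2)) ⊕ Fin 2 → F) = 2 * (j + 2) + 2 := finrank_minus
    obtain ⟨w, w', hfr, hS, hdet, hA⟩ := hB
    refine prO_six (r := r) (e := e) (by omega) (nondeg_minusForm _ F a b hab) hfr (Om_le hg) hS hdet
      (hA.imp id fun h => h.1) (by omega) hr2 he3 (by rw [Nat.card_eq_fintype_card, he]) ?_
    rintro ⟨h8, h1⟩
    rw [Nat.card_eq_fintype_card] at h8
    exact hrest (Or.inr (Or.inr (Or.inr (Or.inr ⟨h8, by omega⟩))))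

end Cfsg.Agent.H124.PwO
end

-- part: H649/PwO/Moved
section
/-!
# Dimension seven: frames with a moved anisotropic vector

* `case_one` : `h` fixes the orthogonal complement `⟨e⟩` of the frame and moves `w j`: change `w' j`.
* `exists_moved` : `1 ≠ h ∈ Ω_7`: a frame of length three with Schur complement `1`, corner of determinant `1`,
  and no fixed vector in `perp`.
-/

set_option autoImplicit false
set_option linter.unusedSectionVars false

namespace Cfsg.Agent.H649.PwO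

open QuadraticMap Matrix Cfsg.Agent.LieClassical.OrthCore Cfsg.Agent.LieClassical.OrthTrans
  Cfsg.Agent.LieClassical.OrthFinite Cfsg.Agent.H140.OreO Cfsg.Agent.H126.PwO

variable {F V : Type*} [Field F] [AddCommGroup V] [Module F V] {n : ℕ} {Q : QuadraticForm F V}

theorem polar_O {h : V ≃ₗ[F] V} (hh : h ∈ O Q) (x y : V) : polar Q (h x) (h y) = polar Q x y := by
  rw [polar, polar, ← map_add, mem_O.1 hh, mem_O.1 hh, mem_O.1 hh]

theorem polar_sum_left (f : Fin n → V) (c : Fin n → F) (v : V) :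
    polar Q (∑ i, c i • f i) v = ∑ i, c i * polar Q (f i) v := by
  rw [← polarBilin_apply_apply, map_sum, LinearMap.sum_apply]
  refine Finset.sum_congr rfl fun i _ => ?_
  rw [map_smul, LinearMap.smul_apply, polarBilin_apply_apply, smul_eq_mul]

/-- vectors orthogonal to `e` -/
theorem expand {w w' : Fin n → V} (hf : Frame Q w w') (h2 : (2 : F) ≠ 0) {e : V} (he : e ∈ perp Q w w')
    (hspan : ∀ v ∈ perp Q w w', ∃ t : F, v = t • e) (hQe : Q e ≠ 0) {v : V} (hv : polar Q v e = 0) :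
    v = ∑ i, polar Q v (w' i) • w i + ∑ i, polar Q v (w i) • w' i := by
  obtain ⟨t, ht⟩ := hspan _ (hf.proj_mem v)
  have h1 := congrArg (fun x => polar Q x e) ht
  simp only [polar_sub_left, polar_add_left, Frame.polar_perp_l _ he, Frame.polar_perp_r _ he, hv, add_zero,
    sub_zero, polar_smul_left, polar_self] at h1
  have h3 : t * (2 * Q e) = 0 := by
    rw [smul_eq_mul, nsmul_eq_mul] at h1
    exact_mod_cast h1.symm
  have h4 : t = 0 := (mul_eq_zero.1 h3).resolve_right (mul_ne_zero h2 hQe)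
  rw [h4, zero_smul, sub_eq_zero] at ht
  exact ht

theorem mulVec_corner (h : V ≃ₗ[F] V) (w u : Fin n → V) (y : Fin n → F) (i : Fin n) :
    (corner Q h w u *ᵥ y) i = polar Q (h (∑ k, y k • w k)) (u i) := by
  rw [map_sum]
  simp only [map_smul]
  rw [polar_sum_left]
  simp only [mulVec, dotProduct, corner_apply]
  exact Finset.sum_congr rfl fun k _ => mul_comm _ _

/-- **The change of frame.** -/
theorem case_one [FiniteDimensional F V] {w w' : Fin n → V} (hf : Frame Q w w') (h2 : (2 : F) ≠ 0) {e : V}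
    (he : e ∈ perp Q w w') (hfin : Module.finrank F V = 2 * n + 1)
    (hspan : ∀ v ∈ perp Q w w', ∃ t : F, v = t • e) (hQe : Q e ≠ 0) {h : V ≃ₗ[F] V}
    (hh : h ∈ O Q) (hhe : h e = e) (hdet : (corner Q h w w').det = 1) {j : Fin n} (hj : h (w j) ≠ w j) :
    ∃ u' : Fin n → V, Frame Q w u' ∧ SchurOne Q h w u' ∧ (corner Q h w u').det = 1 ∧
      ∀ x ∈ perp Q w u', h x = x → x = 0 := by
  classical
  set A := corner Q h w w' with hA
  set C := corner Q h w w with hC
  -- the image of `W`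
  have hW : ∀ y : Fin n → F, h (∑ k, y k • w k) = ∑ i, (A *ᵥ y) i • w i + ∑ i, (C *ᵥ y) i • w' i := by
    intro y
    have h3 : polar Q (h (∑ k, y k • w k)) e = 0 := by
      rw [← hhe, polar_O hh]
      exact Frame.polar_perp_l _ he
    simp only [hA, hC, mulVec_corner]
    exact expand hf h2 he hspan hQe h3
  have hAC : ∀ y : Fin n → F, (A *ᵥ y) ⬝ᵥ (C *ᵥ y) = 0 := by
    intro y
    rw [← hf.polar_sum_sum]
    have h3 := mem_O.1 hh (∑ k, y k • w k)
    rw [hf.Q_sum_l, hW, Q_add, hf.Q_sum_l, hf.Q_sum_r, zero_add, zero_add] at h3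
    exact h3
  have hAu : IsUnit A.det := by rw [hdet]; exact isUnit_one
  set y₀ : Fin n → F := A⁻¹ *ᵥ Pi.single j 1 with hy₀
  have hAy₀ : A *ᵥ y₀ = Pi.single j 1 := by
    rw [hy₀, mulVec_mulVec, Matrix.mul_nonsing_inv _ hAu, one_mulVec]
  have hCy₀ : (C *ᵥ y₀) j = 0 := by
    have h3 := hAC y₀
    rw [hAy₀, single_one_dotProduct] at h3
    exact h3
  have hej : polar Q e (w j) = 0 := by rw [polar_comm]; exact (he j).1
  have hej' : ∀ i, polar Q e (w' i) = 0 := fun i => by rw [polar_comm]; exact (he i).2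
  have heje : ∀ i, polar Q e (w i) = 0 := fun i => by rw [polar_comm]; exact (he i).1
  -- the new frame
  let u' : Fin n → V := Function.update w' j (w' j + e - Q e • w j)
  have hu'j : u' j = w' j + e - Q e • w j := Function.update_self _ _ _
  have hu'i : ∀ {i}, i ≠ j → u' i = w' i := fun hi => Function.update_of_ne hi _ _
  have hQu : Q (w' j + e - Q e • w j) = 0 := by
    rw [sub_eq_add_neg, Q_add, Q_add, QuadraticMap.map_neg, QuadraticMap.map_smul, hf.sr, hf.sl, polar_neg_right, polar_add_left,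
      polar_smul_right, polar_smul_right, polar_comm Q (w' j) e, hej', polar_comm Q (w' j) (w j), hf.lr, hej,
      if_pos rfl]
    simp
  have hpol : ∀ i, polar Q (w i) (u' j) = if i = j then 1 else 0 := by
    intro i
    rw [hu'j, sub_eq_add_neg, polar_add_right, polar_add_right, polar_neg_right, polar_smul_right, hf.lr, hf.ll,
      (he i).1]
    simp
  have hf' : Frame Q w u' := by
    refine ⟨hf.sl, fun i => ?_, hf.ll, fun i k => ?_, fun i k => ?_⟩
    · by_cases hi : i = j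
      · rw [hi, hu'j, hQu]
      · rw [hu'i hi, hf.sr]
    · have key : ∀ i, i ≠ j → polar Q (w' i) (w' j + e - Q e • w j) = 0 := by
        intro i hi
        rw [sub_eq_add_neg, polar_add_right, polar_add_right, polar_neg_right, polar_smul_right, hf.rr,
          (he i).2, polar_comm Q (w' i) (w j), hf.lr, if_neg (fun h => hi h.symm)]
        simp
      by_cases hi : i = j
      · by_cases hk : k = j
        · rw [hi, hk, hu'j, polar_self, hQu, smul_zero]
        · rw [hi, hu'j, hu'i hk, polar_comm, key k hk]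
      · by_cases hk : k = j
        · rw [hk, hu'j, hu'i hi, key i hi]
        · rw [hu'i hi, hu'i hk, hf.rr]
    · by_cases hk : k = j
      · rw [hk, hpol]
      · rw [hu'i hk, hf.lr]
  -- the new orthogonal complement
  set e' : V := e - (2 * Q e) • w j with he'
  have he'mem : e' ∈ perp Q w u' := by
    intro i
    constructor
    · rw [he', sub_eq_add_neg, polar_add_right, polar_neg_right, polar_smul_right, (he i).1, hf.ll]
      simp
    · rw [polar_comm, he', sub_eq_add_neg, polar_add_left, polar_neg_left, polar_smul_left]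
      by_cases hi : i = j
      · rw [hi, hpol, if_pos rfl, hu'j, sub_eq_add_neg, polar_add_right, polar_add_right, polar_neg_right,
          polar_smul_right, hej', hej, polar_self]
        simp [two_mul]
      · rw [hu'i hi, hej', hf.lr, if_neg (fun h => hi h.symm)]
        simp
  have he'0 : e' ≠ 0 := by
    intro h0
    have h3 := congrArg (fun x => polar Q x e) h0
    simp only [he', polar_sub_left, polar_smul_left, (he j).1, smul_zero, sub_zero, polar_self,
      polar_zero_left] at h3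
    rw [nsmul_eq_mul] at h3
    exact mul_ne_zero h2 hQe (by exact_mod_cast h3)
  have hspan' : ∀ v ∈ perp Q w u', ∃ t : F, v = t • e' := by
    intro v hv
    have h3 : Module.finrank F (perp Q w u') = 1 := by
      have := hf'.finrank_perp
      omega
    have h4 := (finrank_eq_one_iff_of_nonzero' (⟨e', he'mem⟩ : perp Q w u')
      (fun h0 => he'0 (congrArg Subtype.val h0))).1 h3 ⟨v, hv⟩
    obtain ⟨t, ht⟩ := h4
    exact ⟨t, (congrArg Subtype.val ht).symm⟩
  have hhe' : h e' ≠ e' := by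
    intro h0
    apply hj
    rw [he', map_sub, map_smul, hhe] at h0
    have h3 : (2 * Q e) • (h (w j)) = (2 * Q e) • w j := by
      have := sub_right_injective h0
      exact this
    exact smul_right_injective V (mul_ne_zero h2 hQe) h3
  refine ⟨u', hf', ?_, ?_, ?_⟩
  · -- Schur complement
    intro v hv
    obtain ⟨t, rfl⟩ := hspan' v hv
    refine ⟨t • (fun i => (-(2 * Q e)) * y₀ i + (if i = j then 2 * Q e else 0)),
      t • ((-(2 * Q e)) • (C *ᵥ y₀)), ?_⟩
    have h3 : ∀ c : Fin n → F, ∑ i, (t • c) i • w i = t • ∑ i, c i • w i := by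
      intro c
      rw [Finset.smul_sum]
      refine Finset.sum_congr rfl fun i _ => ?_
      rw [Pi.smul_apply, smul_eq_mul, mul_smul]
    have h4 : ∀ c : Fin n → F, ∑ i, (t • c) i • u' i = t • ∑ i, c i • u' i := by
      intro c
      rw [Finset.smul_sum]
      refine Finset.sum_congr rfl fun i _ => ?_
      rw [Pi.smul_apply, smul_eq_mul, mul_smul]
    rw [h3, h4, ← smul_add, ← smul_add, map_smul]
    congr 1
    have h5 : ∑ i, ((-(2 * Q e)) * y₀ i + (if i = j then 2 * Q e else 0)) • w i =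
        (-(2 * Q e)) • ∑ i, y₀ i • w i + (2 * Q e) • w j := by
      simp only [add_smul, Finset.sum_add_distrib, mul_smul, ← Finset.smul_sum, ite_smul, zero_smul,
        Finset.sum_ite_eq', Finset.mem_univ, if_true]
    have h6 : ∑ i, ((-(2 * Q e)) • (C *ᵥ y₀)) i • u' i = (-(2 * Q e)) • ∑ i, (C *ᵥ y₀) i • w' i := by
      rw [Finset.smul_sum]
      refine Finset.sum_congr rfl fun i _ => ?_
      by_cases hi : i = j
      · rw [hi, Pi.smul_apply, hCy₀, smul_zero, zero_smul, zero_smul, smul_zero]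
      · rw [hu'i hi, Pi.smul_apply, smul_eq_mul, mul_smul]
    rw [h5, h6, he']
    have h7 : e - (2 * Q e) • w j + (-(2 * Q e) • ∑ i, y₀ i • w i + (2 * Q e) • w j) =
        e + (-(2 * Q e)) • ∑ i, y₀ i • w i := by abel
    rw [h7, map_add, map_smul, hhe, hW, hAy₀]
    have h8 : ∑ i, (Pi.single j (1 : F) : Fin n → F) i • w i = w j := by
      simp only [Pi.single_apply, _root_.ite_smul, _root_.one_smul, _root_.zero_smul, _root_.Finset.sum_ite_eq', _root_.Finset.mem_univ, ↓ _root_.reduceIte]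
    rw [h8, smul_add]
    rw [neg_smul]
    abel
  · -- determinant
    have h3 : corner Q h w u' = A.updateRow j (∑ k, ((if k = j then 1 else 0) - Q e * (C * A⁻¹) j k) • A k) := by
      ext i k
      by_cases hi : i = j
      · subst hi
        rw [updateRow_self, corner_apply, hu'j, sub_eq_add_neg, polar_add_right, polar_add_right, polar_neg_right,
          polar_smul_right]
        have h4 : polar Q (h (w k)) e = 0 := by
          rw [← hhe, polar_O hh]
          exact (he k).1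
        have h5 : (∑ l, ((if l = i then 1 else 0) - Q e * (C * A⁻¹) i l) • A l) k =
            A i k - Q e * C i k := by
          have h6 : C i k = ∑ l, (C * A⁻¹) i l * A l k := by
            rw [← Matrix.mul_apply, Matrix.mul_assoc, Matrix.nonsing_inv_mul _ hAu, Matrix.mul_one]
          rw [h6, Finset.sum_apply, Finset.mul_sum]
          simp only [Pi.smul_apply, smul_eq_mul, sub_mul, Finset.sum_sub_distrib, ite_mul, one_mul, zero_mul,
            Finset.sum_ite_eq', Finset.mem_univ, if_true, mul_assoc]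
        rw [h4, h5]
        simp only [hA, hC, corner_apply, smul_eq_mul, add_zero]
        ring
      · rw [updateRow_ne hi, corner_apply, hu'i hi]
        rfl
    rw [h3, det_updateRow_sum, hdet, if_pos rfl]
    have h4 : (C * A⁻¹) j j = (C *ᵥ y₀) j := by
      rw [hy₀, mulVec_mulVec]
      simp
    rw [h4, hCy₀]
    simp
  · intro x hx hxx
    obtain ⟨t, rfl⟩ := hspan' x hx
    rw [map_smul, ← sub_eq_zero, ← smul_sub] at hxx
    rw [(smul_eq_zero.1 hxx).resolve_right (sub_ne_zero.2 hhe'), zero_smul]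

/-- **Dimension seven.** -/
theorem exists_moved [Finite F] [FiniteDimensional F V] (h2 : (2 : F) ≠ 0) (hQ : Nondeg Q)
    (hd : Module.finrank F V = 7) {h : V ≃ₗ[F] V} (hh : h ∈ Om Q) (h1 : h ≠ 1) :
    ∃ w w' : Fin 3 → V, Frame Q w w' ∧ SchurOne Q h w w' ∧ (corner Q h w w').det = 1 ∧
      ∀ e ∈ perp Q w w', h e = e → e = 0 := by
  have hO : h ∈ O Q := Om_le hh
  -- not a scalar
  have hs : ∀ c : F, ∃ v, h v ≠ c • v := by
    intro c
    by_contra hcon
    push Not at hcon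
    obtain ⟨v, hv⟩ : ∃ v, Q v ≠ 0 := by
      by_contra hcon'
      push Not at hcon'
      have : Nontrivial V := Module.nontrivial_of_finrank_pos (R := F) (by omega)
      obtain ⟨x, hx⟩ := exists_ne (0 : V)
      exact hx (hQ x fun y => by rw [polar, hcon', hcon', hcon']; simp)
    have h3 := mem_O.1 hO v
    rw [hcon, QuadraticMap.map_smul, smul_eq_mul] at h3
    have h4 : c * c = 1 := mul_right_cancel₀ hv (by rw [h3, one_mul])
    have h5 : LinearMap.det (h : V →ₗ[F] V) = 1 := H141.SpinFacts.det_eq_one' hh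
    have h6 : (h : V →ₗ[F] V) = c • LinearMap.id := by
      ext v
      exact hcon v
    rw [h6, LinearMap.det_smul, LinearMap.det_id, hd, mul_one] at h5
    have h7 : c = 1 := by
      have : c ^ 7 = c := by
        calc c ^ 7 = (c * c) ^ 3 * c := by ring
          _ = c := by rw [h4, one_pow, one_mul]
      rw [← this, h5]
    apply h1
    apply LinearEquiv.ext
    intro v
    rw [hcon, h7, one_smul]
    rfl
  obtain ⟨m, hm3, hm, hm', w, w', hf, hS, hdet, -⟩ := H434.Corn.exists_baseCorner hQ (by omega) hh hs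
  have hm3' : m = 3 := by omega
  subst hm3'
  have hfp : Module.finrank F (perp Q w w') = 1 := by
    have := hf.finrank_perp
    omega
  obtain ⟨⟨e, he⟩, he0, hspan0⟩ := finrank_eq_one_iff'.1 hfp
  have hspan : ∀ v ∈ perp Q w w', ∃ t : F, v = t • e := by
    intro v hv
    obtain ⟨t, ht⟩ := hspan0 ⟨v, hv⟩
    exact ⟨t, (congrArg Subtype.val ht).symm⟩
  have hQe : Q e ≠ 0 := by
    intro h0
    apply he0
    apply hf.nondeg_res hQ
    rintro ⟨y, hy⟩
    obtain ⟨t, rfl⟩ := hspan y hy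
    change polar Q e (t • e) = 0
    rw [polar_smul_right, polar_self, h0, smul_zero, smul_zero]
  by_cases hhe : h e = e
  swap
  · refine ⟨w, w', hf, hS, hdet, fun x hx hxx => ?_⟩
    obtain ⟨t, rfl⟩ := hspan x hx
    rw [map_smul, ← sub_eq_zero, ← smul_sub] at hxx
    rw [(smul_eq_zero.1 hxx).resolve_right (sub_ne_zero.2 hhe), zero_smul]
  by_cases hw : ∃ j, h (w j) ≠ w j
  · obtain ⟨j, hj⟩ := hw
    obtain ⟨u', h3, h4, h5, h6⟩ := case_one hf h2 he (by omega) hspan hQe hO hhe hdet hj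
    exact ⟨w, u', h3, h4, h5, h6⟩
  push Not at hw
  have hmem : ∀ {v}, v ∈ perp Q w' w ↔ v ∈ perp Q w w' := fun {v} =>
    ⟨fun h i => ⟨(h i).2, (h i).1⟩, fun h i => ⟨(h i).2, (h i).1⟩⟩
  have hc : corner Q h w' w = 1 := by
    ext i k
    rw [corner_apply, ← hw i, polar_O hO, hf.symm.lr, Matrix.one_apply]
    by_cases hik : i = k
    · rw [if_pos hik, if_pos hik.symm]
    · rw [if_neg hik, if_neg (fun h => hik h.symm)]
  by_cases hw' : ∃ j, h (w' j) ≠ w' j
  · obtain ⟨j, hj⟩ := hw'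
    obtain ⟨u', h3, h4, h5, h6⟩ := case_one hf.symm h2 (hmem.2 he) (by omega)
      (fun v hv => hspan v (hmem.1 hv)) hQe hO hhe (by rw [hc, det_one]) hj
    exact ⟨w', u', h3, h4, h5, h6⟩
  push Not at hw'
  exfalso
  apply h1
  apply LinearEquiv.ext
  intro v
  obtain ⟨t, ht⟩ := hspan _ (hf.proj_mem v)
  have h3 : v = t • e + (∑ i, polar Q v (w' i) • w i + ∑ i, polar Q v (w i) • w' i) := by
    rw [← ht]; abel
  rw [h3]
  simp only [map_add, map_smul, map_sum, hhe, hw, hw']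
  rfl

end Cfsg.Agent.H649.PwO
end

private theorem dce_65b8f61d673f : _root_.True := by
  try have : _root_.True := by simp only [_root_.Cfsg.Agent.H124.PwO.Rest.eq_1]
  try have : _root_.True := by simp only [_root_.Cfsg.Agent.H124.PwO.inclP.eq_1]
  try have : _root_.True := by simp only [_root_.Cfsg.Agent.H124.PwO.inclM.eq_1]
  exact _root_.True.intro
end

-- part: H126/PwO/Row
section
prune_inst 0x101075041d0000080000000060001e63b20000020048840004a1020e07818c4008c28860a930011b428000040034006813000020420000000a200000011d00801800000040c10088400000000000400000000000000000000000000000000000000000000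
set_option linter.all false
open scoped Cfsg.Agent.FastGrp

-- part: H649/PwO/Shrink
section
/-!
# Shortening a frame by one hyperbolic pair with identity corner

* `nw`, `nw'` : change of basis of a frame.
* `exists_basis` : a matrix of determinant one (`1` or not scalar) has a conjugate whose lower right block has
  determinant one and is `1` or not scalar.
* `shrink` : the statement of helper126.
-/

set_option autoImplicit false
set_option linter.unusedSectionVars false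

namespace Cfsg.Agent.H649.PwO

open QuadraticMap Matrix Cfsg.Agent.LieClassical.OrthCore Cfsg.Agent.LieClassical.OrthTrans
  Cfsg.Agent.LieClassical.OrthFinite Cfsg.Agent.H140.OreO Cfsg.Agent.H126.PwO Module Cfsg.Agent.H141.Ore
  Cfsg.Agent.H886.Inv

variable {F V : Type*} [Field F] [AddCommGroup V] [Module F V] {n k : ℕ} {Q : QuadraticForm F V}

theorem polar_sum_right (v : V) (f : Fin n → V) (c : Fin n → F) :
    polar Q v (∑ i, c i • f i) = ∑ i, c i * polar Q v (f i) := by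
  rw [polar_comm, polar_sum_left]
  exact Finset.sum_congr rfl fun i _ => by rw [polar_comm]

section Basis

variable (b : Basis (Fin n) F (Fin n → F))

/-- new frame, left -/
noncomputable def nw (w : Fin n → V) : Fin n → V := fun j => ∑ i, (b j) i • w i

/-- new frame, right -/
noncomputable def nw' (w' : Fin n → V) : Fin n → V := fun j => ∑ i, b.coord j (Pi.single i 1) • w' i

theorem single_smul' (x : Fin n → F) (i : Fin n) : Pi.single i (x i) = x i • (Pi.single i 1 : Fin n → F) := by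
  rw [← Pi.single_smul, smul_eq_mul, mul_one]

theorem coord_sum (x : Fin n → F) (j : Fin n) : ∑ i, x i * b.coord j (Pi.single i 1) = b.coord j x := by
  conv_rhs => rw [← Finset.univ_sum_single x, map_sum]
  refine Finset.sum_congr rfl fun i _ => ?_
  rw [single_smul', map_smul, smul_eq_mul]

theorem sum_nw (w : Fin n → V) (y : Fin n → F) : ∑ j, b.repr y j • nw b w j = ∑ i, y i • w i := by
  have h1 : ∀ i, y i = ∑ j, b.repr y j * (b j) i := by
    intro i
    have h2 := congrArg (fun z : Fin n → F => z i) (b.sum_repr y)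
    simp only [Finset.sum_apply, Pi.smul_apply, smul_eq_mul] at h2
    exact h2.symm
  simp only [nw, Finset.smul_sum, smul_smul]
  rw [Finset.sum_comm]
  refine Finset.sum_congr rfl fun i _ => ?_
  rw [← Finset.sum_smul, ← h1]

theorem sum_nw' (w' : Fin n → V) (d : Fin n → F) : ∑ j, (d ⬝ᵥ b j) • nw' b w' j = ∑ i, d i • w' i := by
  have h1 : ∀ i, d i = ∑ j, (d ⬝ᵥ b j) * b.coord j (Pi.single i 1) := by
    intro i
    have h2 := congrArg (fun z : Fin n → F => d ⬝ᵥ z) (b.sum_repr (Pi.single i 1))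
    simp only [dotProduct_single, mul_one, dotProduct_sum, dotProduct_smul, smul_eq_mul] at h2
    rw [← h2]
    exact Finset.sum_congr rfl fun j _ => mul_comm _ _
  simp only [nw', Finset.smul_sum, smul_smul]
  rw [Finset.sum_comm]
  refine Finset.sum_congr rfl fun i _ => ?_
  rw [← Finset.sum_smul, ← h1]

variable {w w' : Fin n → V}

theorem frame_nw (hf : Frame Q w w') : Frame Q (nw b w) (nw' b w') := by
  refine ⟨fun i => hf.Q_sum_l _ _, fun i => hf.Q_sum_r _ _, fun i j => ?_, fun i j => ?_, fun i j => ?_⟩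
  · rw [nw, nw, polar_sum_left]
    refine Finset.sum_eq_zero fun l _ => ?_
    rw [polar_sum_right]
    simp only [hf.ll, mul_zero, Finset.sum_const_zero]
  · rw [nw', nw', polar_sum_left]
    refine Finset.sum_eq_zero fun l _ => ?_
    rw [polar_sum_right]
    simp only [hf.rr, mul_zero, Finset.sum_const_zero]
  · rw [nw, nw', hf.polar_sum_sum, dotProduct, coord_sum, Basis.coord_apply, Basis.repr_self,
      Finsupp.single_apply]

theorem corner_nw (g : V ≃ₗ[F] V) (l j : Fin n) :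
    corner Q g (nw b w) (nw' b w') l j = b.coord l (corner Q g w w' *ᵥ b j) := by
  rw [corner_apply, nw', polar_sum_right, ← coord_sum]
  refine Finset.sum_congr rfl fun i _ => ?_
  rw [mulVec_corner, mul_comm]
  rfl

theorem mem_perp_nw {v : V} (h : v ∈ perp Q (nw b w) (nw' b w')) : v ∈ perp Q w w' := by
  intro i
  constructor
  · have h1 := sum_nw b w (Pi.single i 1)
    have h2 : ∑ l, (Pi.single i 1 : Fin n → F) l • w l = w i := by simp only [Pi.single_apply, _root_.ite_smul, _root_.one_smul, _root_.zero_smul, _root_.Finset.sum_ite_eq', _root_.Finset.mem_univ, ↓ _root_.reduceIte]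
    rw [h2] at h1
    rw [← h1, polar_sum_left]
    exact Finset.sum_eq_zero fun l _ => by rw [(h l).1, mul_zero]
  · have h1 := sum_nw' b w' (Pi.single i 1)
    have h2 : ∑ l, (Pi.single i 1 : Fin n → F) l • w' l = w' i := by simp only [Pi.single_apply, _root_.ite_smul, _root_.one_smul, _root_.zero_smul, _root_.Finset.sum_ite_eq', _root_.Finset.mem_univ, ↓ _root_.reduceIte]
    rw [h2] at h1
    rw [← h1, polar_sum_left]
    exact Finset.sum_eq_zero fun l _ => by rw [(h l).2, mul_zero]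

theorem schur_nw {g : V ≃ₗ[F] V} (hS : SchurOne Q g w w') : SchurOne Q g (nw b w) (nw' b w') := by
  intro v hv
  obtain ⟨c, d, h⟩ := hS v (mem_perp_nw b hv)
  refine ⟨b.repr c, fun j => d ⬝ᵥ b j, ?_⟩
  rw [sum_nw, sum_nw', h]

end Basis

/-! ### The choice of the basis -/

theorem exists_basis {A : Matrix (Fin (k + 1)) (Fin (k + 1)) F} (hdet : A.det = 1)
    (hA : A = 1 ∨ ∀ c : F, A ≠ c • (1 : Matrix (Fin (k + 1)) (Fin (k + 1)) F)) :
    ∃ b : Basis (Fin (k + 1)) F (Fin (k + 1) → F),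
      (Matrix.of fun i j : Fin k => b.coord i.succ (A *ᵥ b j.succ)).det = 1 ∧
      ((Matrix.of fun i j : Fin k => b.coord i.succ (A *ᵥ b j.succ)) = 1 ∨
        ∀ c : F, (Matrix.of fun i j : Fin k => b.coord i.succ (A *ᵥ b j.succ)) ≠
          c • (1 : Matrix (Fin k) (Fin k) F)) := by
  rcases hA with rfl | hA
  · have h1 : (Matrix.of fun i j : Fin k => (Pi.basisFun F (Fin (k + 1))).coord i.succ
        ((1 : Matrix (Fin (k + 1)) (Fin (k + 1)) F) *ᵥ (Pi.basisFun F (Fin (k + 1))) j.succ)) = 1 := by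
      ext i j
      rw [Matrix.of_apply, one_mulVec, Basis.coord_apply, Basis.repr_self, Finsupp.single_apply, Matrix.one_apply]
      by_cases hij : i = j
      · rw [if_pos hij, if_pos (by rw [hij])]
      · rw [if_neg hij, if_neg (fun h => hij (Fin.succ_injective _ h).symm)]
    exact ⟨Pi.basisFun F _, by rw [h1, det_one], Or.inl h1⟩
  have hAu : IsUnit A.det := by rw [hdet]; exact isUnit_one
  have hAA : ∀ v, A *ᵥ (A⁻¹ *ᵥ v) = v := fun v => by
    rw [mulVec_mulVec, Matrix.mul_nonsing_inv _ hAu, one_mulVec]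
  have hAA' : ∀ v, A⁻¹ *ᵥ (A *ᵥ v) = v := fun v => by
    rw [mulVec_mulVec, Matrix.nonsing_inv_mul _ hAu, one_mulVec]
  set S : Module.End F (Fin (k + 1) → F) := Matrix.toLin' A⁻¹ with hSdef
  have hSa : ∀ v, S v = A⁻¹ *ᵥ v := fun v => Matrix.toLin'_apply _ _
  have hSdet : LinearMap.det S = 1 := by
    rw [hSdef, LinearMap.det_toLin', Matrix.det_nonsing_inv, hdet, Ring.inverse_one]
  have hns : NonScalar S := by
    intro a
    by_contra hcon
    push Not at hcon
    have h1 : ∀ v, v = a • (A *ᵥ v) := by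
      intro v
      rw [← mulVec_smul, ← hcon v, hSa]
      rw [hAA]
    have ha : a ≠ 0 := by
      rintro rfl
      have := congrFun (h1 (Pi.single 0 1)) 0
      simp at this
    apply hA a⁻¹
    apply Matrix.toLin'.injective
    apply LinearMap.ext
    intro v
    rw [Matrix.toLin'_apply, map_smul, Matrix.toLin'_one, LinearMap.smul_apply, LinearMap.id_apply]
    nth_rewrite 2 [h1 v]
    rw [smul_smul, inv_mul_cancel₀ ha, one_smul]
  obtain ⟨φ, v, hv, hSv, hT⟩ := exists_pivot S hSdet hns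
  have hfin : finrank F (LinearMap.ker φ) = k := by
    have h1 := finrank_ker_functional φ v hv
    rw [finrank_fin_fun] at h1
    omega
  let b₀ : Basis (Fin k) F (LinearMap.ker φ) := Module.finBasisOfFinrankEq F _ hfin
  let bb : Basis (Fin (k + 1)) F (Fin (k + 1) → F) := Basis.mkFinCons v b₀ (by
    intro c x hx h0
    have h1 := congrArg φ h0
    rw [map_add, map_smul, hv, LinearMap.mem_ker.1 hx, map_zero, smul_eq_mul, mul_one, add_zero] at h1
    exact h1) (by
    intro z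
    refine ⟨-φ z, ?_⟩
    rw [LinearMap.mem_ker, map_add, map_smul, hv, smul_eq_mul, mul_one, add_neg_cancel])
  have hbb : ⇑bb = Fin.cons v ((↑) ∘ b₀) := Basis.coe_mkFinCons _ _ _ _
  have hbb0 : bb 0 = v := by rw [hbb]; rfl
  have hbbs : ∀ j : Fin k, bb j.succ = (b₀ j : Fin (k + 1) → F) := fun j => by rw [hbb]; rfl
  have hcoord : ∀ (i : Fin k) (y : Fin (k + 1) → F), bb.coord i.succ y = b₀.coord i (_root_.Cfsg.Agent.H141.Ore.proj φ v hv y) := by
    intro i y
    have h1 : bb.coord i.succ = b₀.coord i ∘ₗ _root_.Cfsg.Agent.H141.Ore.proj φ v hv := by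
      apply bb.ext
      intro j
      refine Fin.cases ?_ (fun j => ?_) j
      · rw [Basis.coord_apply, Basis.repr_self, Finsupp.single_apply, if_neg (Fin.succ_ne_zero i).symm,
          LinearMap.comp_apply, hbb0, proj_self, map_zero]
      · rw [Basis.coord_apply, Basis.repr_self, Finsupp.single_apply, LinearMap.comp_apply, hbbs, proj_coe,
          Basis.coord_apply, Basis.repr_self, Finsupp.single_apply]
        by_cases hij : j = i
        · rw [if_pos hij, if_pos (by rw [hij])]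
        · rw [if_neg hij, if_neg (fun h => hij (Fin.succ_injective _ h))]
    rw [h1]
    rfl
  let A' : Module.End F (LinearMap.ker φ) := _root_.Cfsg.Agent.H141.Ore.proj φ v hv ∘ₗ Matrix.toLin' A ∘ₗ (LinearMap.ker φ).subtype
  have hA' : ∀ w, A' w = _root_.Cfsg.Agent.H141.Ore.proj φ v hv (A *ᵥ (w : Fin (k + 1) → F)) := fun w => rfl
  have hM : (Matrix.of fun i j : Fin k => bb.coord i.succ (A *ᵥ bb j.succ)) = LinearMap.toMatrix b₀ b₀ A' := by
    ext i j
    rw [Matrix.of_apply, hcoord, hbbs, LinearMap.toMatrix_apply, hA', Basis.coord_apply]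
  have hinv : ∀ w, schur S φ v hSv (A' w) = w := by
    intro w
    apply Subtype.ext
    rw [coe_schur, hA', coe_proj, hSa, hSa, mulVec_sub, mulVec_smul, hAA', ← hSa, map_sub, map_smul,
      LinearMap.mem_ker.1 w.2, hSv]
    simp
  refine ⟨bb, ?_, ?_⟩
  · rw [hM, LinearMap.det_toMatrix]
    have h1 : schur S φ v hSv * A' = 1 := LinearMap.ext hinv
    have h2 := congrArg LinearMap.det h1
    rw [map_mul, map_one, det_schur S φ v hv hSv, hSdet, one_mul] at h2
    exact h2
  · rw [hM]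
    rcases hT with hT | hT
    · right
      intro c hc
      have h1 : ∀ w, A' w = c • w := by
        intro w
        have h2 : A' = c • LinearMap.id := by
          apply (LinearMap.toMatrix b₀ b₀).injective
          rw [hc, map_smul, LinearMap.toMatrix_id]
        rw [h2]; rfl
      by_cases hc0 : c = 0
      · obtain ⟨w, hw⟩ := hT 0
        apply hw
        have h3 := hinv w
        rw [h1, hc0, zero_smul, map_zero] at h3
        rw [← h3, map_zero, smul_zero]
      · obtain ⟨w, hw⟩ := hT c⁻¹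
        apply hw
        have h3 := hinv w
        rw [h1, map_smul] at h3
        nth_rewrite 2 [← h3]
        rw [smul_smul, inv_mul_cancel₀ hc0, one_smul]
    · left
      have h1 : A' = LinearMap.id := by
        apply LinearMap.ext
        intro w
        have h3 := hinv w
        rw [hT] at h3
        exact h3
      rw [h1, LinearMap.toMatrix_id]

/-! ### The first pair -/

theorem isSchur_apply {w w' : Fin n → V} {hf : Frame Q w w'} {g : V ≃ₗ[F] V}
    {g₁ : perp Q w w' ≃ₗ[F] perp Q w w'} (h : IsSchur hf g g₁) {v v' : perp Q w w'} {c d : Fin n → F}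
    (e : g ((v : V) + ∑ i, c i • w i) = v' + ∑ i, d i • w' i) : g₁ v = v' := by
  apply h v v' c d
  have h1 : hf.toModel.symm (c, v, 0) = (v : V) + ∑ i, c i • w i := by
    rw [hf.toModel_symm_apply]
    simp only [add_comm, _root_.Pi.zero_apply, _root_.zero_smul, _root_.Finset.sum_const_zero, _root_.add_zero]
  have h2 : hf.toModel.symm (0, v', d) = (v' : V) + ∑ i, d i • w' i := by
    rw [hf.toModel_symm_apply]
    simp only [_root_.Pi.zero_apply, _root_.zero_smul, _root_.Finset.sum_const_zero, _root_.zero_add]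
  rw [autE_apply, h1, e, ← h2, LinearEquiv.apply_symm_apply]

theorem frame_succ {W W' : Fin (k + 1) → V} (hf : Frame Q W W') :
    Frame Q (fun j : Fin k => W j.succ) (fun j : Fin k => W' j.succ) :=
  ⟨fun i => hf.sl _, fun i => hf.sr _, fun i j => hf.ll _ _, fun i j => hf.rr _ _, fun i j => by
    rw [hf.lr]
    by_cases hij : i = j
    · rw [if_pos hij, if_pos (by rw [hij])]
    · rw [if_neg hij, if_neg (fun h => hij (Fin.succ_injective _ h))]⟩

theorem shrink_aux {W W' : Fin (k + 1) → V} (hf : Frame Q W W') {g : V ≃ₗ[F] V} (hS : SchurOne Q g W W')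
    {x : Fin (k + 1) → F} (hx0 : x 0 = 1) (hx : corner Q g W W' *ᵥ x = Pi.single 0 1)
    (hu : Frame Q (fun j : Fin k => W j.succ) (fun j : Fin k => W' j.succ))
    {g₁ : perp Q (fun j : Fin k => W j.succ) (fun j : Fin k => W' j.succ) ≃ₗ[F]
      perp Q (fun j : Fin k => W j.succ) (fun j : Fin k => W' j.succ)} (hg₁ : IsSchur hu g g₁) :
    ∃ e e' : Fin 1 → perp Q (fun j : Fin k => W j.succ) (fun j : Fin k => W' j.succ),
      Frame (res Q (fun j : Fin k => W j.succ) (fun j : Fin k => W' j.succ)) e e' ∧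
      corner (res Q (fun j : Fin k => W j.succ) (fun j : Fin k => W' j.succ)) g₁ e e' = 1 ∧
      SchurOne (res Q (fun j : Fin k => W j.succ) (fun j : Fin k => W' j.succ)) g₁ e e' ∧
      ∀ v ∈ perp (res Q (fun j : Fin k => W j.succ) (fun j : Fin k => W' j.succ)) e e', (v : V) ∈ perp Q W W' := by
  have he : W 0 ∈ perp Q (fun j : Fin k => W j.succ) (fun j : Fin k => W' j.succ) := fun i =>
    ⟨hf.ll _ _, by rw [polar_comm, hf.lr, if_neg (Fin.succ_ne_zero i).symm]⟩
  have he' : W' 0 ∈ perp Q (fun j : Fin k => W j.succ) (fun j : Fin k => W' j.succ) := fun i =>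
    ⟨by rw [hf.lr, if_neg (Fin.succ_ne_zero i)], hf.rr _ _⟩
  have hperp : ∀ v ∈ perp (res Q (fun j : Fin k => W j.succ) (fun j : Fin k => W' j.succ))
      (fun _ : Fin 1 => ⟨W 0, he⟩) (fun _ : Fin 1 => ⟨W' 0, he'⟩), (v : V) ∈ perp Q W W' := by
    intro v hv i
    refine Fin.cases ?_ (fun i => ?_) i
    · exact hv 0
    · exact v.2 i
  refine ⟨fun _ => ⟨W 0, he⟩, fun _ => ⟨W' 0, he'⟩, ?_, ?_, ?_, hperp⟩
  · refine ⟨fun i => hf.sl 0, fun i => hf.sr 0, fun i j => hf.ll 0 0, fun i j => hf.rr 0 0, fun i j => ?_⟩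
    rw [Subsingleton.elim i j, if_pos rfl]
    have := hf.lr 0 0
    rw [if_pos rfl] at this
    exact this
  · -- the corner
    set y : V := ∑ i, x i • W i with hy
    have hc : ∀ i, polar Q (g y) (W' i) = (Pi.single 0 1 : Fin (k + 1) → F) i := by
      intro i
      rw [← hx, mulVec_corner]
    set v' : V := g y - ∑ j : Fin k, polar Q (g y) (W j.succ) • W' j.succ with hv'
    have hv'm : v' ∈ perp Q (fun j : Fin k => W j.succ) (fun j : Fin k => W' j.succ) := by
      intro i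
      constructor
      · rw [hv', polar_sub_right, polar_sum_right (W i.succ) (fun j : Fin k => W' j.succ), polar_comm Q _ (g y)]
        simp only [hf.lr, Fin.succ_inj, mul_ite, mul_one, mul_zero, Finset.sum_ite_eq, Finset.mem_univ, if_true,
          sub_self]
      · rw [hv', polar_sub_right, polar_sum_right (W' i.succ) (fun j : Fin k => W' j.succ), polar_comm Q _ (g y),
          hc]
        simp only [hf.rr, mul_zero, Finset.sum_const_zero, sub_zero]
        rw [Pi.single_eq_of_ne (Fin.succ_ne_zero i)]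
    have hg : g₁ ⟨W 0, he⟩ = ⟨v', hv'm⟩ := by
      apply isSchur_apply hg₁ (c := fun j => x j.succ) (d := fun j => polar Q (g y) (W j.succ))
      change g (W 0 + _) = v' + _
      rw [hv', sub_add_cancel, hy, Fin.sum_univ_succ, hx0, one_smul]
    ext i j
    rw [corner_apply, Subsingleton.elim i j, Matrix.one_apply_eq]
    change polar Q (g₁ ⟨W 0, he⟩ : V) (W' 0) = 1
    rw [hg]
    change polar Q v' (W' 0) = 1
    rw [hv', polar_sub_left, hc, polar_sum_left (fun j : Fin k => W' j.succ)]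
    simp only [hf.rr, mul_zero, Finset.sum_const_zero, sub_zero]
    rw [Pi.single_eq_same]
  · intro v hv
    obtain ⟨c, d, h⟩ := hS v (hperp v hv)
    refine ⟨fun _ => c 0, fun _ => d 0, ?_⟩
    apply isSchur_apply hg₁ (c := fun j => c j.succ) (d := fun j => d j.succ)
    rw [Fin.sum_univ_succ, Fin.sum_univ_succ] at h
    simp only [Finset.univ_unique, Finset.sum_singleton, Submodule.coe_add, Submodule.coe_smul]
    rw [add_assoc, add_assoc, h]

/-- **Shortening a frame.** -/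
theorem shrink [FiniteDimensional F V] (hk : 1 ≤ k) {w w' : Fin (k + 1) → V} (hf : Frame Q w w')
    {g : V ≃ₗ[F] V} (hg : g ∈ O Q) (hS : SchurOne Q g w w') (hdet : (corner Q g w w').det = 1)
    (hA : corner Q g w w' = 1 ∨ ∀ c : F, corner Q g w w' ≠ c • (1 : Matrix (Fin (k + 1)) (Fin (k + 1)) F)) :
    ∃ (u u' : Fin k → V) (hu : Frame Q u u'), (corner Q g u u').det = 1 ∧
      (corner Q g u u' = 1 ∨ ∀ c : F, corner Q g u u' ≠ c • (1 : Matrix (Fin k) (Fin k) F)) ∧
      ∀ g₁ ∈ O (res Q u u'), IsSchur hu g g₁ → ∃ e e' : Fin 1 → perp Q u u',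
        Frame (res Q u u') e e' ∧ corner (res Q u u') g₁ e e' = 1 ∧ SchurOne (res Q u u') g₁ e e' ∧
          ∀ v ∈ perp (res Q u u') e e', (v : V) ∈ perp Q w w' := by
  obtain ⟨b, hb1, hb2⟩ := exists_basis hdet hA
  have hF := frame_nw b hf
  have hc : corner Q g (fun j : Fin k => nw b w j.succ) (fun j : Fin k => nw' b w' j.succ) =
      Matrix.of fun i j : Fin k => b.coord i.succ (corner Q g w w' *ᵥ b j.succ) := by
    ext i j
    rw [Matrix.of_apply, ← corner_nw]
    rfl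
  have hB : corner Q g (nw b w) (nw' b w') = LinearMap.toMatrix b b (Matrix.toLin' (corner Q g w w')) := by
    ext i j
    rw [corner_nw, LinearMap.toMatrix_apply, Matrix.toLin'_apply, Basis.coord_apply]
  have hBd : (corner Q g (nw b w) (nw' b w')).det = 1 := by
    rw [hB, LinearMap.det_toMatrix, LinearMap.det_toLin', hdet]
  have hBu : IsUnit (corner Q g (nw b w) (nw' b w')).det := by rw [hBd]; exact isUnit_one
  refine ⟨fun j => nw b w j.succ, fun j => nw' b w' j.succ, frame_succ hF, by rw [hc, hb1], by rw [hc]; exact hb2,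
    fun g₁ _ hg₁ => ?_⟩
  obtain ⟨e, e', h1, h2, h3, h4⟩ := shrink_aux hF (schur_nw b hS)
    (x := (corner Q g (nw b w) (nw' b w'))⁻¹ *ᵥ Pi.single 0 1) (by
      rw [mulVec_single_one]
      change (corner Q g (nw b w) (nw' b w'))⁻¹ 0 0 = 1
      rw [Matrix.inv_def, hBd, Ring.inverse_one, one_smul, adjugate_fin_succ_eq_det_submatrix]
      have h5 : (corner Q g (nw b w) (nw' b w')).submatrix (Fin.succAbove 0) (Fin.succAbove 0) =
          Matrix.of fun i j : Fin k => b.coord i.succ (corner Q g w w' *ᵥ b j.succ) := by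
        rw [← hc]
        ext i j
        simp [corner_apply]
      rw [h5, hb1]
      simp) (by
      rw [mulVec_mulVec, Matrix.mul_nonsing_inv _ hBu, one_mulVec]) (frame_succ hF) hg₁
  exact ⟨e, e', h1, h2, h3, fun v hv => mem_perp_nw b (h4 v hv)⟩

end Cfsg.Agent.H649.PwO
end

-- part: H649/PwO/FvPow
section
/-!
# Elements of order five in `GL_4(q)`, `q = 2, 3`
-/

set_option autoImplicit false

namespace Cfsg.Agent.H649.PwO

open Module Cfsg.Agent.H126.PwO

variable {F V : Type*} [Field F] [Finite F] [AddCommGroup V] [Module F V] [FiniteDimensional F V]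

theorem fv_of_pow (hF : Nat.card F = 2 ∨ Nat.card F = 3) (h4 : finrank F V = 4) {x : V ≃ₗ[F] V} (h : x ^ 5 = 1)
    (h1 : x ≠ 1) : Fv x := by
  classical
  have : Finite V := Module.finite_of_finite F
  have : Fintype V := Fintype.ofFinite V
  have : Fact (Nat.Prime 5) := ⟨by norm_num⟩
  -- the fixed space
  let K : Submodule F V := LinearMap.ker ((x : V →ₗ[F] V) - LinearMap.id)
  have hK : ∀ {v}, v ∈ K ↔ x v = v := by
    intro v
    rw [LinearMap.mem_ker, LinearMap.sub_apply, LinearMap.id_apply, sub_eq_zero]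
    rfl
  -- congruence
  have hmod : Nat.card V ≡ Nat.card K [MOD 5] := by
    have h2 := Equiv.Perm.card_fixedPoints_modEq (p := 5) (n := 1) (f := (x : V → V)) (by
      rw [pow_one]
      have h3 : ∀ j : ℕ, (show Function.End V from (x : V → V)) ^ j = ((x ^ j : V ≃ₗ[F] V) : V → V) := by
        intro j
        induction j with
        | zero => rfl
        | succ j ih => rw [pow_succ', pow_succ', ih]; rfl
      exact (h3 5).trans (by rw [h]; rfl))
    rw [Nat.card_eq_fintype_card, Nat.card_eq_fintype_card]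
    refine h2.trans ?_
    have h5 : Fintype.card (Function.fixedPoints (x : V → V)) = Fintype.card K :=
      Fintype.card_congr (Equiv.subtypeEquivRight fun v => hK.symm)
    rw [h5]
  rw [Module.natCard_eq_pow_finrank (K := F) (V := V), Module.natCard_eq_pow_finrank (K := F) (V := K), h4] at hmod
  have hle : finrank F K ≤ 4 := by rw [← h4]; exact Submodule.finrank_le K
  have hK0 : finrank F K = 0 := by
    obtain ⟨d, hd⟩ : ∃ d, d = finrank F K := ⟨_, rfl⟩
    have hd4 : d ≠ 4 := by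
      intro h5
      apply h1
      have h6 : K = ⊤ := Submodule.eq_top_of_finrank_eq (by rw [← hd, h5, h4])
      apply LinearEquiv.ext
      intro v
      exact hK.1 (by rw [h6]; trivial)
    rw [← hd] at hmod hle ⊢
    rcases hF with hF | hF <;> rw [hF] at hmod <;> interval_cases d <;>
      first
      | rfl
      | exact absurd rfl hd4
      | (exfalso; revert hmod; decide)
  have hKbot : K = ⊥ := Submodule.finrank_eq_zero.1 hK0
  intro v
  have h2 : x (x (x (x v))) + x (x (x v)) + x (x v) + x v + v ∈ K := by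
    rw [hK]
    have h3 : x (x (x (x (x v)))) = v := LinearEquiv.congr_fun h v
    simp only [map_add, h3]
    abel
  rw [hKbot] at h2
  exact (Submodule.mem_bot F).1 h2

end Cfsg.Agent.H649.PwO
end

-- part: H170/PW/SLFive
section
/-!
# Products of two elements of order five in `SL₂(4)`, `SL₂(9)` (helper170; S2465)
-/

set_option autoImplicit false

namespace Cfsg.Agent.H170.PW

open scoped MatrixGroups
open Cfsg.Agent.H170.RC

section

variable {R : Type*} [CommRing R]

/-- elements of trace `a`, `a ^ 2 + a = 1` -/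
theorem pow_five {a : R} (ha : a ^ 2 + a - 1 = 0) (X : SL(2, R)) (ht : X.1 0 0 + X.1 1 1 = a) : X ^ 5 = 1 := by
  have hd : X.1 0 0 * X.1 1 1 - X.1 0 1 * X.1 1 0 = 1 := by
    have := X.2
    rwa [Matrix.det_fin_two] at this
  have h2 : X.1 * X.1 = a • X.1 - 1 := by
    ext i j
    fin_cases i <;> fin_cases j
    · simp only [Matrix.mul_apply, Fin.sum_univ_two, _root_.Fin.zero_eta, _root_.Fin.isValue, _root_.Matrix.sub_apply, _root_.Matrix.smul_apply, _root_.smul_eq_mul, _root_.Matrix.one_apply_eq]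
      linear_combination X.1 0 0 * ht - hd
    · simp only [Matrix.mul_apply, Fin.sum_univ_two, _root_.Fin.zero_eta, _root_.Fin.isValue, _root_.Fin.mk_one, _root_.Matrix.sub_apply, _root_.Matrix.smul_apply, _root_.smul_eq_mul, _root_.Nat.reduceAdd, _root_.ne_eq, _root_.zero_ne_one, _root_.not_false_eq_true, _root_.Matrix.one_apply_ne, _root_.sub_zero]
      linear_combination X.1 0 1 * ht
    · simp only [Matrix.mul_apply, Fin.sum_univ_two, _root_.Fin.mk_one, _root_.Fin.isValue, _root_.Fin.zero_eta, _root_.Matrix.sub_apply, _root_.Matrix.smul_apply, _root_.smul_eq_mul, _root_.Nat.reduceAdd, _root_.ne_eq, _root_.one_ne_zero, _root_.not_false_eq_true, _root_.Matrix.one_apply_ne, _root_.sub_zero]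
      linear_combination X.1 1 0 * ht
    · simp only [Matrix.mul_apply, Fin.sum_univ_two, _root_.Fin.mk_one, _root_.Fin.isValue, _root_.Matrix.sub_apply, _root_.Matrix.smul_apply, _root_.smul_eq_mul, _root_.Matrix.one_apply_eq]
      linear_combination X.1 1 1 * ht - hd
  apply Subtype.ext
  have e1 : (X ^ 5).1 = X.1 * X.1 * (X.1 * X.1) * X.1 := by
    have : X ^ 5 = X * X * (X * X) * X := by simp only [pow_succ, pow_zero, one_mul, mul_assoc]
    rw [this]
    rfl
  have e2 : (a • X.1 - 1) * (a • X.1 - 1) = (a * a) • (X.1 * X.1) - (2 * a) • X.1 + 1 := by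
    rw [sub_mul, mul_sub, smul_mul_smul_comm, mul_one, one_mul]
    module
  rw [e1, h2, e2, h2]
  have e3 : ((a * a) • (a • X.1 - 1) - (2 * a) • X.1 + 1) * X.1 =
      (a * a * a - 2 * a) • (X.1 * X.1) + (1 - a * a) • X.1 := by
    rw [add_mul, sub_mul, smul_mul_assoc, sub_mul, smul_mul_assoc, one_mul, smul_mul_assoc]
    module
  rw [e3, h2]
  have c1 : (a * a * a - 2 * a) * a + (1 - a * a) = 0 := by linear_combination (a ^ 2 - a - 1) * ha
  have c2 : -(a * a * a - 2 * a) = 1 := by linear_combination (1 - a) * ha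
  have e4 : (a * a * a - 2 * a) • (a • X.1 - 1) + (1 - a * a) • X.1 =
      ((a * a * a - 2 * a) * a + (1 - a * a)) • X.1 + (-(a * a * a - 2 * a)) • (1 : Matrix (Fin 2) (Fin 2) R) := by
    module
  rw [e4, c1, c2, zero_smul, one_smul, zero_add]
  rfl

end

variable {E : Type*} [Field E]

/-- the condition of solvability -/
def Sol (a : E) : Prop := a ^ 2 + a - 1 = 0 ∧ ∀ m : E, m ≠ 0 → ∃ x P : E, P * (x * m - P) = (x * (a - x) - 1) * m

/-- products of two elements of order five -/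
theorem sl_five {a : E} (ha : Sol a) (h5 : (5 : E) ≠ 0) (s t : E) :
    ∃ X Y : SL(2, E), lo s * up t = X * Y ∧ X ^ 5 = 1 ∧ Y ^ 5 = 1 ∧ (∀ c : E, X.1 ≠ c • 1) ∧ ∀ c : E, Y.1 ≠ c • 1 := by
  obtain ⟨ha1, ha2⟩ := ha
  -- enough: `X` of determinant one and trace `a`, `X⁻¹ g` of trace `b`
  have key : ∀ x1 x2 x3 x4 b : E, x1 * x4 - x2 * x3 = 1 → x1 + x4 = a → b ^ 2 + b - 1 = 0 →
      x4 + x1 * (1 + s * t) - x2 * s - x3 * t = b →
      ∃ X Y : SL(2, E), lo s * up t = X * Y ∧ X ^ 5 = 1 ∧ Y ^ 5 = 1 ∧ (∀ c : E, X.1 ≠ c • 1) ∧ ∀ c : E, Y.1 ≠ c • 1 := by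
    intro x1 x2 x3 x4 b hd ht hb htr
    have hns : ∀ (b : E) (Z : SL(2, E)), b ^ 2 + b - 1 = 0 → Z.1 0 0 + Z.1 1 1 = b → ∀ c : E, Z.1 ≠ c • 1 := by
      intro b Z hb hZ c hc
      have hdet := Z.2
      rw [Matrix.det_fin_two, hc] at hdet
      rw [hc] at hZ
      simp only [_root_.Fin.isValue, _root_.Matrix.smul_apply, _root_.Matrix.one_apply_eq, _root_.smul_eq_mul, _root_.mul_one, _root_.ne_eq, _root_.zero_ne_one, _root_.not_false_eq_true, _root_.Matrix.one_apply_ne, _root_.MulZeroClass.mul_zero, _root_.one_ne_zero, _root_.sub_zero] at hdet hZ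
      apply h5
      have h1 : b ^ 2 = 4 := by linear_combination 4 * hdet - (c + c + b) * hZ
      have h2 : b = -3 := by linear_combination hb - h1
      rw [h2] at h1
      linear_combination h1
    let X : SL(2, E) := ⟨!![x1, x2; x3, x4], by rw [Matrix.det_fin_two_of]; exact hd⟩
    let Xi : SL(2, E) := ⟨!![x4, -x2; -x3, x1], by rw [Matrix.det_fin_two_of]; linear_combination hd⟩
    have hXX : X * Xi = 1 := by
      apply Subtype.ext
      show !![x1, x2; x3, x4] * !![x4, -x2; -x3, x1] = 1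
      ext i j
      fin_cases i <;> fin_cases j
      · simp only [Matrix.mul_apply, Fin.sum_univ_two, _root_.Fin.zero_eta, _root_.Fin.isValue, _root_.Matrix.of_apply, _root_.Matrix.cons_val', _root_.Matrix.cons_val_fin_one, _root_.Matrix.cons_val_zero, _root_.Matrix.cons_val_one, _root_.mul_neg, _root_.Matrix.one_apply_eq]
        linear_combination hd
      · simp only [Matrix.mul_apply, Fin.sum_univ_two, _root_.Fin.zero_eta, _root_.Fin.isValue, _root_.Fin.mk_one, _root_.Matrix.of_apply, _root_.Matrix.cons_val', _root_.Matrix.cons_val_fin_one, _root_.Matrix.cons_val_zero, _root_.Matrix.cons_val_one, _root_.mul_neg, _root_.ne_eq, _root_.zero_ne_one, _root_.not_false_eq_true, _root_.Matrix.one_apply_ne]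
        ring
      · simp only [Matrix.mul_apply, Fin.sum_univ_two, _root_.Fin.mk_one, _root_.Fin.isValue, _root_.Fin.zero_eta, _root_.Matrix.of_apply, _root_.Matrix.cons_val', _root_.Matrix.cons_val_fin_one, _root_.Matrix.cons_val_one, _root_.Matrix.cons_val_zero, _root_.mul_neg, _root_.ne_eq, _root_.one_ne_zero, _root_.not_false_eq_true, _root_.Matrix.one_apply_ne]
        ring
      · simp only [Matrix.mul_apply, Fin.sum_univ_two, _root_.Fin.mk_one, _root_.Fin.isValue, _root_.Matrix.of_apply, _root_.Matrix.cons_val', _root_.Matrix.cons_val_fin_one, _root_.Matrix.cons_val_one, _root_.Matrix.cons_val_zero, _root_.mul_neg, _root_.Matrix.one_apply_eq]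
        linear_combination hd
    have hYt : (Xi * (lo s * up t)).1 0 0 + (Xi * (lo s * up t)).1 1 1 = b := by
      show (!![x4, -x2; -x3, x1] * (!![1, 0; s, 1] * !![1, t; 0, 1])) 0 0 +
        (!![x4, -x2; -x3, x1] * (!![1, 0; s, 1] * !![1, t; 0, 1])) 1 1 = b
      simp only [Matrix.mul_apply, Fin.sum_univ_two, _root_.Matrix.cons_mul, _root_.Nat.succ_eq_add_one, _root_.Nat.reduceAdd, _root_.Matrix.vecMul_cons, _root_.Matrix.head_cons, _root_.one_smul, _root_.Matrix.tail_cons, _root_.zero_smul, _root_.Matrix.empty_vecMul, _root_.add_zero, _root_.Matrix.smul_cons, _root_.smul_eq_mul, _root_.mul_one, _root_.Matrix.smul_empty, _root_.Matrix.add_cons, _root_.Matrix.empty_add_empty, _root_.Matrix.empty_mul, _root_.Equiv.symm_apply_apply, _root_.Fin.isValue, _root_.Matrix.of_apply, _root_.Matrix.cons_val', _root_.Matrix.cons_val_fin_one, _root_.Matrix.cons_val_zero, _root_.Matrix.cons_val_one, _root_.neg_mul]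
      linear_combination htr
    refine ⟨X, Xi * (lo s * up t), ?_, pow_five ha1 X ht, pow_five hb _ hYt, hns a X ha1 ht, hns b _ hb hYt⟩
    rw [← mul_assoc, hXX, one_mul]
  have hb' : (-1 - a) ^ 2 + (-1 - a) - 1 = 0 := by linear_combination ha1
  have hab : a - (-1 - a) ≠ 0 := by
    intro h
    apply h5
    linear_combination (2 * a + 1) * h - 4 * ha1
  by_cases hs : s = 0
  · by_cases ht : t = 0
    · subst hs ht
      exact key 0 (-1) 1 a a (by ring) (by ring) ha1 (by ring)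
    · subst hs
      have h1 : (a - (-1 - a)) / t ≠ 0 := div_ne_zero hab ht
      refine key 0 (-((a - (-1 - a)) / t)⁻¹) ((a - (-1 - a)) / t) a (-1 - a) ?_ (by ring) hb' ?_
      · field_simp
        ring
      · field_simp
        ring
  · by_cases ht : t = 0
    · subst ht
      have h1 : (a - (-1 - a)) / s ≠ 0 := div_ne_zero hab hs
      refine key 0 ((a - (-1 - a)) / s) (-((a - (-1 - a)) / s)⁻¹) a (-1 - a) ?_ (by ring) hb' ?_
      · field_simp
        ring
      · field_simp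
        ring
    · obtain ⟨x, P, hP⟩ := ha2 (s * t) (mul_ne_zero hs ht)
      refine key x (P / s) ((x * (s * t) - P) / t) (a - x) a ?_ (by ring) ha1 ?_
      · field_simp
        linear_combination -hP
      · field_simp
        ring

/-! ### The fields with four and nine elements -/

/-- transport of `Sol` -/
theorem Sol.map {K : Type*} [Field K] (f : K ≃+* E) {a : K} (h : Sol a) : Sol (f a) := by
  refine ⟨?_, ?_⟩
  · rw [← map_pow, ← map_add, ← map_one f, ← map_sub, h.1, map_zero]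
  · intro m hm
    obtain ⟨x, P, hP⟩ := h.2 (f.symm m) (by
      intro h0
      exact hm ((map_eq_zero_iff f.symm f.symm.injective).1 h0))
    refine ⟨f x, f P, ?_⟩
    have h1 := congrArg f hP
    simp only [map_mul, map_sub, map_one, RingEquiv.apply_symm_apply] at h1
    exact h1

theorem sol_four : ∃ (K : Type) (_ : Field K) (_ : Fintype K) (a : K), Fintype.card K = 4 ∧ Sol a := by
  have : Fact (∀ r : ZMod 2, r ^ 2 ≠ 1 + 1 * r) := ⟨by decide⟩
  let _ : Fintype (QuadraticAlgebra (ZMod 2) 1 1) := Fintype.ofEquiv _ (QuadraticAlgebra.equivProd 1 1).symm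
  refine ⟨QuadraticAlgebra (ZMod 2) 1 1, inferInstance, inferInstance, ⟨0, 1⟩, ?_, ?_, ?_⟩
  · rw [Fintype.card_congr (QuadraticAlgebra.equivProd 1 1)]
    simp
  · have h1 : (⟨0, 1⟩ * ⟨0, 1⟩ + ⟨0, 1⟩ - ⟨1, 0⟩ : QuadraticAlgebra (ZMod 2) 1 1) = ⟨0, 0⟩ := by
      refine QuadraticAlgebra.ext ?_ ?_
      · simp only [QuadraticAlgebra.mk_mul_mk, QuadraticAlgebra.re_sub, QuadraticAlgebra.re_add]
        decide
      · simp only [QuadraticAlgebra.mk_mul_mk, QuadraticAlgebra.im_sub, QuadraticAlgebra.im_add]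
        decide
    rw [pow_two]
    exact h1
  · rintro ⟨m0, m1⟩ hm
    have hm' : ¬ (m0 = 0 ∧ m1 = 0) := by
      rintro ⟨rfl, rfl⟩
      exact hm rfl
    have key : ∀ m0 m1 : ZMod 2, ¬ (m0 = 0 ∧ m1 = 0) → ∃ x0 x1 p0 p1 : ZMod 2,
        ((⟨p0, p1⟩ : QuadraticAlgebra (ZMod 2) 1 1) * (⟨x0, x1⟩ * ⟨m0, m1⟩ - ⟨p0, p1⟩)).re =
          ((⟨x0, x1⟩ * (⟨0, 1⟩ - ⟨x0, x1⟩) - ⟨1, 0⟩) * ⟨m0, m1⟩ : QuadraticAlgebra (ZMod 2) 1 1).re ∧
        ((⟨p0, p1⟩ : QuadraticAlgebra (ZMod 2) 1 1) * (⟨x0, x1⟩ * ⟨m0, m1⟩ - ⟨p0, p1⟩)).im =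
          ((⟨x0, x1⟩ * (⟨0, 1⟩ - ⟨x0, x1⟩) - ⟨1, 0⟩) * ⟨m0, m1⟩ : QuadraticAlgebra (ZMod 2) 1 1).im := by
      simp only [QuadraticAlgebra.mk_mul_mk, QuadraticAlgebra.mk_sub_mk]
      decide +kernel
    obtain ⟨x0, x1, p0, p1, h1, h2⟩ := key m0 m1 hm'
    exact ⟨⟨x0, x1⟩, ⟨p0, p1⟩, QuadraticAlgebra.ext h1 h2⟩

theorem sol_nine : ∃ (K : Type) (_ : Field K) (_ : Fintype K) (a : K), Fintype.card K = 9 ∧ Sol a := by
  have : Fact (∀ r : ZMod 3, r ^ 2 ≠ 2 + 0 * r) := ⟨by decide⟩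
  let _ : Fintype (QuadraticAlgebra (ZMod 3) 2 0) := Fintype.ofEquiv _ (QuadraticAlgebra.equivProd 2 0).symm
  refine ⟨QuadraticAlgebra (ZMod 3) 2 0, inferInstance, inferInstance, ⟨1, 1⟩, ?_, ?_, ?_⟩
  · rw [Fintype.card_congr (QuadraticAlgebra.equivProd 2 0)]
    simp
  · have h1 : (⟨1, 1⟩ * ⟨1, 1⟩ + ⟨1, 1⟩ - ⟨1, 0⟩ : QuadraticAlgebra (ZMod 3) 2 0) = ⟨0, 0⟩ := by
      refine QuadraticAlgebra.ext ?_ ?_
      · simp only [QuadraticAlgebra.mk_mul_mk, QuadraticAlgebra.re_sub, QuadraticAlgebra.re_add]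
        decide
      · simp only [QuadraticAlgebra.mk_mul_mk, QuadraticAlgebra.im_sub, QuadraticAlgebra.im_add]
        decide
    rw [pow_two]
    exact h1
  · rintro ⟨m0, m1⟩ hm
    have hm' : ¬ (m0 = 0 ∧ m1 = 0) := by
      rintro ⟨rfl, rfl⟩
      exact hm rfl
    have key : ∀ m0 m1 : ZMod 3, ¬ (m0 = 0 ∧ m1 = 0) → ∃ x0 x1 p0 p1 : ZMod 3,
        ((⟨p0, p1⟩ : QuadraticAlgebra (ZMod 3) 2 0) * (⟨x0, x1⟩ * ⟨m0, m1⟩ - ⟨p0, p1⟩)).re =
          ((⟨x0, x1⟩ * (⟨1, 1⟩ - ⟨x0, x1⟩) - ⟨1, 0⟩) * ⟨m0, m1⟩ : QuadraticAlgebra (ZMod 3) 2 0).re ∧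
        ((⟨p0, p1⟩ : QuadraticAlgebra (ZMod 3) 2 0) * (⟨x0, x1⟩ * ⟨m0, m1⟩ - ⟨p0, p1⟩)).im =
          ((⟨x0, x1⟩ * (⟨1, 1⟩ - ⟨x0, x1⟩) - ⟨1, 0⟩) * ⟨m0, m1⟩ : QuadraticAlgebra (ZMod 3) 2 0).im := by
      simp only [QuadraticAlgebra.mk_mul_mk, QuadraticAlgebra.mk_sub_mk]
      decide +kernel
    obtain ⟨x0, x1, p0, p1, h1, h2⟩ := key m0 m1 hm'
    exact ⟨⟨x0, x1⟩, ⟨p0, p1⟩, QuadraticAlgebra.ext h1 h2⟩

/-- a field with four or nine elements -/
theorem exists_sol [Finite E] (hE : Nat.card E = 4 ∨ Nat.card E = 9) : ∃ a : E, Sol a := by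
  have := Fintype.ofFinite E
  rcases hE with h | h
  · obtain ⟨K, _, _, a, hK, ha⟩ := sol_four
    have f : K ≃+* E := FiniteField.ringEquivOfCardEq (by rw [hK, ← Nat.card_eq_fintype_card, h])
    exact ⟨f a, ha.map f⟩
  · obtain ⟨K, _, _, a, hK, ha⟩ := sol_nine
    have f : K ≃+* E := FiniteField.ringEquivOfCardEq (by rw [hK, ← Nat.card_eq_fintype_card, h])
    exact ⟨f a, ha.map f⟩

theorem five_ne [Finite E] (hE : Nat.card E = 4 ∨ Nat.card E = 9) : (5 : E) ≠ 0 := by
  intro h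
  have := Fintype.ofFinite E
  have h1 : (Nat.card E : E) = 0 := by
    rw [Nat.card_eq_fintype_card]
    exact Nat.cast_card_eq_zero E
  rcases hE with h2 | h2 <;> rw [h2] at h1
  · push_cast at h1
    apply one_ne_zero (α := E)
    linear_combination h - h1
  · push_cast at h1
    apply one_ne_zero (α := E)
    linear_combination 2 * h - h1

end Cfsg.Agent.H170.PW
end

-- part: H170/PW/MinusFour
section
/-!
# `Ω₄⁻(2)`, `Ω₄⁻(3)`: products of two elements of order five (helper170; S2465)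

`minus_four` : `V` of dimension four over a field with two or three elements, a frame of length one with anisotropic
complement, `g ∈ O Q` with corner `1` and Schur complement `1`: `g = x * y`, `x ^ 5 = y ^ 5 = 1`, `x ≠ 1`, `y ≠ 1`.
-/

set_option autoImplicit false

namespace Cfsg.Agent.H170.PW

open QuadraticMap Module
open scoped MatrixGroups
open Cfsg.Agent.LieClassical.OrthCore Cfsg.Agent.LieClassical.OrthTrans Cfsg.Agent.H170.RC

variable {F V : Type*} [Field F] [AddCommGroup V] [Module F V] {Q : QuadraticForm F V}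

/-- decomposition along a hyperbolic pair -/
theorem exists_dec {x y : V} (hxy : Hyp Q x y) (z : V) : ∃ v, z = polar Q y z • x + polar Q x z • y + v ∧
    polar Q x v = 0 ∧ polar Q y v = 0 := by
  refine ⟨Cfsg.Agent.LieClassical.OrthTrans.proj Q x y z, ?_, polar_proj_left hxy z, polar_proj_right hxy z⟩
  rw [Cfsg.Agent.LieClassical.OrthTrans.proj]
  abel

/-- minus type from an anisotropic complement -/
theorem minus4_of (hQ : Nondeg Q) (h4 : finrank F V = 4) {x y : V} (hxy : Hyp Q x y)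
    (han : ∀ v, polar Q x v = 0 → polar Q y v = 0 → Q v = 0 → v = 0) : Minus4 Q := by
  have keyx : ∀ z, Q z = 0 → polar Q x z = 0 → z = polar Q y z • x := by
    intro z hz hxz
    obtain ⟨v, hv, hxv, hyv⟩ := exists_dec hxy z
    rw [hxz, zero_smul, add_zero] at hv
    generalize polar Q y z = b at hv ⊢
    have h1 : Q v = 0 := by
      rw [hv, Q_add, QuadraticMap.map_smul, hxy.left, polar_smul_left, hxv] at hz
      simpa using hz
    rw [han v hxv hyv h1, add_zero] at hv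
    exact hv
  have keyy : ∀ z, Q z = 0 → polar Q y z = 0 → z = polar Q x z • y := by
    intro z hz hyz
    obtain ⟨v, hv, hxv, hyv⟩ := exists_dec hxy z
    rw [hyz, zero_smul, zero_add] at hv
    generalize polar Q x z = b at hv ⊢
    have h1 : Q v = 0 := by
      rw [hv, Q_add, QuadraticMap.map_smul, hxy.right, polar_smul_left, hyv] at hz
      simpa using hz
    rw [han v hxv hyv h1, add_zero] at hv
    exact hv
  refine ⟨hQ, h4, ⟨x, hxy.left_ne, hxy.left⟩, ?_⟩
  intro u v hu hv huv hu0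
  have hsing : ∀ a b : F, Q (a • u - b • v) = 0 := by
    intro a b
    rw [sub_eq_add_neg, Q_add, QuadraticMap.map_neg, QuadraticMap.map_smul, QuadraticMap.map_smul, hu, hv,
      polar_neg_right, polar_smul_left, polar_smul_right, huv]
    simp
  -- the case of two vectors orthogonal to `x` or `y`
  have fin : ∀ z : V, (∀ t, Q t = 0 → polar Q z t = 0 → ∃ a : F, t = a • z) →
      polar Q z v • u - polar Q z u • v = 0 → ∃ a : F, v = a • u := by
    intro z hz h0
    by_cases h1 : polar Q z u = 0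
    · have h2 : polar Q z v = 0 := by
        rw [h1, zero_smul, sub_zero] at h0
        exact (smul_eq_zero.1 h0).resolve_right hu0
      obtain ⟨a, ha⟩ := hz u hu h1
      obtain ⟨b, hb⟩ := hz v hv h2
      have ha0 : a ≠ 0 := by
        rintro rfl
        exact hu0 (by rw [ha, zero_smul])
      exact ⟨b / a, by rw [hb, ha, smul_smul, div_mul_cancel₀ _ ha0]⟩
    · exact ⟨(polar Q z u)⁻¹ * polar Q z v, by
        rw [mul_smul, sub_eq_zero.1 h0, smul_smul, inv_mul_cancel₀ h1, one_smul]⟩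
  have h1 := keyx (polar Q x v • u - polar Q x u • v) (hsing _ _) (by
    rw [polar_sub_right, polar_smul_right, polar_smul_right, smul_eq_mul, smul_eq_mul]; ring)
  have h2 := keyy (polar Q y v • u - polar Q y u • v) (hsing _ _) (by
    rw [polar_sub_right, polar_smul_right, polar_smul_right, smul_eq_mul, smul_eq_mul]; ring)
  generalize hα : polar Q y (polar Q x v • u - polar Q x u • v) = α at h1
  generalize hβ : polar Q x (polar Q y v • u - polar Q y u • v) = β at h2
  have h3 : polar Q (polar Q x v • u - polar Q x u • v) (polar Q y v • u - polar Q y u • v) = 0 := by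
    have h4 := hsing (polar Q x v + polar Q y v) (polar Q x u + polar Q y u)
    have h5 : (polar Q x v + polar Q y v) • u - (polar Q x u + polar Q y u) • v =
        (polar Q x v • u - polar Q x u • v) + (polar Q y v • u - polar Q y u • v) := by module
    rw [h5, Q_add, hsing, hsing, zero_add, zero_add] at h4
    exact h4
  have h4 : α * β = 0 := by
    have h5 := h3
    rw [h1, h2, polar_smul_left, polar_smul_right, hxy.pair] at h5
    simpa using h5
  rcases mul_eq_zero.1 h4 with h5 | h5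
  · rw [h5, zero_smul] at h1
    exact fin x (fun t ht hxt => ⟨_, keyx t ht hxt⟩) h1
  · rw [h5, zero_smul] at h2
    exact fin y (fun t ht hyt => ⟨_, keyy t ht hyt⟩) h2

/-- elements with corner `1` and Schur complement `1` -/
theorem eq_siegel {x y : V} (hxy : Hyp Q x y) {g : V ≃ₗ[F] V} (hg : g ∈ O Q) (hc : polar Q y (g x) = 1)
    (hs : ∀ v, polar Q x v = 0 → polar Q y v = 0 → ∃ c d : F, g (v + c • x) = v + d • y) :
    ∃ (r s : V) (hr : polar Q y r = 0) (hs : polar Q x s = 0), polar Q x r = 0 ∧ polar Q y s = 0 ∧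
      g = siegel Q y r hxy.right hr * siegel Q x s hxy.left hs := by
  obtain ⟨r, hr, hxr, hyr⟩ := exists_dec hxy (g x)
  rw [hc, one_smul] at hr
  obtain ⟨μ, hμ⟩ : ∃ μ, μ = polar Q x (g x) := ⟨_, rfl⟩
  rw [← hμ] at hr
  have hQr : μ = - Q r := by
    have h1 : Q (g x) = 0 := by rw [mem_O.1 hg, hxy.left]
    rw [hr, Q_add, Q_add, polar_add_left, polar_smul_left, polar_smul_right, hxy.pair, hxr, hyr, hxy.left,
      QuadraticMap.map_smul, hxy.right] at h1
    simp only [_root_.smul_eq_mul, _root_.MulZeroClass.mul_zero, _root_.add_zero, _root_.mul_one, _root_.zero_add] at h1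
    linear_combination h1
  have h1 : siegel Q y r hxy.right hyr x = g x := by
    rw [siegel_apply, hxy.pair', polar_comm _ r x, hxr, hr, hQr]
    module
  obtain ⟨g1, hg1⟩ : ∃ g1, g1 = (siegel Q y r hxy.right hyr)⁻¹ * g := ⟨_, rfl⟩
  have hgg : g = siegel Q y r hxy.right hyr * g1 := by rw [hg1, mul_inv_cancel_left]
  have hg1O : g1 ∈ O Q := by
    rw [hg1]
    exact (O Q).mul_mem ((O Q).inv_mem (siegel_mem_O _ _)) hg
  have hg1x : g1 x = x := by
    apply (siegel Q y r hxy.right hyr).injective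
    rw [← LinearEquiv.mul_apply, ← hgg, h1]
  have hperp : ∀ v, polar Q x v = 0 → polar Q y v = 0 → ∃ c : F, g1 v = v - c • x := by
    intro v hxv hyv
    obtain ⟨c, d, hcd⟩ := hs v hxv hyv
    have h2 : g1 (v + c • x) = v + (d + polar Q r v) • y := by
      apply (siegel Q y r hxy.right hyr).injective
      rw [← LinearEquiv.mul_apply, ← hgg, hcd, siegel_apply, polar_add_right, polar_add_right, polar_smul_right,
        polar_smul_right, hyv, hxy.polar_right, polar_comm _ r y, hyr]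
      module
    have h3 : polar Q x (g1 (v + c • x)) = 0 := by
      have h4 := polar_map hg1O x (v + c • x)
      rw [hg1x] at h4
      rw [h4, polar_add_right, polar_smul_right, hxv, hxy.polar_left]
      simp
    have h4 : d + polar Q r v = 0 := by
      rw [h2, polar_add_right, polar_smul_right, hxv, hxy.pair] at h3
      simpa only [_root_.smul_eq_mul, _root_.mul_one, _root_.zero_add] using h3
    rw [h4, zero_smul, add_zero, map_add, map_smul, hg1x] at h2
    exact ⟨c, eq_sub_of_add_eq h2⟩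
  obtain ⟨s, hs1, hxs, hys⟩ := exists_dec hxy (g1 y)
  have hx1 : polar Q x (g1 y) = 1 := by
    have h4 := polar_map hg1O x y
    rw [hg1x, hxy.pair] at h4
    exact h4
  rw [hx1, one_smul] at hs1
  obtain ⟨ν, hν⟩ : ∃ ν, ν = polar Q y (g1 y) := ⟨_, rfl⟩
  rw [← hν] at hs1
  have hQs : ν = - Q s := by
    have h1 : Q (g1 y) = 0 := by rw [mem_O.1 hg1O, hxy.right]
    rw [hs1, Q_add, Q_add, polar_add_left, polar_smul_left, polar_smul_left, hxy.pair, hxs, hys, hxy.right,
      QuadraticMap.map_smul, hxy.left] at h1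
    simp only [_root_.smul_eq_mul, _root_.MulZeroClass.mul_zero, _root_.add_zero, _root_.mul_one, _root_.zero_add] at h1
    linear_combination h1
  refine ⟨r, s, hyr, hxs, hxr, hys, ?_⟩
  rw [hgg]
  congr 1
  ext z
  obtain ⟨v, hv, hxv, hyv⟩ := exists_dec hxy z
  obtain ⟨c, hc⟩ := hperp v hxv hyv
  have hcs : c = polar Q s v := by
    have h4 := polar_map hg1O v y
    rw [hc, hs1, polar_comm _ v y, hyv, polar_sub_left, polar_add_right, polar_add_right, polar_add_right,
      polar_add_right, polar_smul_right, polar_smul_right, polar_smul_left, polar_smul_left, polar_smul_left,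
      hxy.polar_left, hxy.pair, hxs, polar_comm _ v x, hxv, polar_comm _ v y, hyv, polar_comm _ v s] at h4
    simp at h4
    linear_combination -h4
  have hsz : polar Q s z = polar Q s v := by
    rw [hv, polar_add_right, polar_add_right, polar_smul_right, polar_smul_right, polar_comm _ s x, hxs,
      polar_comm _ s y, hys]
    simp
  rw [siegel_apply, hsz]
  generalize polar Q x z = b at hv ⊢
  generalize polar Q y z = a at hv
  rw [hv, map_add, map_add, map_smul, map_smul, hg1x, hs1, hc, hcs, hQs]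
  module

open Cfsg.Agent.LieClassical in
/-- the model with a prescribed hyperbolic pair -/
theorem exists_model_hyp (h : Minus4 Q) {x y : V} (hxy : Hyp Q x y) :
    ∃ (c d k : F) (e : OrthFourMinus.V F c d ≃ₗ[F] V), k ≠ 0 ∧
    (∀ r : F, r ^ 2 ≠ c + d * r) ∧ (∀ v, Q (e v) = k * OrthFourMinus.Q c d v) ∧ e (1, 0, 0) = x ∧
      e (0, 1, 0) = k • y := by
  have hfin := h.fin
  obtain ⟨r, s, hxr, hyr, hxs, hys, hrs⟩ := h.exists_rs hxy
  have hyx : polar Q y x = 1 := hxy.pair'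
  obtain ⟨k, hk⟩ : ∃ k, k = Q r := ⟨_, rfl⟩
  have hr0 : r ≠ 0 := by
    intro h0
    have := (hrs 1 0 (by rw [h0]; simp)).1
    exact one_ne_zero this
  have hk0 : k ≠ 0 := by
    intro h0
    exact hr0 (h.aniso hxy hxr hyr (by rw [← hk, h0]))
  obtain ⟨d, hd⟩ : ∃ d, polar Q r s = k * d := ⟨polar Q r s / k, by field_simp⟩
  obtain ⟨c, hc⟩ : ∃ c, Q s = - (k * c) := ⟨-Q s / k, by field_simp⟩
  let e : OrthFourMinus.V F c d →ₗ[F] V :=
    { toFun := fun v => v.1 • x + (k * v.2.1) • y + (v.2.2.re • r + v.2.2.im • s)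
      map_add' := fun v w => by
        simp only [Prod.fst_add, Prod.snd_add, QuadraticAlgebra.re_add, QuadraticAlgebra.im_add]
        module
      map_smul' := fun a v => by
        simp only [Prod.smul_fst, Prod.smul_snd, QuadraticAlgebra.re_smul, QuadraticAlgebra.im_smul, smul_eq_mul,
          RingHom.id_apply]
        module }
  have he : ∀ v, e v = v.1 • x + (k * v.2.1) • y + (v.2.2.re • r + v.2.2.im • s) := fun v => rfl
  have hinj : Function.Injective e := by
    rw [← LinearMap.ker_eq_bot, LinearMap.ker_eq_bot']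
    intro v hv
    rw [he] at hv
    have h1 : v.1 = 0 := by
      have := congrArg (polar Q y) hv
      simp only [polar_add_right, polar_smul_right, hyx, hxy.polar_right, hyr, hys, smul_eq_mul, mul_one, mul_zero,
        add_zero, polar_zero_right] at this
      exact this
    have h2 : v.2.1 = 0 := by
      have := congrArg (polar Q x) hv
      simp only [polar_add_right, polar_smul_right, hxy.pair, hxy.polar_left, hxr, hxs, smul_eq_mul, mul_one, mul_zero,
        add_zero, zero_add, polar_zero_right] at this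
      exact (mul_eq_zero.1 this).resolve_left hk0
    rw [h1, h2, mul_zero, zero_smul, zero_smul, zero_add, zero_add] at hv
    obtain ⟨h3, h4⟩ := hrs _ _ hv
    refine Prod.ext h1 (Prod.ext h2 ?_)
    exact QuadraticAlgebra.ext h3 h4
  have hfr : finrank F (OrthFourMinus.V F c d) = finrank F V := by
    rw [h.dim, finrank_prod, finrank_prod, finrank_self, QuadraticAlgebra.finrank_eq_two]
  have hfd : FiniteDimensional F (OrthFourMinus.V F c d) :=
    FiniteDimensional.of_finrank_pos (by rw [hfr, h.dim]; norm_num)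
  have hQe : ∀ v, Q (e v) = k * OrthFourMinus.Q c d v := by
    intro v
    rw [he, Q_add, Q_add, Q_add]
    simp only [QuadraticMap.map_smul, polar_add_left, polar_add_right, polar_smul_left, polar_smul_right, hxy.left,
      hxy.right, hxy.pair, hxr, hxs, hyr, hys, smul_eq_mul]
    rw [hd, hc, ← hk, OrthFourMinus.Q, QuadraticAlgebra.norm_def]
    ring
  refine ⟨c, d, k, LinearMap.linearEquivOfInjective e hinj hfr, hk0, ?_, hQe, ?_, ?_⟩
  swap
  · show e (1, 0, 0) = x
    rw [he]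
    simp
  swap
  · show e (0, 1, 0) = k • y
    rw [he]
    simp
  intro t ht
  have h1 : Q (t • r + (-1 : F) • s) = 0 := by
    rw [Q_add, QuadraticMap.map_smul, QuadraticMap.map_smul, polar_smul_left, polar_smul_right, ← hk, hd, hc]
    simp only [smul_eq_mul]
    linear_combination k * ht
  have h2 := h.aniso hxy (z := t • r + (-1 : F) • s) (by
    rw [polar_add_right, polar_smul_right, polar_smul_right, hxr, hxs]; simp) (by
    rw [polar_add_right, polar_smul_right, polar_smul_right, hyr, hys]; simp) h1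
  have h3 := (hrs _ _ h2).2
  exact one_ne_zero (neg_eq_zero.1 h3)

/-- **Products of two elements of order five.** -/
theorem four_siegel [Finite F] (hF : Nat.card F = 2 ∨ Nat.card F = 3) (h : Minus4 Q) {x y r s : V} (hxy : Hyp Q x y)
    (hyr : polar Q y r = 0) (hxs : polar Q x s = 0) (hxr : polar Q x r = 0) (hys : polar Q y s = 0) :
    ∃ X Y : V ≃ₗ[F] V, X ∈ E Q ∧ Y ∈ E Q ∧ siegel Q y r hxy.right hyr * siegel Q x s hxy.left hxs = X * Y ∧
      X ^ 5 = 1 ∧ Y ^ 5 = 1 ∧ X ≠ 1 ∧ Y ≠ 1 := by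
  obtain ⟨c, d, k, e, hk, hab, he, hex, hey⟩ := exists_model_hyp h hxy
  have : Fact (∀ r : F, r ^ 2 ≠ c + d * r) := ⟨hab⟩
  have hfinE : Finite (Cfsg.Agent.LieClassical.OrthFourMinus.E F c d) :=
    Finite.of_equiv _ (QuadraticAlgebra.equivProd c d).symm
  have hcard : Nat.card (Cfsg.Agent.LieClassical.OrthFourMinus.E F c d) = 4 ∨
      Nat.card (Cfsg.Agent.LieClassical.OrthFourMinus.E F c d) = 9 := by
    rw [Nat.card_congr (QuadraticAlgebra.equivProd c d), Nat.card_prod]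
    rcases hF with h | h <;> rw [h] <;> norm_num
  obtain ⟨a, ha⟩ := exists_sol hcard
  obtain ⟨⟨r1, r2, ρ⟩, hr⟩ := e.surjective r
  obtain ⟨⟨s1, s2, σ⟩, hs⟩ := e.surjective s
  have hr2 : r2 = 0 := by
    have h1 := polar_e10 he (r1, r2, ρ)
    rw [hex, hr, hxr] at h1
    exact (mul_eq_zero.1 h1.symm).resolve_left hk
  have hr1 : r1 = 0 := by
    have h1 := polar_e01 he (r1, r2, ρ)
    rw [hey, hr, polar_smul_left, hyr, smul_zero] at h1
    exact (mul_eq_zero.1 h1.symm).resolve_left hk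
  have hs2 : s2 = 0 := by
    have h1 := polar_e10 he (s1, s2, σ)
    rw [hex, hs, hxs] at h1
    exact (mul_eq_zero.1 h1.symm).resolve_left hk
  have hs1 : s1 = 0 := by
    have h1 := polar_e01 he (s1, s2, σ)
    rw [hey, hs, polar_smul_left, hys, smul_zero] at h1
    exact (mul_eq_zero.1 h1.symm).resolve_left hk
  subst hr1 hr2 hs1 hs2
  obtain ⟨X, Y, hXY, hX, hY, hXn, hYn⟩ := sl_five ha (five_ne hcard) (star ρ) (-(k • σ))
  have hE := range_le he hk hab
  have hne : ∀ Z : SL(2, Cfsg.Agent.LieClassical.OrthFourMinus.E F c d),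
      (∀ c' : Cfsg.Agent.LieClassical.OrthFourMinus.E F c d, Z.1 ≠ c' • 1) → Ph e Z ≠ 1 := by
    intro Z hZ h1
    have h2 : Cfsg.Agent.LieClassical.OrthFourMinus.phi Z = 1 := by
      apply Subtype.ext
      apply (th e).injective
      rw [OneMemClass.coe_one, map_one]
      exact h1
    have h3 := Cfsg.Agent.LieClassical.OrthFourMinus.mem_center_of_phi_eq_one h2
    rw [Matrix.SpecialLinearGroup.mem_center_iff] at h3
    obtain ⟨t, -, ht⟩ := h3
    apply hZ t
    rw [← ht, Matrix.smul_one_eq_diagonal]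
    rfl
  refine ⟨Ph e X, Ph e Y, hE ⟨X, rfl⟩, hE ⟨Y, rfl⟩, ?_, by rw [← map_pow, hX, map_one], by rw [← map_pow, hY, map_one],
    hne X hXn, hne Y hYn⟩
  rw [← map_mul, ← hXY, map_mul]
  congr 1
  · have hw : polar Q (e (0, 1, 0)) (k⁻¹ • e (0, 0, star (star ρ))) = 0 := by
      rw [polar_smul_right, polar_e01 he]; simp
    rw [Ph_lo he hk _ (Q_e01 he) hw]
    ext v
    rw [siegel_apply, siegel_apply, hey, star_star, hr, polar_smul_left, polar_smul_left, QuadraticMap.map_smul]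
    simp only [smul_eq_mul, smul_smul]
    have e1 : k * polar Q y v * k⁻¹ = polar Q y v := by field_simp
    have e2 : k⁻¹ * polar Q r v * k = polar Q r v := by field_simp
    have e3 : k⁻¹ * k⁻¹ * Q r * (k * polar Q y v) * k = Q r * polar Q y v := by field_simp
    rw [e1, e2, e3]
  · have hw : polar Q (e (1, 0, 0)) (k⁻¹ • e (0, 0, -(-(k • σ)))) = 0 := by
      rw [polar_smul_right, polar_e10 he]; simp
    rw [Ph_up he hk _ (Q_e10 he) hw]
    apply siegel_cg
    · exact hex.symm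
    · rw [← hs, ← map_smul]
      congr 1
      refine Prod.ext ?_ (Prod.ext ?_ ?_)
      · simp
      · simp
      · simp [smul_smul, inv_mul_cancel₀ hk]

open Cfsg.Agent.H140.OreO in
/-- **The piece of S2465.** -/
theorem minus_four [Finite F] (hF : Nat.card F = 2 ∨ Nat.card F = 3) (hQ : Nondeg Q) (h4 : finrank F V = 4)
    {w w' : Fin 1 → V} (hf : Frame Q w w') (han : ∀ v ∈ perp Q w w', Q v = 0 → v = 0) {g : V ≃ₗ[F] V} (hg : g ∈ O Q)
    (hc : corner Q g w w' = 1) (hs : SchurOne Q g w w') :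
    ∃ X Y : V ≃ₗ[F] V, X ∈ E Q ∧ Y ∈ E Q ∧ g = X * Y ∧ X ^ 5 = 1 ∧ Y ^ 5 = 1 ∧ X ≠ 1 ∧ Y ≠ 1 := by
  have hxy : Hyp Q (w 0) (w' 0) := ⟨hf.sl 0, hf.sr 0, by rw [hf.lr]; simp⟩
  have hperp : ∀ v, polar Q (w 0) v = 0 → polar Q (w' 0) v = 0 → v ∈ perp Q w w' := by
    intro v h1 h2 i
    rw [Subsingleton.elim i 0]
    exact ⟨h1, h2⟩
  have h := minus4_of hQ h4 hxy (fun v h1 h2 h3 => han v (hperp v h1 h2) h3)
  have hc' : polar Q (w' 0) (g (w 0)) = 1 := by
    have h1 := congrFun (congrFun hc 0) 0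
    rw [corner_apply, Matrix.one_apply_eq] at h1
    rw [polar_comm, h1]
  obtain ⟨r, s, hyr, hxs, hxr, hys, hgrs⟩ := eq_siegel hxy hg hc' (by
    intro v h1 h2
    obtain ⟨c, d, hcd⟩ := hs v (hperp v h1 h2)
    refine ⟨c 0, d 0, ?_⟩
    rw [Fin.sum_univ_one, Fin.sum_univ_one] at hcd
    exact hcd)
  rw [hgrs]
  exact four_siegel hF h hxy hyr hxs hxr hys

end Cfsg.Agent.H170.PW
end

-- part: H649/PwO/MinusTT
section
/-!
# S2465, orthogonal groups of minus type over fields of order `2` and `3`: the frame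
-/

set_option autoImplicit false
set_option linter.unusedSectionVars false

namespace Cfsg.Agent.H649.PwO

open QuadraticMap Matrix Cfsg.Agent.LieClassical.OrthCore Cfsg.Agent.LieClassical.OrthTrans
  Cfsg.Agent.LieClassical.OrthFinite Cfsg.Agent.H140.OreO Cfsg.Agent.H126.PwO Module

variable {F V : Type*} [Field F] [AddCommGroup V] [Module F V] {k : ℕ} {Q : QuadraticForm F V}

/-- **A frame of length `m - 1` whose Schur complement is a product of two elements of order five.** -/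
theorem minus_frame [Finite F] [FiniteDimensional F V] (hF : Nat.card F = 2 ∨ Nat.card F = 3) (hQ : Nondeg Q)
    (hk : 1 ≤ k) (hV : finrank F V = 2 * (k + 1) + 2) {w w' : Fin (k + 1) → V} (hf : Frame Q w w')
    (han : ∀ v ∈ perp Q w w', Q v = 0 → v = 0)
    {g : V ≃ₗ[F] V} (hg : g ∈ O Q) (hS : SchurOne Q g w w') (hdet : (corner Q g w w').det = 1)
    (hA : corner Q g w w' = 1 ∨ ∀ c : F, corner Q g w w' ≠ c • (1 : Matrix (Fin (k + 1)) (Fin (k + 1)) F)) :
    ∃ (u u' : Fin k → V) (hu : Frame Q u u'), (corner Q g u u').det = 1 ∧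
      (corner Q g u u' = 1 ∨ ∀ c : F, corner Q g u u' ≠ c • (1 : Matrix (Fin k) (Fin k) F)) ∧
      ∀ g₁ ∈ O (res Q u u'), IsSchur hu g g₁ → ∃ x ∈ O (res Q u u'), ∃ y ∈ O (res Q u u'),
        g₁ = x * y ∧ Fv x ∧ Fv y := by
  obtain ⟨u, u', hu, h1, h2, h3⟩ := shrink hk hf hg hS hdet hA
  refine ⟨u, u', hu, h1, h2, fun g₁ hg₁ hsch => ?_⟩
  obtain ⟨e, e', h4, h5, h6, h7⟩ := h3 g₁ hg₁ hsch
  have h8 : finrank F (perp Q u u') = 4 := by
    have := hu.finrank_perp
    omega
  obtain ⟨X, Y, hX, hY, hXY, hX5, hY5, hX1, hY1⟩ := H170.PW.minus_four hF (hu.nondeg_res hQ) h8 h4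
    (fun v hv hv0 => Subtype.ext (han v (h7 v hv) hv0)) hg₁ h5 h6
  exact ⟨X, E_le_O hX, Y, E_le_O hY, hXY, fv_of_pow hF h8 hX5 hX1, fv_of_pow hF h8 hY5 hY1⟩

end Cfsg.Agent.H649.PwO
end

-- part: H937/PwO/Plane
section
/-!
# S2465, orthogonal groups: rotations of an anisotropic plane (helper937)

* `aniso_model` : an anisotropic plane is a multiple of the norm form of a quadratic extension;
* `exists_prime` : a prime `l` dividing `q + 1` but not `q - 1`: an isometry `x` with `x ^ l = 1` such that `x - 1` is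
  invertible, given as the multiplication by an element of the field;
* `exists_fv` : `q = 4, 9` (or `5 ∣ q + 1`): an isometry `x` with `Fv x`.
-/

set_option autoImplicit false
set_option linter.unusedSectionVars false

namespace Cfsg.Agent.H937.PwO

open QuadraticMap Module Cfsg.Agent.LieClassical.OrthCore Cfsg.Agent.LieClassical.OrthTrans
  Cfsg.Agent.LieClassical.OrthFinite Cfsg.Agent.H140.OreO Cfsg.Agent.H126.PwO

universe u v

variable {F : Type u} {P : Type v} [Field F] [AddCommGroup P] [Module F P] {Q : QuadraticForm F P}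

/-- **An anisotropic plane is a multiple of a norm form.** -/
theorem aniso_model (h2 : finrank F P = 2) (han : ∀ v, Q v = 0 → v = 0) :
    ∃ (c d k : F) (e : QuadraticAlgebra F c d ≃ₗ[F] P), k ≠ 0 ∧ (∀ r : F, r ^ 2 ≠ c + d * r) ∧
      ∀ z, Q (e z) = k * QuadraticAlgebra.norm z := by
  have hfin : FiniteDimensional F P := FiniteDimensional.of_finrank_pos (by rw [h2]; norm_num)
  obtain ⟨b⟩ : Nonempty (Basis (Fin 2) F P) := ⟨finBasisOfFinrankEq F P h2⟩
  have hlin : ∀ s t : F, s • b 0 + t • b 1 = 0 → s = 0 ∧ t = 0 := by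
    intro s t h
    have h1 := Fintype.linearIndependent_iff.1 b.linearIndependent ![s, t] (by
      rw [Fin.sum_univ_two]; exact h)
    exact ⟨h1 0, h1 1⟩
  obtain ⟨k, hk⟩ : ∃ k, k = Q (b 0) := ⟨_, rfl⟩
  have hk0 : k ≠ 0 := by
    intro h0
    exact b.ne_zero 0 (han _ (by rw [← hk, h0]))
  obtain ⟨d, hd⟩ : ∃ d, polar Q (b 0) (b 1) = k * d := ⟨polar Q (b 0) (b 1) / k, by field_simp⟩
  obtain ⟨c, hc⟩ : ∃ c, Q (b 1) = - (k * c) := ⟨-Q (b 1) / k, by field_simp⟩
  let e : QuadraticAlgebra F c d →ₗ[F] P :=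
    { toFun := fun z => z.re • b 0 + z.im • b 1
      map_add' := fun v w => by
        simp only [QuadraticAlgebra.re_add, QuadraticAlgebra.im_add]
        module
      map_smul' := fun a v => by
        simp only [QuadraticAlgebra.re_smul, QuadraticAlgebra.im_smul, smul_eq_mul, RingHom.id_apply]
        module }
  have he : ∀ z, e z = z.re • b 0 + z.im • b 1 := fun z => rfl
  have hinj : Function.Injective e := by
    rw [← LinearMap.ker_eq_bot, LinearMap.ker_eq_bot']
    intro z hz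
    rw [he] at hz
    obtain ⟨h3, h4⟩ := hlin _ _ hz
    exact QuadraticAlgebra.ext h3 h4
  have hfr : finrank F (QuadraticAlgebra F c d) = finrank F P := by
    rw [h2, QuadraticAlgebra.finrank_eq_two]
  have hQe : ∀ z, Q (e z) = k * QuadraticAlgebra.norm z := by
    intro z
    rw [he, Q_add]
    simp only [QuadraticMap.map_smul, polar_smul_left, polar_smul_right, smul_eq_mul]
    rw [hd, hc, ← hk, QuadraticAlgebra.norm_def]
    ring
  refine ⟨c, d, k, LinearMap.linearEquivOfInjective e hinj hfr, hk0, ?_, hQe⟩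
  intro t ht
  have h1 : Q (t • b 0 + (-1 : F) • b 1) = 0 := by
    rw [Q_add, QuadraticMap.map_smul, QuadraticMap.map_smul, polar_smul_left, polar_smul_right, ← hk, hd, hc]
    simp only [smul_eq_mul]
    linear_combination k * ht
  have h3 := (hlin _ _ (han _ h1)).2
  exact one_ne_zero (neg_eq_zero.1 h3)

/-- **Rotations of prime order of an anisotropic plane.** -/
theorem exists_rot [Finite F] (h2 : finrank F P = 2) (han : ∀ v, Q v = 0 → v = 0) {l : ℕ} (hl : l.Prime)
    (hl1 : l ∣ Nat.card F ^ 2 - 1) (hl2 : ¬ l ∣ Nat.card F - 1) :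
    ∃ x ∈ O Q, ∃ (K : Type u) (_ : Field K) (_ : Algebra F K) (e : K ≃ₗ[F] P) (ζ : K), ζ ^ l = 1 ∧ ζ ≠ 1 ∧
      ∀ z, x (e z) = e (ζ * z) := by
  obtain ⟨c, d, k, e, hk, hcd, hQ⟩ := aniso_model h2 han
  have : Fact (∀ r : F, r ^ 2 ≠ c + d * r) := ⟨hcd⟩
  have : Fact l.Prime := ⟨hl⟩
  have : Finite (QuadraticAlgebra F c d) := Finite.of_equiv _ (QuadraticAlgebra.equivProd c d).symm
  have hcard : Nat.card (QuadraticAlgebra F c d)ˣ = Nat.card F ^ 2 - 1 := by
    rw [Nat.card_units, Nat.card_congr (QuadraticAlgebra.equivProd c d), Nat.card_prod, pow_two]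
  obtain ⟨u, hu⟩ := exists_prime_orderOf_dvd_card' (G := (QuadraticAlgebra F c d)ˣ) l (by rw [hcard]; exact hl1)
  obtain ⟨ζ, hζ⟩ : ∃ ζ : QuadraticAlgebra F c d, ζ = u := ⟨_, rfl⟩
  have hζl : ζ ^ l = 1 := by
    rw [hζ, ← Units.val_pow_eq_pow_val, ← hu, pow_orderOf_eq_one, Units.val_one]
  have hζ1 : ζ ≠ 1 := by
    intro h
    have h1 : u = 1 := Units.ext (by rw [← hζ, h, Units.val_one])
    rw [h1, orderOf_one] at hu
    exact hl.one_lt.ne hu
  have hζ0 : ζ ≠ 0 := by rw [hζ]; exact u.ne_zero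
  have hN : QuadraticAlgebra.norm ζ = 1 := by
    have h1 : QuadraticAlgebra.norm ζ ^ l = 1 := by rw [← map_pow, hζl, map_one]
    have hn0 : QuadraticAlgebra.norm ζ ≠ 0 := by
      intro h
      rw [h, zero_pow hl.ne_zero] at h1
      exact zero_ne_one h1
    have h3 : QuadraticAlgebra.norm ζ ^ (Nat.card F - 1) = 1 := by
      let _ := Fintype.ofFinite F
      rw [Nat.card_eq_fintype_card]
      exact FiniteField.pow_card_sub_one_eq_one _ hn0
    have h4 : Nat.Coprime l (Nat.card F - 1) := (Nat.Prime.coprime_iff_not_dvd hl).2 hl2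
    have h5 := (orderOf_dvd_of_pow_eq_one h1)
    have h6 := (orderOf_dvd_of_pow_eq_one h3)
    have h7 : orderOf (QuadraticAlgebra.norm ζ) ∣ 1 := by
      rw [← h4]; exact Nat.dvd_gcd h5 h6
    exact orderOf_eq_one_iff.1 (Nat.dvd_one.1 h7)
  let x : P ≃ₗ[F] P := e.symm.trans ((LinearEquiv.smulOfNeZero (QuadraticAlgebra F c d)
    (QuadraticAlgebra F c d) ζ hζ0).restrictScalars F |>.trans e)
  have hx : ∀ z, x (e z) = e (ζ * z) := by
    intro z
    change e (ζ • e.symm (e z)) = _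
    rw [LinearEquiv.symm_apply_apply, smul_eq_mul]
  refine ⟨x, ?_, QuadraticAlgebra F c d, inferInstance, inferInstance, e, ζ, hζl, hζ1, hx⟩
  intro v
  obtain ⟨z, rfl⟩ := e.surjective v
  show Q (x (e z)) = Q (e z)
  rw [hx, hQ, hQ, map_mul, hN, one_mul]

/-- **A rotation of order five.** -/
theorem exists_fv [Finite F] (h2 : finrank F P = 2) (han : ∀ v, Q v = 0 → v = 0)
    (hl1 : 5 ∣ Nat.card F ^ 2 - 1) (hl2 : ¬ 5 ∣ Nat.card F - 1) : ∃ x ∈ O Q, Fv x := by
  obtain ⟨x, hx, K, _, _, e, ζ, hζ, hζ1, he⟩ := exists_rot h2 han (l := 5) (by norm_num) hl1 hl2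
  refine ⟨x, hx, ?_⟩
  have h0 : ζ ^ 4 + ζ ^ 3 + ζ ^ 2 + ζ + 1 = 0 := by
    have h3 : (ζ - 1) * (ζ ^ 4 + ζ ^ 3 + ζ ^ 2 + ζ + 1) = 0 := by linear_combination hζ
    exact (mul_eq_zero.1 h3).resolve_left (sub_ne_zero.2 hζ1)
  intro v
  obtain ⟨z, rfl⟩ := e.surjective v
  rw [he, he, he, he, ← map_add, ← map_add, ← map_add, ← map_add, ← map_zero e]
  congr 1
  linear_combination z * h0

end Cfsg.Agent.H937.PwO
end

-- part: H937/PwO/MinusFN
section
/-!
# S2465, orthogonal groups: `PΩ⁻` over the fields with four and nine elements, Witt index `≥ 4` (helper937)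

* `exists_poly` : polynomials of norm one of every degree `≥ 3`;
* `perp_aniso` : the orthogonal complement of a frame of maximal length;
* `prO_aniso` : corner of size `≥ 4`, anisotropic plane, `q = 4, 9`, `N = 6`;
* `all_minus_fn` : `All 6 (PΩ⁻)`.
-/

set_option autoImplicit false
set_option linter.unusedSectionVars false

namespace Cfsg.Agent.H937.PwO

open QuadraticMap Module Polynomial Cfsg.Agent.LieClassical.OrthCore Cfsg.Agent.LieClassical.OrthTrans
  Cfsg.Agent.LieClassical.OrthFinite Cfsg.Agent.LieClassical.OrthForms Cfsg.Agent.H140.OreO Cfsg.Agent.H126.PwO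
open Cfsg.Agent.H78.Pw (Pr All)
open Cfsg.Agent.H434.Corn (MaxTS TS)

/-- **Polynomials of norm one.** -/
theorem exists_poly (F : Type*) [Field F] [Finite F] (hF : Nat.card F = 4 ∨ Nat.card F = 9) {d : ℕ} (hd : 3 ≤ d) :
    ∃ (f : F[X]) (s : ℕ), _root_.Cfsg.Agent.H126.PwO.One d s f ∧ s.Coprime 6 := by
  rcases Nat.even_or_odd' d with ⟨e, rfl | rfl⟩
  · rcases Nat.lt_or_ge e 3 with h | h
    · have : e = 2 := by omega
      subst this
      exact exists_four F hF
    · exact exists_two' F h (by omega)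
  · exact exists_one F hd (odd_two_mul_add_one e)

section frame

variable {F V : Type*} [Field F] [AddCommGroup V] [Module F V] {Q : QuadraticForm F V}

/-- **The complement of a frame of maximal length is anisotropic.** -/
theorem perp_aniso [FiniteDimensional F V] {m : ℕ} {w w' : Fin m → V} (hf : Frame Q w w')
    (hm : ∀ W, MaxTS Q W → finrank F W = m) (v : perp Q w w') (hv : res Q w w' v = 0) : v = 0 := by
  have hts : TS Q (Submodule.span F (Set.range w)) := by
    intro x hx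
    obtain ⟨a, rfl⟩ := (Submodule.mem_span_range_iff_exists_fun F).1 hx
    exact hf.Q_sum_l a _
  have hli : LinearIndependent F w := by
    rw [Fintype.linearIndependent_iff]
    intro a ha i
    have h1 := hf.polar_sum_l a i
    rw [ha, polar_zero_left] at h1
    exact h1.symm
  obtain ⟨W, hW, hWm⟩ := Cfsg.Agent.H434.Corn.exists_maxTS hts
  have hd : finrank F (Submodule.span F (Set.range w)) = m := by
    rw [finrank_span_eq_card hli, Fintype.card_fin]
  have hWe : Submodule.span F (Set.range w) = W :=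
    Submodule.eq_of_le_of_finrank_eq hW (by rw [hd, hm W hWm])
  have hvW : (v : V) ∈ W := by
    refine hWm.max _ hv fun x hx => ?_
    rw [← hWe] at hx
    obtain ⟨a, rfl⟩ := (Submodule.mem_span_range_iff_exists_fun F).1 hx
    exact Frame.polar_perp_l a v.2
  rw [← hWe] at hvW
  obtain ⟨a, ha⟩ := (Submodule.mem_span_range_iff_exists_fun F).1 hvW
  apply Subtype.ext
  have h0 : a = 0 := by
    funext i
    have h1 := hf.polar_sum_l a i
    rw [ha, polar_comm] at h1
    rw [← h1]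
    exact (v.2 i).2
  rw [← ha, h0]
  simp only [_root_.Pi.zero_apply, _root_.zero_smul, _root_.Finset.sum_const_zero, _root_.ZeroMemClass.coe_zero]

/-- **Corner of size `≥ 4`, anisotropic plane, `q = 4, 9`.** -/
theorem prO_aniso [Finite F] [FiniteDimensional F V] (hF : Nat.card F = 4 ∨ Nat.card F = 9) {m : ℕ} (hm4 : 4 ≤ m)
    (hQ : Nondeg Q) (hV : finrank F V = 2 * m + 2) (hm : ∀ W, MaxTS Q W → finrank F W = m)
    {g : V ≃ₗ[F] V} (hg : g ∈ O Q) (hB : BaseCorner m Q g) : PrO 6 Q g := by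
  obtain ⟨w, w', hf, hS, hdet, hA⟩ := hB
  obtain ⟨k, rfl⟩ : ∃ k, m = k + 2 := ⟨m - 2, by omega⟩
  have hA' : corner Q g w w' = 1 ∨ ∀ c : F, corner Q g w w' ≠ c • (1 : Matrix (Fin (k + 2)) (Fin (k + 2)) F) :=
    hA.imp id And.left
  obtain ⟨p, s, hp, hs⟩ := exists_poly F hF (d := k + 2) (by omega)
  obtain ⟨f, t, hfo, ht⟩ := exists_poly F hF (d := k + 1) (by omega)
  have hd2 : finrank F (perp Q w w') = 2 := by
    have := hf.finrank_perp
    omega
  obtain ⟨x, hx, hxv⟩ := exists_fv hd2 (perp_aniso hf hm) (by rcases hF with h | h <;> rw [h] <;> norm_num)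
    (by rcases hF with h | h <;> rw [h] <;> norm_num)
  have h5 : (5 : F) ≠ 0 := by
    intro h
    have h1 : ((Nat.card F : ℕ) : F) = 0 := by
      have := Fintype.ofFinite F
      rw [Nat.card_eq_fintype_card]
      exact Nat.cast_card_eq_zero F
    rcases hF with h2 | h2 <;> rw [h2] at h1
    · push_cast at h1
      apply one_ne_zero (α := F)
      linear_combination h - h1
    · push_cast at h1
      apply one_ne_zero (α := F)
      linear_combination 2 * h - h1
  have hx5 := hxv.pow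
  obtain ⟨c1, c2⟩ := coprime_reverse_five hp.irr (by rw [hp.deg]; omega) hp.five
  obtain ⟨c3, c4⟩ := coprime_reverse_five hfo.irr (by rw [hfo.deg]; omega) hfo.five
  have h56 : Nat.Coprime 5 6 := by norm_num
  have hrev : ((X - C 1) * f : F[X]).reverse = (-(X - 1)) * f.reverse := by
    rw [reverse_mul_of_domain, reverse_lin, C_1, one_mul, neg_sub]
  refine prO_pol (by omega) hQ hf hg hS hdet hA' hp.monic hp.deg hp.norm hfo.monic hfo.deg
    (by rw [mul_one]; exact hfo.norm) hx (c := 1) ?_ ?_ (j := 5) (by decide) hx5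
    (s := 5 * s) (t := 5 * t) (Nat.Coprime.mul_left h56 hs) (Nat.Coprime.mul_left h56 ht) ?_ ?_
    (by rw [pow_mul, hx5, one_pow]) (by rw [pow_mul, hx5, one_pow])
  · exact copP_of_cop (hxv.un c1) (hxv.un c2) hp.cop
  · rw [C_1]
    have hinv := hxv.inv
    refine copP_of_fix (hfo.eval (by omega) 1) hfo.cop (un_mul (hinv.un_one h5) (hinv.un c3)) ?_
    rw [← C_1, hrev]
    refine un_mul ?_ (hinv.un c4)
    rw [Un, map_neg]
    exact (hinv.un_one h5).neg
  · exact hp.dvd.trans (by rw [mul_comm]; exact pow_one_sub_dvd_pow_mul_sub_one _ _ _)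
  · exact (hfo.dvd' (by omega)).trans (by rw [mul_comm]; exact pow_one_sub_dvd_pow_mul_sub_one _ _ _)

end frame

/-- **`PΩ⁻` over the fields with four and nine elements, Witt index `≥ 4`.** -/
theorem all_minus_fn {F : Type*} [Field F] [Finite F] (hF : Nat.card F = 4 ∨ Nat.card F = 9) {m : ℕ} (hm : 4 ≤ m)
    {a b : F} (hab : ∀ z₁ z₂ : F, z₁ ^ 2 + a * z₁ * z₂ + b * z₂ ^ 2 = 0 → z₁ = 0 ∧ z₂ = 0) :
    All 6 (Cfsg.POmega F (Cfsg.quadFormMinus m F a b)) :=
  H124.PwO.all_minus' (by omega) hab fun _ hg _ hB =>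
    prO_aniso hF hm (nondeg_minusForm m F a b hab) H124.PwO.finrank_minus
      (fun _ hW => H124.PwO.maxTS_minus hab hW) (Subgroup.commutator_le_self _ hg) hB

end Cfsg.Agent.H937.PwO
end

-- part: H649/PwO/MinusSm
section
/-!
# S2465, orthogonal groups of minus type over fields of order `2` and `3`, Witt index `≥ 4`

The factorization of the corner in `SL_(m-1)(q)` (helper126) is a hypothesis here.
-/

set_option autoImplicit false
set_option linter.unusedSectionVars false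

namespace Cfsg.Agent.H649.PwO

open QuadraticMap Matrix Cfsg.Agent.LieClassical.OrthCore Cfsg.Agent.LieClassical.OrthTrans
  Cfsg.Agent.LieClassical.OrthFinite Cfsg.Agent.LieClassical.OrthForms Cfsg.Agent.H140.OreO Cfsg.Agent.H126.PwO Module
open Cfsg.Agent.H78.Pw (All)
open Cfsg.Agent.H434.Corn (MaxTS)

variable {F V : Type*} [Field F] [AddCommGroup V] [Module F V] {k : ℕ} {Q : QuadraticForm F V}

/-- **Witt index `k + 1`, `q = 2, 3`** -/
theorem prO_minus_tt [Finite F] [FiniteDimensional F V] (hF : Nat.card F = 2 ∨ Nat.card F = 3) (hk : 1 ≤ k)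
    (hQ : Nondeg Q) (hV : finrank F V = 2 * (k + 1) + 2) (hm : ∀ W, MaxTS Q W → finrank F W = k + 1)
    (hfac : ∀ (u u' : Fin k → V) (A : Matrix (Fin k) (Fin k) F), A.det = 1 →
      (A = 1 ∨ ∀ c : F, A ≠ c • (1 : Matrix (Fin k) (Fin k) F)) →
        Fac 6 (Fv : (perp Q u u' ≃ₗ[F] perp Q u u') → Prop) A)
    {g : V ≃ₗ[F] V} (hg : g ∈ O Q) (hB : BaseCorner (k + 1) Q g) : PrO 6 Q g := by
  obtain ⟨w, w', hf, hS, hdet, hA⟩ := hB
  obtain ⟨u, u', hu, h1, h2, h3⟩ := minus_frame hF hQ hk hV hf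
    (fun v hv hv0 => congrArg Subtype.val (H937.PwO.perp_aniso hf hm ⟨v, hv⟩ hv0)) hg hS hdet (hA.imp id And.left)
  exact prO_fac (by omega) hQ hu hg (hfac u u' _ h1 h2) (k := 5) (by decide) (by norm_num) (fun x hx => hx.pow) h3

/-- **`PΩ⁻`, `q = 2, 3`** -/
theorem all_minus_tt {F : Type*} [Field F] [Finite F] (hF : Nat.card F = 2 ∨ Nat.card F = 3) {k : ℕ} (hk : 3 ≤ k)
    {a b : F} (hab : ∀ z₁ z₂ : F, z₁ ^ 2 + a * z₁ * z₂ + b * z₂ ^ 2 = 0 → z₁ = 0 ∧ z₂ = 0)
    (hfac : ∀ (u u' : Fin k → ((Fin (k + 1) ⊕ Fin (k + 1)) ⊕ Fin 2 → F)) (A : Matrix (Fin k) (Fin k) F), A.det = 1 →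
      (A = 1 ∨ ∀ c : F, A ≠ c • (1 : Matrix (Fin k) (Fin k) F)) →
        Fac 6 (Fv : (perp (minusForm (k + 1) F a b) u u' ≃ₗ[F] perp (minusForm (k + 1) F a b) u u') → Prop) A) :
    All 6 (Cfsg.POmega F (Cfsg.quadFormMinus (k + 1) F a b)) :=
  H124.PwO.all_minus' (by omega) hab fun _ hg _ hB =>
    prO_minus_tt hF (by omega) (nondeg_minusForm (k + 1) F a b hab) H124.PwO.finrank_minus
      (fun _ hW => H124.PwO.maxTS_minus hab hW) hfac (Subgroup.commutator_le_self _ hg) hB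

end Cfsg.Agent.H649.PwO
end

-- part: H126/PwO/Row
section
/-!
# S2465, `PΩ⁻`, orders prime to six (helper126, with helper124, helper649, helper937, helper170)
-/

set_option autoImplicit false
set_option linter.unusedSectionVars false

namespace Cfsg.Agent.H126.PwO

open Module QuadraticMap Matrix Cfsg.Agent.LieClassical.OrthCore Cfsg.Agent.LieClassical.OrthTrans
  Cfsg.Agent.LieClassical.OrthFinite Cfsg.Agent.LieClassical.OrthForms Cfsg.Agent.H140.OreO
open Cfsg.Agent.H78.Pw (Pr All)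

/-- Witt index three -/
theorem all_minus_three {F : Type*} [Field F] [Finite F]
    (hF : Nat.card F = 2 ∨ Nat.card F = 3 ∨ Nat.card F = 4 ∨ Nat.card F = 8 ∨ Nat.card F = 9) {a b : F}
    (hab : ∀ z₁ z₂ : F, z₁ ^ 2 + a * z₁ * z₂ + b * z₂ ^ 2 = 0 → z₁ = 0 ∧ z₂ = 0) :
    All 6 (Cfsg.POmega F (Cfsg.quadFormMinus 3 F a b)) := by
  refine H124.PwO.all_minus' le_rfl hab fun g hg _ hB => ?_
  have hfin : finrank F ((Fin 3 ⊕ Fin 3) ⊕ Fin 2 → F) = 2 * 3 + 2 := H124.PwO.finrank_minus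
  obtain ⟨w, w', hfr, hS, hdet, hA⟩ := hB
  exact prO_fac_one (by omega) (nondeg_minusForm _ F a b hab) hfr (Subgroup.commutator_le_self _ hg) hS
    (fac_three hF hdet (hA.imp id fun h => h.1))

theorem rest_minus (F : Type) [Field F] [Fintype F] (m : ℕ) (a b : F) (hm : 4 ≤ m) (hR : H124.PwO.Rest F m)
    (hab : ∀ z₁ z₂ : F, z₁ ^ 2 + a * z₁ * z₂ + b * z₂ ^ 2 = 0 → z₁ = 0 ∧ z₂ = 0) :
    All 6 (Cfsg.POmega F (Cfsg.quadFormMinus (m - 1) F a b)) := by
  rw [H124.PwO.Rest, ← Nat.card_eq_fintype_card] at hR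
  by_cases h4 : m = 4
  · subst h4
    refine all_minus_three ?_ hab
    omega
  · have hR' : (Nat.card F = 2 ∨ Nat.card F = 3) ∨ (Nat.card F = 4 ∨ Nat.card F = 9) := by omega
    rcases hR' with hF | hF
    · obtain ⟨k, rfl⟩ : ∃ k, m = k + 4 := ⟨m - 4, by omega⟩
      refine H649.PwO.all_minus_tt (k := k + 2) hF (by omega) hab fun u u' A h1 h2 => ?_
      exact fac_fv (k := k) (by omega) (by omega) (by omega) h1 h2
    · exact H937.PwO.all_minus_fn hF (by omega) hab

/-- **PΩ⁻, orders prime to six** -/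
theorem six_minus (F : Type) [Field F] [Fintype F] (r : ℕ) [hr : Fact r.Prime] [CharP F r] (m : ℕ) (a b : F)
    (h5 : r < 5) (hm : 4 ≤ m) (hab : ∀ z₁ z₂ : F, z₁ ^ 2 + a * z₁ * z₂ + b * z₂ ^ 2 = 0 → z₁ = 0 ∧ z₂ = 0) :
    All 6 (Cfsg.POmega F (Cfsg.quadFormMinus (m - 1) F a b)) :=
  H124.PwO.six_minus_of rest_minus F r m a b h5 hm hab

end Cfsg.Agent.H126.PwO
end

private theorem dce_f16b75993ae2 : _root_.True := by
  try have : _root_.True := by simp only [_root_.Cfsg.Agent.H649.PwO.nw.eq_1]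
  try have : _root_.True := by simp only [_root_.Cfsg.Agent.H649.PwO.nw'.eq_1]
  exact _root_.True.intro
end

-- part: H235/Ore/HePw
section
set_option linter.all false
open scoped Cfsg.Agent.FastGrp

/-!
# In the Held group every element is a product of two elements of order prime to `6` (to `p`) (helper235)
-/

set_option autoImplicit false
set_option maxRecDepth 100000

namespace Cfsg.Agent.H235.Ore.HePw

open Subgroup
open Cfsg.Spor.He (Gen)
open Cfsg.Agent.SporadicB.HePerm (act wd)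
open Cfsg.Agent.FixBN.HeStab Cfsg.Agent.KFacts.He.Lv Cfsg.Agent.CpAutHe.Cnt
open Cfsg.Agent.H235.Ore.HeEng Cfsg.Agent.H235.Ore.HeCert Cfsg.Agent.H235.Ore.He Cfsg.Agent.H78.Pw
open Cfsg.Agent.H153.Zeros.He17 (W17 o17)
open Cfsg.Agent.H587.NR.He (wd_reverse)
open Cfsg.Agent.H19.Odd.HeCnt (XB XC)

universe u

theorem pow_of {X : List Gen} {k : ℕ} (h : chkB (pw X k) [] = true) : wd X ^ k = 1 := by
  rw [← wd_pw]
  exact eq_of_chkB h

theorem pr_of {X A : List Gen} {n j k : ℕ} (hj : chkB (pw A j) [] = true) (hk : chkB (pw (A.reverse ++ X) k) [] = true)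
    (cj : j.Coprime n) (ck : k.Coprime n) : Pr n (wd X) := by
  refine ⟨wd A, (wd A)⁻¹ * wd X, by group, Nat.Coprime.of_dvd_left (orderOf_dvd_of_pow_eq_one (pow_of hj)) cj, ?_⟩
  rw [← wd_reverse, ← wd_append]
  exact Nat.Coprime.of_dvd_left (orderOf_dvd_of_pow_eq_one (pow_of hk)) ck

theorem pr_ord {x : Cfsg.Spor.He} {n o : ℕ} (h : orderOf x = o) (c : o.Coprime n) : Pr n x := by
  apply Pr.of_coprime
  rwa [h]

theorem pr_zp {a : Cfsg.Spor.He} (ha : a ∈ zpowers (wd W17)) {n : ℕ} (c : Nat.Coprime 17 n) : Pr n a := by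
  apply Pr.of_coprime
  refine Nat.Coprime.of_dvd_left ?_ c
  rw [← o17]
  exact orderOf_dvd_of_mem_zpowers ha

theorem pr17 {a : Cfsg.Spor.He} (ha : a ∈ zpowers (wd W17)) : Pr 17 a := by
  obtain ⟨k, rfl⟩ := mem_zpowers_iff.1 ha
  have hs' : wd [.c, .f] * wd [.c, .f] = 1 := sq_of (by decide +kernel)
  have hi : wd [.c, .f] * wd W17 * (wd [.c, .f])⁻¹ = (wd W17)⁻¹ := by
    have h := eq_of_chkB (show chkB ([.c, .f] ++ W17) (W17.reverse ++ [.c, .f]) = true by decide +kernel)
    rw [wd_append, wd_append, wd_reverse] at h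
    rw [h, mul_inv_cancel_right]
  have hk : wd [.c, .f] * wd W17 ^ k * (wd [.c, .f])⁻¹ = (wd W17 ^ k)⁻¹ := by
    rw [← conj_zpow, hi, inv_zpow]
  have hs2 : (wd [.c, .f])⁻¹ = wd [.c, .f] := inv_eq_of_mul_eq_one_left hs'
  rw [hs2] at hk
  have h2 : ∀ x : Cfsg.Spor.He, x * x = 1 → (orderOf x).Coprime 17 := fun x hx =>
    Nat.Coprime.of_dvd_left (orderOf_dvd_of_pow_eq_one (n := 2) (by rw [pow_two, hx])) (by norm_num)
  refine ⟨wd W17 ^ k * wd [.c, .f], wd [.c, .f], by rw [mul_assoc, hs', mul_one], h2 _ ?_, h2 _ hs'⟩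
  calc wd W17 ^ k * wd [.c, .f] * (wd W17 ^ k * wd [.c, .f])
      = wd W17 ^ k * (wd [.c, .f] * wd W17 ^ k * wd [.c, .f]) := by group
    _ = 1 := by rw [hk, mul_inv_cancel]

theorem p2A_6 : Pr 6 (wd x2A) := pr_of (A := [.b, .d, .c, .f, .b, .d, .f, .c]) (j := 17) (k := 17)
  (by decide +kernel) (by decide +kernel) (by norm_num) (by norm_num)
theorem p2B_6 : Pr 6 (wd x2B) := pr_of (A := [.e, .d, .g, .f]) (j := 7) (k := 7)
  (by decide +kernel) (by decide +kernel) (by norm_num) (by norm_num)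
theorem p3A_6 : Pr 6 (wd x3A) := pr_of (A := [.e, .c, .d]) (j := 5) (k := 5)
  (by decide +kernel) (by decide +kernel) (by norm_num) (by norm_num)
theorem p4A_6 : Pr 6 (wd x4A) := pr_of (A := [.b, .e, .b, .d, .c, .f, .b, .d, .g, .c]) (j := 7) (k := 7)
  (by decide +kernel) (by decide +kernel) (by norm_num) (by norm_num)
theorem p4B_6 : Pr 6 (wd x4B) := pr_of (A := [.d, .c, .a, .d, .g]) (j := 5) (k := 5)
  (by decide +kernel) (by decide +kernel) (by norm_num) (by norm_num)
theorem p4C_6 : Pr 6 (wd x4C) := pr_of (A := [.c, .d, .g, .f, .c]) (j := 7) (k := 5)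
  (by decide +kernel) (by decide +kernel) (by norm_num) (by norm_num)
theorem p5A_5 : Pr 5 (wd x5A) := pr_of (A := [.a, .c]) (j := 2) (k := 2)
  (by decide +kernel) (by decide +kernel) (by norm_num) (by norm_num)
theorem p6A_6 : Pr 6 (wd x6A) := pr_of (A := [.f, .g, .d, .c, .d]) (j := 5) (k := 5)
  (by decide +kernel) (by decide +kernel) (by norm_num) (by norm_num)
theorem p6B_6 : Pr 6 (wd x6B) := pr_of (A := [.c, .g, .d, .g, .c, .d]) (j := 5) (k := 17)
  (by decide +kernel) (by decide +kernel) (by norm_num) (by norm_num)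
theorem p7A_7 : Pr 7 (wd x7A) := pr_of (A := [.d, .f]) (j := 3) (k := 2)
  (by decide +kernel) (by decide +kernel) (by norm_num) (by norm_num)
theorem p7D_7 : Pr 7 (wd x7D) := pr_of (A := [.c, .g, .b]) (j := 6) (k := 2)
  (by decide +kernel) (by decide +kernel) (by norm_num) (by norm_num)
theorem p8A_6 : Pr 6 (wd x8A) := pr_of (A := [.d, .e, .g, .c, .d, .f, .a, .g]) (j := 7) (k := 7)
  (by decide +kernel) (by decide +kernel) (by norm_num) (by norm_num)
theorem p10A_6 : Pr 6 (wd x10A) := pr_of (A := [.d, .f, .g]) (j := 7) (k := 5)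
  (by decide +kernel) (by decide +kernel) (by norm_num) (by norm_num)
theorem p10A_5 : Pr 5 (wd x10A) := pr_of (A := [.c]) (j := 2) (k := 2)
  (by decide +kernel) (by decide +kernel) (by norm_num) (by norm_num)
theorem p12A_6 : Pr 6 (wd x12A) := pr_of (A := [.c, .d, .f, .g, .d]) (j := 5) (k := 5)
  (by decide +kernel) (by decide +kernel) (by norm_num) (by norm_num)
theorem p12B_6 : Pr 6 (wd x12B) := pr_of (A := [.c, .d, .a, .g, .e, .d, .e, .f, .d, .a, .g]) (j := 7) (k := 5)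
  (by decide +kernel) (by decide +kernel) (by norm_num) (by norm_num)
theorem p14A_6 : Pr 6 (wd x14A) := pr_of (A := [.c, .d, .a]) (j := 5) (k := 5)
  (by decide +kernel) (by decide +kernel) (by norm_num) (by norm_num)
theorem p14A_7 : Pr 7 (wd x14A) := pr_of (A := [.a, .d]) (j := 2) (k := 4)
  (by decide +kernel) (by decide +kernel) (by norm_num) (by norm_num)
theorem p14C_6 : Pr 6 (wd x14C) := pr_of (A := [.f, .d, .f, .c, .e]) (j := 5) (k := 7)
  (by decide +kernel) (by decide +kernel) (by norm_num) (by norm_num)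
theorem p14C_7 : Pr 7 (wd x14C) := pr_of (A := [.b, .g, .f]) (j := 4) (k := 2)
  (by decide +kernel) (by decide +kernel) (by norm_num) (by norm_num)
theorem p15A_6 : Pr 6 (wd x15A) := pr_of (A := [.a, .f, .g, .d, .e, .a]) (j := 7) (k := 7)
  (by decide +kernel) (by decide +kernel) (by norm_num) (by norm_num)
theorem p15A_5 : Pr 5 (wd x15A) := pr_of (A := [.b, .d]) (j := 2) (k := 2)
  (by decide +kernel) (by decide +kernel) (by norm_num) (by norm_num)
theorem p21A_6 : Pr 6 (wd x21A) := pr_of (A := [.e, .c, .d, .b, .f, .b, .e, .f, .a]) (j := 5) (k := 5)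
  (by decide +kernel) (by decide +kernel) (by norm_num) (by norm_num)
theorem p21A_7 : Pr 7 (wd x21A) := pr_of (A := [.a, .d]) (j := 2) (k := 3)
  (by decide +kernel) (by decide +kernel) (by norm_num) (by norm_num)
theorem p21B_6 : Pr 6 (wd x21A ^ 2) := by
  rw [← wd_pw]
  exact pr_of (A := [.c, .d, .a]) (j := 5) (k := 5) (by decide +kernel) (by decide +kernel) (by norm_num) (by norm_num)
theorem p21B_7 : Pr 7 (wd x21A ^ 2) := by
  rw [← wd_pw]
  exact pr_of (A := [.a, .d, .b, .a]) (j := 2) (k := 2) (by decide +kernel) (by decide +kernel) (by norm_num) (by norm_num)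
theorem p21C_6 : Pr 6 (wd x21C) := pr_of (A := [.f, .g, .d, .e]) (j := 7) (k := 7)
  (by decide +kernel) (by decide +kernel) (by norm_num) (by norm_num)
theorem p21C_7 : Pr 7 (wd x21C) := pr_of (A := [.b, .f]) (j := 2) (k := 3)
  (by decide +kernel) (by decide +kernel) (by norm_num) (by norm_num)
theorem p28A_6 : Pr 6 (wd x28A) := pr_of (A := [.a, .e, .c, .b, .d, .g]) (j := 17) (k := 5)
  (by decide +kernel) (by decide +kernel) (by norm_num) (by norm_num)
theorem p28A_7 : Pr 7 (wd x28A) := pr_of (A := [.a, .b, .d]) (j := 4) (k := 4)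
  (by decide +kernel) (by decide +kernel) (by norm_num) (by norm_num)
theorem pB_6 : Pr 6 (wd XB) := pr_of (A := [.c, .e, .d]) (j := 5) (k := 5)
  (by decide +kernel) (by decide +kernel) (by norm_num) (by norm_num)
theorem pC_7 : Pr 7 (wd XC) := pr_of (A := [.a, .b, .c]) (j := 6) (k := 6)
  (by decide +kernel) (by decide +kernel) (by norm_num) (by norm_num)
theorem pw6 : All 6 Cfsg.Spor.He := by
  refine all_model (Pr 6) (fun x y h k => k.of_isConj h) (fun a ha => pr_zp ha (by norm_num)) fun a b ha hb p hp => ?_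
  simp only [L, List.mem_cons, List.not_mem_nil, or_false] at hp
  rcases hp with rfl | rfl | rfl | rfl | rfl | rfl | rfl | rfl | rfl | rfl | rfl | rfl | rfl | rfl | rfl | rfl | rfl | rfl | rfl | rfl | rfl | rfl | rfl | rfl | rfl | rfl | rfl | rfl | rfl | rfl | rfl | rfl | rfl
  · exact ha
  · exact hb
  · exact Pr.one 6
  · exact p21A_6
  · exact p21B_6
  · exact p2A_6
  · exact p2B_6
  · exact p3A_6
  · exact pB_6
  · exact p4A_6
  · exact p4B_6
  · exact p4C_6
  · exact p6A_6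
  · exact p6B_6
  · exact p12A_6
  · exact p12B_6
  · exact (pr_ord o5A (by norm_num))
  · exact p8A_6
  · exact p10A_6
  · exact p15A_6
  · exact p14A_6
  · exact Pr.inv p14A_6
  · exact p14C_6
  · exact Pr.inv p14C_6
  · exact p28A_6
  · exact Pr.inv p28A_6
  · exact (pr_ord o7A (by norm_num))
  · exact Pr.inv (pr_ord o7A (by norm_num))
  · exact (pr_ord o7C (by norm_num))
  · exact (pr_ord o7D (by norm_num))
  · exact Pr.inv (pr_ord o7D (by norm_num))
  · exact p21C_6
  · exact Pr.inv p21C_6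

theorem pw5 : All 5 Cfsg.Spor.He := by
  refine all_model (Pr 5) (fun x y h k => k.of_isConj h) (fun a ha => pr_zp ha (by norm_num)) fun a b ha hb p hp => ?_
  simp only [L, List.mem_cons, List.not_mem_nil, or_false] at hp
  rcases hp with rfl | rfl | rfl | rfl | rfl | rfl | rfl | rfl | rfl | rfl | rfl | rfl | rfl | rfl | rfl | rfl | rfl | rfl | rfl | rfl | rfl | rfl | rfl | rfl | rfl | rfl | rfl | rfl | rfl | rfl | rfl | rfl | rfl
  · exact ha
  · exact hb
  · exact Pr.one 5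
  · exact (pr_ord o21A (by norm_num))
  · exact (pr_ord o21B (by norm_num))
  · exact (pr_ord o2A (by norm_num))
  · exact (pr_ord o2B (by norm_num))
  · exact (pr_ord o3A (by norm_num))
  · exact (pr_ord o3B (by norm_num))
  · exact (pr_ord o4A (by norm_num))
  · exact (pr_ord o4B (by norm_num))
  · exact (pr_ord o4C (by norm_num))
  · exact (pr_ord o6A (by norm_num))
  · exact (pr_ord o6B (by norm_num))
  · exact (pr_ord o12A (by norm_num))
  · exact (pr_ord o12B (by norm_num))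
  · exact p5A_5
  · exact (pr_ord o8A (by norm_num))
  · exact p10A_5
  · exact p15A_5
  · exact (pr_ord o14A (by norm_num))
  · exact Pr.inv (pr_ord o14A (by norm_num))
  · exact (pr_ord o14C (by norm_num))
  · exact Pr.inv (pr_ord o14C (by norm_num))
  · exact (pr_ord o28A (by norm_num))
  · exact Pr.inv (pr_ord o28A (by norm_num))
  · exact (pr_ord o7A (by norm_num))
  · exact Pr.inv (pr_ord o7A (by norm_num))
  · exact (pr_ord o7C (by norm_num))
  · exact (pr_ord o7D (by norm_num))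
  · exact Pr.inv (pr_ord o7D (by norm_num))
  · exact (pr_ord o21C (by norm_num))
  · exact Pr.inv (pr_ord o21C (by norm_num))

theorem pw7 : All 7 Cfsg.Spor.He := by
  refine all_model (Pr 7) (fun x y h k => k.of_isConj h) (fun a ha => pr_zp ha (by norm_num)) fun a b ha hb p hp => ?_
  simp only [L, List.mem_cons, List.not_mem_nil, or_false] at hp
  rcases hp with rfl | rfl | rfl | rfl | rfl | rfl | rfl | rfl | rfl | rfl | rfl | rfl | rfl | rfl | rfl | rfl | rfl | rfl | rfl | rfl | rfl | rfl | rfl | rfl | rfl | rfl | rfl | rfl | rfl | rfl | rfl | rfl | rfl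
  · exact ha
  · exact hb
  · exact Pr.one 7
  · exact p21A_7
  · exact p21B_7
  · exact (pr_ord o2A (by norm_num))
  · exact (pr_ord o2B (by norm_num))
  · exact (pr_ord o3A (by norm_num))
  · exact (pr_ord o3B (by norm_num))
  · exact (pr_ord o4A (by norm_num))
  · exact (pr_ord o4B (by norm_num))
  · exact (pr_ord o4C (by norm_num))
  · exact (pr_ord o6A (by norm_num))
  · exact (pr_ord o6B (by norm_num))
  · exact (pr_ord o12A (by norm_num))
  · exact (pr_ord o12B (by norm_num))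
  · exact (pr_ord o5A (by norm_num))
  · exact (pr_ord o8A (by norm_num))
  · exact (pr_ord o10A (by norm_num))
  · exact (pr_ord o15A (by norm_num))
  · exact p14A_7
  · exact Pr.inv p14A_7
  · exact p14C_7
  · exact Pr.inv p14C_7
  · exact p28A_7
  · exact Pr.inv p28A_7
  · exact p7A_7
  · exact Pr.inv p7A_7
  · exact pC_7
  · exact p7D_7
  · exact Pr.inv p7D_7
  · exact p21C_7
  · exact Pr.inv p21C_7

theorem pw17 : All 17 Cfsg.Spor.He := by
  refine all_model (Pr 17) (fun x y h k => k.of_isConj h) (fun a ha => pr17 ha) fun a b ha hb p hp => ?_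
  simp only [L, List.mem_cons, List.not_mem_nil, or_false] at hp
  rcases hp with rfl | rfl | rfl | rfl | rfl | rfl | rfl | rfl | rfl | rfl | rfl | rfl | rfl | rfl | rfl | rfl | rfl | rfl | rfl | rfl | rfl | rfl | rfl | rfl | rfl | rfl | rfl | rfl | rfl | rfl | rfl | rfl | rfl
  · exact ha
  · exact hb
  · exact Pr.one 17
  · exact (pr_ord o21A (by norm_num))
  · exact (pr_ord o21B (by norm_num))
  · exact (pr_ord o2A (by norm_num))
  · exact (pr_ord o2B (by norm_num))
  · exact (pr_ord o3A (by norm_num))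
  · exact (pr_ord o3B (by norm_num))
  · exact (pr_ord o4A (by norm_num))
  · exact (pr_ord o4B (by norm_num))
  · exact (pr_ord o4C (by norm_num))
  · exact (pr_ord o6A (by norm_num))
  · exact (pr_ord o6B (by norm_num))
  · exact (pr_ord o12A (by norm_num))
  · exact (pr_ord o12B (by norm_num))
  · exact (pr_ord o5A (by norm_num))
  · exact (pr_ord o8A (by norm_num))
  · exact (pr_ord o10A (by norm_num))
  · exact (pr_ord o15A (by norm_num))
  · exact (pr_ord o14A (by norm_num))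
  · exact Pr.inv (pr_ord o14A (by norm_num))
  · exact (pr_ord o14C (by norm_num))
  · exact Pr.inv (pr_ord o14C (by norm_num))
  · exact (pr_ord o28A (by norm_num))
  · exact Pr.inv (pr_ord o28A (by norm_num))
  · exact (pr_ord o7A (by norm_num))
  · exact Pr.inv (pr_ord o7A (by norm_num))
  · exact (pr_ord o7C (by norm_num))
  · exact (pr_ord o7D (by norm_num))
  · exact Pr.inv (pr_ord o7D (by norm_num))
  · exact (pr_ord o21C (by norm_num))
  · exact Pr.inv (pr_ord o21C (by norm_num))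

theorem pw_model : Pw Cfsg.Spor.He := by
  refine ⟨pw6, fun p hp h5 => ?_⟩
  by_cases h : p ∣ 4030387200
  · have h1 : p = 5 ∨ p = 7 ∨ p = 17 := by
      rw [show 4030387200 = 2 ^ 10 * (3 ^ 3 * (5 ^ 2 * (7 ^ 3 * 17))) by norm_num, hp.dvd_mul, hp.dvd_mul, hp.dvd_mul,
        hp.dvd_mul] at h
      rcases h with h | h | h | h | h
      · have := (Nat.prime_dvd_prime_iff_eq hp (by norm_num)).1 (hp.dvd_of_dvd_pow h); omega
      · have := (Nat.prime_dvd_prime_iff_eq hp (by norm_num)).1 (hp.dvd_of_dvd_pow h); omega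
      · have := (Nat.prime_dvd_prime_iff_eq hp (by norm_num)).1 (hp.dvd_of_dvd_pow h); omega
      · have := (Nat.prime_dvd_prime_iff_eq hp (by norm_num)).1 (hp.dvd_of_dvd_pow h); omega
      · have := (Nat.prime_dvd_prime_iff_eq hp (by norm_num)).1 h; omega
    rcases h1 with rfl | rfl | rfl
    · exact pw5
    · exact pw7
    · exact pw17
  · intro g
    apply Pr.of_coprime
    refine Nat.Coprime.of_dvd_left (orderOf_dvd_natCard g) ?_
    rw [card_he]
    exact ((Nat.Prime.coprime_iff_not_dvd hp).2 h).symm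

/-- **products of two elements of order prime to `6` or `p` in `He`** -/
theorem pw_He {S : Type u} [Group S] (h : Cfsg.Spor.IsoHe S) : Pw S := by
  obtain ⟨e⟩ := h
  exact ⟨All.congr e.symm pw_model.1, fun p hp h5 => All.congr e.symm (pw_model.2 p hp h5)⟩

end Cfsg.Agent.H235.Ore.HePw
end

-- part: H962/PP/FiveSL
section
prune_inst 0x341075047d0000080018051662003e63fa0000b2004b840045a10b4e07c98c626d43ae21bbb0071bda800c44683c0068131001a0426000000e200400411e008018800000e1890088420016000080400000000000000000000000000000000000000000000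
set_option linter.all false
open scoped Cfsg.Agent.FastGrp

/-!
# `P₅(4)`, `P₅(9)`

* `five_sl` : every nonscalar `A ∈ SL₅(q)`, `q = 4, 9`, is `X Y` with irreducible characteristic polynomials;
* `p_five_four`, `p_five_nine` : every `L U` in `SL₅(q)` is `X Y` with irreducible characteristic polynomials.
-/

set_option autoImplicit false

namespace Cfsg.Agent.H962.PP

open Polynomial Matrix Cfsg.Agent.H162.GaussSL

universe u v

variable {F : Type u} [Field F]

theorem charpoly_smul_irr {V : Type v} [AddCommGroup V] [Module F V] [FiniteDimensional F V]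
    (T : Module.End F V) {α : F} (hα : α ≠ 0) (h : Irreducible (LinearMap.charpoly T)) :
    Irreducible (LinearMap.charpoly (α • T)) := by
  have hd : 0 < Module.finrank F V := by
    rw [← LinearMap.charpoly_natDegree T]; exact h.natDegree_pos
  have : Nontrivial V := Module.finrank_pos_iff.1 hd
  obtain ⟨v, hv⟩ := exists_ne (0 : V)
  have h2 : aeval (α • T) (C α⁻¹ * X : F[X]) = T := by
    rw [map_mul, aeval_C, aeval_X, Algebra.algebraMap_eq_smul_one, smul_one_mul, smul_smul, inv_mul_cancel₀ hα, one_smul]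
  have h3 : aeval (α • T) (scl α (LinearMap.charpoly T)) v = 0 := by
    rw [scl, map_mul, aeval_comp, h2, LinearMap.aeval_self_charpoly, mul_zero]; rfl
  rw [charpoly_of_kill (α • T) (scl_monic hα (LinearMap.charpoly_monic T)) (scl_irr hα h)
    ((scl_natDegree hα _).trans (LinearMap.charpoly_natDegree T)) hv h3]
  exact scl_irr hα h

theorem charpoly_toMat {n : ℕ} (T : Module.End F (Fin n → F)) : (LinearMap.toMatrix' T).charpoly = LinearMap.charpoly T := by
  rw [← LinearMap.toMatrix_eq_toMatrix', LinearMap.charpoly_toMatrix]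

theorem irr_inv' {n : ℕ} {A : Matrix (Fin n) (Fin n) F} (hA : A.det ≠ 0) (h : Irreducible A.charpoly) :
    Irreducible A⁻¹.charpoly := by
  have hu : IsUnit A := (Matrix.isUnit_iff_isUnit_det A).2 (isUnit_iff_ne_zero.2 hA)
  rw [Matrix.charpoly_inv A hu, ← Matrix.reverse_charpoly]
  refine (irreducible_isUnit_mul ?_).2 (irr_reverse h ?_)
  · refine ((isUnit_one.neg).pow _).mul (isUnit_C.2 ?_)
    rw [Ring.inverse_eq_inv']
    exact isUnit_iff_ne_zero.2 (inv_ne_zero hA)
  · intro h0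
    rw [Matrix.det_eq_sign_charpoly_coeff, h0, mul_zero] at hA
    exact hA rfl

/-- **`SL₅`** -/
theorem five_sl [Finite F] (h4 : 4 ≤ Nat.card F) (hP : Pair F) (hP' : Pair' F) {t : ℕ}
    (ht : ∀ x : F, x ≠ 0 → (x ^ t) ^ 5 * x = 1) (A : SpecialLinearGroup (Fin 5) F)
    (hns : ∀ c : F, (A : Matrix (Fin 5) (Fin 5) F) ≠ c • (1 : Matrix (Fin 5) (Fin 5) F)) :
    ∃ X Y : SpecialLinearGroup (Fin 5) F, A = X * Y ∧ Irreducible (X : Matrix (Fin 5) (Fin 5) F).charpoly ∧
      Irreducible (Y : Matrix (Fin 5) (Fin 5) F).charpoly := by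
  obtain ⟨T, hT⟩ : ∃ T : Module.End F (Fin 5 → F), T = Matrix.toLin' A.1 := ⟨_, rfl⟩
  have hTA : LinearMap.toMatrix' T = A.1 := by rw [hT, LinearMap.toMatrix'_toLin']
  have hdT : LinearMap.det T = 1 := by rw [hT, LinearMap.det_toLin', A.2]
  have hTs : ∀ c : F, T ≠ c • 1 := by
    intro c h
    apply hns c
    rw [← hTA, h, map_smul]
    congr 1
    exact LinearMap.toMatrix'_one
  rcases good_or h4 hP hP' (V := Fin 5 → F) (by rw [Module.finrank_fin_fun]) T hdT hTs with
    ⟨L, hL, X, Y, hYX, hX, hY⟩ | ⟨Z, hX, hZ⟩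
  · have hdd : LinearMap.det Y * LinearMap.det X = L ^ 5 := by
      rw [← map_mul, hYX, LinearMap.det_smul, hdT, Module.finrank_fin_fun, mul_one]
    have hdX : LinearMap.det X ≠ 0 := by
      intro h
      rw [h, mul_zero] at hdd
      exact pow_ne_zero _ hL hdd.symm
    obtain ⟨α, hα⟩ : ∃ α, α = (LinearMap.det X) ^ t := ⟨_, rfl⟩
    have hα0 : α ≠ 0 := by rw [hα]; exact pow_ne_zero _ hdX
    have hα5 : α ^ 5 * LinearMap.det X = 1 := by rw [hα]; exact ht _ hdX
    have hLα : L * α ≠ 0 := mul_ne_zero hL hα0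
    have h1 : (LinearMap.toMatrix' (α • X)).det = 1 := by
      rw [LinearMap.det_toMatrix', LinearMap.det_smul, Module.finrank_fin_fun, hα5]
    have h2 : (LinearMap.toMatrix' ((L * α)⁻¹ • Y)).det = 1 := by
      rw [LinearMap.det_toMatrix', LinearMap.det_smul, Module.finrank_fin_fun]
      have h3 : LinearMap.det Y = L ^ 5 * α ^ 5 := by
        rw [← hdd, mul_assoc, mul_comm (LinearMap.det X), hα5, mul_one]
      rw [h3, ← mul_pow, ← mul_pow, inv_mul_cancel₀ hLα, one_pow]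
    refine ⟨⟨_, h2⟩, ⟨_, h1⟩, ?_, ?_, ?_⟩
    · apply Subtype.ext
      change A.1 = LinearMap.toMatrix' ((L * α)⁻¹ • Y) * LinearMap.toMatrix' (α • X)
      rw [← LinearMap.toMatrix'_mul, ← hTA]
      congr 1
      rw [smul_mul_smul_comm, hYX, smul_smul, show (L * α)⁻¹ * α * L = 1 by field_simp, one_smul]
    · change Irreducible (LinearMap.toMatrix' ((L * α)⁻¹ • Y)).charpoly
      rw [charpoly_toMat]
      exact charpoly_smul_irr Y (inv_ne_zero hLα) hY
    · change Irreducible (LinearMap.toMatrix' (α • X)).charpoly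
      rw [charpoly_toMat]
      exact charpoly_smul_irr X hα0 hX
  · have hdd : LinearMap.det (T * Z) = LinearMap.det Z := by
      rw [map_mul, hdT, one_mul]
    have hdZ : LinearMap.det Z ≠ 0 := by
      intro h0
      rw [LinearMap.det_eq_sign_charpoly_coeff] at h0
      have h1 : (LinearMap.charpoly Z).coeff 0 = 0 :=
        (mul_eq_zero.1 h0).resolve_left (pow_ne_zero _ (by simp))
      have h2 : (Polynomial.X : F[X]) ∣ LinearMap.charpoly Z := X_dvd_iff.2 h1
      have h3 := (hZ.dvd_iff.1 h2).resolve_left not_isUnit_X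
      have h4 := natDegree_eq_of_degree_eq (degree_eq_degree_of_associated h3)
      rw [natDegree_X, LinearMap.charpoly_natDegree, Module.finrank_fin_fun] at h4
      omega
    obtain ⟨α, hα⟩ : ∃ α, α = (LinearMap.det Z) ^ t := ⟨_, rfl⟩
    have hα0 : α ≠ 0 := by rw [hα]; exact pow_ne_zero _ hdZ
    have hα5 : α ^ 5 * LinearMap.det Z = 1 := by rw [hα]; exact ht _ hdZ
    have h1 : (LinearMap.toMatrix' (α • (T * Z))).det = 1 := by
      rw [LinearMap.det_toMatrix', LinearMap.det_smul, Module.finrank_fin_fun, hdd, hα5]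
    have h2 : (LinearMap.toMatrix' (α • Z)).det = 1 := by
      rw [LinearMap.det_toMatrix', LinearMap.det_smul, Module.finrank_fin_fun, hα5]
    have h3 : (LinearMap.toMatrix' (α • Z))⁻¹.det = 1 := by
      rw [Matrix.det_nonsing_inv, h2]; simp
    refine ⟨⟨_, h1⟩, ⟨_, h3⟩, ?_, ?_, ?_⟩
    · apply Subtype.ext
      change A.1 = LinearMap.toMatrix' (α • (T * Z)) * (LinearMap.toMatrix' (α • Z))⁻¹
      rw [← mul_smul_comm, LinearMap.toMatrix'_mul, Matrix.mul_assoc, Matrix.mul_nonsing_inv _ (by rw [h2]; exact isUnit_one),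
        Matrix.mul_one, hTA]
    · change Irreducible (LinearMap.toMatrix' (α • (T * Z))).charpoly
      rw [charpoly_toMat]
      exact charpoly_smul_irr _ hα0 hX
    · change Irreducible (LinearMap.toMatrix' (α • Z))⁻¹.charpoly
      refine irr_inv' (by rw [h2]; exact one_ne_zero) ?_
      rw [charpoly_toMat]
      exact charpoly_smul_irr _ hα0 hZ

/-- an element with irreducible characteristic polynomial -/
theorem exists_irr_sl (hP' : Pair' F) {t : ℕ} (ht : ∀ x : F, x ≠ 0 → (x ^ t) ^ 5 * x = 1) :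
    ∃ X : SpecialLinearGroup (Fin 5) F, Irreducible (X : Matrix (Fin 5) (Fin 5) F).charpoly := by
  obtain ⟨f, -, hf, hfi, hfd, -⟩ := hP'
  obtain ⟨M, hM⟩ : ∃ M : Matrix (Fin 5) (Fin 5) F, M.charpoly = f := by
    have h1 := H953.charpoly_comp hf
    refine ⟨(H953.comp f).submatrix (finCongr hfd.symm) (finCongr hfd.symm), ?_⟩
    exact (Matrix.charpoly_reindex (finCongr hfd) (H953.comp f)).trans h1
  have hM0 : M.det ≠ 0 := by
    rw [Matrix.det_eq_sign_charpoly_coeff, hM]
    refine mul_ne_zero (pow_ne_zero _ (by simp)) ?_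
    intro h0
    have h2 : (Polynomial.X : F[X]) ∣ f := X_dvd_iff.2 h0
    have h3 := (hfi.dvd_iff.1 h2).resolve_left not_isUnit_X
    have h4 := natDegree_eq_of_degree_eq (degree_eq_degree_of_associated h3)
    rw [natDegree_X] at h4
    omega
  obtain ⟨Z, hZ⟩ : ∃ Z : Module.End F (Fin 5 → F), Z = Matrix.toLin' M := ⟨_, rfl⟩
  have hZM : LinearMap.toMatrix' Z = M := by rw [hZ, LinearMap.toMatrix'_toLin']
  have hZi : Irreducible (LinearMap.charpoly Z) := by rw [← charpoly_toMat, hZM, hM]; exact hfi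
  have hdZ : LinearMap.det Z = M.det := by rw [hZ, LinearMap.det_toLin']
  obtain ⟨α, hα⟩ : ∃ α, α = M.det ^ t := ⟨_, rfl⟩
  have hα0 : α ≠ 0 := by rw [hα]; exact pow_ne_zero _ hM0
  have h2 : (LinearMap.toMatrix' (α • Z)).det = 1 := by
    rw [LinearMap.det_toMatrix', LinearMap.det_smul, Module.finrank_fin_fun, hdZ, hα]
    exact ht _ hM0
  refine ⟨⟨_, h2⟩, ?_⟩
  change Irreducible (LinearMap.toMatrix' (α • Z)).charpoly
  rw [charpoly_toMat]
  exact charpoly_smul_irr _ hα0 hZi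

/-- **`P₅`** -/
theorem p_five [Finite F] (h4 : 4 ≤ Nat.card F) (hP : Pair F) (hP' : Pair' F) {t : ℕ}
    (ht : ∀ x : F, x ≠ 0 → (x ^ t) ^ 5 * x = 1) {L : SpecialLinearGroup (Fin 5) F} (hL : L ∈ LT 5 F)
    {U : SpecialLinearGroup (Fin 5) F} (hU : U ∈ UT 5 F) :
    ∃ X Y : SpecialLinearGroup (Fin 5) F, L * U = X * Y ∧ Irreducible (X : Matrix (Fin 5) (Fin 5) F).charpoly ∧
      Irreducible (Y : Matrix (Fin 5) (Fin 5) F).charpoly := by
  by_cases hs : ∃ c : F, ((L * U : SpecialLinearGroup (Fin 5) F) : Matrix (Fin 5) (Fin 5) F) = c • 1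
  · obtain ⟨c, hc⟩ := hs
    rw [mem_LT] at hL
    rw [mem_UT] at hU
    have h00 : (L.1 * U.1) 0 0 = 1 := by
      rw [Matrix.mul_apply, Finset.sum_eq_single 0, hL.2, hU.2, one_mul]
      · intro k _ hk
        rw [hL.1 0 k (Fin.pos_of_ne_zero hk), zero_mul]
      · intro h; exact absurd (Finset.mem_univ _) h
    have hc1 : c = 1 := by
      have h1 := congrFun (congrFun hc 0) 0
      change (L.1 * U.1) 0 0 = _ at h1
      rw [h00] at h1
      simpa using h1.symm
    have h1 : L * U = 1 := by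
      apply Subtype.ext
      change ((L * U : SpecialLinearGroup (Fin 5) F) : Matrix (Fin 5) (Fin 5) F) = 1
      rw [hc, hc1, one_smul]
    obtain ⟨X, hX⟩ := exists_irr_sl hP' ht
    refine ⟨X, X⁻¹, by rw [h1, mul_inv_cancel], hX, ?_⟩
    have h2 : ((X⁻¹ : SpecialLinearGroup (Fin 5) F) : Matrix (Fin 5) (Fin 5) F) = X.1⁻¹ := by
      change X.1.adjugate = _
      rw [Matrix.inv_def, X.2]
      simp
    rw [h2]
    exact irr_inv' (by rw [X.2]; exact one_ne_zero) hX
  · push Not at hs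
    exact five_sl h4 hP hP' ht (L * U) hs

theorem root_nine (h : Nat.card F = 9) (x : F) (hx : x ≠ 0) : (x ^ 3) ^ 5 * x = 1 := by
  rw [show (x ^ 3) ^ 5 * x = (x ^ 8) ^ 2 by ring, pow_card (n := 7) h hx, one_pow]

/-- **`P₅(9)`** -/
theorem p_five_nine {K : Type u} [Field K] [Finite K] (hK : Nat.card K = 9) : ∀ L ∈ LT 5 K, ∀ U ∈ UT 5 K,
    ∃ X Y : SpecialLinearGroup (Fin 5) K, L * U = X * Y ∧ Irreducible (X : Matrix (Fin 5) (Fin 5) K).charpoly ∧
      Irreducible (Y : Matrix (Fin 5) (Fin 5) K).charpoly := fun _ hL _ hU =>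
  p_five (by omega) (pair_nine hK) (pair_nine' hK) (root_nine hK) hL hU

end Cfsg.Agent.H962.PP
end

-- part: H134/Ore/AltMore
section
prune_inst 0x357055407d4002080000059653003e27fe0005b0002b8400dde10e4c0f8f5f234d82af60f7a01f0b5b0aa225403f8068131001f9425000002e208600411d00a09cab72e6f3fdb18c67001fc0f887580c00000000000000000000000000041004000000000
set_option linter.all false
open scoped Cfsg.Agent.FastGrp

/-!
# Alternating groups: four involutions (S4171) and products of two `m`-th powers (S2465)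
-/

set_option autoImplicit false

namespace Cfsg.Agent.H134.Ore

open Equiv Equiv.Perm H134.Bert

section

variable {α : Type*} [DecidableEq α]

variable [Fintype α]

end

/-- The trichotomy behind the rows for the alternating groups: an odd `l ≤ n - 2` with
`g` a product of two `l`-cycles, or an exceptional cycle type in degree `6` or `8`. -/
theorem trichotomy {n : ℕ} (hn : 5 ≤ n) (g : Perm (Fin n)) (hg : sign g = 1) :
    (∃ l, l % 2 = 1 ∧ l + 2 ≤ n ∧ Two g l) ∨
      (n = 6 ∧ (g.cycleType = {2, 4} ∨ g.cycleType = {3, 3})) ∨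
      (n = 8 ∧ g.cycleType = {2, 2, 2, 2}) := by
  by_cases hg1 : g = 1
  · left
    refine ⟨1, rfl, by omega, ?_⟩
    subst hg1
    exact ⟨1, 1, {⟨0, by omega⟩}, {⟨0, by omega⟩}, cyc_one _, cyc_one _, by simp, by simp,
      by simp⟩
  obtain ⟨r, hr, hr1, h⟩ := bertram_exact g hg hg1
  have hc := card_cycleType_le g
  have hs : g.support.card ≤ n := by
    have := Finset.card_le_univ g.support
    rwa [Fintype.card_fin] at this
  by_cases ho : ∃ l, r ≤ l ∧ l + 2 ≤ n ∧ l % 2 = 1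
  · obtain ⟨l, h1, h2, h3⟩ := ho
    have hl : l ≤ Fintype.card (Fin n) := by rw [Fintype.card_fin]; omega
    exact Or.inl ⟨l, h3, h2, h.mono h1 hl⟩
  push Not at ho
  right
  have key : r + 2 = n ∧ (n = 6 ∨ n = 8) := by
    have h1 := ho r le_rfl
    have h2 := ho (r + 1) (by omega)
    omega
  obtain ⟨hr2, h68⟩ := key
  have h2le : ∀ m ∈ g.cycleType, 2 ≤ m := fun m hm => two_le_of_mem_cycleType hm
  rcases h68 with rfl | rfl
  · left
    refine ⟨rfl, ?_⟩
    have hc2 : Multiset.card g.cycleType = 2 := by omega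
    have hsum : g.cycleType.sum = 6 := by rw [sum_cycleType]; omega
    obtain ⟨a, b, hab⟩ := Multiset.card_eq_two.1 hc2
    rw [hab] at hsum h2le ⊢
    have ha := h2le a (by simp)
    have hb := h2le b (by simp)
    simp only [Multiset.insert_eq_cons, Multiset.sum_cons, Multiset.sum_singleton] at hsum
    have : (a = 2 ∧ b = 4) ∨ (a = 3 ∧ b = 3) ∨ (a = 4 ∧ b = 2) := by omega
    rcases this with ⟨rfl, rfl⟩ | ⟨rfl, rfl⟩ | ⟨rfl, rfl⟩
    · exact Or.inl rfl
    · exact Or.inr rfl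
    · exact Or.inl (Multiset.pair_comm _ _)
  · right
    refine ⟨rfl, ?_⟩
    have hc4 : Multiset.card g.cycleType = 4 := by omega
    have hsum : g.cycleType.sum = 8 := by rw [sum_cycleType]; omega
    have hall : ∀ m ∈ g.cycleType, m = 2 := by
      intro m hm
      obtain ⟨s, hs'⟩ := Multiset.exists_cons_of_mem hm
      have h3 : ∀ x ∈ s, 2 ≤ x := fun x hx => h2le x (by rw [hs']; simp [hx])
      have h4 := Multiset.card_nsmul_le_sum h3
      rw [hs', Multiset.sum_cons] at hsum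
      rw [hs', Multiset.card_cons] at hc4
      have h5 := h2le m hm
      simp only [smul_eq_mul] at h4
      omega
    rw [Multiset.eq_replicate.2 ⟨hc4, hall⟩]
    rfl

/-- Products of two elements of order prime to `m` in the alternating group. -/
theorem pr_of_two {n l m : ℕ} (hl : l % 2 = 1) (hlm : l.Coprime m) (g : alternatingGroup (Fin n))
    (h : Two (g : Perm (Fin n)) l) : H78.Pw.Pr m g := by
  obtain ⟨u, v, X, Y, hu, hv, e, hX, hY⟩ := h
  refine ⟨⟨u, mem_alternatingGroup.2 (hu.sign (hX ▸ Nat.odd_iff.2 hl))⟩,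
    ⟨v, mem_alternatingGroup.2 (hv.sign (hY ▸ Nat.odd_iff.2 hl))⟩, Subtype.ext e, ?_, ?_⟩
  · rw [← Subgroup.orderOf_coe, hu.orderOf, hX]; exact hlm
  · rw [← Subgroup.orderOf_coe, hv.orderOf, hY]; exact hlm

theorem two_of_le {n l : ℕ} (h1 : 1 ≤ l) (h2 : (n + n / 2) / 2 ≤ l) (h3 : l ≤ n)
    (g : alternatingGroup (Fin n)) : Two (g : Perm (Fin n)) l :=
  bertram' (g : Perm (Fin n)) (mem_alternatingGroup.1 g.2) h1 (by rw [Fintype.card_fin]; exact h2)
    (by rw [Fintype.card_fin]; exact h3)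

theorem all_six {n : ℕ} (hn : 5 ≤ n) : H78.Pw.All 6 (alternatingGroup (Fin n)) := by
  intro g
  obtain ⟨l, h1, h2, h3⟩ : ∃ l, (n + n / 2) / 2 ≤ l ∧ l ≤ n ∧ (l % 6 = 1 ∨ l % 6 = 5) := by
    set a := (n + n / 2) / 2 with ha
    have hcase : (a % 6 = 1 ∨ a % 6 = 5) ∨ ((a + 1) % 6 = 1 ∨ (a + 1) % 6 = 5) ∨
      ((a + 2) % 6 = 1 ∨ (a + 2) % 6 = 5) ∨ ((a + 3) % 6 = 1 ∨ (a + 3) % 6 = 5) := by
      clear_value a
      have h0 : a % 6 = 0 ∨ a % 6 = 1 ∨ a % 6 = 2 ∨ a % 6 = 3 ∨ a % 6 = 4 ∨ a % 6 = 5 := by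
        omega
      rcases h0 with h | h | h | h | h | h
      · right; left; left; omega
      · left; left; exact h
      · right; right; right; right; omega
      · right; right; left; right; omega
      · right; left; right; omega
      · left; right; exact h
    by_cases h12 : 12 ≤ n
    · rcases hcase with h | h | h | h
      · exact ⟨a, le_rfl, by omega, h⟩
      · exact ⟨a + 1, by omega, by omega, h⟩
      · exact ⟨a + 2, by omega, by omega, h⟩
      · exact ⟨a + 3, by omega, by omega, h⟩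
    · have : n = 5 ∨ n = 6 ∨ n = 7 ∨ n = 8 ∨ n = 9 ∨ n = 10 ∨ n = 11 := by omega
      rcases this with rfl | rfl | rfl | rfl | rfl | rfl | rfl
      · exact ⟨5, by omega, by omega, by omega⟩
      · exact ⟨5, by omega, by omega, by omega⟩
      · exact ⟨7, by omega, by omega, by omega⟩
      · exact ⟨7, by omega, by omega, by omega⟩
      · exact ⟨7, by omega, by omega, by omega⟩
      · exact ⟨7, by omega, by omega, by omega⟩
      · exact ⟨11, by omega, by omega, by omega⟩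
  refine pr_of_two (l := l) (by omega) ?_ g (two_of_le (by omega) h1 h2 g)
  rw [Nat.Coprime, Nat.gcd_comm, Nat.gcd_rec]
  rcases h3 with h | h <;> rw [h] <;> decide

theorem not_dvd_coprime {p l : ℕ} (hp : p.Prime) (h : ¬ p ∣ l) : l.Coprime p :=
  ((Nat.Prime.coprime_iff_not_dvd hp).2 h).symm

theorem all_prime {n : ℕ} (hn : 5 ≤ n) {p : ℕ} (hp : p.Prime) (h5 : 5 ≤ p) :
    H78.Pw.All p (alternatingGroup (Fin n)) := by
  intro g
  -- large degree
  by_cases hex : ∃ l, (n + n / 2) / 2 ≤ l ∧ l ≤ n ∧ l % 2 = 1 ∧ ¬ p ∣ l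
  · obtain ⟨l, h1, h2, h3, h4⟩ := hex
    exact pr_of_two h3 (not_dvd_coprime hp h4) g (two_of_le (by omega) h1 h2 g)
  have h68 : n = 6 ∨ n = 8 := by
    by_contra hne
    apply hex
    have hp9 : ¬ p ∣ 9 := by
      intro hd
      have h9 : p ∣ 3 := hp.dvd_of_dvd_pow (show p ∣ 3 ^ 2 by simpa using hd)
      have := Nat.le_of_dvd (by norm_num) h9
      omega
    have hp3 : ¬ p ∣ 3 := by
      intro hd
      have := Nat.le_of_dvd (by norm_num) hd
      omega
    have hpd : ∀ l, p ∣ l → p ∣ l + 2 → False := by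
      intro l h1 h2
      have h3 : p ∣ 2 := (Nat.dvd_add_right h1).1 h2
      have := Nat.le_of_dvd (by norm_num) h3
      omega
    by_cases h13 : 13 ≤ n
    · set a := (n + n / 2) / 2 with ha
      obtain ⟨b, hb1, hb2, hb3⟩ : ∃ b, a ≤ b ∧ b ≤ a + 1 ∧ b % 2 = 1 := by
        rcases Nat.mod_two_eq_zero_or_one a with h | h
        · exact ⟨a + 1, by omega, by omega, by omega⟩
        · exact ⟨a, by omega, by omega, by omega⟩
      by_cases hpb : p ∣ b
      · exact ⟨b + 2, by omega, by omega, by omega, fun h => hpd b hpb h⟩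
      · exact ⟨b, by omega, by omega, by omega, hpb⟩
    · have : n = 5 ∨ n = 7 ∨ n = 9 ∨ n = 10 ∨ n = 11 ∨ n = 12 := by omega
      rcases this with rfl | rfl | rfl | rfl | rfl | rfl
      · exact ⟨3, by omega, by omega, by omega, hp3⟩
      · by_cases hp5 : p ∣ 5
        · exact ⟨7, by omega, by omega, by omega, fun h => hpd 5 hp5 h⟩
        · exact ⟨5, by omega, by omega, by omega, hp5⟩
      · exact ⟨9, by omega, by omega, by omega, hp9⟩
      · exact ⟨9, by omega, by omega, by omega, hp9⟩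
      · exact ⟨9, by omega, by omega, by omega, hp9⟩
      · exact ⟨9, by omega, by omega, by omega, hp9⟩
  -- degrees 6 and 8
  have hsmall : ∀ q : ℕ, orderOf g ∣ q → ¬ p ∣ q → H78.Pw.Pr p g := fun q hq hpq =>
    H78.Pw.Pr.of_coprime (not_dvd_coprime hp fun h => hpq (h.trans hq))
  have hp12 : ¬ p ∣ 12 := by
    intro hd
    have : p ∣ 2 ^ 2 * 3 := by simpa using hd
    rcases (Nat.Prime.dvd_mul hp).1 this with h | h
    · have := Nat.le_of_dvd (by norm_num) (hp.dvd_of_dvd_pow h)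
      omega
    · have := Nat.le_of_dvd (by norm_num) h
      omega
  rcases trichotomy hn (g : Perm (Fin n)) (mem_alternatingGroup.1 g.2) with
    ⟨l, hl, hln, h⟩ | ⟨-, h⟩ | ⟨-, h⟩
  · -- enlarge `l` to `3` or `5` respectively
    rcases h68 with rfl | rfl
    · have h3 : Two (g : Perm (Fin 6)) 3 := h.mono (by omega) (by rw [Fintype.card_fin]; omega)
      refine pr_of_two (l := 3) rfl (not_dvd_coprime hp ?_) g h3
      intro hd
      have := Nat.le_of_dvd (by norm_num) hd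
      omega
    · have h5' : Two (g : Perm (Fin 8)) 5 := h.mono (by omega) (by rw [Fintype.card_fin]; omega)
      have hp57 : ¬ p ∣ 5 ∨ ¬ p ∣ 7 := by
        by_contra hc
        push Not at hc
        have h3 : p ∣ 2 := (Nat.dvd_add_right hc.1).1 (show p ∣ 5 + 2 from hc.2)
        have := Nat.le_of_dvd (by norm_num) h3
        omega
      rcases hp57 with h5 | h7
      · exact pr_of_two (l := 5) rfl (not_dvd_coprime hp h5) g h5'
      · exact pr_of_two (l := 7) rfl (not_dvd_coprime hp h7) g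
          (h5'.mono (by omega) (by rw [Fintype.card_fin]; omega))
  · refine hsmall 12 ?_ hp12
    rw [← Subgroup.orderOf_coe, ← lcm_cycleType]
    rcases h with h | h <;> rw [h] <;> decide
  · refine hsmall 12 ?_ hp12
    rw [← Subgroup.orderOf_coe, ← lcm_cycleType, h]
    decide

/-- The row of S2465 for the alternating groups. -/
theorem pw_alt {S : Type*} [Group S] (h : IsAlternating S) : H78.Pw.Pw S := by
  obtain ⟨n, hn, ⟨e⟩⟩ := h
  exact H78.Pw.Pw.congr e.symm ⟨all_six hn, fun p hp h5 => all_prime hn hp h5⟩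

end Cfsg.Agent.H134.Ore
end

-- part: H750/F43/Main
section
set_option linter.all false
open scoped Cfsg.Agent.FastGrp

/-!
# `F₄(3)`: every element is a product of two elements of order prime to `6` (S2465; helper750)

* `six_of` : the assembly over `ZMod 3`;
* `six_F4_three_of` : any field with three elements.
-/

set_option autoImplicit false

namespace Cfsg.Agent.H750.F43

open Cfsg Cfsg.Lie Cfsg.Agent.ChevalleyStructure Cfsg.Agent.Nodes.RGDChev Cfsg.Agent.KFacts.RgdChevCoord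
  Cfsg.Agent.H537.Pw
open Cfsg.Agent.H700.F43 Cfsg.Agent.H78.Pw

universe u

/-- no prime divisor `≥ 5` -/
theorem two_three {n : ℕ} (hn : n ≠ 0) (h : ∀ p : ℕ, p.Prime → 5 ≤ p → ¬ p ∣ n) : ∃ a b, n = 2 ^ a * 3 ^ b := by
  obtain ⟨a, m, h1, rfl⟩ := Nat.exists_eq_pow_mul_and_not_dvd hn 2 (by norm_num)
  have hm : m ≠ 0 := fun h0 => hn (by rw [h0, mul_zero])
  obtain ⟨b, m', h3, rfl⟩ := Nat.exists_eq_pow_mul_and_not_dvd hm 3 (by norm_num)
  refine ⟨a, b, ?_⟩
  have h4 : m' = 1 := by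
    by_contra hne
    have hp := Nat.minFac_prime hne
    have hd := Nat.minFac_dvd m'
    have hge := hp.two_le
    refine h m'.minFac hp ?_ (dvd_mul_of_dvd_right (dvd_mul_of_dvd_right hd _) _)
    by_contra hlt
    have h5 : m'.minFac = 2 ∨ m'.minFac = 3 ∨ m'.minFac = 4 := by omega
    rcases h5 with h5 | h5 | h5
    · rw [h5] at hd
      exact h1 (dvd_mul_of_dvd_right hd _)
    · rw [h5] at hd
      exact h3 hd
    · rw [h5] at hp
      exact absurd hp (by norm_num)
  rw [h4, mul_one]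

/-- **The assembly.** -/
theorem six_of
    (hFC : ∀ g : G3, 3 ∣ orderOf g → ∀ p : ℕ, p.Prime → 5 ≤ p → p ∣ orderOf g →
      Nat.card (Subgroup.centralizer ({g} : Set G3)) ≤ 4976985092)
    (hM : Nonempty Mdl)
    (hE : ∀ g ∈ CZ, ∀ a b : ℕ, 1 ≤ a → 1 ≤ b → orderOf g = 2 ^ a * 3 ^ b → Pr 6 g) : All 6 G3 := by
  intro g
  have hK : Nat.card F3 = 3 := by simp
  by_cases h3 : 3 ∣ orderOf g
  · by_cases h5 : ∃ p : ℕ, p.Prime ∧ 5 ≤ p ∧ p ∣ orderOf g
    · obtain ⟨p, hp, hp5, hpd⟩ := h5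
      exact H903.Pw.GowF.small_three hK (hFC g h3 p hp hp5 hpd)
    · push Not at h5
      have hn : orderOf g ≠ 0 := (orderOf_pos g).ne'
      obtain ⟨a, b, hab⟩ := two_three hn h5
      have hb : 1 ≤ b := by
        by_contra hb
        have hb0 : b = 0 := by omega
        rw [hab, hb0, pow_zero, mul_one] at h3
        have := Nat.prime_three.dvd_of_dvd_pow h3
        omega
      by_cases ha : a = 0
      · obtain ⟨M⟩ := hM
        refine pr_three M (Cfsg.Agent.S1054.result chevF4 (by simp)).1 (k := b) ?_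
        rw [ha, pow_zero, one_mul] at hab
        rw [← hab, pow_orderOf_eq_one]
      · rcases H885.Pw.DichF.dich hK (by omega : 1 ≤ a) hab with ⟨x, hx⟩ | hc
        · have h1 : x⁻¹ * g * x ∈ CZ := by
            rw [Subgroup.mem_centralizer_singleton_iff]
            have h2 : g * (x * zz * x⁻¹) = (x * zz * x⁻¹) * g := hx.eq
            calc x⁻¹ * g * x * zz = x⁻¹ * (g * (x * zz * x⁻¹)) * x := by group
              _ = x⁻¹ * ((x * zz * x⁻¹) * g) * x := by rw [h2]
              _ = zz * (x⁻¹ * g * x) := by group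
          have h3 : orderOf (x⁻¹ * g * x) = orderOf g := by
            have h4 := orderOf_injective (MulAut.conj x⁻¹).toMonoidHom (MulAut.conj x⁻¹).injective g
            have h5 : (MulAut.conj x⁻¹).toMonoidHom g = x⁻¹ * g * x := by
              change x⁻¹ * g * x⁻¹⁻¹ = _
              rw [inv_inv]
            rw [h5] at h4
            exact h4
          have h4 := hE _ h1 a b (by omega) hb (h3.trans hab)
          refine Pr.of_conj (x := x⁻¹) ?_
          rw [inv_inv]
          exact h4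
        · exact H903.Pw.GowF.small_three hK hc
  · exact H903.Pw.GowF.three hK h3

/-- any field with three elements -/
theorem transport (h : All 6 G3) {K : Type u} [Field K] (hK : Nat.card K = 3) : All 6 ↥(chevF4.group K) := by
  have : Finite K := Nat.finite_of_card_ne_zero (by rw [hK]; norm_num)
  intro g
  exact (H25.F43.Phi_pr hK).1 (h _)

end Cfsg.Agent.H750.F43
end

-- part: H750/F43/Final
section
set_option linter.all false

/-!
# `F₄(3)`: every element is a product of two elements of order prime to `6` (S2465; helper750)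
-/

set_option autoImplicit false

namespace Cfsg.Agent.H750.F43

open Cfsg Cfsg.Lie Cfsg.Agent.H78.Pw

universe u

/-- over `ZMod 3` -/
theorem six_G3 : All 6 G3 :=
  six_of (fun _ h3 _ hp h5 hpg => H938.F43.fc_le (by simp) h3 hp h5 hpg) ⟨H700.F43.model⟩
    fun _ hg _ _ ha hb ho => H98.F43.pr_mixed (fun _ h => H903.Pw.GowF.small_three (by simp) h) hg ha hb ho

/-- **`F₄(3)`** -/
theorem six_F4_three {K : Type u} [Field K] (hK : Nat.card K = 3) : All 6 ↥(chevF4.group K) :=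
  transport six_G3 hK

end Cfsg.Agent.H750.F43
end
end
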