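import Cfsg.Agent.H150.Pw.ERow_m3
import Cfsg.Agent.H126.PwO.FiveThree_m3
import Cfsg.Agent.H194.Pw.SixAll_mg
import Cfsg.Agent.H928.Ore.TwFin
import Cfsg.Agent.H928.Ore.TwAll_m3
import Cfsg.Agent.H649.PwSp.Corner_m3
import Cfsg.Agent.H346.Pw.Rows_m3
import Cfsg.Agent.StdG24.Iso6
import Cfsg.Agent.H928.War.TwOne_m3
import Cfsg.Agent.H122.TC.Real_m3
import Cfsg.Agent.H643.PwCnt
import Cfsg.Agent.H570.Ore.Blk_m3
import Cfsg.Agent.H65.Ore.Split_m3
import Cfsg.Agent.Cit.HexTorus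
import Cfsg.Agent.Cit.HexBruhat
import Cfsg.Agent.Cit.HexG2
import Cfsg.Agent.S1027
import Cfsg.Agent.S1035
import Cfsg.Agent.S1036
import Cfsg.Agent.S1038
import Cfsg.Agent.S1044
import Cfsg.Agent.S1045
import Cfsg.Agent.S2154
import Cfsg.Agent.S1055
import Cfsg.Agent.S1059
import Cfsg.Agent.H311.HexCard
import Cfsg.Agent.H332.Cyc.G2Big
import Cfsg.Agent.H541.PRegG2
import Cfsg.Agent.H360.LD.RowJ3_m3
import Cfsg.Agent.H126.PwO.Nu_m3
import Cfsg.Agent.H126.PwO.Fld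
import Cfsg.Agent.H854.Ore.Fi24Rows
import Cfsg.Agent.H130.War.RankLe
import Cfsg.Agent.H240.Sp44.Main_m3
import Cfsg.Agent.H85.Pw.PFive_m3
import Mathlib
import Cfsg.Prelude.Def_Classical
import Cfsg.Agent.H141.Red43
import Cfsg.Agent.H347.HX.D42.Main
import Cfsg.Agent.H335.FT.PsRow
import Cfsg.Agent.H122.Pw.EightThree
import Cfsg.Agent.Lib.FinFast
import Cfsg.Agent.FastGrp
import Cfsg.Agent.Prune
set_option linter.all false

section
prune_inst 0x7fbca9f8abb80bffdfff7e3fa698cffc10800fffa4dff94b7fe061af0bdf030009c123810de010fc0e42421410a87803f97eeeffe06bd87ffffd17b41ffbee4fe5f73508519488240e2c0ff703f0770e6f3fffffffffffffffffffffffffffbeffbfefffffff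

-- part: H346/Pw/Rows2_mg
section
prune_inst 0x4014000404000020000040584510000855d00008000200800880508400209a10244008900040030094008200000040020000000e0004000000e840000000100000800000020000011040008000088010000000000000000000000000000000004010000000
set_option linter.all false
open scoped Cfsg.Agent.FastGrp

-- part: H150/Pw/EThree
section
/-!
# `E₆(3)`: the row of S2465 (with `SL₅(3)` of helper126)
-/

set_option autoImplicit false

namespace Cfsg.Agent.H150.Pw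

open Cfsg.Lie Cfsg.Agent.ChevalleyStructure Cfsg.Agent.H78.Pw
open Cfsg.Agent.H126.PwO.Five (pF pF_dvd pF_irr p5_3)
open Polynomial

universe u

variable {K : Type u} [Field K] [Finite K]

omit [Finite K] in
theorem pow_of_pF [CharP K 3] {X : Matrix (Fin 5) (Fin 5) K} (h : X.charpoly = pF K) : X ^ 121 = 1 := by
  have h1 : X ^ 11 = 1 := by
    obtain ⟨r, hr⟩ := pF_dvd (F := K)
    have h2 : aeval X (pF K) = 0 := by rw [← h]; exact Matrix.aeval_self_charpoly X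
    have h3 := congrArg (aeval X) hr
    rw [map_mul, h2, zero_mul, map_sub, map_pow, aeval_X, map_one] at h3
    exact sub_eq_zero.1 h3
  calc X ^ 121 = (X ^ 11) ^ 11 := by rw [← pow_mul]
    _ = 1 := by rw [h1, one_pow]

theorem a5_three (hK : Nat.card K = 3) : A5 K := by
  have : Fact (Nat.Prime 3) := ⟨Nat.prime_three⟩
  obtain ⟨hch, -⟩ := Cfsg.Agent.H374.Ore.Sl3.exists_cast (K := K) hK
  refine a5_three_of hK fun A hA hs => ?_
  obtain ⟨X, Y, e, hX, hY⟩ := p5_3 hK A hA hs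
  exact ⟨X, Y, e, by rw [hX]; exact pF_irr hK, by rw [hY]; exact pF_irr hK, pow_of_pF hX, pow_of_pF hY⟩

/-- **`E₆(3)`** : every element is a product of two elements of order prime to `6`. -/
theorem six_E6_three (hK : Nat.card K = 3) : All 6 ↥(chevE6.group K) :=
  six_E6_three_of hK (a5_three hK)

end Cfsg.Agent.H150.Pw
end

-- part: H224/Pw/ESeven
section
/-!
# `E_7(q)`, `q = 4, 8, 9` : products of two elements of order prime to `6` (S2465, helper224)

The Levi subgroup of type `A_5 A_1`; the elements `(x₆, x₂)`, `x₆` with the eigenvalues `1, α, α^q, ..., α^(q^4)`,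
`α` of prime order `l ∣ Φ_5(q)`, `x₂` of prime order `r ≥ 5`, `r ∣ q² - 1`.
-/

set_option autoImplicit false
set_option linter.unusedSectionVars false

namespace Cfsg.Agent.H224.Pw

open Polynomial
open Cfsg.Lie Cfsg.Agent.Nodes.KindChev Cfsg.Agent.KFacts.RgdChevCoord
open Cfsg.Agent.H85.Pw Cfsg.Agent.H78.Pw
open Cfsg.Agent.H928.Pw.Dg

universe u

/-- an element of given order of a finite field -/
theorem exists_order {K' : Type*} [Field K'] [Finite K'] {d : ℕ} (hd : d ∣ Nat.card K' - 1) : ∃ x : K', orderOf x = d := by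
  obtain ⟨z, hz⟩ := IsCyclic.exists_ofOrder_eq_natCard (α := K'ˣ)
  rw [Nat.card_units] at hz
  have h1 : 1 < Nat.card K' := Finite.one_lt_card
  obtain ⟨k, hk⟩ := hd
  have hd0 : 0 < d := Nat.pos_of_ne_zero fun h => by rw [h, zero_mul] at hk; omega
  have hk0 : k ≠ 0 := fun h => by rw [h, mul_zero] at hk; omega
  refine ⟨((z ^ k : K'ˣ) : K'), ?_⟩
  rw [orderOf_units, orderOf_pow_of_dvd hk0 (by rw [hz, hk]; exact Dvd.intro_left d rfl), hz, hk,
    Nat.mul_div_cancel _ (Nat.pos_of_ne_zero hk0)]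

section two

variable {K : Type u} [Field K] {K' : Type} [Field K'] (i : K →+* K')

theorem ev_of_sp {r : ℕ} (hr : 0 < r) {ζ : K'} (hζ : IsPrimitiveRoot ζ r) {x : Matrix.SpecialLinearGroup (Fin 2) K} (h : Sp r x) :
    Ev i (E1 r) x := by
  let j : K' →+* AlgebraicClosure K' := algebraMap K' (AlgebraicClosure K')
  obtain ⟨lam, g, e, h1, h2, h3⟩ := h.diag (j.comp i) (IsAlgClosed.splits _) (by norm_num)
  have hj : IsPrimitiveRoot (j ζ) r := hζ.map_of_injective j.injective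
  have : NeZero r := ⟨hr.ne'⟩
  choose k hk1 hk2 using fun a => hj.eq_pow_of_pow_eq_one (h2 a)
  let μ : Fin 2 → K' := fun a => ζ ^ k a
  have hμ : ∀ a, j (μ a) = lam a := fun a => by rw [← hk2 a, ← map_pow]
  have hch : (x.1.charpoly.map i).map j = (∏ a, (X - C (μ a))).map j := by
    rw [Polynomial.map_map, ← Matrix.charpoly_map]
    have hgg' : ((g⁻¹ : GL (Fin 2) (AlgebraicClosure K')) : Matrix (Fin 2) (Fin 2) (AlgebraicClosure K')) *
        (g : Matrix (Fin 2) (Fin 2) (AlgebraicClosure K')) = 1 := by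
      rw [← Units.val_mul, inv_mul_cancel]; rfl
    rw [e, Matrix.charpoly_mul_comm, ← mul_assoc, hgg', one_mul, Matrix.charpoly_diagonal, Polynomial.map_prod]
    refine Finset.prod_congr rfl fun a _ => ?_
    rw [Polynomial.map_sub, map_X, map_C, hμ]
  have hch' : x.1.charpoly.map i = ∏ a, (X - C (μ a)) := Polynomial.map_injective j j.injective hch
  have hsep : (∏ a, (X - C (μ a))).Separable := by
    rw [← hch']
    exact h.sep.map
  refine ⟨μ, ⟨fun a => ?_, ?_, ?_⟩, separable_prod_X_sub_C_iff.1 hsep, hch'⟩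
  · apply j.injective
    rw [map_pow, hμ, h2, map_one]
  · apply j.injective
    rw [map_mul, hμ, hμ, map_one, ← h1, Fin.prod_univ_two]
  · intro h4
    apply h3 0
    rw [← hμ, h4, map_one]

end two

/-- **The pairs.** -/
theorem six_E7_of {K : Type} [Field K] [Finite K] (hK : 3 ≤ Nat.card K) {l r : ℕ} (hl : l.Prime) (hl5 : 5 ≤ l)
    (hr : r.Prime) (hr5 : 5 ≤ r) (hlr : l ≠ r) (h5 : l ∣ Nat.card K ^ 5 - 1) (h1 : ¬ l ∣ Nat.card K - 1)
    (h2 : r ∣ Nat.card K ^ 2 - 1) : All 6 ↥(chevE7.group K) := by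
  obtain ⟨ch, hch⟩ := CharP.exists K
  have hp : Fact ch.Prime := ⟨(CharP.char_is_prime_or_zero K ch).resolve_right (CharP.char_ne_zero_of_finite K ch)⟩
  have hm0 : NeZero 10 := ⟨by norm_num⟩
  let K' := FiniteField.Extension K ch 10
  have hK' : Nat.card K' = Nat.card K ^ 10 := FiniteField.natCard_extension K ch 10
  let i : K →+* K' := algebraMap K K'
  have hd : ∀ {m : ℕ}, m ∣ 10 → Nat.card K ^ m - 1 ∣ Nat.card K' - 1 := by
    rintro m ⟨k, hk⟩
    rw [hK', hk, pow_mul]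
    have := Nat.sub_dvd_pow_sub_pow (Nat.card K ^ m) 1 k
    rwa [one_pow] at this
  obtain ⟨α, hα⟩ := exists_order (K' := K') (h5.trans (hd (by norm_num)))
  obtain ⟨β, hβ⟩ := exists_order (K' := K') (h2.trans (hd (by norm_num)))
  have hβ' : IsPrimitiveRoot β r := hβ ▸ IsPrimitiveRoot.orderOf β
  have hcop : Nat.Coprime l r := (Nat.coprime_primes hl hr).2 hlr
  have hc6 : ∀ {s : ℕ}, s.Prime → 5 ≤ s → s.Coprime 6 := by
    intro s hs h
    rw [Nat.Prime.coprime_iff_not_dvd hs]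
    intro h3
    have := Nat.le_of_dvd (by norm_num) h3
    have h6 : s = 5 ∨ s = 6 := by omega
    rcases h6 with rfl | rfl
    · omega
    · exact absurd hs (by norm_num)
  obtain ⟨φ₁, hφ₁⟩ := T5.hom K
  obtain ⟨φ₂, hφ₂⟩ := T1.hom K
  refine all_of_pairs (N := l * r) (Nat.Coprime.mul_left (hc6 hl hl5) (hc6 hr hr5)) ?_
  refine pairs_of_two Cfsg.Agent.Nodes.KindE.isType7 T5 T1 hsub hcom hφ₁ hφ₂ i (E₁ := E5 l) (E₂ := E1 r) (by norm_num)
    (Cfsg.Agent.S1054.result chevE7 (by simp)) Cfsg.Agent.Nodes.ChevChart.irr7 (hout hl.ne_zero hr.ne_zero hcop)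
    (fun lam h a => ?_) (fun mu h a => ?_) (P6 i hK hl h5 h1 hα) (fun L hL U hU => ?_)
  · rw [pow_mul, h.pow, one_pow]
  · rw [mul_comm, pow_mul, h.pow, one_pow]
  · obtain ⟨x, y, e, hx, hy⟩ := Cfsg.Agent.H928.Pw.TwP.pp2 (K := K) hr hr5 h2 L hL U hU
    exact ⟨x, y, e, ev_of_sp i hr.pos hβ' hx, ev_of_sp i hr.pos hβ' hy⟩

/-- **`E_7(4)`, `E_7(8)`, `E_7(9)`.** -/
theorem six_E7_small {K : Type} [Field K] [Finite K] (hK : Nat.card K = 4 ∨ Nat.card K = 8 ∨ Nat.card K = 9) :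
    All 6 ↥(chevE7.group K) := by
  rcases hK with h | h | h
  · exact six_E7_of (l := 31) (r := 5) (by omega) (by norm_num) (by norm_num) (by norm_num) (by norm_num) (by norm_num)
      (by rw [h]; norm_num) (by rw [h]; norm_num) (by rw [h]; norm_num)
  · exact six_E7_of (l := 31) (r := 7) (by omega) (by norm_num) (by norm_num) (by norm_num) (by norm_num) (by norm_num)
      (by rw [h]; norm_num) (by rw [h]; norm_num) (by rw [h]; norm_num)
  · exact six_E7_of (l := 11) (r := 5) (by omega) (by norm_num) (by norm_num) (by norm_num) (by norm_num) (by norm_num)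
      (by rw [h]; norm_num) (by rw [h]; norm_num) (by rw [h]; norm_num)

end Cfsg.Agent.H224.Pw
end

-- part: H928/Pw/TwFour
section
/-!
The product lemma for `SL₃(q)`, `q = 4^k ≥ 16`, orders prime to `6` (S2465): both factors have the eigenvalues
`λ₁⁻², λ₁ λ₂, λ₁ λ₂⁻¹`, the orders of `λ₁`, `λ₂` being primes `≥ 5` dividing `q - 1`, `q + 1`.
-/

set_option autoImplicit false
set_option linter.unusedSectionVars false

namespace Cfsg.Agent.H928.Pw.TwFour

open Polynomial Matrix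
open Cfsg.Agent.H928.Pw.Dg Cfsg.Agent.H928.Pw.TwSix
open Cfsg.Agent.H162.GaussSL (UT LT)
open Cfsg.Agent.Nodes.RGDFoldSL (Fx mem_Fx)

universe u

/-- scalar matrices in the big cell -/
theorem eq_one_of_scalar {F : Type u} [Field F] {L U : SpecialLinearGroup (Fin 3) F} (hL : L ∈ LT 3 F) (hU : U ∈ UT 3 F)
    {c : F} (h : (L * U).1 = scalar (Fin 3) c) : L * U = 1 := by
  rw [Cfsg.Agent.H162.GaussSL.mem_LT] at hL
  rw [Cfsg.Agent.H162.GaussSL.mem_UT] at hU
  have h0 : (L * U).1 0 0 = 1 := by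
    change (L.1 * U.1) 0 0 = 1
    rw [Matrix.mul_apply, Fin.sum_univ_three, hL.2, hU.2, hL.1 0 1 (by decide), hL.1 0 2 (by decide)]
    ring
  rw [h, scalar_apply, diagonal_apply_eq] at h0
  apply Subtype.ext
  rw [h, h0]
  exact map_one _

/-- **The product lemma with given eigenvalues.** -/
theorem pp3_of {F : Type u} [Field F] {K : Type u} [Field K] (ι : F →+* K) {lam : Fin 3 → K}
    (hinj : Function.Injective lam) {ν a b : F} (hν : ι ν = lam 0) (ha : ι a = lam 1 + lam 2) (hb : ι b = lam 1 * lam 2)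
    (h1 : lam 0 * (lam 1 * lam 2) = 1) {N : ℕ} (hN : ∀ i, lam i ^ N = 1) (hne : ∀ i, lam i ≠ 1) : PPn 3 F N := by
  have hνb : ν * b = 1 := by
    apply ι.injective
    rw [map_mul, map_one, hν, hb, h1]
  have hb0 : b ≠ 0 := right_ne_zero_of_mul_eq_one hνb
  have hν0 : ν ≠ 0 := left_ne_zero_of_mul_eq_one hνb
  set f : F[X] := X ^ 2 - C a * X + C b with hf
  have hfm : f.Monic := by rw [hf]; monicity!
  have hfd : f.natDegree = 2 := by rw [hf]; compute_degree!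
  have hf0 : f.coeff 0 = b := by rw [hf]; simp
  set p : F[X] := (X - C ν) * f with hp
  have hpm : p.Monic := (monic_X_sub_C ν).mul hfm
  have hpd : p.natDegree = 3 := by
    rw [hp, (monic_X_sub_C ν).natDegree_mul hfm, natDegree_X_sub_C, hfd]
  have hp0 : p.coeff 0 = -1 := by
    rw [hp, mul_coeff_zero, hf0]
    simp
    exact hνb
  have hpK : p.map ι = ∏ i, (X - C (lam i)) := by
    rw [Fin.prod_univ_three, hp, hf, Polynomial.map_mul, Polynomial.map_sub, Polynomial.map_add, Polynomial.map_sub,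
      Polynomial.map_mul, Polynomial.map_pow, map_X, map_C, map_C, map_C, hν, ha, hb, C_add, C_mul]
    ring
  have key : ∀ X : SpecialLinearGroup (Fin 3) F, X.1.charpoly = p → Sp N X := fun X hX =>
    Sp.of_split ι hinj (by rw [← hpK]; exact congrArg (Polynomial.map ι) hX) hN hne (by norm_num)
  have main : ∀ A : SpecialLinearGroup (Fin 3) F, (∀ c, A.1 ≠ scalar (Fin 3) c) →
      ∃ x y : SpecialLinearGroup (Fin 3) F, A = x * y ∧ Sp N x ∧ Sp N y := by
    intro A hA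
    obtain ⟨x, y, e, hx, -, c, hc, hy⟩ := Cfsg.Agent.H962.PP.exists_mul (k := 1) A.1
      (by rw [A.2]; exact one_ne_zero) hA hpm hpd (by rw [hp0]; exact neg_ne_zero.2 one_ne_zero) hfm hfd
      (by rw [hf0]; exact hb0)
    have hdx : x.det = 1 := by
      rw [Matrix.det_eq_sign_charpoly_coeff, hx, hp0, Fintype.card_fin]
      ring
    have hdy : y.det = 1 := by
      have h2 := congrArg Matrix.det e
      rw [A.2, det_mul, hdx, one_mul] at h2
      exact h2.symm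
    have hcν : c = ν := by
      rw [Matrix.det_eq_sign_charpoly_coeff, hy, mul_coeff_zero, hf0] at hdy
      simp at hdy
      have h3 : c * b = ν * b := by
        rw [hνb]
        linear_combination hdy
      exact mul_right_cancel₀ hb0 h3
    exact ⟨⟨x, hdx⟩, ⟨y, hdy⟩, Subtype.ext e, key _ hx, key _ (by rw [hcν] at hy; exact hy)⟩
  intro L hL U hU
  by_cases hs : ∃ c, (L * U).1 = scalar (Fin 3) c
  · obtain ⟨c, hc⟩ := hs
    rw [eq_one_of_scalar hL hU hc]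
    have hT : ∀ c, (SpecialLinearGroup.transvection (show (0 : Fin 3) ≠ 1 by decide) (1 : F)).1 ≠ scalar (Fin 3) c := by
      intro c h
      have h2 := congrFun (congrFun h 0) 1
      rw [scalar_apply, diagonal_apply_ne _ (by decide)] at h2
      change (1 + Matrix.single (0 : Fin 3) 1 (1 : F)) 0 1 = 0 at h2
      simp at h2
    obtain ⟨x, -, -, hx, -⟩ := main _ hT
    exact ⟨x, x⁻¹, (mul_inv_cancel x).symm, hx, hx.inv (by norm_num)⟩
  · exact main _ (not_exists.1 hs)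

/-! ### The primes -/

theorem exists_prime_of {m : ℕ} (h1 : 1 < m) (h2 : ¬ 2 ∣ m) (h3 : ¬ 3 ∣ m) : ∃ ℓ : ℕ, ℓ.Prime ∧ 5 ≤ ℓ ∧ ℓ ∣ m := by
  have hp := Nat.minFac_prime (n := m) (by omega)
  refine ⟨m.minFac, hp, ?_, Nat.minFac_dvd m⟩
  by_contra hlt
  have h2' := hp.two_le
  have hd := Nat.minFac_dvd m
  have h4 : m.minFac = 2 ∨ m.minFac = 3 ∨ m.minFac = 4 := by omega
  rcases h4 with h4 | h4 | h4
  · exact h2 (h4 ▸ hd)
  · exact h3 (h4 ▸ hd)
  · rw [h4] at hp; exact absurd hp (by norm_num)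

theorem exists_prime_sub {q m : ℕ} (hm : q = 2 ^ m) (h3 : q % 3 = 1) (h4 : 4 < q) :
    ∃ ℓ : ℕ, ℓ.Prime ∧ 5 ≤ ℓ ∧ ℓ ∣ q - 1 := by
  have hmod : ∀ k : ℕ, 2 ^ (2 * k) % 3 = 1 ∧ 2 ^ (2 * k + 1) % 3 = 2 := by
    intro k
    induction k with
    | zero => norm_num
    | succ k ih =>
      have e1 : 2 ^ (2 * (k + 1)) = 2 ^ (2 * k) * 4 := by rw [mul_add, pow_add]; norm_num
      have e2 : 2 ^ (2 * (k + 1) + 1) = 2 ^ (2 * k + 1) * 4 := by
        rw [show 2 * (k + 1) + 1 = (2 * k + 1) + 2 by ring, pow_add]; norm_num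
      omega
  obtain ⟨k, rfl | rfl⟩ : ∃ k, m = 2 * k ∨ m = 2 * k + 1 := ⟨m / 2, by omega⟩
  · have hk : 2 ≤ k := by
      by_contra h
      have : k = 0 ∨ k = 1 := by omega
      rcases this with rfl | rfl
      · rw [hm] at h4; norm_num at h4
      · rw [hm] at h4; norm_num at h4
    have ht : 4 ≤ 2 ^ k := by
      calc 4 = 2 ^ 2 := by norm_num
        _ ≤ 2 ^ k := Nat.pow_le_pow_right (by norm_num) hk
    have ht2 : 2 ∣ 2 ^ k := dvd_pow_self 2 (by omega)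
    have e : q - 1 = (2 ^ k - 1) * (2 ^ k + 1) := by
      rw [hm, pow_mul', pow_two]
      obtain ⟨s, hs⟩ : ∃ s, 2 ^ k = s + 1 := ⟨2 ^ k - 1, by omega⟩
      rw [hs, Nat.add_sub_cancel]
      have : (s + 1) * (s + 1) = s * (s + 1 + 1) + 1 := by ring
      rw [this, Nat.add_sub_cancel]
    have hqk : (2 ^ k * 2 ^ k) % 3 = 1 := by rw [← pow_two, ← pow_mul', ← hm]; exact h3
    by_cases h5 : 2 ^ k % 3 = 1
    · obtain ⟨ℓ, g1, g2, g3⟩ := exists_prime_of (m := 2 ^ k + 1) (by omega) (by omega) (by omega)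
      exact ⟨ℓ, g1, g2, e ▸ g3.mul_left _⟩
    · have h6 : 2 ^ k % 3 = 2 := by
        have h7 : 2 ^ k % 3 = 0 ∨ 2 ^ k % 3 = 1 ∨ 2 ^ k % 3 = 2 := by omega
        rcases h7 with h7 | h7 | h7
        · rw [Nat.mul_mod, h7] at hqk
          norm_num at hqk
        · exact absurd h7 h5
        · exact h7
      obtain ⟨ℓ, g1, g2, g3⟩ := exists_prime_of (m := 2 ^ k - 1) (by omega) (by omega) (by omega)
      exact ⟨ℓ, g1, g2, e ▸ g3.mul_right _⟩
  · rw [hm, (hmod k).2] at h3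
    omega

/-- **`P_3`, `q = 4^k ≥ 16`.** -/
theorem pp3_four {K : Type u} [Field K] [Fintype K] {q : ℕ} (hq1 : 1 < q) (hK : Fintype.card K = q ^ 2) {φ : K →+* K}
    (hφ : ∀ t, φ t = t ^ q) {ℓ₁ ℓ₂ : ℕ} (h₁ : ℓ₁.Prime) (h₂ : ℓ₂.Prime) (h5 : 5 ≤ ℓ₁) (h5' : 5 ≤ ℓ₂) (hd₁ : ℓ₁ ∣ q - 1)
    (hd₂ : ℓ₂ ∣ q + 1) : PPn 3 (Fx φ 1) (ℓ₁ * ℓ₂) := by
  classical
  have hne : ℓ₁ ≠ ℓ₂ := by
    rintro rfl
    have h3 : ℓ₁ ∣ (q + 1) - (q - 1) := Nat.dvd_sub hd₂ hd₁
    rw [show (q + 1) - (q - 1) = 2 by omega] at h3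
    have := Nat.le_of_dvd (by norm_num) h3
    omega
  have hcard : Nat.card Kˣ = (q - 1) * (q + 1) := by
    rw [Nat.card_eq_fintype_card, Fintype.card_units, hK]
    obtain ⟨m, rfl⟩ : ∃ m, q = m + 2 := ⟨q - 2, by omega⟩
    have e : (m + 2) ^ 2 = (m + 1) * (m + 3) + 1 := by ring
    rw [e]
    simp
  obtain ⟨a, ha⟩ := exists_prime_orderOf_dvd_card' (G := Kˣ) (hp := ⟨h₁⟩) ℓ₁ (by rw [hcard]; exact hd₁.mul_right _)
  obtain ⟨b, hb⟩ := exists_prime_orderOf_dvd_card' (G := Kˣ) (hp := ⟨h₂⟩) ℓ₂ (by rw [hcard]; exact hd₂.mul_left _)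
  have ha0 : a ^ ℓ₁ = 1 := by rw [← ha, pow_orderOf_eq_one]
  have hb0 : b ^ ℓ₂ = 1 := by rw [← hb, pow_orderOf_eq_one]
  have haq : a ^ q = a := by
    obtain ⟨c, hc⟩ := hd₁
    calc a ^ q = a ^ (q - 1 + 1) := by rw [Nat.sub_add_cancel hq1.le]
      _ = a := by rw [pow_succ, hc, pow_mul, ha0, one_pow, one_mul]
  have hbq : b ^ q = b⁻¹ := by
    obtain ⟨c, hc⟩ := hd₂
    have h3 : b ^ q * b = 1 := by rw [← pow_succ, hc, pow_mul, hb0, one_pow]
    exact eq_inv_of_mul_eq_one_left h3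
  -- coprime orders
  have key : ∀ i j : ℤ, a ^ i = b ^ j → a ^ i = 1 ∧ b ^ j = 1 := by
    intro i j h
    have g1 : (a ^ i) ^ ℓ₁ = 1 := by rw [← _root_.zpow_natCast, ← _root_.zpow_mul, mul_comm, _root_.zpow_mul, _root_.zpow_natCast, ha0, _root_.one_zpow]
    have g2 : (b ^ j) ^ ℓ₂ = 1 := by rw [← _root_.zpow_natCast, ← _root_.zpow_mul, mul_comm, _root_.zpow_mul, _root_.zpow_natCast, hb0, _root_.one_zpow]
    have g3 : (a ^ i) ^ ℓ₂ = 1 := by rw [h, g2]
    have g4 := Nat.dvd_gcd (orderOf_dvd_of_pow_eq_one g1) (orderOf_dvd_of_pow_eq_one g3)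
    rw [(Nat.coprime_primes h₁ h₂).2 hne |>.gcd_eq_one, Nat.dvd_one, orderOf_eq_one_iff] at g4
    exact ⟨g4, h ▸ g4⟩
  have ha' : ∀ i : ℤ, 0 < |i| → |i| < 5 → a ^ i ≠ 1 := by
    intro i h1 h2 h3
    have h4 := orderOf_dvd_iff_zpow_eq_one.2 h3
    rw [ha] at h4
    have h6 := Int.le_of_dvd h1 ((dvd_abs _ _).2 h4)
    omega
  have hb' : ∀ i : ℤ, 0 < |i| → |i| < 5 → b ^ i ≠ 1 := by
    intro i h1 h2 h3
    have h4 := orderOf_dvd_iff_zpow_eq_one.2 h3
    rw [hb] at h4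
    have h6 := Int.le_of_dvd h1 ((dvd_abs _ _).2 h4)
    omega
  -- the eigenvalues
  let lam : Fin 3 → Kˣ := ![a ^ (-2 : ℤ), a * b, a * b⁻¹]
  have hφu : ∀ u : Kˣ, φ (u : K) = ((u ^ q : Kˣ) : K) := fun u => by rw [hφ, Units.val_pow_eq_pow_val]
  have e0 : (a ^ (-2 : ℤ)) ^ q = a ^ (-2 : ℤ) := by
    rw [← _root_.zpow_natCast, ← _root_.zpow_mul, mul_comm, _root_.zpow_mul, _root_.zpow_natCast, haq]
  have e1 : (a * b) ^ q = a * b⁻¹ := by rw [mul_pow, haq, hbq]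
  have e2 : (a * b⁻¹) ^ q = a * b := by rw [mul_pow, haq, inv_pow, hbq, inv_inv]
  have m0 : φ ((a ^ (-2 : ℤ) : Kˣ) : K) = ((a ^ (-2 : ℤ) : Kˣ) : K) := by rw [hφu, e0]
  have m1 : φ (((a * b : Kˣ) : K) + ((a * b⁻¹ : Kˣ) : K)) = ((a * b : Kˣ) : K) + ((a * b⁻¹ : Kˣ) : K) := by
    rw [map_add, hφu, hφu, e1, e2, add_comm]
  have m2 : φ (((a * b : Kˣ) : K) * ((a * b⁻¹ : Kˣ) : K)) = ((a * b : Kˣ) : K) * ((a * b⁻¹ : Kˣ) : K) := by
    rw [map_mul, hφu, hφu, e1, e2, mul_comm]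
  have d01 : a ^ (-2 : ℤ) ≠ a * b := by
    intro h
    have h3 : a ^ (-3 : ℤ) = b ^ (1 : ℤ) := by
      rw [_root_.zpow_one, show (-3 : ℤ) = -1 + -2 by norm_num, _root_.zpow_add, h]
      group
    exact ha' (-3) (by norm_num) (by norm_num) (key _ _ h3).1
  have d02 : a ^ (-2 : ℤ) ≠ a * b⁻¹ := by
    intro h
    have h3 : a ^ (-3 : ℤ) = b ^ (-1 : ℤ) := by
      rw [_root_.zpow_neg_one, show (-3 : ℤ) = -1 + -2 by norm_num, _root_.zpow_add, h]
      group
    exact ha' (-3) (by norm_num) (by norm_num) (key _ _ h3).1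
  have d12 : a * b ≠ a * b⁻¹ := by
    intro h
    have h3 := mul_left_cancel h
    have h4 : b ^ (2 : ℤ) = 1 := by
      rw [_root_.zpow_two]
      nth_rw 1 [h3]
      exact inv_mul_cancel b
    exact hb' 2 (by norm_num) (by norm_num) h4
  have n1 : a * b ≠ 1 := by
    intro h
    have h3 : a ^ (1 : ℤ) = b ^ (-1 : ℤ) := by rw [_root_.zpow_one, _root_.zpow_neg_one]; exact eq_inv_of_mul_eq_one_left h
    exact ha' 1 (by norm_num) (by norm_num) (key _ _ h3).1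
  have n2 : a * b⁻¹ ≠ 1 := by
    intro h
    have h3 : a ^ (1 : ℤ) = b ^ (1 : ℤ) := by rw [_root_.zpow_one, _root_.zpow_one]; exact mul_inv_eq_one.1 h
    exact ha' 1 (by norm_num) (by norm_num) (key _ _ h3).1
  have hinj : Function.Injective fun i => ((lam i : Kˣ) : K) := by
    intro i j hij
    have hij' : lam i = lam j := Units.ext hij
    fin_cases i <;> fin_cases j
    · rfl
    · exact absurd hij' d01
    · exact absurd hij' d02
    · exact absurd hij'.symm d01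
    · rfl
    · exact absurd hij' d12
    · exact absurd hij'.symm d02
    · exact absurd hij'.symm d12
    · rfl
  refine pp3_of (Fx φ 1).subtype (lam := fun i => ((lam i : Kˣ) : K)) hinj (ν := ⟨_, mem_Fx.2 m0⟩) (a := ⟨_, mem_Fx.2 m1⟩)
    (b := ⟨_, mem_Fx.2 m2⟩) rfl rfl rfl ?_ (fun i => ?_) (fun i => ?_)
  · change ((a ^ (-2 : ℤ) : Kˣ) : K) * (((a * b : Kˣ) : K) * ((a * b⁻¹ : Kˣ) : K)) = 1
    rw [← Units.val_mul, ← Units.val_mul, ← Units.val_one]
    congr 1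
    rw [_root_.zpow_neg, _root_.zpow_two, mul_mul_mul_comm a b a b⁻¹, mul_inv_cancel b, mul_one, inv_mul_cancel]
  · have h3 : ∀ i, lam i ^ (ℓ₁ * ℓ₂) = 1 := by
      intro i
      fin_cases i
      · change (a ^ (-2 : ℤ)) ^ (ℓ₁ * ℓ₂) = 1
        rw [← _root_.zpow_natCast, ← _root_.zpow_mul, mul_comm, _root_.zpow_mul, _root_.zpow_natCast, pow_mul, ha0, one_pow, _root_.one_zpow]
      · change (a * b) ^ (ℓ₁ * ℓ₂) = 1
        rw [mul_pow, pow_mul, ha0, one_pow, mul_comm ℓ₁, pow_mul, hb0, one_pow, mul_one]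
      · change (a * b⁻¹) ^ (ℓ₁ * ℓ₂) = 1
        rw [mul_pow, pow_mul, ha0, one_pow, mul_comm ℓ₁, pow_mul, inv_pow, hb0, inv_one, one_pow, mul_one]
    rw [← Units.val_pow_eq_pow_val, h3, Units.val_one]
  · have h3 : ∀ i, lam i ≠ 1 := by
      intro i
      fin_cases i
      · exact ha' (-2) (by norm_num) (by norm_num)
      · exact n1
      · exact n2
    exact fun h => h3 i (Units.ext h)

end Cfsg.Agent.H928.Pw.TwFour
end

-- part: H928/Pw/TwAll
section
/-!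
**The row `²E₆(q)` of S2465.**
-/

set_option autoImplicit false

namespace Cfsg.Agent.H928.Pw.TwAll

open Cfsg.Lie
open Cfsg.Agent.H928.Pw.TwSix Cfsg.Agent.H928.Pw.TwP Cfsg.Agent.H928.Pw.TwFour Cfsg.Agent.H928.Pw.Dg
open Cfsg.Agent.Nodes.RGDFoldSL (Fx mem_Fx)
open Cfsg.Agent.H78.Pw (All Pr Pw)

universe u

theorem coprime_six {m : ℕ} (h2 : ¬ 2 ∣ m) (h3 : ¬ 3 ∣ m) : m.Coprime 6 := by
  rw [show 6 = 2 * 3 by norm_num]
  exact Nat.Coprime.mul_right ((Nat.Prime.coprime_iff_not_dvd Nat.prime_two).2 h2).symm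
    ((Nat.Prime.coprime_iff_not_dvd Nat.prime_three).2 h3).symm

theorem prime_coprime_six {ℓ : ℕ} (hℓ : ℓ.Prime) (h5 : 5 ≤ ℓ) : ℓ.Coprime 6 := by
  rw [show 6 = 2 * 3 by norm_num]
  exact Nat.Coprime.mul_right ((Nat.coprime_primes hℓ Nat.prime_two).2 (by omega))
    ((Nat.coprime_primes hℓ Nat.prime_three).2 (by omega))

theorem cop_aux {q ℓ : ℕ} (hq : 1 < q) (hℓ : ℓ.Prime) (h5 : 5 ≤ ℓ) (hd : ℓ ∣ (q ^ 2) ^ 2 - 1) {N : ℕ}
    (hN : N ∣ 1 + q + q ^ 2) : N.Coprime ℓ := by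
  rw [Nat.coprime_comm, Nat.Prime.coprime_iff_not_dvd hℓ]
  intro h
  have h1 : (ℓ : ℤ) ∣ 1 + q + q ^ 2 := by exact_mod_cast h.trans hN
  have h0 : 1 ≤ (q ^ 2) ^ 2 := Nat.one_le_pow _ _ (by positivity)
  have h2 : (ℓ : ℤ) ∣ (q ^ 2) ^ 2 - 1 := by
    have := Int.natCast_dvd_natCast.2 hd
    rw [Nat.cast_sub h0] at this
    exact_mod_cast this
  have h3 : (ℓ : ℤ) ∣ q - 1 := by
    have e : (q : ℤ) - 1 = ((q : ℤ) ^ 2) ^ 2 - 1 - (1 + q + q ^ 2) * ((q : ℤ) ^ 2 - q) := by ring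
    rw [e]
    exact dvd_sub h2 (h1.mul_right _)
  have h4 : (ℓ : ℤ) ∣ 3 := by
    have e : (3 : ℤ) = (1 + q + q ^ 2) - ((q : ℤ) - 1) * (q + 2) := by ring
    rw [e]
    exact dvd_sub h1 (h3.mul_right _)
  have h6 : ℓ ∣ 3 := by exact_mod_cast h4
  have := Nat.le_of_dvd (by norm_num) h6
  omega

/-- the general case -/
theorem all6_gen {K : Type u} [Field K] [Fintype K] {q : ℕ} (hq : IsPrimePow q) (hK : Fintype.card K = q ^ 2)
    (h : 2 ∣ q ∨ 3 ∣ q) (h3 : q % 3 ≠ 1) : All 6 ↥(twistedE6 K q) := by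
  have hq1 := hq.one_lt
  have hcK : Nat.card K = q ^ 2 := by rw [Nat.card_eq_fintype_card, hK]
  obtain ⟨ℓ, hℓ, h5, hd⟩ := Cfsg.Agent.H267.Ore.PTwo.exists_prime (q := q ^ 2) (by nlinarith) (by
    rcases h with h | h
    · exact Or.inl (h.trans (dvd_pow_self q two_ne_zero))
    · exact Or.inr (h.trans (dvd_pow_self q two_ne_zero)))
  refine all6_of hq hK (N := 1 + q + q ^ 2) (M := ℓ) (cop_aux hq1 hℓ h5 hd dvd_rfl) ?_ (prime_coprime_six hℓ h5) ?_ ?_
  · have e2 : 2 ∣ q + q ^ 2 := by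
      have h7 : q + q ^ 2 = q * (q + 1) := by ring
      rw [h7]
      rcases Nat.even_or_odd q with h8 | h8
      · exact (even_iff_two_dvd.1 h8).mul_right _
      · exact (even_iff_two_dvd.1 h8.add_one).mul_left _
    refine coprime_six (by omega) ?_
    intro h9
    have h10 : q % 3 = 0 ∨ q % 3 = 2 := by omega
    have h11 : (1 + q + q ^ 2) % 3 = 0 := Nat.mod_eq_zero_of_dvd h9
    rw [Nat.add_mod, Nat.add_mod 1 q, Nat.pow_mod] at h11
    rcases h10 with h10 | h10 <;> rw [h10] at h11 <;> norm_num at h11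
  · intro φ hφ
    have hc := Cfsg.Agent.H928.Ore.TwFin.card_Fx hq1 hK hφ
    have h12 := pp3_irr (Cfsg.Agent.H928.War.TwOne.m3_all hq hK hφ)
    rw [hc] at h12
    exact h12
  · exact pp2 hℓ h5 (by rw [hcK]; exact hd)

/-- `q = 4^k ≥ 16` -/
theorem all6_four {K : Type u} [Field K] [Fintype K] {q : ℕ} (hq : IsPrimePow q) (hK : Fintype.card K = q ^ 2)
    (h : 2 ∣ q) (h3 : q % 3 = 1) (h4 : q ≠ 4) : All 6 ↥(twistedE6 K q) := by
  have hq1 := hq.one_lt
  have hcK : Nat.card K = q ^ 2 := by rw [Nat.card_eq_fintype_card, hK]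
  obtain ⟨m, hm⟩ : ∃ m, q = 2 ^ m := by
    obtain ⟨p, k, hp, hk, rfl⟩ := hq
    have hp2 : 2 = p := (Nat.prime_dvd_prime_iff_eq Nat.prime_two hp.nat_prime).1 (Nat.prime_two.dvd_of_dvd_pow h)
    exact ⟨k, by rw [← hp2]⟩
  have hlt : 4 < q := by omega
  obtain ⟨ℓ₁, g1, g2, g3⟩ := exists_prime_sub hm h3 hlt
  obtain ⟨ℓ₂, g4, g5, g6⟩ := exists_prime_of (m := q + 1) (by omega) (by omega) (by omega)
  have e3 : q ^ 2 % 3 = 1 := by rw [Nat.pow_mod, h3]
  have e2 : 2 ∣ q ^ 2 := h.trans (dvd_pow_self q two_ne_zero)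
  obtain ⟨ℓ, g7, g8, g9⟩ := exists_prime_of (m := q ^ 2 + 1) (by omega) (by omega) (by omega)
  have hd : ℓ ∣ (q ^ 2) ^ 2 - 1 := by
    have e : (q ^ 2) ^ 2 - 1 = (q ^ 2 - 1) * (q ^ 2 + 1) := by
      obtain ⟨s, hs⟩ : ∃ s, q ^ 2 = s + 1 := ⟨q ^ 2 - 1, by omega⟩
      rw [hs, Nat.add_sub_cancel]
      have : (s + 1) ^ 2 = s * (s + 1 + 1) + 1 := by ring
      rw [this, Nat.add_sub_cancel]
    rw [e]
    exact g9.mul_left _
  have key : ∀ t : ℕ, t.Prime → 5 ≤ t → (t ∣ q - 1 ∨ t ∣ q + 1) → t ≠ ℓ := by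
    rintro t ht ht5 htd rfl
    have e : q ^ 2 - 1 = (q - 1) * (q + 1) := by
      obtain ⟨s, hs⟩ : ∃ s, q = s + 1 := ⟨q - 1, by omega⟩
      rw [hs, Nat.add_sub_cancel]
      have : (s + 1) ^ 2 = s * (s + 1 + 1) + 1 := by ring
      rw [this, Nat.add_sub_cancel]
    have h5 : t ∣ q ^ 2 - 1 := by
      rw [e]
      rcases htd with h | h
      · exact h.mul_right _
      · exact h.mul_left _
    have h6 := Nat.dvd_sub g9 h5
    have h7 : 1 ≤ q ^ 2 := Nat.one_le_pow _ _ (by omega)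
    rw [show q ^ 2 + 1 - (q ^ 2 - 1) = 2 by omega] at h6
    have := Nat.le_of_dvd (by norm_num) h6
    omega
  refine all6_of hq hK (N := ℓ₁ * ℓ₂) (M := ℓ) ?_ ?_ (prime_coprime_six g7 g8) ?_ ?_
  · exact Nat.Coprime.mul_left ((Nat.coprime_primes g1 g7).2 (key _ g1 g2 (Or.inl g3)))
      ((Nat.coprime_primes g4 g7).2 (key _ g4 g5 (Or.inr g6)))
  · exact Nat.Coprime.mul_left (prime_coprime_six g1 g2) (prime_coprime_six g4 g5)
  · exact fun φ hφ => pp3_four hq1 hK hφ g1 g4 g2 g5 g3 g6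
  · exact pp2 g7 g8 (by rw [hcK]; exact hd)

/-- **The row `²E₆(q)`, `q ≠ 4`.** -/
theorem pw_ne_four {K : Type u} [Field K] [Fintype K] {q : ℕ} (hq : IsPrimePow q) (hK : Fintype.card K = q ^ 2)
    (h4 : q ≠ 4) : Pw ↥(twistedE6 K q) := by
  refine pw_of hq hK fun h => ?_
  by_cases h3 : q % 3 = 1
  · refine all6_four hq hK ?_ h3 h4
    rcases h with h | h
    · exact h
    · omega
  · exact all6_gen hq hK h h3

/-- **The row `²E₆(4)`**, from the product lemma for `SL₃(4)`. -/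
theorem pw_four {K : Type u} [Field K] [Fintype K] (hK : Fintype.card K = 4 ^ 2)
    (h : ∀ (F : Type u) [Field F] [Finite F], Nat.card F = 4 → PPn 3 F 7) : Pw ↥(twistedE6 K 4) := by
  have hq : IsPrimePow 4 := ⟨2, 2, Nat.prime_two.prime, by norm_num, by norm_num⟩
  refine pw_of hq hK fun _ => ?_
  refine all6_of hq hK (N := 7) (M := 5) (by norm_num) (by norm_num) (by norm_num) (fun φ hφ => h _ ?_) ?_
  · exact Cfsg.Agent.H928.Ore.TwFin.card_Fx (by norm_num) hK hφ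
  · exact pp2 (by norm_num) le_rfl (by rw [Nat.card_eq_fintype_card, hK]; norm_num)

end Cfsg.Agent.H928.Pw.TwAll
end

-- part: H928/Pw/Row
section
/-!
**The row `²E₆(q)`**, all `q`, of S2465.
-/

set_option autoImplicit false

namespace Cfsg.Agent.H928.Pw.Row

open Cfsg.Lie
open Cfsg.Agent.H928.Pw.TwSix Cfsg.Agent.H928.Pw.Dg
open Cfsg.Agent.H78.Pw (Pw)

universe u

theorem pp3_four {F : Type u} [Field F] [Finite F] (hF : Nat.card F = 4) : PPn 3 F 7 := by
  intro L hL U hU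
  obtain ⟨X, Y, e, hX, hY, h1, h2⟩ := Cfsg.Agent.H85.Pw.PThree.p_three_four hF L U hL hU
  exact ⟨X, Y, e, Sp.of_irreducible (by norm_num) h1 hX, Sp.of_irreducible (by norm_num) h2 hY⟩

/-- **The row `²E₆(q)`.** -/
theorem pw {K : Type u} [Field K] [Fintype K] {q : ℕ} (hq : IsPrimePow q) (hK : Fintype.card K = q ^ 2) :
    Pw ↥(twistedE6 K q) := by
  by_cases h4 : q = 4
  · subst h4
    exact Cfsg.Agent.H928.Pw.TwAll.pw_four hK fun F _ _ hF => pp3_four hF
  · exact Cfsg.Agent.H928.Pw.TwAll.pw_ne_four hq hK h4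

end Cfsg.Agent.H928.Pw.Row
end

-- part: H538/Pw/GFourU
section
/-!
# S2465, `G₂(4)`: the elements of a Sylow 2-subgroup (helper538)

Every element of the Sylow 2-subgroup `U` of the six dimensional model of `G₂(4)` is a product of two elements of
order 13.
-/

set_option autoImplicit false
set_option linter.unusedVariables false
set_option maxHeartbeats 1000000
set_option maxRecDepth 100000

namespace Cfsg.Agent.H538.Pw.GFour

open Cfsg.Agent.SporRec.GF4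
open Cfsg.Agent.StdG24.Mod6
open Cfsg.Agent.GTwoFour.Mdl

/-- words of elements of order 13 -/
def WL : List Wd := [
  [(9, 1), (10, 0), (3, 1), (3, 2), (4, 1)],
  [(9, 1), (8, 2), (1, 0), (5, 2)],
  [(9, 0), (1, 1), (4, 0), (5, 1)],
  [(4, 1), (10, 2), (9, 0), (3, 1)],
  [(9, 1), (5, 2), (3, 1), (1, 2), (9, 0)],
  [(7, 0), (2, 1), (4, 1), (9, 1), (0, 0), (4, 0)],
  [(8, 0), (4, 1), (7, 0), (0, 0), (2, 0)],
  [(2, 1), (0, 0), (7, 2), (8, 1)],
  [(7, 1), (1, 1), (0, 1), (7, 2), (9, 0), (2, 0)],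
  [(4, 0), (2, 2), (10, 1), (3, 1)],
  [(4, 2), (5, 2), (2, 1), (7, 0), (9, 2), (1, 2)],
  [(9, 1), (7, 2), (4, 0), (3, 2)],
  [(4, 2), (10, 2), (2, 1), (6, 1)],
  [(7, 2), (10, 0), (3, 1), (4, 1), (6, 0), (2, 0)],
  [(0, 0), (2, 2), (10, 2), (6, 2)],
  [(1, 2), (11, 1), (8, 0), (2, 0), (10, 1), (5, 0)],
  [(10, 2), (0, 2), (6, 1), (7, 2), (4, 2), (9, 1)],
  [(4, 1), (3, 1), (10, 1), (3, 2), (1, 2), (9, 0)],
  [(7, 0), (11, 1), (2, 2), (1, 2), (4, 0)],
  [(9, 2), (5, 1), (0, 1), (7, 1), (2, 0), (6, 0)],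
  [(5, 0), (4, 1), (5, 2), (11, 1), (9, 1)],
  [(7, 1), (6, 2), (0, 1), (6, 0), (9, 0)],
  [(0, 1), (4, 1), (11, 2), (3, 2)],
  [(9, 2), (3, 1), (10, 1), (8, 0), (1, 0), (11, 2)],
  [(0, 2), (9, 0), (8, 1), (11, 1), (4, 2)],
  [(1, 0), (2, 2), (0, 1), (4, 2), (9, 0), (2, 0)],
  [(5, 1), (2, 2), (11, 0), (6, 2), (7, 2)],
  [(10, 0), (3, 0), (8, 0), (0, 2), (8, 2), (2, 1)],
  [(3, 1), (6, 2), (3, 0), (9, 0), (11, 2)],
  [(1, 1), (3, 2), (5, 0), (11, 1)],
  [(3, 1), (10, 0), (6, 2), (8, 0)]]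

/-- their codes -/
def WC : List (List ℕ) := [
  [553, 830, 292, 568, 3301, 1146, 1114, 2223, 2305, 3586, 1043, 2081],
  [73, 142, 3256, 1244, 1236, 2152, 860, 420, 296, 572, 1223, 2121],
  [141, 198, 3247, 1269, 2134, 3243, 2662, 4027, 1297, 2594, 1025, 2050],
  [105, 190, 1972, 2520, 208, 96, 2205, 3302, 2512, 3680, 1209, 2270],
  [1750, 2923, 804, 312, 3090, 1059, 2173, 3222, 3378, 1555, 725, 874],
  [2184, 3276, 3843, 1281, 586, 911, 170, 255, 2006, 2411, 4006, 1531],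
  [1097, 2190, 3416, 1708, 2389, 3754, 145, 226, 2436, 3784, 3524, 1608],
  [3329, 1538, 3975, 1481, 1042, 2083, 864, 432, 2894, 3463, 1712, 3024],
  [1280, 2560, 3408, 1696, 256, 512, 1829, 2362, 2576, 3872, 1937, 2530],
  [3493, 1786, 4036, 1352, 3920, 1440, 3770, 2015, 1280, 2560, 416, 752],
  [1507, 2673, 505, 606, 3485, 1766, 3703, 1945, 112, 144, 3334, 1547],
  [226, 115, 2838, 3371, 120, 156, 3674, 1967, 1587, 2833, 1811, 2337],
  [3309, 1142, 137, 206, 1630, 2983, 75, 141, 3469, 1734, 1136, 2192],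
  [1592, 2844, 2630, 3979, 1461, 2778, 2369, 3714, 353, 690, 1808, 2336],
  [2305, 3586, 1220, 2120, 3996, 1508, 1859, 2433, 4034, 1347, 1584, 2832],
  [1161, 2254, 3539, 1633, 3479, 1769, 2504, 3660, 326, 651, 673, 1010],
  [2591, 3877, 3623, 1849, 2237, 3286, 3910, 1419, 949, 474, 585, 910],
  [3264, 1088, 2308, 3592, 3072, 1024, 3370, 1599, 1280, 2560, 2208, 3312],
  [2571, 3853, 245, 90, 3140, 1160, 80, 160, 1032, 2060, 1290, 2575],
  [1027, 2049, 2409, 3774, 2121, 3214, 620, 948, 860, 420, 1554, 2851],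
  [41, 62, 676, 1016, 976, 352, 1464, 2780, 2142, 3239, 2031, 2421],
  [625, 914, 2822, 3339, 2843, 3373, 2934, 3483, 2699, 4045, 1137, 2194],
  [3769, 2014, 2061, 3078, 208, 96, 72, 140, 7, 9, 12, 4],
  [2140, 3236, 804, 312, 3182, 1207, 2173, 3222, 1772, 2932, 3651, 1921],
  [2829, 3334, 3076, 1032, 1434, 2799, 3140, 1160, 1629, 2982, 1921, 2498],
  [1024, 2048, 64, 128, 3328, 1536, 2180, 3272, 2704, 4064, 2765, 3910],
  [2049, 3074, 1511, 2681, 140, 196, 644, 968, 2241, 3138, 359, 697],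
  [2172, 3220, 2405, 3770, 956, 468, 1105, 2210, 589, 902, 3250, 1235],
  [573, 790, 1732, 2888, 540, 804, 2692, 4040, 1783, 2905, 2993, 3538],
  [1201, 2258, 2580, 3880, 2064, 3104, 3392, 1664, 2514, 3683, 2856, 3388],
  [33, 50, 772, 264, 573, 790, 2145, 3250, 1751, 2921, 3185, 1170]]

/-- the table of the witnesses (5 bits per entry) -/
def TB : ℕ := 0x10c0450607581a1030a74080c00ca010404288630384431707208c0210074106608e0518c2b51888244411a422210cc10461502a7010a030023204c1094401a0c20052410063288046188510041008244080901d401b804204c12a04a390e25242d10561058231800b00cc139f0a08124004c0280620b82a01908394e8536000900f0184320002024a80a8231848229847090a3189095904048d64009223004123063608010302410049010a0104040d482208026ad5101ce21200e1284073065b8c2549ce158ce50a8224a46218447504cb01c20600281a5a8400831a482205c018046020264054111c010194230122010201240a3891121803094223b8223a84b318ec18004015812f895014c3004c0480ab1902e1002358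48101ce132409210a02800101c82218230142d318430a047218c260e610942308d00100ca00c45580e10304841002090f410406244c23200603c20408e01140f0086d29c6728c2628d06390ae185280ac64414410882379c4b200c62ace50802b0050004d9708047289a018c241004304482504010a06521403289030a00a0054018c875904c088261844400d2628c240293208008282410984a2018101ce01a0c02a0110048108d450286109043004612000c299d6405e212d652ac81008a2100a408820698c1014931004a394a70b005308233080202ca0398021940711840310a30287b4058450d1441463204e514509404814045011461205c550081041e0200a710023018641a024114a000863080221948419802805c29040100ba039402104a76848121843124e30a46801471080060148d1114f0802e0142008052090050902038cc601d2914123014246000400ea7a090161906390a1289052804100441314861286068c0b214807248300d2b7080310c40380848092310003388a0484ea1146021c44488a1605502145221441188a2210263184310c0a290804e42200441294010302022004385e15098918c0600c5030061088c712c403010a0098b08cf9704c43108308c2410d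24034642000100c291496040c0c005c20982310500600020f0e010ca5011802100752c2230401610a218de408cf630461184a5020687800900501314054b06019d0602c6811c4a105230ad8249ca3289221840a0144318086208020048009804490b02086019c02014a8185e50a82018818110c3102700b02b59d4f284aa985a5014200940c18a04a08031001300504234e20182e2008100ce03002390c28204c15080102ce011003185013870e110c711c66188c2088a5198456a061090260082c1100b118a003423080524e4801a0c209024a0dc0b800138d4031204010637800801ca348520720020185758822404635304020062034231852810cea208a410c24295271164160906104462906214c0401c20304040810a00d20080251ad6720008008c40e423050a118009030e22184400822454c109063404c13986a4812202885284e10b8a0201a203868284012a0234a160b0003218601144119d2210c8008022004e8119c3911420a02c6a86142c2020404094245818a2a465029076001401d0e20827319cb208822982202820224041345050c0531420200031144010c2c0044b4808a1044011d0660454104a03000321040194ac304a12056e4306122481006e132007218601882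a48c80280220146219960080064a0200986809c400b80e2113a2004418c27094322a86d29c4811c614a90710c4168c510044010061425c61804d008a1800611b4e0188c501dc7281e13e8e17840a1800a00825088650344933ca92022100520200c55a8030890c1880c01c402148320ac928888134494145ca98c2208275848109f204048600a250802312885008c371402784e019c2601604880010312a61c031a8e4180a401c2c61165188c718826104412d408690e0b0acc01c25100010096d2142202664110209880131c620802e28dca0088360803104403a8a518dc41e8810a02380440818a2088c03000c00920080631044798043791804040409487202064092738c2c1144128c4d18a60294c3028495004508022214224008c01440185413112910c2951823088274880300d4710085300a700d01a2ea308da0305a1304a5b9c63598870880c6a0271300701040884a1880c2014e0080445000a00826610650050d185c160980080040a48008823190201004302848004615bcc18b86098c07226620916261d643ac41088871240800d04102e1580e4014cd18c91320204003110c491808c004a020a2d14c462a5041188968963240c30882a2044b280610944e40401114c088002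31d200b022105a03810303c353906909c6022880920a5005412802630a2d134430ac2610563604e301023280010144449ca20212189802104601850201c251800100c9200900100450902410125494c718d643848109d48188806056f18a803000112c4118c401007402861a98276d06018005290201045041849114642046b01845290481194099c18404604844148c401000d1144909029128260a123006001014111486280460914a00d0b080030114351428090272b4e62b8cb104408844114c6020003290c0090060a8501002a184a4025a41040341840018e7080260948323c13004405840115ca939c10010ae0b42439da079004698618344b18c4111d2c90001014d0121870050240ca021802011221144ec94203a06301068080e9184a94a8477a444188e13048308c25224d083d63008261000401c41610c7598202044129840400020144008c024082829001100e30882908142004802082610e45c0c4129183038651008110ce420802385200ac25038cd280c8008a1080030104319ca920c054ac6042c610150f5b8cb28481507420b847182e1028232140718e4f0a109418a628942305a21b5e03241001846118634840500d404340308cc9020256806d188a25080100d0a2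8243186412b801119001108103ce9080e6280482a86908022008802342278c227046158c4b08805088e3284010106010006110802298308a6010cc86a4650882252822382470150028301291010108610cc598480484051a4b14194161d8c09083b0002384800bc2914220024a710083184803050b018e0580c10c0683006502482124440188b580032da202800a504e0444941984f185426102548d420a427185a6a550528e924b44018c2601846080852044078802018733318208004011a748829004470b42028c120126210ca13a444214247c04e0888a005210806242863508140a0040046041403dc86a0ac0aaaca15804600906581e301826218630a0a02056110c45184a81982b018311908100c45e800620a42285e220503890660144613d0300c4b380063a80b090e50826402c8f180e20088151c61310c029c0d29c6018d810048102ca4180090090341b0218102009b00ac020a023404e5594412284c104e101461100e310d203044108012909c0089e451520188e270ca2288280982901e5b3206328cc02040171c0d008e088405284c10906949083098861b8a71000f01c6f1a44d00c24180e818928200c800460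

theorem WL_codes : WL.map cw = WC := by decide +kernel

/-- `C ^ 13 = 1` -/
def is13 (M : List ℕ) : Bool :=
  mulF M M fun M2 => mulF M2 M fun M3 => mulF M3 M3 fun M6 => mulF M6 M6 fun M12 => mulF M12 M fun E =>
    eqF E idC

theorem is13_spec {g : GL6} {M : List ℕ} (hg : Cd g M) (h : is13 M = true) : g ^ 13 = 1 := by
  rw [is13] at h
  simp only [mulF_eq] at h
  have h1 := eqF_iff.1 h
  have h2 : Cd (g * g) (mulC M M) := hg.mul hg
  have h3 := h2.mul hg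
  have h6 := h3.mul h3
  have h12 := h6.mul h6
  have h13 := h12.mul hg
  rw [h1] at h13
  have e := h13.inj Cd_one
  rw [← e]
  simp only [pow_succ, pow_zero, one_mul, mul_assoc]

/-- entry of a list of codes -/
def nthF (l : List (List ℕ)) : ℕ → List ℕ :=
  List.rec (motive := fun _ => ℕ → List ℕ) (fun _ => idC)
    (fun C _ ih n => Nat.rec C (fun m _ => ih m) n) l

theorem nthF_mem (l : List (List ℕ)) (n : ℕ) : nthF l n = idC ∨ nthF l n ∈ l := by
  induction l generalizing n with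
  | nil => exact Or.inl rfl
  | cons C l ih =>
    cases n with
    | zero => exact Or.inr (List.mem_cons_self ..)
    | succ m =>
      rcases ih m with h | h
      · exact Or.inl h
      · exact Or.inr (List.mem_cons_of_mem _ h)

theorem WC_is13 : allF WC is13 = true := by decide +kernel

/-- the witness for the element number `i` of `U` -/
def leaf (i : ℕ) (C : List ℕ) : Bool :=
  mulF (nthF WC (Nat.land (Nat.shiftRight TB (Nat.mul 5 i)) 31)) C is13

theorem exists_wit (n : ℕ) : ∃ a ∈ L, Cd a (nthF WC n) ∧ a ^ 13 = 1 := by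
  rcases nthF_mem WC n with h | h
  · rw [h]
    exact ⟨1, L.one_mem, Cd_one, one_pow _⟩
  · have h1 := allF_spec WC_is13 _ h
    have h2 : nthF WC n ∈ WL.map cw := by rw [WL_codes]; exact h
    obtain ⟨w, hw, e⟩ := List.mem_map.1 h2
    have h3 : Cd (ev w) (nthF WC n) := by rw [← e]; exact Cd_ev w
    exact ⟨ev w, ev_mem w, h3, is13_spec h3 h1⟩

/-- product of two elements of order dividing 13 -/
def Q6' (u : GL6) : Prop := ∃ a ∈ L, a ^ 13 = 1 ∧ (a * u) ^ 13 = 1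

theorem leaf_spec {u : GL6} {C : List ℕ} (hu : Cd u C) {i : ℕ} (h : leaf i C = true) : Q6' u := by
  rw [leaf, mulF_eq] at h
  obtain ⟨a, ha, hc, h13⟩ := exists_wit (Nat.land (Nat.shiftRight TB (Nat.mul 5 i)) 31)
  exact ⟨a, ha, h13, is13_spec (hc.mul hu) h⟩

/-- search with numbering -/
def allXi (r : Fin 12) (C : List ℕ) (i : ℕ) (k : ℕ → List ℕ → Bool) : Bool :=
  Bool.rec false (Bool.rec false (Bool.rec false (mulF C (xc r 2) (k (Nat.add (Nat.mul 4 i) 3)))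
    (mulF C (xc r 1) (k (Nat.add (Nat.mul 4 i) 2)))) (mulF C (xc r 0) (k (Nat.add (Nat.mul 4 i) 1))))
    (k (Nat.mul 4 i) C)

theorem allXi_spec {r : Fin 12} {C : List ℕ} {i : ℕ} {k : ℕ → List ℕ → Bool} (h : allXi r C i k = true)
    {g : GL6} (hg : Cd g C) : ∀ x ∈ X r, ∃ D j, Cd (g * x) D ∧ k j D = true := by
  have hb : ∀ {a b : Bool}, (Bool.rec false b a : Bool) = true → a = true ∧ b = true := by
    decide
  obtain ⟨h0, h⟩ := hb h
  obtain ⟨h1, h⟩ := hb h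
  obtain ⟨h2, h3⟩ := hb h
  rw [mulF_eq] at h1 h2 h3
  intro x hx
  rcases X_cases hx with rfl | ⟨t, rfl⟩
  · exact ⟨C, _, by rwa [mul_one], h0⟩
  · match t with
    | 0 => exact ⟨mulC C (xc r 0), _, hg.mul (Cd_gx r 0), h1⟩
    | 1 => exact ⟨mulC C (xc r 1), _, hg.mul (Cd_gx r 1), h2⟩
    | 2 => exact ⟨mulC C (xc r 2), _, hg.mul (Cd_gx r 2), h3⟩

def allNi (rs : List (Fin 12)) : List ℕ → ℕ → (ℕ → List ℕ → Bool) → Bool :=
  List.rec (motive := fun _ => List ℕ → ℕ → (ℕ → List ℕ → Bool) → Bool) (fun C i φ => φ i C)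
    (fun r _ ih C i φ => allXi r C i (fun j D => ih D j φ)) rs

theorem allNi_spec {rs : List (Fin 12)} {φ : ℕ → List ℕ → Bool} {C : List ℕ} {i : ℕ}
    (h : allNi rs C i φ = true) {g : GL6} (hg : Cd g C) :
    ∀ n ∈ PS rs, ∃ D j, Cd (g * n) D ∧ φ j D = true := by
  induction rs generalizing C g i with
  | nil =>
    rintro _ rfl
    exact ⟨C, i, by rwa [mul_one], h⟩
  | cons r rs ih =>
    have h1 : allNi (r :: rs) C i φ = allXi r C i (fun j D => allNi rs D j φ) := rfl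
    rw [h1] at h
    rintro _ ⟨x, hx, n, hn, rfl⟩
    obtain ⟨D, j, hD, h2⟩ := allXi_spec h hg x hx
    obtain ⟨E, j', hE, h3⟩ := ih h2 hD n hn
    exact ⟨E, j', by rwa [← mul_assoc], h3⟩

theorem allXi_of {r : Fin 12} {C : List ℕ} {i : ℕ} {k : ℕ → List ℕ → Bool} (h0 : k (Nat.mul 4 i) C = true)
    (h1 : mulF C (xc r 0) (k (Nat.add (Nat.mul 4 i) 1)) = true)
    (h2 : mulF C (xc r 1) (k (Nat.add (Nat.mul 4 i) 2)) = true)
    (h3 : mulF C (xc r 2) (k (Nat.add (Nat.mul 4 i) 3)) = true) : allXi r C i k = true := by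
  unfold allXi
  rw [h0, h1, h2, h3]

/-! The kernel check in four pieces (memory). -/

theorem U_check0 : allNi [6, 8, 9, 10, 11] idC (Nat.mul 4 0) leaf = true := by decide +kernel

theorem U_check1 : mulF idC (xc 7 0) (fun D => allNi [6, 8, 9, 10, 11] D (Nat.add (Nat.mul 4 0) 1) leaf) = true := by
  decide +kernel

theorem U_check2 : mulF idC (xc 7 1) (fun D => allNi [6, 8, 9, 10, 11] D (Nat.add (Nat.mul 4 0) 2) leaf) = true := by
  decide +kernel

theorem U_check3 : mulF idC (xc 7 2) (fun D => allNi [6, 8, 9, 10, 11] D (Nat.add (Nat.mul 4 0) 3) leaf) = true := by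
  decide +kernel

theorem U_check : allNi [7, 6, 8, 9, 10, 11] idC 0 leaf = true :=
  allXi_of (r := 7) (C := idC) (i := 0) (k := fun j D => allNi [6, 8, 9, 10, 11] D j leaf)
    U_check0 U_check1 U_check2 U_check3

end Cfsg.Agent.H538.Pw.GFour
end

-- part: H538/Pw/GFourCent
section
/-!
# S2465, `G₂(4)`: the centralizer `SL₃(4)` (helper538)
-/

set_option autoImplicit false
set_option linter.unusedVariables false
set_option maxHeartbeats 1000000

namespace Cfsg.Agent.H538.Pw.GFour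

open Matrix
open Cfsg.Agent.SporRec
open Cfsg.Agent.SporRec.GF4
open Cfsg.Agent.SporRec.G24Code (app)
open Cfsg.Agent.SporRec.G24Orb (allb allb_spec)
open Cfsg.Agent.StdG24.Mod6
open Cfsg.Agent.StdG24.Ord6
open Cfsg.Agent.StdG24.Al6
open Cfsg.Agent.StdG24.Cent6
open Cfsg.Agent.StdG24.Cls6 (add_self' F4_add_self)

/-- the diagonal of `y` -/
def dg : Fin 6 → F4 := ![F4.w, F4.v, F4.v, F4.w, F4.w, F4.v]

/-- the element `y` -/
def yE : GL6 := Cfsg.Agent.GTwoFour.Mdl.y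
def yC : List ℕ := [2, 3, 12, 4, 48, 16, 128, 192, 512, 768, 3072, 1024]

theorem isCode_yE : IsCode (yE : Mat) yC := Cfsg.Agent.GTwoFour.Mdl.Cd_y

theorem yE_mem : yE ∈ L := ev_mem _

theorem yE_mat : (yE : Mat) = Matrix.diagonal dg := by
  refine isCode_yE.mat_eq (isCode_of_cols rfl (by decide) (fun j hj => ?_))
  have h : ∀ j < 12, dec (yC.getD j 0) = (Matrix.diagonal dg).mulVec (dec (2 ^ j)) := by decide +kernel
  exact h j hj

theorem yE_nofix : ∀ x, act yE x = x → x = 0 := by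
  intro x hx
  funext i
  have h1 : act yE x i = x i := congrFun hx i
  rw [act, yE_mat, mulVec_diagonal] at h1
  have h2 : ∀ (i : Fin 6) (c : F4), dg i * c = c → c = 0 := by decide
  exact h2 i _ h1

theorem yE_cube : yE ^ 3 = 1 := Cfsg.Agent.GTwoFour.Mdl.y_pow

theorem y_conj_s0 : ∃ k ∈ L, k * yE * k⁻¹ = s0 := caseB yE_mem yE_cube yE_nofix

/-- basis vectors -/
theorem act_single (g : GL6) (j : Fin 6) (i : Fin 6) : act g (Pi.single j 1) i = (g : Mat) i j := by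
  rw [act, mulVec_single_one]; rfl

theorem form_single (i j : Fin 6) : form (Pi.single i 1) (Pi.single j 1) = if j = Fin.rev i then 1 else 0 := by
  revert i j; decide

/-- the columns of an element of `L` -/
theorem form_cols {g : GL6} (hg : g ∈ L) (i j : Fin 6) :
    ∑ k, (g : Mat) k i * (g : Mat) (Fin.rev k) j = if j = Fin.rev i then 1 else 0 := by
  rw [← form_single, ← form_act hg, form]
  apply Finset.sum_congr rfl
  intro k _
  rw [act_single, act_single]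

/-- the blocks of an element which commutes with `y` -/
theorem block_zero {g : GL6} (h : g * yE = yE * g) {i j : Fin 6} (hij : dg i ≠ dg j) :
    (g : Mat) i j = 0 := by
  have h1 : (g : Mat) * Matrix.diagonal dg = Matrix.diagonal dg * (g : Mat) := by
    rw [← yE_mat, ← Units.val_mul, ← Units.val_mul, h]
  have h2 := congrFun (congrFun h1 i) j
  rw [mul_diagonal, diagonal_mul] at h2
  have h3 : ∀ a b c : F4, a ≠ b → c * b = a * c → c = 0 := by decide
  exact h3 _ _ _ hij h2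

/-- the block on the natural module -/
def bM (g : GL6) : Matrix (Fin 3) (Fin 3) F4 := fun a b => (g : Mat) (ep (Sum.inl a)) (ep (Sum.inl b))
/-- the block on the dual module -/
def bN (g : GL6) : Matrix (Fin 3) (Fin 3) F4 := fun a b => (g : Mat) (ep (Sum.inr b)) (ep (Sum.inr a))

theorem dg_inl (a : Fin 3) : dg (ep (Sum.inl a)) = F4.w := by revert a; decide
theorem dg_inr (a : Fin 3) : dg (ep (Sum.inr a)) = F4.v := by revert a; decide

theorem mat_eq_psM {g : GL6} (h : g * yE = yE * g) : (g : Mat) = psM (bM g) (bN g) := by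
  funext i j
  obtain ⟨a, rfl⟩ := ep.surjective i
  obtain ⟨b, rfl⟩ := ep.surjective j
  rw [psM, submatrix_apply, Equiv.symm_apply_apply, Equiv.symm_apply_apply]
  rcases a with a | a <;> rcases b with b | b
  · rfl
  · rw [fromBlocks_apply₁₂]
    exact block_zero h (by rw [dg_inl, dg_inr]; decide)
  · rw [fromBlocks_apply₂₁]
    exact block_zero h (by rw [dg_inl, dg_inr]; decide)
  · rfl

theorem rev_ep' : ∀ a : Fin 3, Fin.rev (ep (Sum.inr a)) = ep (Sum.inl a) := by decide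

theorem bN_mul_bM {g : GL6} (hg : g ∈ L) (h : g * yE = yE * g) : bN g * bM g = 1 := by
  funext a b
  rw [mul_apply, one_apply]
  have h1 := form_cols hg (ep (Sum.inr a)) (ep (Sum.inl b))
  rw [← ep.sum_comp, Fintype.sum_sum_type] at h1
  have h2 : ∑ c, (g : Mat) (ep (Sum.inl c)) (ep (Sum.inr a)) *
      (g : Mat) (Fin.rev (ep (Sum.inl c))) (ep (Sum.inl b)) = 0 := by
    apply Finset.sum_eq_zero
    intro c _
    rw [block_zero h (i := ep (Sum.inl c)) (j := ep (Sum.inr a)) (by rw [dg_inl, dg_inr]; decide), zero_mul]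
  rw [h2, zero_add, rev_ep'] at h1
  have h3 : (ep (Sum.inl b) = ep (Sum.inl a)) ↔ a = b := by
    rw [ep.apply_eq_iff_eq, Sum.inl.injEq, eq_comm]
  simp only [h3] at h1
  rw [← h1]
  apply Finset.sum_congr rfl
  intro c _
  rw [rev_ep']
  rfl

theorem psM_diag (a b c a' b' c' : F4) : psM (Matrix.diagonal ![a, b, c]) (Matrix.diagonal ![a', b', c']) =
    Matrix.diagonal ![a, c', b', b, c, a'] := by
  have h : ∀ (i j : Fin 6), (psM (Matrix.diagonal ![a, b, c]) (Matrix.diagonal ![a', b', c'])) i j =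
      (Matrix.diagonal ![a, c', b', b, c, a'] : Mat) i j := by
    intro i j
    obtain ⟨x, rfl⟩ := ep.surjective i
    obtain ⟨y, rfl⟩ := ep.surjective j
    rw [psM, submatrix_apply, Equiv.symm_apply_apply, Equiv.symm_apply_apply]
    rcases x with x | x <;> rcases y with y | y
    · fin_cases x <;> fin_cases y <;> rfl
    · fin_cases x <;> fin_cases y <;> rfl
    · fin_cases x <;> fin_cases y <;> rfl
    · fin_cases x <;> fin_cases y <;> rfl
  funext i j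
  exact h i j

theorem diag_check : ∀ e ∈ ALT, ∀ m ∈ [512, 768], app e.1 64 = 64 → app e.1 256 = m → False := by
  decide +kernel

theorem act_diag {k : GL6} {d : Fin 6 → F4} (h : (k : Mat) = Matrix.diagonal d) (j : Fin 6) :
    act k (Pi.single j 1) = d j • Pi.single j 1 := by
  funext i
  rw [act_single, h, Pi.smul_apply, smul_eq_mul]
  by_cases hij : i = j
  · subst hij; rw [diagonal_apply_eq, Pi.single_eq_same, mul_one]
  · rw [diagonal_apply_ne _ hij, Pi.single_eq_of_ne hij, mul_zero]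

theorem singles : (e0 = Pi.single 0 1 ∧ e1 = Pi.single 5 1) ∧
    (dec 64 = Pi.single 3 1 ∧ dec 256 = Pi.single 4 1) ∧
    (dec 512 = F4.w • Pi.single 4 1 ∧ dec 768 = F4.v • Pi.single 4 1) := by decide +kernel

/-- a diagonal element of `L` -/
theorem diag_one {k : GL6} (hk : k ∈ L) {D D' : F4}
    (h : (k : Mat) = Matrix.diagonal ![1, D', 1, 1, D, 1]) (hD : D ≠ 0) : D = 1 := by
  have h0 : act k e0 = e0 := by
    rw [singles.1.1, act_diag h]
    exact one_smul _ _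
  have h5 : act k e1 = e1 := by
    rw [singles.1.2, act_diag h]
    exact one_smul _ _
  have hA : k ∈ Al := mem_Al_iff.2 ⟨⟨hk, h0⟩, h5⟩
  obtain ⟨e, he, hc⟩ := exists_cod_Al hA
  have h3 : app e.1 64 = 64 := (hc.1.app_eq_iff (by norm_num) (by norm_num)).1 (by
    change act k (dec 64) = dec 64
    rw [singles.2.1.1, act_diag h]
    exact one_smul _ _)
  have h4 : act k (dec 256) = D • Pi.single 4 1 := by
    rw [singles.2.1.2, act_diag h]; rfl
  have hcases : ∀ D : F4, D ≠ 0 → D = 1 ∨ D = F4.w ∨ D = F4.v := by decide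
  rcases hcases D hD with h6 | h6 | h6
  · exact h6
  · exfalso
    rw [h6, ← singles.2.2.1] at h4
    exact diag_check e he 512 (by simp) h3 ((hc.1.app_eq_iff (by norm_num) (by norm_num)).1 h4)
  · exfalso
    rw [h6, ← singles.2.2.2] at h4
    exact diag_check e he 768 (by simp) h3 ((hc.1.app_eq_iff (by norm_num) (by norm_num)).1 h4)

/-- the centralizer of `y` is `SL₃(4)` -/
theorem exists_phi {g : GL6} (hg : g ∈ L) (h : g * yE = yE * g) : ∃ M : SL3, g = phi M := by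
  have hNA := bN_mul_bM hg h
  have hAN : bM g * bN g = 1 := mul_eq_one_comm.1 hNA
  have hdet : (bN g).det * (bM g).det = 1 := by rw [← det_mul, hNA, det_one]
  obtain ⟨D, hD⟩ : ∃ D : F4, D = (bM g).det := ⟨_, rfl⟩
  obtain ⟨D', hD'⟩ : ∃ D' : F4, D' = (bN g).det := ⟨_, rfl⟩
  rw [← hD, ← hD'] at hdet
  have hD0 : D ≠ 0 := by rintro h0; rw [h0, mul_zero] at hdet; exact absurd hdet (by decide)
  have hd1 : (Matrix.diagonal ![1, 1, D] : Matrix (Fin 3) (Fin 3) F4).det = D := by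
    rw [det_diagonal, Fin.prod_univ_three]
    change 1 * 1 * D = D
    rw [one_mul, one_mul]
  let h0 : SL3 := ⟨bN g * Matrix.diagonal ![1, 1, D], by rw [det_mul, hd1, ← hD', hdet]⟩
  have hh0 : cM h0 = bN g * Matrix.diagonal ![1, 1, D] := rfl
  have hP : bM g * cM h0 = Matrix.diagonal ![1, 1, D] := by
    rw [hh0, ← Matrix.mul_assoc, hAN, Matrix.one_mul]
  have hR : cM h0⁻¹ * bN g = Matrix.diagonal ![1, 1, D'] := by
    have h1 : (cM h0⁻¹ * bN g) * Matrix.diagonal ![1, 1, D] = 1 := by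
      rw [Matrix.mul_assoc, ← hh0, cM_inv_mul]
    have h2 : (Matrix.diagonal ![1, 1, D] : Matrix (Fin 3) (Fin 3) F4) * Matrix.diagonal ![1, 1, D'] = 1 := by
      rw [diagonal_mul_diagonal, ← diagonal_one]
      congr 1
      funext i
      fin_cases i
      · rfl
      · rfl
      · change D * D' = 1
        rw [mul_comm, hdet]
    calc cM h0⁻¹ * bN g = (cM h0⁻¹ * bN g) * (Matrix.diagonal ![1, 1, D] * Matrix.diagonal ![1, 1, D']) := by
          rw [h2, Matrix.mul_one]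
      _ = 1 * Matrix.diagonal ![1, 1, D'] := by rw [← Matrix.mul_assoc, h1]
      _ = _ := Matrix.one_mul _
  have hk : ((g * phi h0 : GL6) : Mat) = Matrix.diagonal ![1, D', 1, 1, D, 1] := by
    rw [Units.val_mul, coe_phi, mat_eq_psM h, psM_mul, hP, hR, psM_diag]
  have hD1 : D = 1 := diag_one (L.mul_mem hg (phi_mem h0)) hk hD0
  let M : SL3 := ⟨bM g, by rw [← hD, hD1]⟩
  refine ⟨M, Units.ext ?_⟩
  have hM : cM M = bM g := rfl
  have hMi : cM M⁻¹ = bN g := by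
    calc cM M⁻¹ = (bN g * bM g) * cM M⁻¹ := by rw [hNA, Matrix.one_mul]
      _ = bN g * (cM M * cM M⁻¹) := by rw [Matrix.mul_assoc, hM]
      _ = bN g := by rw [cM_mul_inv, Matrix.mul_one]
  rw [coe_phi, hM, hMi]
  exact mat_eq_psM h

/-! ### The orders 5 and 7 in `SL₃(4)` -/

theorem card_F4' : Nat.card F4 = 4 := by
  rw [Nat.card_eq_fintype_card, F4.card_F4]

theorem adm7 : H962.PP.Adm F4 3 7 := by
  refine H962.PP.adm_prime (by norm_num) (by norm_num) ?_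
  rw [card_F4']
  rw [orderOf_eq_iff (by norm_num)]
  decide

theorem adm5 : H962.PP.Adm F4 2 5 := by
  refine H962.PP.adm_prime (by norm_num) (by norm_num) ?_
  rw [card_F4']
  rw [orderOf_eq_iff (by norm_num)]
  decide

/-- `w` lies in `SL₃(4)` -/
theorem wE_phi : ∃ M : SL3, wE = phi M := by
  have e : ∀ (r : Fin 12) (t : Fin 3), r = 5 ∨ r = 6 → ∃ M : SL3, gx r t = phi M := by
    intro r t hr
    refine exists_phi (gx_mem r t) ?_
    have h : ∀ (r : Fin 12) (t : Fin 3), r = 5 ∨ r = 6 → mulC (xc r t) yC = mulC yC (xc r t) := by decide +kernel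
    have h1 := isCode_mul' (isCode_gx r t) isCode_yE
    have h2 := isCode_mul' isCode_yE (isCode_gx r t)
    rw [h r t hr] at h1
    exact Units.ext (h1.mat_eq h2)
  obtain ⟨A, hA⟩ := e 5 0 (Or.inl rfl)
  obtain ⟨B, hB⟩ := e 6 1 (Or.inr rfl)
  refine ⟨A * B, ?_⟩
  rw [map_mul, ← hA, ← hB]
  exact ev_pair 5 6 0 1

/-- elements which commute with `y` -/
theorem Q6_of_y {g : GL6} (hg : g ∈ L) (h : g * yE = yE * g) : Q6 g := by
  obtain ⟨M, rfl⟩ := exists_phi hg h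
  by_cases hM : M ∈ Subgroup.center SL3
  · obtain ⟨W, hW⟩ := wE_phi
    apply Q6_of_w hg
    rw [hW, ← map_mul, ← map_mul, Subgroup.mem_center_iff.1 hM W]
  · obtain ⟨x, y, rfl, hx, hy⟩ := H962.PP.sl_mul (k := 1) M hM adm7 adm5
    refine ⟨phi x, phi_mem x, phi y, phi_mem y, map_mul _ _ _, ⟨7, by norm_num, ?_⟩, 5, by norm_num, ?_⟩
    · rw [← map_pow, hx, map_one]
    · rw [← map_pow, hy, map_one]

/-- **elements which commute with an element of order three** -/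
theorem Q6_of_three {g t : GL6} (hg : g ∈ L) (ht : t ∈ L) (h3 : t ^ 3 = 1) (h1 : t ≠ 1)
    (hc : g * t = t * g) : Q6 g := by
  by_cases hfix : ∀ x, act t x = x → x = 0
  · obtain ⟨k, hk, e⟩ := caseB ht h3 hfix
    obtain ⟨k', hk', e'⟩ := y_conj_s0
    have hm : k'⁻¹ * k ∈ L := L.mul_mem (L.inv_mem hk') hk
    have e2 : (k'⁻¹ * k) * t * (k'⁻¹ * k)⁻¹ = yE := by
      calc (k'⁻¹ * k) * t * (k'⁻¹ * k)⁻¹ = k'⁻¹ * (k * t * k⁻¹) * k' := by group
        _ = k'⁻¹ * (k' * yE * k'⁻¹) * k' := by rw [e, e']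
        _ = yE := by group
    apply Q6.of_conj hm
    apply Q6_of_y (L.mul_mem (L.mul_mem hm hg) (L.inv_mem hm))
    rw [← e2]
    calc (k'⁻¹ * k) * g * (k'⁻¹ * k)⁻¹ * ((k'⁻¹ * k) * t * (k'⁻¹ * k)⁻¹)
        = (k'⁻¹ * k) * (g * t) * (k'⁻¹ * k)⁻¹ := by group
      _ = (k'⁻¹ * k) * (t * g) * (k'⁻¹ * k)⁻¹ := by rw [hc]
      _ = _ := by group
  · push Not at hfix
    obtain ⟨x, hx, hx0⟩ := hfix
    exact Q6_of_fix hg ht h3 h1 hc hx0 hx

end Cfsg.Agent.H538.Pw.GFour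
end

-- part: H538/Pw/GFour
section
/-!
# S2465, `G₂(4)`: every element is a product of two elements of order prime to 6 (helper538)
-/

set_option autoImplicit false
set_option linter.unusedVariables false
set_option maxHeartbeats 1000000

namespace Cfsg.Agent.H538.Pw.GFour

open Cfsg.Agent.StdG24.Mod6
open Cfsg.Agent.StdG24.Ord6
open Cfsg.Agent.GTwoFour
open Cfsg.Agent.GTwoFour.Mdl
open Cfsg.Agent.GTwoFour.MdlInv
open Cfsg.Agent.GTwoFour.MdlInvChk
open Cfsg.Agent.H78.Pw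

/-- elements of `U` -/
theorem Q6_U {u : GL6} (hu : u ∈ U) : Q6 u := by
  obtain ⟨D, j, hD, h⟩ := allNi_spec U_check Cd_one u (U_PS hu)
  rw [one_mul] at hD
  obtain ⟨a, ha, h13, h⟩ := leaf_spec hD h
  exact ⟨a⁻¹, L.inv_mem ha, a * u, L.mul_mem ha (U_le_L hu), (inv_mul_cancel_left a u).symm,
    ⟨13, by norm_num, by rw [inv_pow, h13, inv_one]⟩, 13, by norm_num, h⟩

/-- a 2-element of `L` is conjugate into `U` -/
theorem exists_conj_U' {y : GL6} (hy : y ∈ L) {n : ℕ} (h2 : y ^ 2 ^ n = 1) :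
    ∃ a ∈ L, a * y * a⁻¹ ∈ U := by
  have : Fact (Nat.Prime 2) := ⟨Nat.prime_two⟩
  have hfin : Finite L := MdlInv.finite_L
  have hc : Nat.card (U.subgroupOf L) = 2 ^ (Nat.card L).factorization 2 := by
    rw [Nat.card_congr (Subgroup.subgroupOfEquivOfLe U_le_L).toEquiv, card_U, card_L,
      show (251596800 : ℕ) = 2 ^ 12 * 61425 by norm_num,
      Nat.factorization_mul (by norm_num) (by norm_num), Finsupp.add_apply,
      Nat.Prime.factorization_pow (by norm_num), Finsupp.single_eq_same,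
      Nat.factorization_eq_zero_of_not_dvd (by norm_num)]
    norm_num
  let T : Sylow 2 L := Sylow.ofCard _ hc
  have h3 : (⟨y, hy⟩ : L) ^ 2 ^ n = 1 := Subtype.ext h2
  have hp : IsPGroup 2 (Subgroup.zpowers (⟨y, hy⟩ : L)) := by
    rintro ⟨x, k, rfl⟩
    refine ⟨n, Subtype.ext ?_⟩
    change ((⟨y, hy⟩ : L) ^ k) ^ (2 ^ n) = 1
    rw [← zpow_natCast, ← zpow_mul, mul_comm, zpow_mul, zpow_natCast, h3, one_zpow]
  obtain ⟨Q, hQ⟩ := hp.exists_le_sylow
  obtain ⟨g, hg⟩ := MulAction.exists_smul_eq L Q T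
  refine ⟨g, g.2, ?_⟩
  have h4 : (⟨y, hy⟩ : L) ∈ (Q : Subgroup L) := hQ (Subgroup.mem_zpowers _)
  have h5 : g * ⟨y, hy⟩ * g⁻¹ ∈ ((g • Q : Sylow 2 L) : Subgroup L) := by
    rw [Sylow.coe_subgroup_smul]
    exact Subgroup.smul_mem_pointwise_smul _ (MulAut.conj g) _ h4
  rw [hg] at h5
  have h6 : g * ⟨y, hy⟩ * g⁻¹ ∈ U.subgroupOf L := h5
  exact Subgroup.mem_subgroupOf.1 h6

theorem Q6_two {y : GL6} (hy : y ∈ L) {n : ℕ} (h2 : y ^ 2 ^ n = 1) : Q6 y := by
  obtain ⟨a, ha, h⟩ := exists_conj_U' hy h2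
  exact Q6.of_conj ha (Q6_U h)

theorem orderOf_dvd_of_mem {K : Subgroup GL6} {y : GL6} (hy : y ∈ K) : orderOf y ∣ Nat.card K := by
  have h := orderOf_dvd_natCard (⟨y, hy⟩ : K)
  rwa [Subgroup.orderOf_mk] at h

/-- the order of an element which commutes with an involution -/
theorem order_of_inv {g i : GL6} (hg : g ∈ L) (hi : i ∈ L) (h2 : i * i = 1) (h1 : i ≠ 1)
    (hc : g * i = i * g) : orderOf g ∣ 61440 := by
  obtain ⟨a, ha, h⟩ := conj_of_mem_L hi h2 h1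
  have hg' : a * g * a⁻¹ ∈ L := L.mul_mem (L.mul_mem ha hg) (L.inv_mem ha)
  have hc' : (a * g * a⁻¹) * (a * i * a⁻¹) = (a * i * a⁻¹) * (a * g * a⁻¹) := by
    calc (a * g * a⁻¹) * (a * i * a⁻¹) = a * (g * i) * a⁻¹ := by group
      _ = a * (i * g) * a⁻¹ := by rw [hc]
      _ = _ := by group
  have ho : orderOf (a * g * a⁻¹) = orderOf g := by
    have := (MulAut.conj a).orderOf_eq g
    simpa using this
  rw [← ho]
  rcases h with h | h
  · rw [h] at hc'
    have := orderOf_dvd_of_mem (mem_P_of_comm hg' hc')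
    rwa [card_P] at this
  · rw [h] at hc'
    have h3 : a * g * a⁻¹ ∈ Cfsg.Agent.StdG24.Inv6.Cv := ⟨hg', hc'⟩
    have h4 : a * g * a⁻¹ ∈ S1 := ⟨hg', Cfsg.Agent.StdG24.Inv6.Cv_e0 h3⟩
    have := orderOf_dvd_of_mem h4
    rwa [card_S1] at this

/-- **every element of `G₂(4)`** -/
theorem Q6_all {g : GL6} (hg : g ∈ L) : Q6 g := by
  have hfin : Finite L := MdlInv.finite_L
  have hpos : 0 < orderOf g := by
    have h := orderOf_pos (⟨g, hg⟩ : L)
    rwa [Subgroup.orderOf_mk] at h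
  have hpr : ∀ p : ℕ, p.Prime → p ∣ orderOf g → ∃ s ∈ L, s ^ p = 1 ∧ s ≠ 1 ∧ g * s = s * g := by
    intro p hp hd
    refine ⟨g ^ (orderOf g / p), L.pow_mem hg _, ?_, ?_, (Commute.refl g).pow_right _⟩
    · rw [← pow_mul, Nat.div_mul_cancel hd, pow_orderOf_eq_one]
    · intro h
      have h1 := orderOf_dvd_of_pow_eq_one h
      have h2 : orderOf g / p < orderOf g := Nat.div_lt_self hpos hp.one_lt
      have h3 : 0 < orderOf g / p := Nat.div_pos (Nat.le_of_dvd hpos hd) hp.pos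
      exact absurd (Nat.le_of_dvd h3 h1) (not_le.2 h2)
  by_cases h5 : 5 ∣ orderOf g
  · obtain ⟨s, hs, hs5, hs1, hc⟩ := hpr 5 (by norm_num) h5
    exact Q6_of_five hg hs hs5 hs1 hc
  by_cases h3 : 3 ∣ orderOf g
  · obtain ⟨s, hs, hs3, hs1, hc⟩ := hpr 3 (by norm_num) h3
    exact Q6_of_three hg hs hs3 hs1 hc
  by_cases h2 : 2 ∣ orderOf g
  · obtain ⟨s, hs, hs2, hs1, hc⟩ := hpr 2 (by norm_num) h2
    have h6 := order_of_inv hg hs (by rw [← pow_two, hs2]) hs1 hc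
    have h7 : orderOf g ∣ 2 ^ 12 := by
      have e : (61440 : ℕ) = 2 ^ 12 * 15 := by norm_num
      rw [e] at h6
      refine Nat.Coprime.dvd_of_dvd_mul_right ?_ h6
      rw [show (15 : ℕ) = 3 * 5 by norm_num]
      exact Nat.Coprime.mul_right (((Nat.Prime.coprime_iff_not_dvd (by norm_num)).2 h3).symm)
        (((Nat.Prime.coprime_iff_not_dvd (by norm_num)).2 h5).symm)
    exact Q6_two hg (n := 12) (orderOf_dvd_iff_pow_eq_one.1 h7)
  · refine ⟨g, hg, 1, L.one_mem, (mul_one g).symm, ⟨orderOf g, ?_, pow_orderOf_eq_one g⟩, 1, by norm_num,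
      one_pow _⟩
    exact (show (orderOf g).Coprime (2 * 3) from
      Nat.Coprime.mul_right (((Nat.Prime.coprime_iff_not_dvd (by norm_num)).2 h2).symm)
        (((Nat.Prime.coprime_iff_not_dvd (by norm_num)).2 h3).symm))

theorem all_L : All 6 L := by
  rintro ⟨g, hg⟩
  obtain ⟨a, ha, b, hb, e, ⟨m, hm, hm'⟩, n, hn, hn'⟩ := Q6_all hg
  refine ⟨⟨a, ha⟩, ⟨b, hb⟩, Subtype.ext e, ?_, ?_⟩
  · exact Nat.Coprime.of_dvd_left (orderOf_dvd_of_pow_eq_one (Subtype.ext hm')) hm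
  · exact Nat.Coprime.of_dvd_left (orderOf_dvd_of_pow_eq_one (Subtype.ext hn')) hn

/-- **`G₂(4)`** -/
theorem six_g2_four (F : Type*) [Field F] [Fintype F] (hF : Fintype.card F = 4) :
    All 6 ↥(Cfsg.Lie.chevG2.group F) := by
  obtain ⟨e⟩ := Cfsg.Agent.StdG24.Iso6.equiv_chev F hF
  exact all_L.congr e

end Cfsg.Agent.H538.Pw.GFour
end

-- part: H346/Pw/Rows2
section
/-!
# S2465: rows of the groups of Lie type, second part (helper346)

`row_e6'`, `row_e7'`, `row_te6'`, `row_psu'` have no hypotheses; `row_g2'` needs only `G₂(9)`, `row_psp'` only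
`PSp₄(4)` and `PSp₄(9)`.
-/

set_option autoImplicit false

namespace Cfsg.Agent.H346.PwRows

open Cfsg Cfsg.Agent.H78.Pw

universe u

/-- **E₆: complete** -/
theorem row_e6' {G : Type u} [Group G] [IsSimpleGroup G] (h : Lie.IsoChevE6 G) : Pw G := by
  obtain ⟨F, _, _, ⟨e⟩⟩ := h
  obtain ⟨r, hr, hc⟩ := exists_char F
  have hPW : Cfsg.Agent.H514.DP.PW r 2 G :=
    Cfsg.Agent.H346.PwU.pw_exc ⟨F, inferInstance, inferInstance, hc, Or.inr (Or.inr (Or.inl ⟨e⟩))⟩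
  refine pw_of hPW (fun h5 => ?_) (fun h5 => ?_)
  · exact (Cfsg.Agent.H194.Pw.own_E6 (by have := card_ge (F := F) h5; omega) r).congr e.symm
  · refine All.congr e.symm ?_
    by_cases h4 : 4 ≤ Nat.card F
    · refine Cfsg.Agent.H194.Pw.six_E6 h4 ?_
      rcases two_or_three hr.out h5 with rfl | rfl
      · exact Or.inl char_dvd
      · exact Or.inr char_dvd
    · rcases card_cases h4 with h | h
      · exact Cfsg.Agent.H150.Pw.six_E6_two h
      · exact Cfsg.Agent.H150.Pw.six_E6_three h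

/-- **E₇: complete** -/
theorem row_e7' {G : Type u} [Group G] [IsSimpleGroup G] (h : Lie.IsoE7 G) : Pw G := by
  refine row_e7 (fun F _ _ h => ?_) h
  rcases h with h | h | h | h | h
  · exact Cfsg.Agent.H267.Ore.six_E7_two (by rw [← Nat.card_eq_fintype_card]; exact h)
  · exact Cfsg.Agent.H85.Pw.ESevenThree.six_E7_three h
  · exact Cfsg.Agent.H224.Pw.six_E7_small (Or.inl h)
  · exact Cfsg.Agent.H224.Pw.six_E7_small (Or.inr (Or.inl h))
  · exact Cfsg.Agent.H224.Pw.six_E7_small (Or.inr (Or.inr h))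

/-- **²E₆: complete** -/
theorem row_te6' {G : Type u} [Group G] (h : Lie.Iso2E6 G) : Pw G := by
  obtain ⟨K, _, _, q, hq, hK, ⟨e⟩⟩ := h
  exact Pw.congr e.symm (Cfsg.Agent.H928.Pw.Row.pw hq hK)

/-- **G₂** from `G₂(9)` -/
theorem row_g2' (h9 : ∀ (F : Type) [Field F] [Fintype F], Fintype.card F = 9 → All 6 ↥(Lie.chevG2.group F))
    {G : Type u} [Group G] (h : Lie.IsoChevG2 G) : Pw G :=
  row_g2 (fun _ _ _ h => Cfsg.Agent.H983.Pw.six_g2_three h) (fun F _ _ h => Cfsg.Agent.H538.Pw.GFour.six_g2_four F h) h9 h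

/-- **PSU: complete** -/
theorem row_psu' {G : Type u} [Group G] [IsSimpleGroup G] (h : IsPSU G) : Pw G :=
  row_psu (fun F _ _ q hF hq => Cfsg.Agent.H876.PwU3.pw_psu_three F q hF hq) h

end Cfsg.Agent.H346.PwRows
end

-- part: H267/Ore/TEight
section
/-!
# `SL_8(2)`: products of two elements of order 85 (helper267; S2465, `E_8(2)`)

Table by the engine of `H934/MF`: every nonidentity element of `GL_8(2)` is a product of two elements with the irreducible
characteristic polynomial `X^8 + X^5 + X^4 + X^3 + X^2 + X + 1` of order 85.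
-/

set_option autoImplicit false
set_option maxRecDepth 100000

namespace Cfsg.Agent.H267.Ore.TEight

open Matrix Polynomial Cfsg.Agent.H934.MF

/-- lower coefficients of an irreducible polynomial of degree 8 and order 85 -/
def l85 : List Bool := [true, true, true, true, true, true, false, false]

theorem irr_l85 : Irreducible (mono (zl l85)) := by
  have h : irrCheck (R := ZMod 2) 2 (zl l85) [1, 1, 0, 0, 0, 0, 1, 1, 1, 0, 1, 0, 1, 1, 0, 0, 1, 1, 0, 0, 1, 0, 0, 1, 1, 0, 0, 0, 1, 0, 1, 1, 0, 1, 1, 0, 0, 0, 1, 1, 0, 1, 0, 1, 1, 1, 1, 1, 1, 0, 0, 0, 1, 1, 1, 0, 0, 1, 1, 1, 0, 0, 0, 0, 1, 0, 0, 0, 1, 0, 1, 0, 1, 1, 1, 0, 0, 1] [1, 1, 1]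
    [0, 0, 1, 1, 1, 1] 85 5 = true := by
    decide +kernel
  exact irr_of_check (ZMod.card 2) h

/-- certificates -/
def t85 : List ℕ := [
  0x28d16fbb4a6dac6973dfc15f82a3f2877d6337e9cde52084f0198a15015eec1bdc5e5f25d1df67bed2b79e2fc7e444244bad437039ae8885c6433702dd98dca2816c7d0fef64535a6db2e083db0f80c72e9247cb3c7973ced59c6ce2d2e4c3c82f48c51a65248e385728cf17ddc85bf1f112960c3d221de498f9bd70930e5cf3423a4c41823d79ef88b185268e08985a557af1c8dfc547c39ed2848e0306e871619ddc58f045e6cf7bb4c7ac30fd1b54dda6dfdc74ca270935890f91bba090d247640bb84efa78811269f0273b0601aea01f9c85964fd8da3c80782b736e0e6d058de4efb9cec3a0b4019a86d3e51546befc7b27dfc491b95c70a692587da4e13128b16849d39cc2f02598655f513da077b90af0782dd36cd6b43f187b389e4d3338bdbcad06cfa33bcc28a450fd99a9c78b33f617a6b4183e61b62b49b0db9c4b6109782f7bb42bfa7b706e095a4e8ff66a7dc37a46cc1359cc48e9613ca6d3df17235285ec894c5805a4cb92bf9a53cbdd3c878024c78d1af9537ff5668b08437b7197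72613ffe5e0724151c83abf65fed94cdf61e2ef7be6356e276c609336f9ca6e76a971dd5729dfb71ca9642e18d2bc29b62f7d17d172878f419376dc6bc940ae75a541ae4442722a92cc7d64e44072bd3e5ef96a43f1a74c51b6d92a4488bd3e6a46e70159476e0537ecbd84751988361ef79db14625f9b8f9a592d543d3ba573251fded44ab5921ad9196428d9598af7793d297ff448fe11f8f19bc0acf9e20c151d8c5cda82cb1e0e78df12b89bada7db3168c76559ca3ed023ba2dee50827754ed6a37db9c9baf4820a4ca581fe53f8d22d0b3fa501c8293b019e40acff74ad211042ca54d567b02ce52351f7e53620aa96cba5ba2abe11a97477e01973def86bd5f4b1ffeec5defc3a424225e05abbd5abfffac8af95beba564afb7bcc35776e6a48b6fff0c8ffda826c163c4e70a76721ebf4c35b2dfa0cf9aaca1dc8219c448549946c90a534e2049115217dd361df2b21528aae9093c6ffa2e5950e17bdfd44f484a5c0af6f9cc8bbd01b3dc9781bfdba1de09321d59fb80888d61c8e43ba6ff47f01a8c95bfe4aa459f367c93df29fe754c251dca5a222fc4b9d6cbaa91da2bafc1e31a4703b4122cb3173da29a8cd030dedddc701da44c695fe1c89228dde3a187af9461d884aec6c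1977fc2588b8370690ff594b7ebe992f0a6ced318094413115ecf2ffb0d2be82185f307547dea2be6654bd1f80de55d520a2483f0941ed56ab1d33fd7396f46b68c29740eb361de9fa396faba4879477229d3fe0696b78b6b9faa46d6783fa658b31774990b98de8246f2a926a70a594c1aee55aad8b7fa1756bba89af626a55ba28ae39823510f149852f865d8e6a27592065b58c7076a06c4f7741a3aaf8dfe0ff5dd44c5dcbcf6ebcfdbe069121e14ef13b41e598a9aac90895609defd8a343fa15c81b4a5eb6dac0e51a61d8c84a4d9bc1d332c7e76b9ee2484e91c598799d9dc27570efff2c069b12f7e55524ccb6f1e20fd10e2965e899d21494cb39944ca511a97a0e118cf049f9e4fa8c9b960215242b5a8c3174b52a9cfe15b1299b235927eb3a20a39daab8fa6ecaf880b53c2d2eb1ae33277c6e49a146586a0fa2171b4abd7ed9db3732f5aa2553246e9a0887d35c712e15f9c80a5acc74df2eca99c1ee46e8357f13e9c8a78ff2d644d10a57e3a90a0c70d97040845a7d16b886778e01a57a07fe424048cec2170f1e273e4b5869f0ff7e7b07d0cc88d92dc0f6ac26e5844f797d5a8edd62da0abdf43fb63879adf8ace77536614d4ee6ba5bb7d77c055797abf8ccb19fd8963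49aeeb84d0c532d80f47f44ec1f3b580df13fdf394f6358da82440015e1ca85ccd0ef242ccb716215825cfec1d76a60a541538751d46dd3bfeb34cf238b40a5b2b07a297d631a018c5512b6f10c2979929f25dbc22275dd60ee9785a0db8eea731c77ca9ebbe052991e9a6822df2d3e6caf6883634ed9e211b999662819a115b064fc6e28dbe496d743a77723a6eaf22c8fc31995ec3fa55c66b8321b00d923b1ec4db56fa8d62a2fdaa7bdfa19d0a6b6e41c799391d35e543916efdc09782d26ce77263c5a7aa2dddf56807717a3eee5fa949e7ddb647770eb902eb906dd9dc0126e56755bb254c80e175bd41a81aaf29fe047362689dfa152a127f627514ed749c29dc424d60aca426bdefff31a5fbaf38a9c5913f01dad0ad0d54a850d5c47210ab13af84ad06aa0dc2296ab43e582864786457ddb45bd36f108b551b0c5e76f81aec31b3c74d59d7ac81bdc8a21eba35da975517da8ce7cf8a5295e3333b326aa06a3bbd960a18e955931bad741ca1feddbd3aaf75d9e26cee6d6aa38af8034c772d449ad1bac6eafb8f2819e153d81a9c1e027c6c562c833b14f46b9c3740195b13777293e00e9ecd831b067258bea89070bbe42392aef4247cde7f2fdf2ab95d7aa47025c2cd44b4ddb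c6256dff65023782d4fc0e48c54d727b1bb9aa9f6c237b8e46bce829a2df5e96ad832c3087fe675558ed7d2d5dd4519c0414232506e440a2aee8153aa34a74fc0a97e2fba1044b4e7ca6334fc6e8ef972a2f5502cb788fc154b1b47b1dd7267495725dca91ad13ca6bf85c0f03d3f29d1dd1eb3228221060f828fbf1f1158c35c44d6f0701650831076b129bcc9e79d3140582de1c7a6adb631bca09f1946bfb0f692c47adeb8b22bde69f308da381a9c9904ed8592cf9896e9ea607da756e2eafcdfd864f7a3a2c6122d571825f8b3991612c536712f2ed1fbe12fc9a0839affafebe08975fd42b02da27cdcafc89c324ca34922f83e54a1627b656b3ad9ed6314db79ae23dc2d7af26c5a33e292694822d4e597f9b4,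
  0x2ad1fd9e7785d078eab674612ac2cbf7d90be4cde424fd5b29a40f5b958ee4a25493341991af75ed6b2b977f4ed27e1a28b0761826a3d150fdc29dfbf5c54c399854a49f920330ba62e1c31edb72aad6339d1ec10b10a41e3c7216d596f29cb3e6097a1c6af2546acec78b01bb609fc148685785bae46244297163c79d6efb63022779311ece8cbfd584ba795189343e7d507ec6b149a5d23bbcd41f18e3867ae7c2be196fd1e47b7e3610ae48d9bdf475de1fd733ad282be5029e86595945a94db381958953a31725a31a5b1ccee84ad6911937dfdf1c56947e1afa53c0cc12f55f86e40095ee1ae91259cf5e0a698487a5a53b0ba179744636bc755cb03f78e4ac28416e720310d02356010f0ddeb05355e416abda1224d5faa44dd5e356882357125c74a160bb2750f698d805fe8838a351b1c90bbe1bde8046e622efa542b03ab4d0237a192d5ea092aa7a8a0486739627debad56791a3d55c24a5c5bb156c9d3631449fd7f8b4a7a19360344d21d259e8e8f6545c8f70683f65e0bb3180e1dadf8df744f37cf6a19bfb894135e302a5fe91271cc18ae49c9dd71c1153f9c22fe36cfaec7023a41c4d094dbdaade58e5f33c56077693988f61f9ec1b5afb3e0a975ad170af1d595a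26f115439e3efd4787e39572235a4ca1cf15bc8a32f7cb1fc47b95f304b335e5c485998a0e290e87d15d30e2fb27f5cf063badd705aef839dea3c34258f13f5bc6b2a9d67dd6d8b2b917b3fa3951d60de22faacebce8a4beae368fbf846eef80a1e7128b69882c169a1c56873aecd34f6fd4829a9249cf4b42bdef9f1c660359c06897b9358034138a17194594d35652d682ef507759517a0602ea4af977120efcc24c0414b67496ded3f88f0fdadbe2134ee9430d95fc6080143ed86fd42db05d558aff510ab2160d7170833b65138cf4d328d493154f643648e36e298c28b9d9cdfcd86a9944ab870a8197ed259c228690bd3a3e6ae429b6c3bd5913a8c28dbee5a1cd00905a6d1bbc58ea0ae8f029141befb07398c64240fb2f658a660a765076c21ebb110996aaa931e567dd55880d3cc9be5f6dc32c55e31a7bc878705d59b499036ee343cb183a3382d5dc718a6ba3ef47a9e500f7dd30b97abd55cb96f9848eab37a6743e5eaf5d6257bd995d307555bfbc2317f8dc58cfcb8d3a449df949c6c3e2886b96911aea6ba6ed184b10cbb3bd87939aba1215e27afa08c319636426630212562f6c20d4114298d325bba3bff62898d89849c4b743092c68d8f5f208ee01f6e8286e5d2ffcf62f2bcbaee6f4f0f318725cf985c56b09abd0fd3c37bcfde345d5f95ab741a2807857fb9254bc0588a89fce18bbf3c26ea75c98a1c6aa131ad3b19662949b6caa64d5505b6c1956cf381c10a850666677cc0cc25b8901e8606faf90d727d924a1db7be218d55381df8,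
  0x3ef8239c5e86f7fe81093eb39d456c994f93f2b7d1ccc9513faccdc7fc09f37e0b85c5bf5e58787491f7a8cc3ef1bd320d4f5cb552a70967052ed16f821974dccbd39c7d0249955faa95eda1e08c8b08c6750bd056e238b77aa7882d23e2363b99dac4db0dc754798a6522f2aa6e247421149f4de9b9748d11531d994b16c52a9728e6d46ce59aaac65b2a1b8e7224334fb4682e979f35e2f5d971f216febcd31759ce9592346ef4052298eb5ee04670a7115ab7e2653c5d72a19034072dd0f6e84d58bcaf6bd580623d9dde6f018516fe3fa3d059dc1716c359d3bc0fa7037aa3384bf7741d318b216fc11987f7efb4741c77d7faa2dfcce230a312f15f94347c859fcfc85f4c94248914330a1f0d4703044bef758f9c6d643bcdc40b4bda5a827542e68e3d2416a05cdfe45e328fb2130b4b4a948f386fc7c2eb2be3a730fc77a35fba60292e96ffdaa37a9c2db713886c0b6981d572b666c30fbd583d35a87ab0e1a43297b580734f0ffa5e015549249fb0a3d8bf64c5d84464eec45a1d13a234d7acd008dc8debade3b3b9b7269a5d4650ec2b3cda28ae72ba478b346c65eb8e90985502a68d8372baaaee9a4104bba7b9199e0309c8a75812ce7468a4a0e33cdc9616386decf696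b7255c18e0fbb67f539bd3e339b3ceefe3fe5928f0d5033e98d09691bd77a7dfb7558cc280f1bbb15611528e714b42bc7f1928ec6fd9fa27a0f50209c3eafe20a6f0bb27db084d7f46277a4ce0db8f8d2ef17ab6846304813e3c284f3769966a476280dfaf30997f32a5c2e5b8ce145ac39b37a57db94e7fd375b37c3e7e03e667551ecd4405710ff42698a067c1cb04969e7913d96d3ab26e415ed48f68f3321a64eda42fccd74c8cc6812b159cd9e5980b92b9b1e2656319a7178cada2bcfbe33eecd6d1fa4c186bd075929e8d86cfbcd6d02a2d92dc595e27f501c23ba2431acff7339793afc26255ad8a2b927d603c8c37b5668893e63ccdde6e993b2b5d51dcf098495ef73e2839978557f1b382e11bd5b9d1ede869ccfef5572783f7cd9fbacea3a2c18224665288e85fb34bec70a307abb62b16fb508927f22429d245a62f13540a35bbdf6133f2e22ef5d55662902d6ea3e90fe86a666fa13cf35cd439c827dfb0bf9d49c05b0bb5d8f9c779381a3fe77a8fd268530cb43aaa995e7d0663b7c4bcd88e8adfe8ab1092790be7be467abaafbc4c2a8bf14e9c937263f9e731d2f4e588062aebf74a43a47daee6a17553b779d38df8559345ecc3233ae028b2b5d9e1bf827a8386e6fa3375574f29f1d444a0c44b7ef909b7eb2cd466bad20d8b3ed5f69b075d9d03578d3156c3129a4866d0d8dad14a3b1df59f661926f6653456a55c88d5b21bffcd200c9b02e8ac812cb2e6d4daa250c343012eebc1fbb19c0cefed9788bd8f9d74094e5328a535da7537bd,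
  0xcdaad1d5d0dbba394a649f0fedddf628315476a34bee5379cc99474dcb2ed75e8cf0bc9042dfac9be0b01065e532daae62949c616692ae7b6a26c8608875cc5ca9b6267f332f58a474a4bfc97adffe32564a78f9ff53936506834f3b65d17de1ecc61107de29d6be323b420a8357a662c758942163b4351393168c6d9e32b934a9c8c4e7f0126ad9c775330e6e89befb9c4284265d95e8867e0ecd6d3f1f21f63b8964a51966f1fb81ac48270dd624b1a8bfb1e529e337c001c25c746d3679be96cc01aacec1efd6242ade7216a548206943b73a9946759b2b73d074e8ce09ac9bceefe5b4871f57a827adf1825ac147409f6a664732ce6cecb16bcfff6cdea9bb4bd8ad5349a5a09b01a9e17df3448db27875a5c6e51cb014cb245573ee81a81351b1e6b04758c35c3cdd6a05e99c284ca5b9753744636eeec7be84eab0f66d5849b2ef523e85f5664e99cd5bb2f759ea016aba879c4e312d5cbd67dea03640df65e48e44b3dd953e28573daf9982f9526aeaaa5691af1b3075fe2b88604e9ac9c332bea5e1315065da63596e079ebc85918b9727e89cc663a5bdc24f321ffdf54f8b783d469dc5b4138b25d4197d610a3f4b38ac63680426731957012dd786f46207cc770d66945ddca90fa8eac1a3b7be5fa3360bc511b45cae483e27c4af1a9e522f5a42a60c884e2428c0e98cd3ebcf1def4b0537a3ee504b6f90d81d94,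
  0x22806b57ba765d386b7ddf7492033a083743bac190c7cdfe41461d597edbc463f1332b6472f92b2fc22a5f321a77211f18b42802b8cb754bd481ea6108d6ba24e0f722431cca0924f02e9356c969d7e4a69abdf9c5da4f1934b4607e7ba9f4958f980a4d10799ea9ddfaab720d4d0cf704529cee1b36fc9e63ba1cefc4b2973256b44f69f80b794ffb6debc048332dbed69f52ef15ee3618f7ae1a9e8c3f428e2d959cacc519ae6add4df446099978127386d701be056142ef7c97eddf092c8f50309fd45dd824863e66e90f2d9992977eeb774dd17ce2ca0249a4d66ef710e368e613e4318ee2186c49490a74b5e3cce52a337677592b2420d54f00e58756ab58bd0cc4bf51f8e4865a472cc7341e602b60f19596a74fac2aa05ecdaeff96f56ef148f4cbaf70bdc3a3173b6caa9a744e9b36018ce4db24f8d7971d2f5211d7c77c66050b0ec2f8a8682491caa234731db936d9c290e1398f77cd921db2aad52bfd8654c1054d92a37da0ede70d3f29167e348695549259d0a92f479a512197a5bd31b9b7ce4a84861666018848a2b05626c044660d4125758453f0b54901084066bc6b2d4313350df1766c3038943e49a40c174f25a484245ea4362e95287147104a90b894f4d2514a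0d50f23fe203bfaae8b3ab6cf0548317256d3948889c99d4329feabb040f86893b4f9ed9e5233604ce9b38b95c1e72f1d3e8854e671991231a9dc08435241a43483878ac97951690424d64f056265ee19e9de742220cbcd2e46479304f3d06ade8abfc21a02b129ca77df7e184001964e4cc26d9a3e29957f0eff0cc465855ab6ab28bbf6af7ed9171101ef7ad08df88c49943008829c03a40de55d730c39fa81dbac51cbda78112f8a7f44a86dc55c475eaae4adc1e552ec089a4c7d738d2447c5d5132999310c338cc5205b843754ba4150f13e51e1eaac35ccd0d20cf2210d6efb06c794711fbe3eaf40f254049cd4c7304efcd162a8f94e8af8c2fbc8828cc2eb1a1f3b84e321e5acfab18eb0d9ec9fce50374ee71062767712fb3ea30f40b2c844687044e36e715668b4c7b7ae9bc5d8134a37b9999359fdb183bad3c0a10783bf3e5b97b08a143c93207bcb0242ccd668aa8461f1e88f5aa40c3a262fc0295cc7fe77cead7ed7233392ccc82383b98f81aa70e621cdc62971d2c13f909548eec1b9698969244594d28768fe8fa770b1f241af9a7bfb917f1cdca266cd1b3760ac434807b7ab0b3d145849969b5b64ab87f3f4a37aeb4ab6238738f1eebed584dc366c04b2925bdb50c4389a609ee718264d807c74a0e7e2a9b3e90552ebb2722d18fccc84d3c2c035fe8b077be1c80f18d14f10fd886eefb89eab63a4807555a2276a6af3e2fe745fde6d4312af69c94ecff643546ee83efa1ab213623b16772fd468dd0ba7b3281304e4177e32766a8dbb02,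
  0xdead8927d02e96d547b87bc53479ece55603143a48acab9094b9019c67534613a9b01b87e1d5d1f6ed13192f4ae606bc94557e12ca2144816c05439aadfec3ac97b0aa28b8ef46678c1555054dc3be5bea8c9ea095a7e225171019fe7c79bed3380e9fb62be1eeb123b1f617d0576f464022ab0d6dcf96f8ccd4aaff4cd83cd3850c1156b3e2140a8eb4df9da2417f5d36e6b906793ac7402878c18a2937273a9c4e78856d7117d35ea338e58c775dc109d9fbcf362cbdaffb58890fb238538fe4274ffda7d569493c03e55f4821bf623acaba8e29e0f43f3236c4dda00fc2431bc57f5c22794a8a035736d18f247b38bfb911fede663c9671186cd5ad63a34ca398b213ef76b608ab7c41acad92224cd4acd5b7dc038cf9d623bde961a4eba099c6b7e34bb5cc4df87e5466b1092db217b26463e2bd1e03f8075e74eef731f6bfd70fa3e9946ab12773d394697cbea188163c780d13ba351927ae80ccc7296d48d98319906c5f8ec3bd9b4393d1aac8378fbc878411d9b5bee57550e869e071e28a050836a866529f4fce4b5bd2d9f92322c18d7abe71781f496b3cff09ecc0225e2128da299778fb3463248975c114b73f32e6e3b6c790ad960178b80f9c846ae54e854139db2a81d13286e8cf718910be1c1d9a9160d6a9ab80f7b47fe330f89103eb4ac0bf3971e8b0dc7576d3855de4a41cd2c50c4260b4128d1b618ff0,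
  0xe16f4ccd2621167d84343ee71b434f6456bad7fa69c8ae754fb335541f68bf922ff69e490be646daaf06d0c9941ac12365db614c8c9ccc0618771eba12a04fa1ee0a1c40978ea2714fcbb2d65f1bfec94cf748ca211b4d2967c4f1474ea0827ef9b8af256a1404c001d30695ea02644f1feba92cff3e8fc5f6b94563c70dfa51077c96505a6e430fe69ef6aa2b4fcf99f47fcd2c83b9c9c423fadf6ca422e945b184c88bc407a6c1744fba543c7c780d8eb630af8aa67727b664b5e0f188f4192299e83421367a605e94fd21cb79881491f699eb0a278f7f5f3d613b9beb7aa898b202bdb98a6bba8ea1a4416518092093c73ae72b2c250d4c507d53f607555e91c82f8fcd7efd375b303a1bfff2f943ee5ca7d0b83bf680658a75f701a7333e203d9785ee0b6e3e9c8a95450af441af2d1801f57713cc67e5473c49359b202d547ba6bebd67e89ff3c6076a5d74189236776f241bf59c40017239b4ed8fc1a909f1b2a05f247166ee10dbe542568eeb7364dda1bf4dc256fb2a92e2b6273a4f399ad9bd16dc0fa77b8a668951c11bfecbeb33b4b593913a43c01adde4ca180631d478bf77bc7c1ad18bb31ed722147b276439ac1cd8041fc98b935ec702a1a84659c814a7724b13d294aef28dbeafec98ca287bc05caf4a49779616418cf01f8f3c63fcce9a7b19ab75b092fb17fedd7e5cd4ae812c402402b1f70565b06d71,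
  0x7114fe9959254506181e6d96dcf1f03715864a79a8bac66d1ff0cbf85d879a913cdc461759220ac6fe1f431921c53aacc79969ba8885dc8b46a57ff4fccf3e379cdbba3a46c883a39b0346af3059fac893ef8a53f54423f190ea68db9d09668ea59c91b11ad397da0930f5d06a6547bf58a5677d2705e861f894c66ed0b998bd147580052e28b47c8582578620f7fbe7a5274814cb7e50068ef4d1ae5d9c9de8d555ed71b5b075e6ca8286a4c0125b1e5cf3ecacf1eafa7330a606da416c489860c189451aa06a47f373fde4772711c4e794a0162e9b780e1a09c6fe2986794546354fab4cf576a56aed6fd52e99735b2abae18f62e20555cf9ecc470c7f597d,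
  0x52cd9a434d094c38aeddd248e4f2040e967cb5b64d06c0a6020584955652c9ab30cb96b6c9bbae923dc949f9834835a21606044409cc7acf4986b9794d60656dc6cb1b5844dba35a248fdd99b5f875e9ac0d8a8962d46681f89bac5a0a7a5b116581e2a4c045717c085c16d84cac4fd7abb9c4f0b1c3e848cf03dc86ef9a5148c67a3b0950e3eb9c5ceb7e2a55891006bb3ae97eb0eefe39270e0612ac5ad2c9f00a5bbff85a94f72bc4ddb2e5c8ac88821ab7e4bf3103a8da29af478cc7c5285d3851f4c973e172f0684a9f5d2ef8fdd6460e52f12bb1497cd5b676e6c6616a74fdbdf914c425aa54dc58345093f44e1128bd7c8d3107da1c3facbb5b752cc47424a083dc359f8a1a07da27ef2611a8acde7eb989324b6616b278d2e097518b7baefa0c70cfd426bf5bec621069e123de44b671b4f1097621dba6143b284c4ec5469c1325f5bc82aa22d076eb6cda1b37e63d687a2bb4a996231dcc3ca08769498f99442e8396b28ffe4d62fdb26db951c6cc42cd05e6407d42d57c2c11287118f2784cfb21768c110fc3bebfde4843f30c80e03e69ca199383352040915b6ffe73c17fe64a97c6e5097655504a3bfe5afd3a919ef97020cc01a26df037dfb4e67db82e257a1316630b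e931afb45ff39380e2c7b2df5d9d03656b40b839ed7f9567a7c32dbc6c87602166fd8ce7a5322f79f9d17ddf41917187726048eb13b753801959c1542fe730b56b406c900b733370aa6b77a6bf30419b9aa624bbd7ed68cdfc92f8673de37196882d6298344a5ac4319fd79cb7eba60dfda1f9c4d0be36092358fcceee1d7c945f928c6640a13a9f6fcdcec33b2747aad65be8fc8266aec3e16193aa28d78d66f53084369f547adb1ebc7720c4fe83a2fea6279262cd46fd808342295ebaf97215201f665697e855ce7a380dea749a7db9ab93e597671fee7e3387972e892e670c6c9b926de87a2ec2178fba799c526e8bd65ca42645558b5e7c94bf05ec734cf1e019bb3c2723580ef0216b96b1af7bc4cd83a3be2b3ceb8e1bc16f374001c392efabf1739536df750e7ea36b8807a3328ed34ceb8f48a0d4bdc41352dca1177f57dfaa862171302fb70bd46cfefb36e197cf333bd1ab3cae6585e82152c97956a8c736671ceac6f4fb48943122b692e8895293f1be47fd2b7f093a83c303bcb2c445ce085a4d6a6c089e0516f594e9781a4d3d49102817358a29d45021d58927f0f6e981090fd8608f9a1cdb2fa181569075e9abb74e82e01676ee793da4bccf385c83d5fb01d0492e9d5a4a3595ef06d35d978035a6d272c85e07eb6c2967ff074f91da3e96260ecd3a72bc3205698a23c2e2f409a1368001063562bbe6b0f8205c793d2d922b997641c8d90e22e02cd98b8a2aff596a4e50b8b98403e637f655570d909c8693e81d8ceb39d63a15bbdf07587cd0,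
  0x1d57f8246a5a2be29f727eba6be5b32fb1dd0105fbf15ae8752a7bf19fa3af2066167baf1860dd24a2a635f1561eccfeb6ab2be960a48579c5cd1160c9f5d3ab08d001b3699cc6a18921c91ed35880208b1fee36aca3cdc001df4c26d70f7dd4f93206600f456a947161d76fb9128ba39ccb59746a865b54dfabf8ba9c225ee3b1cc97055c657b095162482711d3abaacefce9bb77a040b6f4f25cf6ec98dbfd7c2495ab223c56880f3c458b7cbe8a19f2e051746eba95fc95d5e7c9b7eed8527560cfabfee726125d98eb85cc56bc5b0bc247f4e890dda1bc6ecdc9d5fcdaa677c836cc6ba833d6b7962f65503ef772c95016fedd298166e56176d3fea8b4d1877c6e6158b7859925199d7fe14dcf5343eec7468f2542be5e26adb2645c768286726a93c994a52c0b655daa59e4973e8ef7c672872f0aedfa56e4a725585ad2195ac2010a238c1a417509f0f2089910fddcf0997a931ad02b1d163c41cfdbe1a307d09386d8651c8a3adf75faa3243d6d2d4c5be17fd478c0e335689fb17f2be093863f79ba05372eb87416fec811ed0f39b34b927bff7015ce59833751b2e6767e70e5593dbdfc19f2cd06e787c01a8ffb131ef2c6227bccf3c64178f11e56d967247b50bfa7c84d76450f15aa43c4d5b8995c9f43e9958113b01c21f6ff732a237d6aa6582fc490a68dca5b2619d9aa28c096f4f9f56447f86e67bea7b80a,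
  0x5eb21d83ce2f45b6b04f88645b1a74e35bee1490702faaa872d610bc5bd73603076e451999ba9f629fb9ee182d6cad2724898dfae1103df96326c2c6600d8b9a9b8ced695ccc77199b59d3df9f70fc5e48cae024c3d7ffa2e167dda616c78f6663a81afe7c2c44514632abe1a572f4f9b3166f25ac3e17fbdb1e6dd09c8a42b113c54c64493cb33268531fd199634e9cc8b4c309ddfd31abf90ccaadff7969b077094b52a3a0537a39433747c1520c1e4d52de90a2b3f104aaa4105601374afadbea414804befe5ea9ac4aaf1e1675534db1d09eada3baf5e76fc7db8ff2338382ec8f3565817f9cde59a5638b4c84e362adb8a7d2ca34d15493a4bf35a8f1f891de429d0251a7602885f0ac906f7808eee0de8a457ac70d1353f3a76d1a6cad880f8259c3c5b38a45f7b8a18d21ec81b33de18df57dd74c448f61bef7b2eb3b06b5b2593a471adf649b2d91afb97696908632306eb94ea71d901a9a2fc54b30b8f05c9506b62feb4c767ad59a8cb792d2284f0c4445f5eee22d2b97eafa0cdea00a581ee80b213923466ec653abafeb9bb7df6069eedb9c8292538d527068cbee6d9aff6a2d9bd0442945f77f703715548cc8909ae9dacf0aad10f06ada89c2d8288ede89e63cd2644754b711073e86464854c73513fe52a12d7a341ae1a4da5a8c7e4d77d343f659c1aaac618d5bfef2b3132f245fe3a75d561f365e279da2,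
  0x1f11dc597602d5bd2f851dd6c4a9048b76baa84f8237191ea16f68fd2e4ff5d88c734d5d81669247470d30ef6ffcdde7c94385e2bacff4d8e44796192e73aa17214ab35eeefc0d87437169acf366c9f15ce1a3f5b831383c179c590a03cd7dcb61b1da1e2eba7c563be3fbfcddd636a4597d55f678189242b9deba6b1ebed35632d6bffe8137c775bb744a83a8a7be8b7281fe58078799e55274890c6bc72f4c4b52dfcc903d74d4a103676fde7686d15a2d956e56c285be4b9c227856de372c1b75949ef25c8e701d0ec3d10be8d8a2b81b83fa2e38299dfbe04d84ae2d6bcf1e7c90bc4103abeb03cc7353fc990f0b8c3ba46f469bbd68a1af95eb640fcdb8,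
  0x58182fd6748cc5cb538c2993faf9516d869d49e099b98cec1c1f2713599376486f2c8268bdb45265c7fc6f8a2baa3a1d4d9a6755c9bd4cecf9037e9d734d8215264d7aeeb498875dce23411b5eb8cb6abf583c45393eb0ebdbf4f6e38e6b674f771b27f7d5d7dbe442847290510c38571233eb651e8a4ac3067fdae2bc5a5d34fe7334bbcc44570b351a0b6965a8cc589aa94475c3ac4dd33ffe959ce573c783ca70a53b57ea2c6699845d83f2eb2774d5cc60d3b47650c1a996ab1fdca5a83576e0084fbcb5ff18fdbd218e206f163a040bab37658df7d812c3cea3dde7fa80e53ff068fd9ccc1ac19e7fb8f789df347a351564a5accfd08b608ac29fbc9339d001b66592bc46e878adf80fd47aca8a9ed1a896724d2ed4d5b0a99b90b93c7dafcc18479aef381084351617213fabf2d72a8b6ab2cedff950d5ca79826eb5c10894dddb7027d038890adc578030a2cbbf50f8d0a09a3b2b4308035068ed0ed2810389889ace25c921c768b0a07075459b97bc3b3628c6a6ea907079edbcd82d63250d1eb91d7bc652c6e5c1a692860bc72fb502bb6cca05eed2f37f83abbabb31b304a3aaa2fefc7ac493c30c033420e6530dcf80ee8ff412c7a308842ad377c0d1849b8623404d02f71b827a8a79a20a24115f9617b1ec87777955932459372dd22176ad110ffb6e193d88619bf8c14e349798ee4a7fc1f639fdb15cae4684,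
  0x5a16b862b52beb90d768a25ee35b636482affd7490f9bef5beb94b56e709288bffea03a3522e2b50620b809ac7b56cf7661197367e5b39a127fa5f9a8f5bd2d82d6f44c23feea451b3d74dd79f2af68ff47c328ee325b684ee2d05ff2693f078f65a0bb619efc632f5b837bbd414807d74d42be68e23c623221cc051e17f19862c9ddaf3fe9aaffa1ec18a88bb5d0c2b4ab081a681c294615a4729920dbcf1f16b10965fd3c9976f997cdef3a4d8b1a7fffe787eaf4447c53a3a5c0c53d51bc579d0d93ff96d4290d4e60f234646f7b343013fd412a4aac5f59b2ab336ec0571a5de8615c4f16953961b3bcc4b14648b77b3a4d4648913731bbd281357c4551,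
  0x507ad79cd1399fa9852e05d374611249704288e12f269e9685b99f2303780fe6d7c42d82a5d6684829e5b2e6ce6972f65fd20244c055fc3008de68b7a4af7c209ba737213182695435d360785f54bf7ce49fca5c8347e1e9fd8c1fa503f173deb98deac69cace974f54f4334b3cc2229a2de7a715154d9433b1847d6dcaea24ef13bbef43a7b9f5d449ae6f0c3d8ffb7b7de2d0634ed39721917e63daff95ce903539c6d5ebda7bc79f5b9d43a778085f0f319865acfd9b8e8b4dcca698f955575bf67d2105540bb0284bab2d841e7a8bf2f7e5ab55fd16c3adcc0620becf8839e0377fcb5e38ee2fc298291e1374045c97b5886c79c83be7d4ceb2eb6776549,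
  0x59136a5139bc959067ef010f9075387630c22829ef94ad32c1dc164ab6588130bd8ac6c1cd9004f4f37f048b1a02d1e398ef28872bd3d7b94efc623edc06557df8fce05c05e22ab17050d64f39c024c819be17130575f8a0bb01e1575930c93836cec816fb8307e2f790bccc1bcaaa62daa9eb5e0ca20a513f9e78c55d555f46,
  0xc42ced19954a0e50e958869907f2e76ee103cd9bb58175500a8efcac7e4ff8f727252ff654898c96c9d89ec35fc05963df69bcc2faf11f97825c71350e92ec47c5f4010e48a2c80b91b60acf31ee7c5c1770557131fa915e2d0a35ae0fdf506726de7d3f2206e07286be3ac2888ce7b54b919080d8aaf55141b51049b6c8603021d5a4e0bbcc554043114276d0bc32e10b6ac9802c9cd3886ef1101105335ffd29e558cba072c4e37608dbc23b35de4f440ed21bd7167c9ab962a43ce5e1b578aa9feb2c97ba786a814f3d482a0398847b48fe702313df988951955cd3e2e6c8911d6046be6a0be0f4d4219e7fbaa187e8dbfe47b6d1642b8fa8b413255759d237f85ceee509611b8d6a5fa74c05a319c9eaddfb2f3158dcb854d268a0c4217118bfb77c2d78a509f31d6a80f4c281e0ecadd431e9ef722dd76f41cff7d2562953f9ff45ed833e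1e74038a61b828a6f04761e9f05758317bec7426ce3b07fe888f97fc494f2a48d58847fec02f37a6b48e2c24663aad1aa7fa0aaf672a65eb07cdf3648a15d6835f19a51778629683e9ec274a4cfbaaf5228baf3f3af9c9df67411fdebd5a119a490abde081a60d046e6ec9f2d84134152847eca5ede831eaba0c8ff7e5b6df799ad6899cad2d306c0eba6dfe7fc3f0308606f599bc3f50a9f7c5c9d1bc634d120fe3341e9a5af8c3fa3ba1fb833aa4df96a0ee260dccbe885546ea7aec8bbe31b0d09bfacf94c4639af4bb496375e9a5d1712483a2d5350bf8907b4cbb840d8f7761ab31c98837f4b127cc6f0a1aa0debeea04ed52155a3e185a23bf2f1db01ccc335662cdcf2c58524a499dba961cea946182ed9b9f7ac9734ddc4642a75c21626e55445a307e8497981d37c7f4be58df13ee911138c369cdb25bce5d2f1d65fd14118ce8c1914a671e554c81b6beda714784ae0cb9e7bed22747990f293765bdbbacd7ebde391c84f203d6c5ca492d60a6eb4c5f77bdfd70f2f9ae92526d551dff88e7fc36f7cb95e11bf6928ffbdf4f36723fab4b2fc43c3dcce7d438ab2f29f53c64b3626109e3fcf24809d9efa6bf16f41d3647b126133136b82a0449f780a57901581731f91f481ccd3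72691f9e964861ce7a42a1b03726e4402f3f2fe20570184b7b110cac67eced5754caa5031f25565e9132da4f06e5f0994408a581a08ea730a157d2a76659c2709baadf3201a01e655f397682d7a7096d72f42d60422dbbe5f0126abb93d24d7f1d6b4492c6b17ede8577028a9b3c1a7d9f6db639fea71271fa05bc24f591f4a9aa9a7b76255b863997fea4a0694b85a5dcc3b6da551e67f2dffa867f4f62ab999a01f7eddf73038bab5cac153fba192e9610b0f90f87db0a806903cb15a1ed7ed4bda16b4db6b84421b197df52833bc38554a359a6963fce3cc8ead900b1a13249d64784a14b69bf5a6e09555,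
  0x7219782a3028db46567aca0c31acb84c8276818a476070bc6a6e3b96ffbb061bc5462edb669a44ae96692167b5baf8a3182eb212aba2a5ddb3307a809a3424a835ca76f7ac58948e2b2597d095d368a778dfc45c139f592fedf4a9683c26f1dfbd574e36ad5da51f7dcf360a2fc688e265178f276bf4268383c6baf6d7a92c124a8639476bb9f448b26a24a8dabe3fe2b1dd5212a18076e234ad045a079888a1e03ef7f1be6af5123dbd48cd120123b33721bf28b16ea3139c4bfbe8cab9b30bf51ba7b81580d5eb0a82045fb9aec9b1014b16e69d23f75568ca87616e4e9280411144cf5b8f5caaeca5f8f6347ed494205cd92ad0b49be5978076536dc39f7b3b78ec15f78677ab55a20abd6a648b7a2888943e99962346abc094eeb4243a72f1cd4fc7874b42eb18057a9b24cbd14c5228a4be2b1d137b435cefb97c894ac17942d61421a811f4f6e770e3102b9d9fe87358802e8fc5787a3110cbc4b7913d5396120ca2cc8aa67d7a6919092052ddd9af5cfeca5638c4cb23e7372d13f16a3afb501ae842a95f6690ca725d24466c6a423dce5f3fe9c86468cd168b24be6b8faf31d8d7bb9dcdb6c0983ef182b555a557a388d26e5844bbc8c7b9ba1a6e35bc27f1c5a14575b1210f14a43f630913dc49ebfaf720713436049e2d05fa6b5b07829ac093176f02513741e44d8584ccca8c4f2856b2de4c5c071d174ad6c8f7,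
  0x88b9020bec2fde3ca0b1bbb4d3bdbce8b751cb6982915c00143656d94d996c77911f02456b252221c3923c30a267d1bdcae506382b7dbc92be865fa516ebe6d03b6a57b50fcb879925f7abd0ee08011aa749511ffb67153a8ba55d6523727ec530e187fccf759a3f3462d39c21947bb4d4650d0ba6c91286cfa30cb597c4e4544b05ed85be4c5452a87033a6dc41b9a92ded0581ca581cf8b7de873d0abeac3981b3b19275d1de8bc60ba3a12e77a50d4fadf6359dd72b358aa9d9691495b2456fb0fb5ff5b4499a1afebf66e269ea4554fd454dac7bf85c8c33074e84990fdf56a695401d5057f45841cf50a436068fd36076430bbb356b78d7b0651856819de43372c26c4a7a9a1f8bed1879ce1552a9c18d45c41e06c33317b20584337a9194999e3751c38227feca04e4abf834d1ecf197502ea29ee9ad5398d05cead08e3344e5a2ea06f64580474df3019dc8ef2598e7f2e4ef58bcd28e958f4c613a36e04f55c3fcb782bede8baf44049a78b7c93c05c69fc3077a41484d7f192ebbdd966c8b99452b21e4ada96d19e2dee63d3fb15703c19ced53c621decc84ee80751c8b1633d531e7e1a19a3f4720d138420a41e235088602682802fa1ef8afe6e3fd9fd811c2f6182a1992a757d84112bd763bba5ebf1e2df736ec981675b8bd6f3b0119aa04d4fd2aee9e1bf7d486e06860a7ea2bf6aa618c682e53712360b77,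
  0xb43c6937de2e967eca09380f89f7b31bfdbf057aef22d0ab70b44a2e3372fa13a649139a52b2a3d070532f6884712677078b3f510f4089e37fb67b8833e542f11e84ebac2f17d13953d93bd5275c2e0d6d5f78889a84f90a6ed88f198b869ead55f2b46e8379c30b4f3c454c59ad9ed35681aab8036a5ac1241b6573f11d2d25e3ff6387130a48df7ae1a06bb8137c67af3f1874fe395447731f0d20bccdf83606b06eb5535c9a40019987bfbad9e3336e5560861091d1fe06af8939cb08528522fd50e71e56e666d9fc032ca1f97c12ad537d5d1613c7cf4430bf58a65bf5aaff6eb1e62d7494559ce07a2a785f31e523197884e3ea0e86f1e7797a694c1176,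
  0xc783bfb0c06647e3084982e15945874abbcb3c5b02a98a356925dc5a8c8bf783f38491aea5c14b7e2f5635d43ed95e759de558de75f90be0e11afa3bb2b53e7fb84d592112645cc1b0278654f36822932608e1b8f5a9bb8b37fd5340ad2eb9857349c81e0443b7398a974faa5cee2708e4d2d5377b12aab1444fa1d79e9ad02a849ee44b39821378d61365a1d9845fe59672536b9d9ad43563d52ee517b9b5763ef831d35e6237c5e25e34fc338ce3ae69234e92850d58100fb9d2df01c33ae0f159c185bc7ccd2e0cde8a947e4b9ab6439f446f1f86a8f8b21b4851f94cecdad487269ea00a42d839a5ad92aa967b13f8314a2bab71442e5c2318cb34af57461be26b5f9052b403d67e32813aaeaf468eb51e8052781736956f10eeb0ce7ce30ed71fa5c27ac74cbd1a8916423c0ae87cd452a5632dc253782bff36dd85211aca1427323e5180d85b9302772fc11f6f9d4a1380bddce7ed439810ae4a1ec7b38c78b9a9c7ca307fec97a5ae30e3a28bf97c719a89ba76f0479d8929db6ba8e12a134f15be8a202e3d0286dc8f509f81034ef77f13abe17151b48b3388aa6c467b5fa34118a86905be6f160875f701af451de934a68b20d2190269d94e3fc55c3ce28b370d512d1d860ab06709986fe4dec7dba854f8efcf290352413d87bc1c77238ca594635b81442e8c93bbe3b23f42e2ac2ba8b047d2778545c8c4f7aa28,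
  0x98685b47b9e199bd8cb3b93946a70982287e07970d6c035d39dc9f6cafeb22e9fe99d1399a26f520fb5051cab505236ef44255c492ffaf3c3dab4ebc75332d0be112f9ea7be246ee3bcbdca0b4e5117019da415af90a44a5fb73500bbfb0a98b82bf2e8d2b98a256a7826e563cf41a328a77cc5789ad2591cb50b1b7be865c0e48fcc7f9e820bf8271888c57a663eebec4eb98ad9c3ff866738adbfbc40b288df75b8a397ea4c3ecc1756bc4edfe712776018883c4ef449fdd360a2ae45adf401a5fb381d18f9e3a52815c7b4a25de4c74fff5575011e63ee15b4dafe926d3ed15846bff142528dd4ff438f6709d7888ddba437e698241ef7bed26e74e220d79,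
  0x673d859dd80ade8d3850ed30112fc72553d35c4668dac1f6344ec02d5ff9361db06ad19953c2bda1a1588d1cd8c7fca5fd584d09b2670e2c6c7ad127da8d37a85af5b399e10e1f3972afbe7bd39be237c163461b29d391ca5a9c49df9126da15f1b13156d714ae85a04560ea1d19acd40c7d9b9e809cdbf02aa708798cf9c9143145fa6c014351d631fc4fd03b79353d8fac14a44f54846924beacde8eae67b5fa1efc2a1735a059b502d91cfc7783d7c9588dac966bdaaf7963a5aa93d9f6e777a82ce9c6aa4b822c1345b4a2253844e1f7b8075fb590c77b296a636897b83f6ebf537ec66d16b134f5aed390dc844e702f94b7f6db18f387e352e6e4969f4c,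
  0x29b01a40a5440d1bbb3dab4a7d146a219267ff517334e0ef4eb9f5b42169548add3742978df1cbd6831e4ef5452aeddc8b5a27e184ff2d0e5cc52b6d15234f891c2bf0063eda267df771630aa68a9a648b90cbaf062aebe2a01b399c79b2ba9f2233e75ccce085eba22d8b6893daad53ae2fca55ee5d37a788735514565be995,
  0xd6955a02e9c7b6803ebc016ba1748b646adb0e9d6ebdc319a58d990ec4a8434ca7adbe1ec6ae886af130cf24390d84cdc9ce0ca34d336c7d3f1d4551205f52ed2b37d0ae679edca3c29e68e2cb45dae93137fae350a7b9584c328bcfd31af60967136e5a9ef14e3029fbd923314fa08cad5441970c912c24a2656f860b1fed032cbcb957624fed850ed961a1590b39b583ad6377db4e647971d164f6add7586b1b5114d1dbc8e26e881e50ff5394eb8ca24f3bf5c4034a6185f4bf237ecbcff38b639b3230e2875eb4a88fa05ec417dcd98501767efdb5dcdf25c167a1f52018d0c7f4c1e944ddf72aeb65aa4b1bc9f36f55430c83bebac528b0c28306e52f16a2bd520ae4a5e09e7476b9a2ec109ee6acd94df1da56eb06b523afb0a3a236dc446477b26f427816ea7bbb85c7eea6adef14bf85954103cdb8cbf418f1bebca935a2d4d6225281999a7048ae5c9de7ad0f83ccb7a43032b0e05c055d549743915c8f8947666836fbc554f9cfe686d96c08ec1e8bdf2794e3548b4e531fec3280b513b1d045dc7de261985726141b7db49c8a6a7857207e28c304a7d2f5e70b0546d52659830e66f9228293c8c3c7faa6729a6fceeda824f6c479faeffcd2b387f71cd4adde6a116ee3cf9d5b0528471eac952230e0f4bff93fc9fed9d58bb26222f91d8727dc0f3bd9ccd46ea14cefc6c7be478ca8c1b7f7034da0cc55d1a7e5,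
  0x23d36775f7a39bf6799184ace223bf09f9a5274bf6b8942aff5cc96593a93db2a2249566398cf5e3fcdef2316cc49a8f731867286480feacfce104b5154ef566b9b8e343c0ffb0e5089dad32163742c0c9b9d8b7d9bb37d2cd971288144465286347a504c8aea2db1ed07c3b10b8169c220e1d93420d5e8916ee7024756e5b2a1dadabb3eba12f70287fe9bf44248f7b65b269797f0f390e12d1ff30a0a11905abb0bfe71913356baf1b2e5bfb0cc4971b393b368bb6f6d706b4149c4c60dfa335ec248072e9f3c10b7e10ba25bc7b1a626f07925411f22bbeaccb498d92724d72bee29c18b56f4b452e35952de39da7611441b649199203fea02ff2b2df28de,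
  0x8c7fd632e5b24386e81f14dd9447fec672d72592825b219dcfbfe018a4865de85c02430a8e63ba0cb76d497f5150de40cb63c9999e88fe391b11d5fe52d1eaa0a23b93bf96e2927dde155a97252fedcfaf59e47edb3e70d879d36dc537bd2c2531edf4ee059ec833a84aed1bd9aa508134062ac7703f05be8f7bda26ddc6df9d41cfb546d426c2d0bcb31ba67e7799a5daee9515543d76b5e91130479335f12b6c24a95c15661a22536b7d865693cf17c8ad4a4fd26db5c62eb46a868fc4bfcaca1b2e7a471d0d9a871c8a06c9783ef5448a41778406acd27f46f772b34c5ffb4809b2dc19b32d21e425bf486764d6f297f1cdd0a9a00ce8762f2b4d71737fe8,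
  0x445c4e5e9055e48f95823830ddf050b4f04844a2a4cf3b7c478ee1a886e69ebd76094d73539dcdca4f18226bd0dd939d04e2efa9b4ead57e5e0dfd78804413a41547d0b528127905c4906581b3fd854f5b36d78d6516d457b56521df49c892b0db86dda7246b1f987913e0778d96bb431b976f0535e53b19dd824b9a65ee8175,
  0xedad1725c41efe6cf861e3ad656e03554fe1872e044917bf0cb3384a468b5c76488b717be7907660e305512158183be549f84e35bb316f4dc81b47ce5ea1394e990d2cd28c5ba5cd91cf3b314c6dd8c6dec49d648d01cc12946e82dc91428e6116e71bb758c76ddf8257d135199bb289f8709d0c762e11011f25901c1bee146ec61058bd84e8659e6afd20e32d020fbfd9401d1821ccf102f8b1e015a49205ff426730bb6ca3b97475ae9a165cf863c8c45038662a708933cea4c6d0292b2ceb6961c9d86652d616bc09a486d92af05b9ac16db7ed5058469b7adc2f6e2aeaced22f21d3c35a26aa5f04287e4b0739b6faca9bcfce4b89818030d505ca77212,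
  0xd91b8b24f73497d1d9d3741481aeb7ccd8b6a48a9d25b0f21d91ed930ef3b1c9ee87bc59710d88e22c6b71bb73b4f2851b9fce67fa8b0195e66c47c319588702c285c3145ef62b092ead39c9a14ed9a0e09e312c40215a5b08888f24d2fcc503d2593ac56be2137de6d3fd57685e9299f0ef17a9d51e1d6d69b783dde0c2fbc4,
  0xae96531d007b62fb74b16bf582e2ad88da49843ad71e172e479f1f726396e6bd505634fc59e1f2a48cbd2886f9471a5c441cd8a7d29a0bb79a4a62a3ff99f890ef7e07f3d80d74d6646042d54aae77e1768e4c2f4b3b225a41d83287a9906376421dcb4ef14cb488a31253f8b3b26570e3f191d758ce2c5f87eaadd9e30632e,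
  0x66a265add0f74994be1bc9b68e7e5bfbfb2bcb1d255b27dd1171f5d1b8fa0a83f990a22c70d66191bdf50b4bc22cd541ae479291da066859bf2a39d297cfcbfb,
  0xd512ffda654eccb6e5dd557b9c1562ce23ed9b734c6edc3c9a5dceaa650c8c99722e59193fdd2742eede818b2931c9d382d863c38af6aebecb4675fe0ac61d76429f5af281583009369202a2cc1da339562e291c9542c65f7799ba359f4b15a1bde4fd1c4676492131910ca3bf1701ce9460b8edd97c8f3ad873e45cfc5268eb4548acbb138d67d309c4ff8d69822451f2f9ad37a055a425fe679c46658d646f10a8a1b49e691674113fca35af671f4af844231e99f71a5bf3a14e3d99fa518b9f2f5cee3eaa99f88bed2da7724e65be2ca045fc726531344764f356f2fcf124e064d8fcfe31b4807101c262c11837f1d0326506f280999448049d3acdddf4552b919bf83aa852e70ec8d2cc43ace0ba4a10dd5342d05d3544224065198358eda710684de56f7d5338f640eef9469b5231429ff52683a83ebd72d370878ff9aa25d933fb38c97ad17126444cb950390d6bd480208f0c51b75d20d8d1c59ba71075a183c3dedb6e0e86b68fa8c953f6334d60e4bb370576356e92b9c4f209f6bc940d77c93ec352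f6cf3827c63b76bda4d0b485fd9a5709fac795477e92ff7c5b258fe949457846eeb852bf3349c3ab62e24177ab351f40f25c5e81d0cb2a42f60817682950348eedbdfa4f80ac3390e7ee05da293a68743671d30ffff6f8b659bcb45f372e96a25dd346efc08c21526573276d58ef695de1bcf1a9f424d9368bee8a70523c2d01b5559875e89530797b9e13827c759dd14d62a316cda95107d2b9637f9130242d55678e089004b196fc181eefb957d71cb3230c77f7264238a44cef9e5adf8e94021693484fb56d526cb78b13c29681703591ba93492c0dbe36e371bef8ade997821b3d8ef7173c9a4fb9f1f6886b62113467b73b353af1ab926e85bf93647fd3f41236e82a1a756cd7db8bf3829ca0194f922d7b89d714d92901a687aff3fc9f14c9fc12d013af60e0940a12b6a9edc01ec3c1b0eef1ae193e9ae2c6e0185bcf7c69d8be17c1f194a188584786b723c6ff129ba11bdebdb9e83107d7782a015b9d8acd841ef1b5a7a3eabba0a80ab4fd6ca86bbd30d2389e4bb22033bb8fa7b6c8317cda0cc2269c4098190ddff0a220e03f3c09b76b38fc02273e5409971388c803ffd05a54394aa77e11499cee43f888e93eb663fb1bf65cc6093e5dc1f703892541ff3b8a797b178de0f309ec35cb32e9a6537136526e0f153290b1943fe1b483b1915c28d8300917194578da9a97c10c82e5f9a3498fd3d6d9cbabdcc5fdf4de920fe742810aeec9541b70132f8219d623742850935db248d82e5bc997a6302d8f4fad55d8494eabba2621696f515ac2affcdac5e53c2c53186a828d0c2f4c05f699d9ddfce01a607668972fe2802aa7029da0dba1d227545f8ec9e5100cb7f2dd047476ff511ae39ad9da8e51affa50f14fd5072b1b11,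
  0x4edc5523998b42abaacc6dd85a61057143c58520068a215da8c8a72eeaf21012829df12da16ab90aa37d2d279926dbaede60856a2a07b872534b7667ad6f58c63d0a265b3476b65c06b6d1fc9cf945741c0a1e50a2f1046f5725efe08fa08dbcc3aa5c740b66d8a605ee378dcc23bd1b8710b768407a0c9c4b43a0f8fa54e06d5cf3ca93213e40c5b1b32d17b886525a562f9843f6918c681fc573db1c784db2ae8f5576865ab2478e64d1889cb74787816ac17d5c9c87d40cacfe91f371342c68bd96b18bb97458fc3bd21417de53aa841bfde41a0743ab86bc572f9670aa481da7f5e7f9db534b9fcfcac9e10cf662e18b5676e85078af0e9d9736715530bedf5b45a9bc29dd776514a3952a7cfe919ed58f2e2a171fe937cf5fb4aabcb24d24f6b454e669276481e811e6d9b859635fa9a3612910bdf4b948b61346c1b21b770af563415d3f9b1e7cef9c7f18c41671c547173ab5fb0b8947cde23e2774c4333ee81f316d99052a25b6c1bf66eebe714fd52034529bbc6d378f3e87f61062d2f656853f0765f8727fe6eac0741fb0a8572589cda51df7a82486a4d52b65f576292fb209d43d483c7a9475d6fe483587b61cab81cc8fed9978c5f767ef7570d9cb732b4ea9e6a70dbe6a571b49e30ec12d8e4b8850d59236ab32a3fe984e1dd793e25faba3f0acda9ccf0c1a668bfe765c217f4d0859fe4e85dc04d670b494,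
  0xdccd661cad97cf8590ac33095e74c542eb61840872ee115d339aebc76dd73e4a1f7cb0b252e660f03b1a3a542c23c230e1eb5067cc79ec6b194172b7ac0a937d45981d4fe1869f3ae0cd917f456364efefbd1ed73148e8bca87549d997734127bb145ddbab121d6556743a1bc8b2d58cdcdedb600ae5031f83748ec8a2e7c2c0e7aada721530b8ecfc9832a863361f707bc3a2bdecca0f65d64d32bf2b4ab1270d5b9921a7c31bf6f7b52faa3a74f3972232cca6af6869cb2d83c0aa13b40634d98ae57c314833c64efe23b43772530abb96f702299d83db2ef36bb5945ce110a6820fbaa7b1e8aa436911b534f4a1291bf1489c88a0a911286d62657a6963e441f92d8856a29bf11751d02df66cae39c4391bd8afb7d136fae6525e33afe3cfa069b9c53f2ea29a4fd6affa7c567782c5868945c1aa8ab6e29041cc88067a58d495b8ad3a4c674dc570afff9aa45d58c3bf3e8231e35be1e5157d6eb284750590fdba68d1d9be767a75930c226638ca1ceaaa7a29ede83960598ebc358733426ee1fa84c8cd95be8fbeb0ea7dd3e94bd18401d3c9172c8c543dc97f433e20907392de07ab2cc6b7b61cdf2f2bd23b838f09b22a882b419d165c38a925fd14b937392bd833b10510556d01296ae2eb61ff4318e42ee6568df063bf9f83daa4143537de3bcf857e5cf7e1a63b6bc34ec0398ce5f42c13210569f3890bb8bbb934,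
  0x2f5f649c38e74c25384cb422549e3d55d0d652f66a10a39f844b542c2b50ebf2be07a72d2f845544058b3fa364eb18d7eaf9f4d483ffc88ffdd32bfff630b26921099b2dead0db328eac8ac050cd464d28798790f0a8f482fb8494800a67852bdcdfc8b2807424b6bf08b19f0213ba7a2157a8d0531df3dbdf23cf2a482992a9dcb7a19cbd8f1f4290389d7a6ca391bbd3ef49fd1cb94b37c35dba65d7c8224e9c9a7e0abffd16a11792fc0be53e1bad7978b36e9713d2df5e98495794bc31c090c7d0a49c0bb716a06cecf47c0e9f616201d371f10cc3a5a818225d83daf24044c1c46ca4c37aacb1a06709a899445150694a30b91cec98dec85e97cd4e6947,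
  0xdf988a63fc15653d5a3c7ad2e9d03d21cda91598cbb34f5ab5ecf82196ba8cda30aad01afe6259e3e4a199af228f0e0691d47eaa6913f175ca6d6030d4f79ec3b7495c14d63e6bd5fac5651702daae5f738690f6edecd36d0747838ed7951bb4e73d83aa7586cc8b224ddb3fc7eaedb9f4678bfea1acf56dd1ed13290776ef47da556e9c0fff220083cb37a01a77d1f2e63f51c83f61014972c02cedf4e69034ed0e365f9e81ea8c7c287c3b4d8a12a0188b447a2fd79bce4613d3a1b728067d3718ea1aeb0b149423e127b2865b5b37a3129094d0ac0e802e5533330c823ff6cd125b931cf8542751ff8073d6b1dd0a6f2aad3f7cbe2c5493d4256eea5bef686d436052e5b8767cd71d1f9bff11092f8ef4be7fa3a6b1e6965dc7222af9127d9a78916f46c59179d82c34dfef9c5d4831f974b461c84b4f0c403c1653e7ac61d690c32536c7fbc0e97b6582ade4478f8ca87644f0faf9b0cb1a895b7c352ab73ee85411aab930fd3b7787ee6e897541db24c2fb6f245de44d08b2c611b0e48bc9c89d244307584a2abc445c077a4aa8c0146364e3df229ba4ee341699a40e67459066581cb50a9a73da5097edcc9fcb6c68cbbb13f7190787273ffcb2cc2665c1b2382c70d063b7bc84667410263da3094405d5a44cf562017732df3524a241bac16a54f821e888f23f722b12782f09c5b02814ddc681e84a11c49cf20b174,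
  0x30d9b6ed59e53fa46ae525c38a4d5f168d1cab2adc6ebaf750e17fba70978850469c428237ce924a042f79181bb80b2e6e579fdc22dd5a7a74942e3f1af796f5936d008f59460a7d1bef17d6ddc4b0e591781df74ca16346b62f06c5754a6426b43f639be6c64dbb29cdb06c68fea0bac99788ab38bdf038aa651a3fe157b14c28f1d2ef837ba644c8ad562797234a3d0d83613642993e1d7126eeb2bbaf4ef69969e8149291d2d84fc0360883705ecf0edcb6d03fd1a3e5d508d25c963ca6bdf18e5fe81e17210e37701aeef2b247f5a5630b92e63fb0d0d94f7b2d71fa5c1943eb22b1e62be9aef42896948e84b925a68bdf8b7ef0980f90151a41d8c6fa6,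
  0x6be071354d619f0575a311ea35e6bc5b2566e1f51617bf4fbf4bbc4d931f0c38fb5058e411d09a1db3447d60ca692e91f450fe2dd4e8db7ebe2157328869c392c3a13b29b7d871060b1649e2a4788b79361c772d0f91f07c15f2b17ea62947be0f18db2e262fcfa482ff5818847ae2f69ecfe399135f289b67befab7b562e3113e2fd270ddfbaf99774267eb687ed51a5515afb46a41b899c0533caac77fc462f6e3946498bffd22a1fa6b3fa617bda735670c5ce2a8a3a52f9e56d349f325f041457d64b39042e35e5357378ec0825c5f82cb4ca91adccdf4d3c1194fb2c293244ae3f43d8534f9e3f182e49b1ba947dca93bd9e03dbf79193e66dd2f1c8c38,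
  0xf43597cbe4901ffacb8c1a3c92517e0b3b735a39f59e6c658579133c63a1903f10251531608b38f5c1298082e0d03f70c7f54eb70aaf5efeb1df2236dc463e49ca8e5f2fb1bb9ce151dd612f39911ab47fefc162994ff97b571984a65d811a6e915665f62ca99ff07c6a2da93aa1b0c77bf861a3366bdbf9b15284f7d08fd341,
  0xab7944ccb8227f1cfc4f38d5ecaecb7fe5c112198bfb8eb50738338da47747e96896f8d654f7564a4212398bb10ac45baf1553f086925926689a7893b0754c57280a55036fd58cd2a92468b31540503369d0f6644ccbbe9addceb4292a528b316d5fc2bf11ce304be24c02b2f1c26dd5ae5ca19e310a817e339a90223c639867e6c2349754ef9575522be0514dce84dc9d1bcecc3756525fb1f675e9a197a2a73dd84fbff2e0e3b39fa8349b1138d5ebd261185ff00e48065c5b2571fdf936055a2b4008bca7577f4a6a5f133effbc1042ecaa1ec2d3edf11b884e16e0be42ad5f7c2fe50f5a2bfabc2d1928224e64c2916dc332daeec2707713b1d4697522bb268418a0b2d3bf8fbedb03cb733891e882926e37649eb7e9151223e344285fbaf4edb31f13ba6118b15a9672182d24e527b114afe018d281ddab417e244baa3bd2be50b39b40adf104b5c3e7dcea8cff2fe7a8fa3c63a39d5751dbb715cdefc6a3a6ade2e40cc31aec36736ebca4c4b8f1db15928461ec135ebdcff6b594aca2d109b9198a02cee39ce550d57fed40e91451764cdc77d91ecab6ae1fda8124f4f7a59a0e2a3a7190720d0c29aebeca9f3ca4fe938a8d90366a898bd7dc4351c2853ad172deea1b508a458b26a1edbedab0fff1538d1e1d44726e648a7313d2c76654051b331d41b3ca09625ee8fc8e46a6e1f821c668e0bbda8aae52e1b9428c,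
  0x5d48ab14bd2a0c10a7f42e2f022b13d0d9e86918b9ebc3d446b6167857927ed6e5b64ddbe6e02bcf742a667007f1fa838fd2bbc6f4f075dba879acf00cb432737286948caec07fbe04950971855039079583097174ff61bd298a12cd38a64c6c46f01cd2618959c001fb07466c5d4bb4b5eaa30de2767fa9a3c5dfc21669484e89d212b6cbfbf18495f50c31ef061b6e688a06f40aaeb595ec48f30328676ffedc6fcdd6607d8bdd1e1337165990f5816d05cf3cf88f80a5240289433ee1a77eeed662472617a50edd32c96e92f467ab63dde27fd5392c17707ebb292b0748de0c327316f127402d021e95e3b305336254011844611bd17e1dcf90550d64b040,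
  0xbecccd9dd84c40d74644ad9f067c0f6f3dc94bc5c638a6e694973f09503beff75438dd96b447f056117c139967530e81dec776901280a4c82a049b8f892bff1cc58b67c93a8fad38ffa6da0f90d43209d5dc13b240c1f10f61693a3c1ba5657f5788772f5421a03359a229a0dae2882c52da2ca20cd9cb5c37b18f287971cd8949766f4b03f57a7e594c8a33424108904a98ab8bf0dfbf9136a99730cb4e0ff8105c49a75061f575880369e985cd7f1a220e904ba5dad09822dd5aa7462134279a2e7a1a0fa019bca4901f941ac112ce431fe2ae282e69d95914f0e769ef538a1c8e2a1271a52f4ad7d04df6468b395d1a4cae767f14d5318d742ed02ae7ff49,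
  0xac6edee987e6a253df3ab4cfd1c9cac3e90fa9d2a6428fc8be3e4472b450a3e3833e2074142c181090a622ed0cc070bb797c63981ea18bc97daffc019fdaed2de3db376f3514dbd28416aa2ce73efe48fce935e70183d81fb3af399a46e4b3b7dd57c3bac0655dd9442fec38941cca05d87bee890d3dc4f07fdf551b6bb747f,
  0x923bc53dea7b8b66fcb8fa153650dc8779c883f703b6500b49289dfe09b175cca0baa39f2fbe23f22d223aa24e16f24430434fe886cf999e992480179ed22ffe9299d28e09f3c110e94901cfe3ba997221e8fd9fda6d51f15cf9ddfae6a87ac74af92c8d9c7f4c3aa9c6a34dbc536ad15b12ada4483a958a2fdf66bcf826c8733f2290cedf136bf40bdfa35cae6a9176746d6125097e3bbf6e5db0783ee4365e13d436184c2053f78258c104d5bea45f36739433097b54695072d759448b4cdce4969e6f0cca23fb1a2f56dd6039e6682842aac84e2b4cfd4aaa5770f0b28eb84c42cf18af66126fbeb7fc96ecfe3bd2e51816950d97402e0258f361b3147cc7,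
  0xb8d7d6890a7d2d70ba4bf0073b6d5e6070bcf0d3faa7349eb6a0968be2ca94715ab289ad55e1491822e4d83bd94c0b1dee14b46287a4aa7045a324c3573564fabcce3cb2c6703f1770a0744b48d81ce67a0fee7090f54c07ebc4fb3741d1a87834519fe6beed0f3efe092bbdcd5a1695723c0a59ed2fa583742663c97e5e9479,
  0x9793c99cf32b4e7d0bd73694a5c035bbf2ebb6e50a30a48ea951040b2558ea2d623474c9b01a9b90fa9a9b0976d275e93d7372512057e9b66dbea308074c605818df7004eabcfa09f34dd3d98a106ee5ef734e05c7841a523fe14cb43ce5f5c62defc87eebf9882b222bc55f294877c99a4615bfd19171750c279d2d7503be4f,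
  0xef6cf921f4427dff077f52d3b65d7cc31c430b5d1aa76cf426db453a9d58d06d9f846a06ff86aeef6214e3eaec5444611a62f7ce02a82bc753ad3a1bb25408a3,
  0x66c0283b68d9bcc64068e97f4a0b8db62a22a360f4e6f6c7752f4ac6370c4f06a0ac0823e3d86f5e18ca4a1cdc2f493cc5d713e56471221ddef8905fec92e052e3e2b035a0036d7021ada59e5dece8288e528d76445f6bcd456479ac296197567cc62557b7564b2fbd8aa583916cdacea8c740b9d327071f42620603afda77e791acbdb376dba90d5ae0ed432251602c71a6e611ffc0455b0464f03872a6ffef68399c12613698fa4a91366ddcee1bfe7e5fbd29a1f490fb47c8bbd0f89c7bca4ec32f85137fa4e3de6c41d02f5bc596903d38a5e3558931e42353d091edf1a3bb45daa04c415b2e26b4a4de443f71e73513b2a251fe20145ae102ae31f3833013f18c6f4a45ebd89f7983e7be7025d57a3fea5a95fae31168849023a97f2524e4e381582856d5dd4df70b5d6f26895e0346d434edc823d04efc8205922fafb382b459e0f0bea225a53782ebedaf7618416c39f9fe5e8e589dada19cd6e51d362b61c5a24ed20e070a933b57c8b8542551f50e1688fff462e913b730645f422b9ff873917ea2720a3443dd9be0eb53711068b4c794512438c1a228a9aa9c4580e5a6fb2852c9530755327969569fc8c27948bc772c9ce60841f62401f3bc3ade4bc34e87f6246337eff9bb39bf1a4c534b1f19e6c6de259d7f17188536df2c894d1eccf134134525c41ac7827c0d09b3e0e7662172ef7325f06a1a4411db0a39,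
  0xd5b756bca34798851e6da86f48e9f2d6c2a6ba8fe131e9f052ab0d546ad25e576bd9b61e9a07d8bd54f80d56e03593427556e6d3a0201e14bc0c049a69f168350fb1b269435be8fb5c34316fec2563267cd96f7b8f8b735b398a111230cb3c578ccfebe1153571ce5d370cdb6cce25410576c3c2621f078792031bfeb082f83037c2a0d69c70f7edbd3f1fc15064a60d1c93f548d3ccad5648fe536ad891321d47aeb0e8bfd03a773da1190d7b8e98d0798bf9a099ea4d6498a0b0c429531b6ca2fe322fa951b514ca546d0b014df43aeccc0dba2ac0693c999dc03ffef785640f61c80c55b02f7e7c47821b0befc1bee22eefbaf752d533b83257c9835de1ea,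
  0xfd9139adae48d63e99fafd94caf318515c7e06fd9b731fa8d2df355866b37af58404337157c912a429c0815540db7ad912c9a64280c72fae6a084dd317f20b72a717b9f0bc138064d202958c1357533f2452a66e0193ab554cbfd67cfaac081f733c6d2e78b192354d5229a757992fc9f93f5c2724a74886d514b9c3b193bca459c473646b1fd2bdda91c128171c2755b0c389e73d630f50c5bcf8576cc40f36a78da37d9f7bd062e71952daa0fc6bb4166ba1c9519d7a1e4a75fb6db2ecaedee3fed0b9372b6a3aca235b6d61c932fecc5ec75628b590818f3358505d3132c2e765ba375cbca3b777116a7cf5f679d1076431283a0881d5f8611404ac57634f,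
  0x4e149ba6d7f49db593e5d71e40caa8730f308c1b57cc10fa381c42ac9202d76b15baccd48e7e373693f2cb6483544903aa5b2d2032ffeb4b3c1310da474159adc86c61a1b4cc3d22deeeaa784cc8ab549225711a393365f842facf763e1c66b1f5c987931d6361aecab219e9307506d10a77c34b7555ac72eff80cc83eaa487f,
  0x93bbba64252396cbc5bd8af9b30c82e23c5cc7dc665444ddf950694206c811abe14caf79ecab1e362f561ec6dbe0952494dbcebbe96e8e3874567273cbf1b61d52bf28b38da89d6f4b24a7870a32abd796da7532ba91ed899327fc3f3a9d194bd997f80b0da1f76a15a4f369af2a61322426a117bb5199abe779cae109c0934ae658312b8d6e1e56981fddd843da8c32de3f8d62464d1408f9dd4e5554f1aa56b3f87c17e7484a5b5c75f099c106d715416e9374db869e85d3d8b406fd56538ab6c54a12b52c140c33e9057d7e129a7caa04f3bf1ece8403e9422d99a7367740d350c05c62de303a7e5e3c493e4acd19c7db334f1ae5b1f7cb9d3b0dbabf1e77,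
  0xc11c3b54a9d98864524fd884c96ac4d25f190e0ad135d3f252a86e2d370a306d0e681035545ee4c355f1db3f20bf8c6772eab7c72e81c191eaec332905b0a2e8b55d92a3de98d115b3d958dd2fbf69476cd62c066193d28fa0db0e472b5242a6d5e76814dc74569581ad9534c645d6bc5736ce490c903e7cb42b92422fb74ae6,
  0x4a3c1cf3e63981cdeb9460f25cd2c7516b49bfdf6eb75686521d7f7551a32bbf5731605d27f7625ea45fdbb2a8c21122518ffb0a214f7f1344ca7a1f7ce8720fb0d51e89463779f9920337bab478ffe2e35af3ed933d20dc2a9e02efa05ab38578119750f920936b5b8304944b22cac1768ba4d1af9a4f8a3c685e98051641f1,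
  0xbfd4795def306e08f178e85c37e7cba15951f6932e1cf05a3c0fdd4815b745aaea8515e554c462cc269c712fc28e81e0c99a368a8e61e98f2eaf517fc977e41,
  0xabb99bc510b79ca8fa86a8088ce7662f4c1bd6a9374d0e54a3640f7e47ba84ffd9028011410cd6a4ee205bd60440b87e3fcebc1d40a57321393163f88af362be46ce79ba393caa0494bc6b1201d5717c6ac2441a6535a5290a759c735f63b4292dcdf1a7dda0fdcfca0e0a48fd4177dfa46da32e422c7b61352945baec1458ada5ee10a96de175d93e9c0f209057832a5daf390659e58cc1a5f38d83f1e15779c417b299a83849181eea05e693291ce77dadaf503637ea84ffd056efca600c1b495d7a537fc423eae58355a26232652f4c66948596dcf8e66e41a2c5a462f54a3ef2776d59caff9aad31ffa84f8b0d139b296dbb23a258f7b7ad90c4d739a171,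
  0x203a4232bf879bde4b2780dcda1c50e52535383e1fe983f8216fddc0a5a83dc5c1364592cc4ab6c64f42f0fee209a5cfd635cce0ebdaa7bfa42ab4cb4ca3c87306609ed5807d45e7ee08ae1a9717b2c923a9b9aa5481d2dc369dd060cac99499411264e35414f4080cf8f2dade9b018cef1210fe62ab31f0fa4992207e600fb0,
  0x4c6ff97fd79a091b6d891f50648edf5323a10dd8e081957d4c7e44575a0b7abeb92f60638c1407cb58532b363269309769c29e9b505e7a9824bf4393452d756401b3b40ec598aa2e8bc6113235f0a525193a5d2c1d92e0c928dcf675e66e9bad292c3b7b82d970e830861c2ef7abb98e219e7f709786070c9c7cfa7633327a4b,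
  0x8a8b347456e307b6dcecd5faaea1cdc06d5907a1934d0c2e926c841b5f5d87f8e9c48b35521b2fe08d63ef473997c2161db987ae6fc3d2206e8b01fb4acc1cfd,
  0xa9bd1b9d010ca2e433be50a2668e6a62cdcb3e25b8eb5b99dae844aa0ec04d198c411131e46765ce4acd30e73f06b572a665e11475aab44e77382a48dcca7d58c5c635f4dc154038029f24193cdd1db019715b88b4380a5c7bc962bfd9c7e61ca1847974212610e68d885702a79b97c8ba6b6d1867f6c1edcc214bc2d2faef9a,
  0x87eecbccfff0673005b087863cfe29ce5975f1a64906665512554188b43135fb2ba6626e99fd7f164acfa32dd52ce53f7d9fd533b19ab9c3addf75160ac7f0b4,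
  0x95e5438b2e9a3e083169920a01fd7866b8bd26c073a037c110cbcf33b7d1113ef7743a8c647abbfc24b67d48f75176e24e5b29972a5e90c5c38671842f3a7e56,
  0x815deb421209b47f6517236a935c62970c8b2c1883ea7c3e7aefa05848c8799e,
  0xb4f410aa45c0be59c496e0dbf2593ac0c88175ff1df93b1fb6a7d536a4b0f6b9d7e8ff3504279f20c32246822b715f23a5c0a9ecc77f6b155aea31973762071a13adeb97e8a2bc9d2ff4b5cebfdff71d591285132ac4575e1698832766c35074b29102e8add159dc5f16e91dee20f6442d4d855d8315f81974c0a214e3cbb7f25cd09890f093c8ba62182230c2392d50357f9de4631efff7426ef803b3c32a8f53a8df514534834d552fd709cf90f43307f838f0a4bdb8622287f750ad86e94299f8c520ee0852ec5ff50b04afecd0e520ebfeef1377a087825c074d50e4ebdc0e5e43694c0c7dfb5962c0dade84a40c7acab86d44db96ff7c0db1e013c7ee1b237831d45d0feb7ad45be15625ed9aac91f8e5cd7695af4fb9ba9e8ad3ffa757c128af3b92d7d8dc8f71bc31db3b0fd8a607bc9cf836b39e57eed3bc2811a7ded1ef28438f916a67ad489b68dd22b684fa6ac0d2bf5653a2ae7f6eefbad0bc8ef58a7db0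720a16bc44ff1758f5e065bcdbbfce140f382a90e233e3d4f3e5b07a8978a635760a28d66a95b461ba937df689aa8eb899f01e68aa26882746eb0d33ea4e070667860e341428d512fcae7242b58d37b09619eafaec9e033cca4c3b61ef4e8a869fd0821275fe762212704b07dd47ccd999e561df964be93e90994918f5b833422313df4f2bf528679bc13cd161c33ea9eee61e4df749b40caf15c96b9c07c8b82817863b5c9dad7ce4baf7e92a91e8d2fab2f47dc7eb4f0c9e6737ffd6577f444c6d0ad0b478b593101aff8b25a9e93b0a7080090243471ddf757c609c7f5922dc29ed6ffeedc9c770752e88ab3caecf7f44d7816794293bc62e66c2f12684a83b1cdfb035e71e0f15b281cdd9efe0fb8d2c93cfb9414653ced1f4d8e60bc32a5520091bdb04ac561dafb9ed50df81ab9b58cc76cee58084482cee7d34b731ff8438df3bc5124649d468741942259a9301e4541219cb8138d6d50855372ce502dee1fd7cf1e8418c24ff1defc386f055522cfb4fbb3ea56c56d8e3758b767df0d36c1463e08e7ef665d55a1989fe0937a7a95cd3a084688fe566afd0ef5e75c54cabe8466499cdff84f68373523b4ecd480362c23437b5081d35ffcece1b83b5fad3b672329d697631b8e74d8d1c301884ca7244584e6e2f0173f6514635cfc30f624819ef714e02f5754dc726625775d4db8ed1b7167f53b056b9700677b4e566eb98c079f0efec46c6df78d1e0b23fc733108a9f7902fc4ec4bba6f086c738a7528dc4ed364563ec41601eb677beea66eef669accda6a096d1ee82091543f3b259206de902dbc78338185fa62a0da489b765438338e7e8599063f266ae80b449a5968420edfc53214c5bb32c811eb90e4762c473cd28b5f8cf338ad8ca83933726dca8ec76309b82f0fbc78f0b53ab3bdfff0256064ee49601a5ca,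
  0x1e7b3ab75ce73cb5d50a14b6aa8899f9a529a3440e0f91eafd61762d1035850c3b496f989d89de27e872d921796bac61eb07f816604e85deb20839a357f08ee7f3351ff0f9af186629dcd1e7865b34ff835e1cf9ba65772e348b661d5bccac78d453554c5b9bb5db092bd4485d3805a99e66d027dd611edc820da2b495d85909c2299007f162fc2ff279d26833720f514c2f2dd937392e05f6e267c3af60ec421bfec65752cbfddc6fb7fe29b9f615a1cec7a21f7d7ce5606201a4966d195a0c4b48829d911683e6c22fe81658b45622ec9f5b2780877f25084ab8fc681156238c1fd950da64cd60cf01274a05aa37b54eef2b2519a410800164021fd1feb0158dac6dad162267a97790caf156d34750638f05a62bba24314a47d988bf58fa65f770a4f26a20217fb20444ee963fdd060c994df4e03b440b17701a826d236fcf1abc9493c12456af511e8d7efc73e6bff2dddc2d09c1460cdf71fe68d2d0bb6087928fa35033a5bfe3d608a046abff71138f602bbe36c547a66d1aaa9ba54d726ba2662ae47edeb36e681af50e8dcb5b493798117a8243212bb7a636532f9bb63b52cc852ac98bbd34f046feea0659ced22f7baafff2ba1a87841206afc8dd78f432a1f334590525fb03d17ea9e173d8e88a6e96a74cc0fae615b0979331e4bd3d57fffa1230944f25f1f5b4d28578e21e16e5e0858cc6a538095bc0fce721cc,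
  0x19099096d5d0d1ebe09be4622e243c3ab4365d2b14db3aba03fb9cd69470fec316494e2e1da4913de230a73eef398ff12455d97af893d68001dce83df2ae5a19f55d2ad1ad5e415a695ab43ccacf44899a987d6dff42a19be8aff49862c481c00507b5e35deb15cc675b9c146c1e2cc0f320cec4760ffbbbbc435582af039bb2db8a1180370d23f9101fa3ce49e0fd7e58c255201a293912c89f06863b8f1d07e9275b58d18f61757998b5a5b65e30aab5b23c1d9c4dee1c096257fbee43113f96859f683ace0732d719fc094f713c95fa42b046b153370eeb566ce0a1f128b1f08ddd327ba5bde6eb22494f9a292c52d742fdef9f47e7666ef2ea12299a6ddae4861466ae495ffdb69385aea5758c26b1e79d12a630eb1a4fe26592d083cbf69a13a6f6bb11073faa6d305ea3d1a14490a657165fe3d07d3dd03faa7482b2d9db806e29d02c9837407948cf77c547e194e685d628159b7cc7b3adbbea4e43de60f578e533b4f9b527c111f0b241999ca9be6d18da74274e668ea95c23e5349b89678312e6b473bfedab78d4261ccd6889cea045791498836d4d3ec7ac96bcd06555a3da157c37f74bfc3c91554897f6aa3cc89a0ff324c1c7be2ee7bc8b4d959ff76c5619132a8a0d0e326947a736651b56e2199eaa969f6cf2130ac32e0990478d03de9264197492a405b8d575209fa4ebd2e5428fd6c87bd953c522bf2fb7,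
  0xc599b6a78c12818973d5bbf982fa45716dfa87d66a39a127a87a13bd97f33c233226c26851c354fcd19f2c8fecc23324fb232c91112fbfb918d7ad7531b3321642ea94ff3d869afd9877352f1c9111e8eeba1b55d13b992c9487ef0a8ca3b6d0da1bf751216ea94835fde53fa93e51cb2edc3e78d3fbd01b1e1ba0abe9bc656f16c59cb6632499076fff55e1f60d23d9cee460a25c2d75c36e85b81b0ea5fb31649aa914c3b0c16ef8c5558b456c0a96bb63afd5c7f9039336eb9c6a95a92d2ff289d78de993e502d63c1f2e247401cc8eff5d0ebdf0943b90d72ce6be6f275406ac69e022504e64c35a8d0b5b8952f82948f04c783be3dac5cb83ed50ad07a6,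
  0x52acd387321d460c7b886cefb2b0875c7f87e3735dde92655f2cf94a967e614c1eb50e421dc9de70f7a1d51e7565c32ebb80cc6ee38e92e1405466c32d0915a3e95a12259ef6466159d48bd8b8ba7ca96d5f9caf19f3905a695236935d15f0b191c6442f47281f4155c6d4de1c35213c86fadf40620d42aa771a416e10128fe5c3681f6dac628bf2319c34825ebf50270f73931b3dee53770e6ed1122c5ae441166660a4d1f501af1c20e05ff6bad8dae2d55b17398d183da8967d3946beda0913b1dc42e273b05654841aadc8d3490ba1f343aebaacd47cd1651f7ccb13ff07ef4f8dd31da146dd9cc9b48695693afec9e6d84a5337544f57c17cb8b31bdccd21f2c8fcf57acb3f578bb5776443616a066b0a4d39bfdca78cd02e2b6d80dde6021a8771cb0afd1c570f29e96d80f7c13abcc8ed638f20dda7024c875f491c2e0af4139bb5664569abd2739b8751854a8fb36511ad1c5d71d8c41625d5aed3e2a1cf67ef109e65b05950cd69c522971e010b4e0de52408fdfe96790272c280926628df3997cda28db06dfb2805e89c370d08c14be41f24199fe86bd595052aeaf75f6afa2e300961794d494eba2364921810bae9d6c121770bd44019d97fd6e58f9141ccc81977510dab21494ca87418020ea114945a7164182b6ebe54fe137eaa29b3d6b7e90e02379d7d2b7301de28e82d0986bb3e0d3f2b425825cc190522,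
  0x15ce9e8f83eca4b28b976006aecdb0fec30f3a600c3882922610ed17ee24f16caad55188ca442cd29e887d8efa1cfe5d121f70f80ab987c2ca524bfa39f2172dcb2a3d83920e79bb5966e790ec78ceff29838b8cd47bae37b249dfc7a7fcc20e0670b96a1b5ef44017ebab2e01805558badfebf422125fdd427b458f32416cd722a093e973ac5726cb8b75ad688a81fd3cdbefbec21896f86ff27c7898ff764c512b4243810af5023874b00521cfce30b47ebbee56888053024e39066baf9e97baa7e129a1eb55e2f21543c2284886ef5766be539a69997ea4b89f5b85ed90e73d320982f07a22fdd9cb421c58e0293c744e9e97c8d1df681a133c5446bbe964,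
  0x24aaaedffcf3a4b182539e27b360f8b612b68b2cecbcdc5647060cc85fde23d3ddab89f020f30741ae75b6f27d16146850f774b0b3dd896278e8808bce86f1e9acdab222eea7d0c1f598c5ca32277cbae857e93181143bc4a81d6ef6c36aa027f61930aa85c99be56d099ceeb5571d2fc5eca58e033e5be507a092b9215ef8f0af5b12ad54bb64ac72ba3c718c348190332429e4234f53b9a97b714cf93bee9dc93d68015246bd3942f231ae7c4129394f8474692ab79ea83cd985e4167c3b359436d5ac6d7a7ee1b8193e42f5063461383bdac2821dd5c3d9b0f7df182511d147e4684f8f6eca375ef6319046ae688a1b7edc90b1aea5bb961786e8548c0fe1,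
  0xffdb6e4111013bf6a8ea1891143e71048c4b5f71e5da157f782c53c60d3ee9624e8dea32bbc51607b261c6442b589cc561e81b6ba6b6ce674a3c0c36ff27a6bc98d0c71cda281f0fe166a1c0a2712a3821c669a7f8fca960f2d15b70d00c6e51af302ce158067b1776dc9c94234b4f997ba298dae4ca649d0ac3143eb9788959,
  0xc620c069ea276a1c0a6ae32ac8687a9ea5f9f51ad88f32e79934a01760a76b3160a79e1e44696e46308064f68b0984753b58691f90a3cc792937ccedc66c9b8cf1583e2b417afab80647c9d5f15f5489f2f3d2cb1f5b66c6a33a2d9a96e9c047941883de3832493fb2d4359c9be59ee9488b6469064117ba78940edfb4bcdb5f3b99cf5ebde1b0f845eade73a16cdb70503c1701fb952d0ce8c152d2016310affcb372b767ec200ea13f843d9a9b36ca4d3adee20b116c359db4caf8b639ceffcd10c86b14425f02c31f400548e70ee61853ef52a77ddcb6c56259f1b66150d939d123cf913678e5dce71e48f04531fb542ee6788d52f86112b65f8b54d0b7f9f2ef863b7d22ca83936317ab893aa85d0d4c5cdf8cf1a6947fdb573777d1f7694d6583fc37c2bcbe15ea4b12a4031c2a3e8291457553086ab196ea6469f11f02d74314bfdf160ecae055c34daeaca1882e58a03c09a6dbbedfff1b45ea95535b38b07b6a71a29c4149ec31d427a15c89953a992a499a040a55117d2d02a387a2eabfc1a790b46aeb82e48a2332c55bda55322bd517f4b07b90e97b5aba34fde649fc8d58fd3bb0e315cfd83f7dacbff71283d7ddb29ce2e9de562d27f7ad339d6d1b9277f561b726eb2d38f9dfa88b5b58d098c572e4fed7d76ee077cae67a17be57dd54d5b1599fde475bb7fc96ee2849a8a4055233480bcc7e89f0927182f2,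
  0x51d573ea36e56292e56b2fa2d29ef7af8de99add073d2fbfabbf9038f2ae8dd977563a18b23625eece442ddbc249e65f087ab80d3c0656333593064c1d19808d1fbb3ae414d90ac4eac133d0bc02878a69ba14603379d86ed81084b94352e7774e65541110973d5bdec908b991a8f31833de65cf9a52b02b3a8f5beca4b3da0bbea6e2674c1dc619f427cd656dfe68c173b20d385920b3a5dc04b35e6275f9425dfcedaf465cf1c78dc9c22638e8fe84e70596c2438c5e5f1bd07365436e5c033f86372c50da721efa5c1b134cf6a0ddae3950d024bba3a5307fcaeabb74cc39ae33769c4f8507fa9b3c31ff4f68f5d008882ba579ac6bdec02d132269198094,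
  0xb2959f3a018176290cbaca2f3d9cf4fc7a79cd41d612c9cfdf49d4f1efcde121055aac348bd714858159bf4bf645ccba65eb4997788bfb5a6944f0b2580e9cffd47a2b52c16daa8c9e27f62a9f5d70cce8374f8ac2463b476fce8f394221055ed02797bfa33ac870d2e0e1b39a6389d52b90497305203d938b9acb9e73c57b3ac239ad76f29e78066ef0e1996513ac775a08c080e0ffebcc102857302140dd979cc0c2d57ed42fc885a81ec59f417460c04b37b25aaab62a05e3ea85127b2799ec47e7bdf6c81be9ef8fa2b85853f37923380147786cdd84f22bff486794208b5a9479fbeef76ecb0ac8d9e49387683aa356682f74a6b9f409a7b15b45dcc1ef,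
  0xa31f556495288270d5b34ffde94ad7cc9bde70d1ee57cb8d7fca826845d62eed610afd3a35505c26b1541713068acad4aa35ac95980965bae57681c31c6cbc68740deaaff291f135dd69586fae1fe4ee78df23b0c5efba81541ee7bdb4796b551edd2faded0f6824c7246c181b3ef7e8ef8c4c7d788d092c5a1b6f3a5c46a544,
  0xadea24f0281ba453220decd3d647aafe537ef8b2953c32cd12d37de8747251de90829c7752b650d94a3902c8df0ae97f34162bfb607d9e2a8308b364c1ac213bd38a0184f965a5bbface53fc4f1fcaeadcc1297598a2bd03b0452d379579c7bfd2265499a62f91ad48311c99124df3a5af4834034e9c3d8f6b0f158ecefcecb42287a936446d10eb2c3b989a7229d79289d84e0147866453a8dbd0b438ac106dd2ca86b4ef5aa1b2312fdbaeb56a677bf9302573c6de835797ef6ac5a3a431fef962e69e6e2849b7a589ae9a8d96d0c5fff01a4940d4635e7a6d5f088ed89629a739d51f526156e50fa88973bef2d50a977a4d5a50779eafb0506c64bda53fc6,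
  0x553f7be4d7d09296edfee9635b66036a77a20ec3668b78c815f2e4ceda6993a2093adc48217c27eaf298fd4e5e0a3fde516708f5f2937b0b7e585b8f2075395481481367c2097be5dd62a8195936fa5dbf626a30d7ca8c2aedc9f82160a88f3a1c07cf113373971a9337d10cff81aec1579fd2bd15944f454b32e3ea6162ac47,
  0xa0d429472aeaf257698c7465175d28f693f04f17d50a2ea4076cd6fde6974ee2eadfb9331d909fc879b07d423aa39f731b8f6e5303ee5121245e5d45d5b91a125561fe09277eccdb24bd1caa47cb7e29142d0548a1aa3d18c923115343c2e2ad67cc9772cab48df4598a7605bda1aee90d6619083765a4bc5dec137810b32367,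
  0x144198c1b95e4cc35068e5f2679711b24cc7d5cfe0459315b6be92975047f2d46f0e5eabbd87b46c4ef260152dcba627c9212bb4d07e7aaf274d7c53f906990d,
  0x367bbdd0fa79c8b04f11e11234fab9be61506789191008551c8e44064beb0e04721b8e81864cd220837b7a0e70ddb52687faa28a2aed84470d998cecc638bac9ac160fa0ecc6c7622fb788661555e5e39c98f975cee0cf0f6e6a6d2ec0e50ab0c86371e8d5cfae4d433faf4afb461f261cbf99d0a2f31274d41a633cbca5c8a78fe562b2f24c8c3b1e4d18e0ca5bd9363c13c8a180512c12089ec7ef36014182b8bfe9400eb5c926da32102b1f6fb0533452df054544d9b6bfe218cf7a3e0c6683dee0dc4d7cc9d81b3b34e6119803c8a788229f03d598b6790de6391a89c3422428e67ab5b7363e7e91d203c30cf68e770236a9da4420971f9e9c3198403cfa1fb31a6e8094269c082b17ef0c25aceafde1f32fff140350193ae92c04608ae808c984e8a932c75fd8652ddba33a6e5bc30f7d87216ff6343d8bcfb88af183d554c7b757a6769b49e78b5c756bb828b76bd8f7c32c4a4f888b91f33813cf15b26a36e46d2380d813045ebcbac68f8e573dec048578578ed4d13e497f2035e1b9bb71e29ba65f8bc03c903d7007a3ed1285221bb75d2b23fcbff4e106ad6442d0d6e4035d91679c7a648c15d4b2436c0fce7dcde897449077c562ae196d58f8c76dc71cc30c0f01912bbd375850262a2868640a318948e3701d84aeaa6aa1bf2b6634b93b13926b6fe277266f03d2da344d601e24f4fa1a4846327273225da32c,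
  0xa01df223d24940d6a82a029c46a24fd543d71d5cb360c01aef04edb12fb063dd7f6af1fca3213d75d7c159f0f671aa9ceeea03257b053e75931a0e32c0e41fc4f98a050a24902de1508e79d5ab9154df87d798047a3ed01ac2091c3ecce3dcb1e2e485403f6aeacc06d31082956f3ab341c6354e7aaaae8ea9bbb8f906571d38cc7937423ce0ceef62f492d1a10e8cf78938f346b22d493d1b6f992ff57905b1d4b7ec2c9f206c21220412a4583be805bbfec64cf937977fbdbb29db15a1f7fc67ad578ebbd0707fd9dfa2fe0d3a7fca6eef9423b12d1c840ee97d2c2e3721ce5f58b1183e681d6c73cf509b05598b170f5bd45eeaf8adafe06159d396030fc6,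
  0x9d599bac5e2fa9a2a6619c347f85b25a97ec08152728d39cc62b0f4ae76af7564f1314b386232dc187be691ab393d33cd8cdaf8226f9b2cc8bfb3e3556d7419bbe6c22ddde7838e13f8806db445718ae03c04e4c2d9b0c0652a81233d4e5b030f76c12f04331dd25462ce7137f7aef5aec143e8ba6c5518546e805b29cdcdb3f758033864cc7dbd44025f049b1fefb1ffc8b922aa5f4d8c86ddae8875b03e74eb158aa0c069d18e4ac9442027b69a2731c7735efe796681b93756fc343dbcd0f95459ab50ac66e96c590e8539fed815b744f526e37ada9e09ce37ece1d1bb34541741262e0df7dc8c31ed51770fb8edbc0c59e31dce77053d5395561876e477d,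
  0xc75c65d56b67d65696577038341fca6bef7268969bd561e495199e9af7347c38fbcec9e93febe15da14067ff76642f6dc5e7428c1cac250b0d4c20637c3707ac6f0fa48cf3e0f6cde3fd4b15b75a44c33fe81f338b3b0dd8447144f7ac1a2a41e9d96b6a4dfa9b8db30cd7b729189922f5d4d9050021af970cc6866fd6004d3,
  0xdeb8c17df9d88afc6844315dc3840970a04dc8843e52315bbcd5e93b4e0f70ac075946470f1cd6ec4a2790e06854d4e45ea97297f27aa3ad28d015b29666894153e270505cea324b52e5d544c5ab3b5ca5ab9cc4eb6ec78c87c44859219954df9280074c2e72f9c440c476511cdcfc371ff1a3c3cc171ce8b530278498df5d1e1df1c9f317a7854db4566f36eec5b6953d7b154e1f9da30ef47011a777d17e292a42fe7cf6c6530f8b13fb371fbb92cf5d46d74990968f3952074c6e5ac668cab3b4a427f9aaf4ff1ed0422d600927eeb604d04a0775df05ffda332aec494140ffeb551fc282ae9a5fc30c67625b4ea215dc41fc4bae7a29a65037464d6e17da,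
  0x8a23e9b224b1491376b4e0c4157b5c334b9adc4af3861e268b61ef8d3446c990be61eaab1f33835bdf671762a9e41e2747957d03d61f7b6fb9ce5817cbeac8fa4a7daea409cadf4e8415b08f6c5281ebae8e2280666f86bc10c0da2361e0f24e4f9a7cc99e27133eaba25274ec3b489d9464257e5dc5630993ad1a7be4cff77a,
  0xc75f70f3732963c3182a31d80a8128e5d4ec700fccef91c7f1e5ad88c5193672612c4482e8eed66b689954f93274617805702b3ae39a6208473d6e017dcd4d3fcbebc682a15925968fc0b5f69485d89fdb6e2882b30df10cb24ba83d566a05a29cfde274a5f1ae03e11c660b254f01bb25a0f0f83ef5bdcae4a4363056290de3,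
  0x79907ba029ddf73c73d8bbf63394a0ae9b6faff1e0236e0d676f07d15a922e42280adaaa176ede8a411177c75622d1adc6ce89a9abff5958e330b6c077cd1803,
  0xd3329c9549faa33c958c380ebb1330e9f5df74b658ec5361e746cb92a54d47515e1960be8ca04664b020941bb8b75b9997802ffb187081d840a149a531bb42ad10b8e05fc2ee4e9ea5852680694d54c64de76bfdf43e3d8001cc134e8b1ef2ead86bc25b33364d6ac8e7f1464d19beff723ec607cdbdeb89a58ff883f18c6dc9860bd3408b4ceb90481a104914dced7189656c5e985deb2be0ace3516f74d9b962be2516d755bb989b6275331d975fa96ac25025b0a793211f635474ad0b62bcaade9c358fc0b3a589a38d9876aa1a4711454b3cd4c697dec87c862f6909af2a53eab839fa4d86bcd0a6db4821f3fe1e99e7342a39c1508c55dd2d2fd24b7c86,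
  0x19a448e79c8dd0684b8dace5a6998ce9e3e52a5db93027e03736ac9e7ad963582c1e93613a76d0b4bb8c4bf28f3dc89ce64867eab6573a979aac9f174ff9df3a8d0dc08c6810090ec07ae004d043929068dba37665613d7db26a03e0e595e96d07e31992374c894d69c3dd4bb75c6e05787cd295be8f5fc98d51e368c0265a35,
  0x3d9a30affbb4d96fbaa6ab2d4ed0e907603a35931b366938ff80adcb44e765411c66433d1e7058852b38723cf04c5288c5a59e3eab483ca3fdc00d95530923124259cdd146622fad2684a5cefe767825bb3c91a393d784400fdd01c55855ea28b999c14552f4d0b2f6c03fcbc69415fca6e91401a9de4b9336b148e2c29f10c5,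
  0x26ea8f75827735295cef2730e89803fb09f38f65bd1d29b742e7da741d4acaa3804e34ceea934683d51921382c274aa02cda74ec3b7844fc1b35824c30b8011,
  0xdc9abdeb96413ef151cd69f0ffa9dab7d7661b6a69e252f229f3d9053db3c66d7255f6308e7f14a55ee30ffc379fb3fed3ea8b0d8aa8a610ed487a01db3e28e36414ebc85d2461e3b56b842f21d9826f3bec6711bfe866dbcc1e5332854f224484481c033ad1ae64b7ebdd8a9df4d337e35c813140efc3c77e8208cc872a5e03,
  0x59c6d31d7dace1dca2cba0d8cfe0b8bdc0e2aa325f0743cbc3de785e41eba68fc06120dc347d6b5b3b82edfc540bf6a4e487fcaec0a85516dd879ea393dfd92,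
  0xede1c6d4dad748193ab627e825e514d8030bca451a0aa5b9bfad9b0cc0cf44c4215a3f1fc0bdc3339e30963b57760abaeb60966d0ba30967c8df9fb01b52190a,
  0xe602ec60b3aa4f6de710532ae03740c6c7c3fc2797dd7b41b587a22a5ac0f4a3,
  0x878a364fcb267ca605678a5cb31981aed171fa0ab8768f1a9fe14e863d96ef5f39a71f875ffcc46c662833651cbcd650e21ee77c50ad09dad0fd4f74d617ccba1850835d195fc3a9bc22b5353ac35fd7d916bf26edc7d2092ab0508fd8c8c54b1ae15c0a811541e049439b2dd5364a0b5eabd84113d9085cbb34f15e9a81245c95c92dde18d952aa35a3d94cf678079d2df4c4d5e7d48a26978a60ed793c144423820f63afb09ac8ff90fb6ecebf3fd74f8ea00a5ec422a813543c21703187337209cf03263d733aa44351c2151d0d8f9bbca825777a23033c6aa11fc2d3d103996472b19ce780f002747749ed23bcd90d9a27ed4684be5717d6f73c13cdaf51815fff12db1caa833e7b91bd28dfe05eceb2af08a0583f63cbfde9d3c4629ec3f4701655c924d8d511cb5e5304af81d57f1a237eaccb63840f22f90972cc907cdc0f9cf7134d3fa268a0cf575d69ae8d1df10923221f4896253acbb46b08188ca8baebcd16e3dd788e1d120ec8d2452a85466922678c1f0f5dc503ccf4712961540caa4681b5075bfce6a583a95f9e6a9308ab561694e5d06b1872408ff5fe92538878f3184a10bd4af2020acffc56da0d843d582d4a52bab316282e7b3c5d8847c9a62af8f31d4941fd54dbaacb1c3ba3253d8d8903d7a645efb4d4185c99c1bf6a690d96e5651e06a8710f2d5287b5e1681cd2d3c4b4c8bbd92563665718fa,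
  0x7d2d82afa1ea4cfb70ed148b528701dc0505dce83f3a926f87874919a9b4c6b99cf7c461efd1aa295bce2460a9432b1edb3668772058d53c3fa25bd75d778714c73119c9729e23b627c193d561c97aebb1741c3672aa90bdf165ed8c7ef333672b108d847a77eef6a253c20a2da43161523666d8ce51226ba211fae1cc3de5d074a36d9aa3cbeacda64df0e232af68921a62262208e39e03930ce445128088825f9598a582ebfa2bc57921174bddc28c5dcb044fbf0da897b24ba703476e1ebfc87ee1c2225a8024cd5a147ff0809fb818b4e187541f3f5098dbeaeb26edf89c9cebaa16e312e0dbd0aa96f365bf5587bb827c1755d1c1416a25a035bd00fa4,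
  0x649a9f88fab3f439c7737eecf33bbd152b554902162a96f20adcc714df6c84103f21cbb4903077941db004230911bfee1f33264fad2dec830cce4d3afa13c4c90dc728ae6374044741d9df2b090bda73c6504524148b1bd7efa918a410f168277248f3ec762e70636dfbf9bb88b54f820217e0b2dc414c75e15b712d749a5f801cc91af641ba61f42ec3576cbb0ada11ec094737a3b060e2d5e1324b1ce3e8d603b75f9c9822b814cb7b19d0180a800ea4397ec2708ee71e2c6f29d7e24ebe53c21636c1ea56d6ef0644d9e83b6090c29374e44bf0dea71d27c24732c5aa1bfb9d6d68ae594a1a475ad9df650b9cd3b8f3c3574c291e1acbdd57bb41067b32f8,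
  0x9d6c76181633b31b06b215056d9a7061f404eacd3188ff179c6d31f2406a23394fe37bb0de06ab9ad56cc52e3b5e61c63590b63cc55696feecea8ecb5522175bfed2e1501528e721b69787048e4ae64b275826ffe8ee1825d042b49a8d2c81a0afd950d7c7c6d19a2e38184295f2750c9c830736e0f55c25d6548767b68aab3d,
  0xc8b10bf0a7f3c72709bda483b75b4fa2f059dfaa3852d9b7425e9c7feb22fd0fcb696f7d9427e189583ea83d27bf9cdfcf043abed9b22fc9704eb5e8bcc16b4026b48f20ee13d6fa59a57e741090fa674f34892ba378c35f9751da8f5b66389ad4935a2070ac884e8e2f278c10b45b1646928741efb340bfb0025d7c56fb12794abee448fd7ed674c185e0c752a66b365ca58973101757654706089cee1915fc2a8b47dc226e717c6cde70f57d758b5acd2e31fd04b32614b7cd09db9993b00809ec80c2c82c21712064674cced24a86e1d885c5975ab8dee7308b1c724125e2469a448e2ffca6b12f6919d6c4a0ba49c568e84ee12715ec6095777ca9d85421,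
  0x52e660347d50ce8fd079244259b0347ab29ae857af754c3dac4cb1c0899d07fee4ef4b16940e25a0c7e068bac6be61a55303a221a7109d3570c4295e2d7d153d16dcf2696f81a6ce177b98780d18c1130c6d2e85144baaebc631eca7c363e4320760fe5a93ec90de9b61995521378ab7b6a5355c463f22d75c7f3cb19795e269,
  0x38c9358e418becb4fcd534e256c94c915f3bb3e3eef13cdc928ca1ef1d51bba82b5841cbac2f42ca2e31d32d8f842233c794a2af01c9e476aa6123c736ff08bcf3bfe3019630883cfec5a058a4f9bfafec8b4bbe1a6dcde06707ccfe611ee35b2141ec38ab7cd69aad4e89178e5a3c32bc7e7c4b426ddd86c868132fdda93760,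
  0x1f786b12e257ae4f36eac4c1af8e7b700fbd350110336672d4153bb4330b2f1086c61119157a24afcdc0bb1a2a28659b4e8cb540304d3b25b210938e9b7c62e6,
  0xc483d0c8cd661eee6a157c2390a2886f506b3a7b0d3d39d567d00c5ce82ce0eeebe2db6ec625b1bfee69a07abebdc08c88c98de13c1530fa769c02a60a1f5cf64841e081b7b5db946535ee70fab9c0b52f3335f0539fa0bdde945adcb926c3ffd870f0b39af7384c605717b543dfad1591fb836e74f9c858e75d8561d04483b8e04bec04c7ef740ee8d47abca01135b0f284bfdc8353c33e970a91a51ce2b6cbfdb1a6439fe8ce48264ffe238fe4f54e7db15b1154ebd0ff7b0d742bb6fa64c7e02e8f8965847ee5096c2ee50da81995eb1cb1ff6b37df1e884c7d12ed91c7d0ebbdaaa62cd467d7b2d38938ec76afdcd2cb0550b5220df735acbca17ea55e22,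
  0xe45e78f70df3c57305d82f49c3ead7cbda21172f9432428c8bd8de398adaee79f69178bb9c8a397225d8ee71a42116faf30de4cf6b44eaa12f38f50b3c475925526d86d6a2f4e7b41c0535a4625eee83c49605f83f5e4ef5fe8b0652c44d31d5724d044e539312f2818dd50f20bd6a87be90cb0cd72b927478ce3892654275a1,
  0xd4396fd3d5e815a3b4beaf692b67dc5420b594acd2c17759b551ca8025fae0a682c53a4870597107b8c1c9d733d1323846682409017f5483f1b694eece1808f8074c401d18a1d0cbc120e35660eb0b98f5bf6e4885887baf6b7f41b6396f35d0cecf3b1dd7667d13a5344f2698074e8e1a1191c7b73b39e260dc7fbb95f93f06,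
  0x4a080a7e69bedb52b4a0de1f0e4060f771a2d4387a7c3b1639e68a87f29afeecace85b06d254caea1c91c4039fce41fa115f04e48fa3fee1ba43b1c920e54631,
  0xb93d71a0ddaa57341e58df0ee62c79de712ef9220375b8327489a2b3d427ab84efda7a4d285d44b3ffcc8b9f97f04bce3539b08cba751da9d084f061e3cb53231328f3871c7d23f0fb78a12363bc9dca8660c14d8df48333a5bd5bfd2f2538bab3693d658955c724df75f6e2b32f87e37f14260d217ca29f8ef0ecff4b73f7ac,
  0x97c75ba1e62b9b85587a5ee477cef5ac9e45e6af67f2f6dae9875173763b06c16a803840fbc83e414010d9ad54224b11832896f421c8feb1da62d3fcbcae87f4,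
  0xc15e0719ee64f91d07704f65cd1131c6970869f2ddea4359f9df217540f0ca17105a7f8448d7da3942bb80d5b3522fc8e82769a9c50db634f7c7e28c3c6f57f4,
  0xe057ceafb8a9226081586459ed4f5b3177e943a02e1c202b1285d802a67ad673,
  0xc0331d70a86535222aaa1698f9bb41ac61c5793ecf6f1370f395ffa0a7e8ea6bf870c6fb6aa32a75fb0a6f1ea256e325a4ffd9ceba942ac14792c92143a7d44d5517e9b79915e42051840126d6e9d2adcadd3e82ebaf1ae847f8d655f46a5e3d54459abf5dbcd05a9fbece481df7c023a937948f2fcfd688d714cf4869364e9ed62055d79c5b15090b22409192278c1c126e75617b5dc2390bd4bc983080785db186f5829f8ca0fc9ef09cca398e8269def7dfa05b5eeed5849f94f4bad5a016dbfa2e83841e04a00a470bf802fee42f39149bfbf0da440f611b2bcd19b33f593c881e50068b51d55d25f61d5e562735411572fed9498a30df78d2846b59f8d3,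
  0xb89b78e04dc5da69ff5fb0cf85513c1de1c9759b33a4ffb2d8ce4764787de3d10db3b40f420332d4d698b95b64bb2b9433a85a521966ccb78eb3fed50f46e5dde055a6445d906e9ba9c3ea487e1dadfd6044055bd708c1fc623ebe04e7ed995ef87590570fd3fa6f4adbd2a95ee86a7db5c10bf3ecbc2b1e83da229deea4d619,
  0xca973002a62bcc7e3366b95c0b997810bf46c55b4c7d1eb4322d796f4abcc99b777e4e42c2312ada187bcd0994ad0f6b2844bcc0c3f9c83e5d4d92e20df0647ca5a0170c441cc4840a034a1b1f143ff4c2fd856e8327f6c6d6ff5b9cd95877a912c7ac18eb64bca7687e3f32452213a27df39666bc942d73419df3ff5a1f5424,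
  0xce0c501c7581fd185b7066014150eb5fd72d3b63cc4b61d94ad1a8e12f5d127b2eeb5542dc981c54ede778e4e60df721bccad723a8022244f44a06fa4bc30412,
  0x2ec7d8eb36219690e54def88e40338d3eed8e5535163713af0a30a131ed4b5ccd75d1ad2fe4f7bc69ace171e7a3e906bd3cacc290193c53a158432c8e2fb089bb9a1466049ebcbdb9b1606c303367aa772682f09bbfd628b2fb78b7c82bb6c855979fff97aa8849e50cbc094f5627852496f402dece350b23f206ca7227007dc,
  0xb1c83d8b97e5634ddc1752ef64daf76aac1968867a5fe09c1b4f56eed7fff4aef59a342f4edfecf4f1d0497f7ca715814f675f15064b8abbd9eb9757a08c8434,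
  0x72e8028344762e916a8c1d8a31847a205d9fdf4fe539ec44bb6085b68b61371bc77a2b38fc4ff34b130e2f97a805985e5159e7c91b07a98a36bfadc066aa59f7,
  0x6cf3d4b242d618fd6b2cc90296f1247c266f879c4cc2c991c2ec97d9363d2af5,
  0xf165b933aa8dac04dc47381de6ecd9e7361adfc29671bf835ef4d6c31683e539adf3bc298850fa85db355231985c42d38ffceef406dc38e1a19d44162e76795018a3e73667fbba6528c4a31ea4975c9e4665280c2a57ac9a65ef771b477f9f576fe2053f16c381c0bcbdfa2d9ebbe25c0feb1c80d4979ee710cda961b432f3f5,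
  0x5865e49536a0ee0e8a078e53f722d4eae6672743f9b8adbeac6049738b1c926c438d302de24939dd172647677584fad8c8338293813aa46af1cca1c952d1bdf9,
  0x953de6824b565a772bdd4c4306a7723baee86a4c19e4ffd46e54a4a144de770e3a9b8d0f5f931218775dc6456244364792623d34b9b2636c27f8849b0f72423c,
  0x8e6a5da3fa878cf4895d2cc18bb38237176bbaed53981fc965b029e338820d56,
  0x91a7160851d207cea22ae0b9109937acf0566339bec455da315e3cd31bcde46be343c269fdad1dac65caa5c67a8fbebbf521a1a8c9ab6646605803f67357430e,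
  0xcd8a88ae9bee4e1ebd14bb179d8beb5fa0eefe9297319319f63f766073860a12,
  0x33eecd9166cfe1111157a5e059dec524f952252245b7f62373173f78b20e112f,
  0x0]

theorem chk85 : chkB 8 l85 l85 (exOne 8) 256 t85 128 = true := Cfsg.Agent.H934.MF.Fast.chkB_of_8 (by decide +kernel)

theorem all85 : AllB 8 l85 l85 (exOne 8) := fun b h1 h2 c hc h3 h4 =>
  chkB_spec t85 _ chk85 b h1 h2 c hc h3 h4

/-- every nonidentity element of `GL_8(2)` is a product of two elements with the characteristic polynomial `mono (zl l85)` -/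
theorem prod85 (A : Matrix (Fin 8) (Fin 8) (ZMod 2)) (hA : A.det ≠ 0) (hA1 : A ≠ 1) :
    ∃ X Y : Matrix (Fin 8) (Fin 8) (ZMod 2), A = X * Y ∧ X.charpoly = mono (zl l85) ∧
      Y.charpoly = mono (zl l85) :=
  exists_prod (n := 8) (by norm_num) rfl rfl irr_l85 irr_l85 all85 A hA hA1

universe u

/-- the polynomial of order 85 -/
noncomputable def f85 (K : Type u) [Field K] : K[X] := X ^ 8 + X ^ 5 + X ^ 4 + X ^ 3 + X ^ 2 + X + 1

theorem mono85 : mono (zl l85) = f85 (ZMod 2) := by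
  simp only [mono, zl, l85, List.map_cons, List.map_nil, List.cons_append, List.nil_append, toP, f85]
  simp
  ring

section

variable {K : Type u} [Field K]

theorem f85_map {L : Type*} [Field L] (e : K →+* L) : (f85 K).map e = f85 L := by
  simp [f85]

theorem f85_monic : (f85 K).Monic := by
  obtain h : (f85 K) = X ^ 8 + (X ^ 5 + X ^ 4 + X ^ 3 + X ^ 2 + X + 1) := by rw [f85]; ring
  rw [h]
  exact monic_X_pow_add (by compute_degree!)

theorem f85_deg : (f85 K).natDegree = 8 := by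
  rw [f85]; compute_degree!

theorem irr85 (hK : Nat.card K = 2) : Irreducible (f85 K) := by
  obtain ⟨e⟩ := exists_equiv hK
  have h := irr_map irr_l85 e
  rwa [mono85, f85_map] at h

theorem dvd85 (hK : Nat.card K = 2) : f85 K ∣ X ^ 85 - 1 := by
  obtain ⟨e⟩ := exists_equiv hK
  have h : eqL (R := ZMod 2) (mulL (zl l85 ++ [1]) [1, 1, 0, 0, 0, 0, 1, 1, 1, 0, 1, 0, 1, 1, 0, 0, 1, 1, 0, 0, 1, 0, 0, 1, 1, 0, 0, 0, 1, 0, 1, 1, 0, 1, 1, 0, 0, 0, 1, 1, 0, 1, 0, 1, 1, 1, 1, 1, 1, 0, 0, 0, 1, 1, 1, 0, 0, 1, 1, 1, 0, 0, 0, 0, 1, 0, 0, 0, 1, 0, 1, 0, 1, 1, 1, 0, 0, 1]) (xk 85) = true := by decide +kernel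
  have h1 := Polynomial.map_dvd (e : ZMod 2 →+* K) (dvd_of_check h)
  rw [mono85, f85_map] at h1
  simpa using h1

/-- an element with this characteristic polynomial has order dividing 85 -/
theorem pow85 (hK : Nat.card K = 2) {A : SpecialLinearGroup (Fin 8) K} (hA : (A : Matrix (Fin 8) (Fin 8) K).charpoly = f85 K) :
    A ^ 85 = 1 := by
  obtain ⟨g, hg⟩ := dvd85 hK
  have h1 := congrArg (aeval (A : Matrix (Fin 8) (Fin 8) K)) hg
  rw [map_mul, ← hA, Matrix.aeval_self_charpoly, zero_mul, map_sub, map_pow, aeval_X, map_one, sub_eq_zero] at h1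
  exact Subtype.ext ((Matrix.SpecialLinearGroup.coe_pow A 85).trans h1)

/-- **Products in `SL_8(2)`.** -/
theorem sl_prod85 (hK : Nat.card K = 2) (A : SpecialLinearGroup (Fin 8) K) (hA : A ≠ 1) :
    ∃ X Y : SpecialLinearGroup (Fin 8) K, A = X * Y ∧ (X : Matrix (Fin 8) (Fin 8) K).charpoly = f85 K ∧
      (Y : Matrix (Fin 8) (Fin 8) K).charpoly = f85 K := by
  obtain ⟨e⟩ := exists_equiv hK
  have h := transfer hK (n := 8) irr_l85 (by rw [mono85, f85]; simp) (by rw [mono85, f85_deg]) (by norm_num)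
    prod85 e A hA
  rwa [mono85, f85_map] at h

/-- eigenvalues of order 85 -/
theorem eig85 (hK : Nat.card K = 2) :
    ∃ (L : Type u) (_ : Field L) (_ : Finite L) (i : K →+* L) (z : L), orderOf z = 85 ∧ (f85 K).eval₂ i z = 0 ∧
      ∀ A : Matrix (Fin 8) (Fin 8) K, A.charpoly = f85 K →
        ∃ g : GL (Fin 8) L, A.map i = (g : Matrix (Fin 8) (Fin 8) L) *
          Matrix.diagonal (fun a : Fin 8 => z ^ (2 ^ (a : ℕ))) * ((g⁻¹ : GL (Fin 8) L) : Matrix _ _ L) := by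
  obtain ⟨e⟩ := exists_equiv hK
  refine eig_aux hK (irr85 hK) f85_monic f85_deg (by norm_num) (dvd85 hK) ?_
  intro p hp hpN
  have hp1 : p = 5 ∨ p = 17 := by
    have h0 : p ∣ 5 * 17 := by simpa using hpN
    rcases (hp.dvd_mul).1 h0 with h0 | h0
    · exact Or.inl ((Nat.prime_dvd_prime_iff_eq hp (by norm_num)).1 h0)
    · exact Or.inr ((Nat.prime_dvd_prime_iff_eq hp (by norm_num)).1 h0)
  have c5 : copCheck (R := ZMod 2) (zl l85) [1, 1, 1] [0, 0, 1, 1, 1, 1] 5 = true := by decide +kernel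
  have c17 : copCheck (R := ZMod 2) (zl l85) [1, 1, 1, 0, 0, 0, 0, 0, 1, 0, 0, 1, 0, 0, 1, 0, 1] [0, 0, 1, 1, 1, 1, 0, 1] 17 = true := by decide +kernel
  have hh : ∀ k, IsCoprime (mono (zl l85)) (X ^ k - 1) → IsCoprime (f85 K) (X ^ k - 1) := by
    intro k h
    have h1 := h.map (Polynomial.mapRingHom (e : ZMod 2 →+* K))
    rw [mono85, coe_mapRingHom, f85_map] at h1
    simpa using h1
  rcases hp1 with rfl | rfl
  · exact hh 17 (cop_of_check c17)
  · exact hh 5 (cop_of_check c5)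

end

end Cfsg.Agent.H267.Ore.TEight
end

-- part: H267/Ore/EEightPw
section
/-!
# `E₈(2)`: products of two elements of order prime to `n`, `85` prime to `n` (helper267; S2465)

Block `A₇`, elements of order 85 of `SL₈(2)`.
-/

set_option autoImplicit false
set_option linter.unusedSectionVars false

namespace Cfsg.Agent.H267.Ore.EEight

open CoxeterSystem Cfsg.Agent.ChevalleyStructure.CoxeterGeom Cfsg.Agent.Tits.Roots Cfsg.Agent.Tits.Core
  Cfsg.Agent.Nodes.Reps Cfsg.Agent.Nodes.BNOf Cfsg.Agent.Nodes.RGDLib Cfsg.Agent.Nodes.Bruhat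
  Cfsg.Agent.Nodes.OppDec Cfsg.Agent.Nodes.LeviDec Cfsg.Agent.Nodes.KindChev Cfsg.Agent.Nodes.ChevCls
  Cfsg.Agent.OddHalf.NI.ModelChev Cfsg.Agent.Nodes.StabComb
  Cfsg.Agent.H162.GaussDec Cfsg.Agent.H162.GaussLevi Cfsg.Agent.H162.GaussSL Cfsg.Agent.H162.GaussMain
  Cfsg.Agent.H162.GaussExc
  Cfsg.Agent.H928.Ore.Frame Cfsg.Agent.H777.Ore Cfsg.Agent.H85.Ore Cfsg.Agent.H267.Ore.TEight
  Cfsg.Agent.H122.Ore.Blk
open Cfsg.Lie Cfsg.Agent.ChevalleyStructure Cfsg.Agent.ChevalleyStructure.Elts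
  Cfsg.Agent.ChevalleyStructure.RootVec Cfsg.Agent.ChevalleyStructure.NPerm
  Cfsg.Agent.ChevalleyStructure.CoxeterGeomTypes Cfsg.Agent.Nodes.RGDChev Cfsg.Agent.KFacts.RgdChevCoord

universe u

/-- the exponents of the roots outside the block -/
def ChkE : Prop := ∀ q < chevE8.nroots, (∃ k : Fin 8, k ∉ J8 ∧ vec chevE8 8 q k ≠ 0) →
  (∑ b : Fin 8, (2 : ℤ) ^ (b : ℕ) * wt chevE8 j8 q b) % 85 ≠ 0

instance : Decidable ChkE := by
  unfold ChkE
  refine @Nat.decidableBallLT _ _ fun q _ => ?_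
  infer_instance

theorem chkE : ChkE := by
  have h : ∀ q < 240, (∃ k : Fin 8, k ∉ J8 ∧ vec chevE8 8 q k ≠ 0) → (∑ b : Fin 8, (2 : ℤ) ^ (b : ℕ) *
      ∑ a : Fin 7, if b ≤ a.castSucc then ((RootVecTab.cart chevE8 (j8 a) q : ℕ) : ℤ) - 8 else 0) % 85 ≠ 0 := by
    decide +kernel
  intro q hq hk
  have e : ∀ b : Fin 8, wt chevE8 j8 q b =
      ∑ a : Fin 7, if b ≤ a.castSucc then ((RootVecTab.cart chevE8 (j8 a) q : ℕ) : ℤ) - 8 else 0 := fun b =>
    Finset.sum_congr rfl fun a _ => by rw [cartan_eq_cart RootVecTab.checked_E8 (j8 a).2 hq]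
  rw [Finset.sum_congr rfl fun b _ => by rw [e b]]
  exact h q hq hk

theorem ne_one_85 {K' : Type*} [Field K'] {z : K'} (hz : orderOf z = 85) (hz0 : z ≠ 0) {q : ℕ} (hq : q < chevE8.nroots)
    (hk : ∃ k : Fin 8, k ∉ J8 ∧ vec chevE8 8 q k ≠ 0) : ∏ b : Fin 8, (z ^ (2 ^ (b : ℕ))) ^ wt chevE8 j8 q b ≠ 1 := by
  have h1 : ∀ b : Fin 8, (z ^ (2 ^ (b : ℕ))) ^ wt chevE8 j8 q b = z ^ ((2 : ℤ) ^ (b : ℕ) * wt chevE8 j8 q b) := by
    intro b
    rw [← zpow_natCast, ← zpow_mul]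
    push_cast
    rfl
  rw [Finset.prod_congr rfl fun b _ => h1 b, prod_zpow' hz0]
  intro h
  have hz' : orderOf (Units.mk0 z hz0) = 85 := by rw [← orderOf_units, Units.val_mk0, hz]
  have h3 : (Units.mk0 z hz0) ^ (∑ b : Fin 8, (2 : ℤ) ^ (b : ℕ) * wt chevE8 j8 q b) = 1 := by
    apply Units.ext
    rw [Units.val_zpow_eq_zpow_val, Units.val_mk0, h, Units.val_one]
  have h4 := orderOf_dvd_iff_zpow_eq_one.2 h3
  rw [hz'] at h4
  exact chkE q hq hk (Int.emod_eq_zero_of_dvd (by exact_mod_cast h4))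

/-- **The pairs for `E₈(2)`.** -/
theorem pair_E8_two {K : Type u} [Field K] (hK : Nat.card K = 2) (g : ↥(chevE8.group K)) :
    ∃ a b : ↥(chevE8.group K), g = a * b ∧ a ^ 85 = 1 ∧ b ^ 85 = 1 := by
  have : Finite K := Nat.finite_of_card_ne_zero (by rw [hK]; norm_num)
  have hc2 : CharP K 2 := by
    have : Fintype K := Fintype.ofFinite K
    exact charP_of_card_eq_prime (by rw [Fintype.card_eq_nat_card, hK])
  have hp := Cfsg.Agent.Nodes.KindE.isType8
  obtain ⟨φ, hφ⟩ := exists_phi8 K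
  obtain ⟨L, _, _, i, z, hz, -, hd⟩ := eig85 hK
  obtain ⟨φ', hφ'⟩ := exists_phi8 L
  have : CharP L 2 := charP_of_injective_ringHom i.injective 2
  have : Fact (Nat.Prime 2) := ⟨Nat.prime_two⟩
  have hs : ∀ _ _ : Fin 8, (((-1 : ℤ) : K)) ≠ 0 := fun _ _ => by simp
  have B : H482.Ore.Fix.Bk Cfsg.Agent.Nodes.KindE.isType8 i {k | k ∈ J8} 6 r8 j8 φ φ' (fun _ _ => ((-1 : ℤ) : K)) :=
    { simp := ⟨r8_simple, r8_simple'⟩
      rlt := tab8.rlt
      rJ := tab8.rJ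
      hφ := hφ
      hφ' := fun a b hab c => by rw [hφ' a b hab c, map_intCast]
      ss := fun a => by norm_num }
  have hz0 : z ≠ 0 := by
    rintro rfl
    have h1 : orderOf (0 : L) = 0 := by
      rw [orderOf_eq_zero_iff']
      intro m hm
      rw [zero_pow hm.ne']
      exact zero_ne_one
    rw [h1] at hz
    norm_num at hz
  have hNF : ∀ X : Matrix.SpecialLinearGroup (Fin 8) K, (X : Matrix (Fin 8) (Fin 8) K).charpoly = f85 K →
      NF (VJ CoxeterMatrix.E₈.toCoxeterSystem hp.isCartan (XX chevE8 8 K) {k | k ∈ J8}) (φ X) ∧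
        NF (VNJ CoxeterMatrix.E₈.toCoxeterSystem hp.isCartan (XX chevE8 8 K) {k | k ∈ J8}) (φ X) := by
    intro X hX
    obtain ⟨g, hg⟩ := hd _ hX
    exact H482.Ore.Fix.nf_block' Cfsg.Agent.Nodes.KindE.isType8 2 B hg (fun q hq hk => ne_one_85 hz hz0 hq hk)
  have hr := phi_mem Cfsg.Agent.Nodes.KindE.isType8 tab8 hφ
  have hU := UJ_le Cfsg.Agent.Nodes.KindE.isType8 tab8 (s := fun _ _ => ((-1 : ℤ) : K)) hs hφ
  have hUN := UNJ_le Cfsg.Agent.Nodes.KindE.isType8 tab8 (s := fun _ _ => ((-1 : ℤ) : K)) hs hφ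
  have hpow : ∀ X : Matrix.SpecialLinearGroup (Fin 8) K, (X : Matrix (Fin 8) (Fin 8) K).charpoly = f85 K →
      (φ X) ^ 85 = 1 := fun X hX => by rw [← map_pow, pow85 hK hX, map_one]
  have hne : ∃ A : Matrix.SpecialLinearGroup (Fin 8) K, A ≠ 1 := H934.MF.exists_ne 6
  have hfac : ∀ v ∈ UNJ CoxeterMatrix.E₈.toCoxeterSystem hp.isCartan (XX chevE8 8 K) {k | k ∈ J8},
      ∀ u ∈ UJ CoxeterMatrix.E₈.toCoxeterSystem hp.isCartan (XX chevE8 8 K) {k | k ∈ J8},
      ∃ c₁ c₂, v * u = c₁ * c₂ ∧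
        LP CoxeterMatrix.E₈.toCoxeterSystem hp.isCartan (TT chevE8 K) (XX chevE8 8 K) {k | k ∈ J8} c₁ c₂ ∧
        (c₁ ^ 85 = 1 ∧ c₂ ^ 85 = 1) := by
    intro v hv u hu
    obtain ⟨L', -, rfl⟩ := hUN hv
    obtain ⟨U, -, rfl⟩ := hU hu
    by_cases h1 : L' * U = 1
    · obtain ⟨A₀, hA₀⟩ := hne
      obtain ⟨X, -, -, hX, -⟩ := sl_prod85 hK A₀ hA₀
      obtain ⟨n1, n2⟩ := hNF X hX
      exact ⟨φ X, (φ X)⁻¹, by rw [← map_mul, h1, map_one, mul_inv_cancel], ⟨hr _, inv_mem (hr _), n2, nf_inv n1⟩,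
        hpow X hX, by rw [inv_pow, hpow X hX, inv_one]⟩
    · obtain ⟨X, Y, e, hX, hY⟩ := sl_prod85 hK _ h1
      exact ⟨φ X, φ Y, by rw [← map_mul, e, map_mul], ⟨hr _, hr _, (hNF X hX).2, (hNF Y hY).1⟩, hpow X hX, hpow Y hY⟩
  by_cases hg : g = 1
  · exact ⟨1, 1, by rw [hg, mul_one], one_pow _, one_pow _⟩
  · have hG := Cfsg.Agent.S1054.result (F := K) chevE8 (by simp)
    have := hG.1
    have hW := finite_W hp CoxeterMatrix.E₈.toCoxeterSystem
    have R := rgd (K := K) hp CoxeterMatrix.E₈.toCoxeterSystem 2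
    have hcore : g ∉ (RGD.B CoxeterMatrix.E₈.toCoxeterSystem hp.isCartan (TT chevE8 K) (XX chevE8 8 K)).normalCore := by
      intro h1
      have h2 := core_le_ker R (MonoidHom.id ↥(chevE8.group K)) Function.surjective_id (fun x hx => by
        rw [MonoidHom.mem_ker] at hx
        change x = 1 at hx
        rw [hx]
        exact one_mem _) h1
      exact hg h2
    obtain ⟨c₁, c₂, x, y, ⟨h1, h2⟩, e⟩ := pair R (G1_eq_top hp _) (coord hp)
      (Cfsg.Agent.Nodes.ChevChart.irr_of Cfsg.Agent.Nodes.ChevChart.irr8)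
      (Pr := fun c₁ c₂ => c₁ ^ 85 = 1 ∧ c₂ ^ 85 = 1) hfac hcore
    refine ⟨x * c₁ * x⁻¹, y * c₂ * y⁻¹, e, ?_, ?_⟩
    · rw [conj_pow, h1, mul_one, mul_inv_cancel]
    · rw [conj_pow, h2, mul_one, mul_inv_cancel]

open Cfsg.Agent.H78.Pw

/-- **`All n` for `E₈(2)`**, `n` prime to `85`. -/
theorem all_E8_two {K : Type u} [Field K] (hK : Nat.card K = 2) {n : ℕ} (hn : Nat.Coprime 85 n) :
    All n ↥(chevE8.group K) := by
  intro g
  obtain ⟨a, b, e, ha, hb⟩ := pair_E8_two hK g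
  exact ⟨a, b, e, Nat.Coprime.of_dvd_left (orderOf_dvd_of_pow_eq_one ha) hn,
    Nat.Coprime.of_dvd_left (orderOf_dvd_of_pow_eq_one hb) hn⟩

/-- **(I) for `E₈(2)`.** -/
theorem six_E8_two {K : Type u} [Field K] (hK : Nat.card K = 2) : All 6 ↥(chevE8.group K) :=
  all_E8_two hK (by norm_num)

end Cfsg.Agent.H267.Ore.EEight
end

private theorem dce_bd31566bb4cf : _root_.True := by
  try have : _root_.True := by simp only [_root_.Cfsg.Agent.H267.Ore.TEight.l85.eq_1]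
  try have : _root_.True := by simp only [_root_.Cfsg.Agent.H538.Pw.GFour.leaf.eq_1]
  try have : _root_.True := by simp only [_root_.Cfsg.Agent.H267.Ore.TEight.f85.eq_1]
  try have : _root_.True := by simp only [_root_.Cfsg.Agent.H538.Pw.GFour.is13.eq_1]
  exact _root_.True.intro
end

-- part: H227/Pw/GNine_mg
section
prune_inst 0x4054030004a4000000000058611003e14cc0000b00028080048000a40020829224d806120048031021a02220100010000000000100040000004000000000000000000000411410008000080000080000000000000000000000000000000000000000000000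
set_option linter.all false
open scoped Cfsg.Agent.FastGrp

-- part: H227/Pw/GNineNum
section
/-!
# S2465, `G₂(9)`: the numerical part (helper227)

The signed degrees of the five nontrivial non-exceptional characters of the principal 73-block are
`-13650, 19200, 19200, 26208, 531441`.
-/

set_option autoImplicit false

namespace Cfsg.Agent.H227.Pw

/-- `k = 0, ..., n` copies of `(a, wa)` -/
def lp (g : ℕ → ℕ → ℕ → Bool) (a wa : ℕ) : ℕ → ℕ → ℕ → Bool
  | 0, s, t => g 0 s t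
  | n + 1, s, t => g (n + 1) s t && lp g a wa n (Nat.add s a) (Nat.add t wa)

/-- all multisets of size `n` with entries in the list -/
def ck (f : ℕ → ℕ → Bool) : List (ℕ × ℕ) → ℕ → ℕ → ℕ → Bool
  | [], 0, s, t => f s t
  | [], _ + 1, _, _ => true
  | p :: L, n, s, t => lp (ck f L) p.1 p.2 n s t

theorem lp_spec {g : ℕ → ℕ → ℕ → Bool} {a wa : ℕ} : ∀ {n : ℕ} {s : ℕ} {t : ℕ}, lp g a wa n s t = true →
    ∀ k ≤ n, g (n - k) (s + k * a) (t + k * wa) = true
  | 0, s, t, h, k, hk => by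
    obtain rfl : k = 0 := by omega
    simpa [lp] using h
  | n + 1, s, t, h, k, hk => by
    rw [lp, Bool.and_eq_true] at h
    rcases Nat.eq_zero_or_pos k with rfl | hk0
    · simpa using h.1
    · obtain ⟨j, rfl⟩ : ∃ j, k = j + 1 := ⟨k - 1, by omega⟩
      have h1 := lp_spec h.2 j (by omega)
      have e1 : Nat.add s a + j * a = s + (j + 1) * a := by
        change s + a + j * a = _
        ring
      have e2 : Nat.add t wa + j * wa = t + (j + 1) * wa := by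
        change t + wa + j * wa = _
        ring
      rw [e1, e2] at h1
      rwa [show n + 1 - (j + 1) = n - j by omega]

theorem ck_spec {f : ℕ → ℕ → Bool} : ∀ {L : List (ℕ × ℕ)} {n : ℕ} {s : ℕ} {t : ℕ}, ck f L n s t = true →
    ∀ M : Multiset (ℕ × ℕ), M.card = n → (∀ x ∈ M, x ∈ L) → f (s + (M.map Prod.fst).sum) (t + (M.map Prod.snd).sum) = true
  | [], 0, s, t, h, M, hM, _ => by
    obtain rfl := Multiset.card_eq_zero.1 hM
    simpa [ck] using h
  | [], n + 1, s, t, h, M, hM, hx => by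
    exfalso
    obtain ⟨x, hx'⟩ := Multiset.card_pos_iff_exists_mem.1 (by rw [hM]; omega : 0 < M.card)
    exact absurd (hx x hx') (by simp)
  | a :: L, n, s, t, h, M, hM, hx => by
    rw [ck] at h
    have e : Multiset.replicate (M.count a) a + M.filter (fun x => ¬ x = a) = M := by
      rw [← Multiset.filter_eq' M a]
      exact Multiset.filter_add_not _ M
    have hk : M.count a ≤ n := by rw [← hM]; exact Multiset.count_le_card a M
    have h1 := lp_spec h (M.count a) hk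
    have hc : (M.filter (fun x => ¬ x = a)).card = n - M.count a := by
      have h2 := congrArg Multiset.card e
      rw [Multiset.card_add, Multiset.card_replicate, hM] at h2
      omega
    have h3 := ck_spec h1 _ hc (fun x hx' => by
      obtain ⟨h4, h5⟩ := Multiset.mem_filter.1 hx'
      exact (List.mem_cons.1 (hx x h4)).resolve_left h5)
    have e1 : s + M.count a * a.1 + ((M.filter (fun x => ¬ x = a)).map Prod.fst).sum = s + (M.map Prod.fst).sum := by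
      conv_rhs => rw [← e]
      rw [Multiset.map_add, Multiset.sum_add, Multiset.map_replicate, Multiset.sum_replicate, smul_eq_mul, add_assoc]
    have e2 : t + M.count a * a.2 + ((M.filter (fun x => ¬ x = a)).map Prod.snd).sum = t + (M.map Prod.snd).sum := by
      conv_rhs => rw [← e]
      rw [Multiset.map_add, Multiset.sum_add, Multiset.map_replicate, Multiset.sum_replicate, smul_eq_mul, add_assoc]
    rwa [e1, e2] at h3

/-- the possible signed degrees of the non-exceptional characters -/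
def LN : List ℤ := [-13650, 17010, 19200, 26208, -42120, 52488, -120960, 194400, 265356, -426465,
  531441, 982800, -1224720, -1886976, 1968300, 3032640, -3779136]

/-- the possible signed degrees of the exceptional characters -/
def LX : List ℤ := [-2558790, -725760, -252720, -164025, -81900, -24960, -22113, -16200, 10080, 31104,
  102060, 157248, 314928, 582400, 1166400, 1592136]

/-- `10²⁰ / a²`, rounded up -/
def wt (a : ℤ) : ℕ := 10 ^ 20 / (a.natAbs * a.natAbs) + 1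

/-- the entries of `LN` plus `4000000`, with their weights -/
def LP : List (ℕ × ℕ) := [(3986350, 536703833408), (4017010, 345614036907), (4019200, 271267361112), (4026208, 145590232587),
  (3957880, 56366786345), (4052488, 36297770509), (3879040, 6834652586), (4194400, 2646107471),
  (4265356, 1420176023), (3573535, 549836051), (4531441, 354070617), (4982800, 103530833),
  (2775280, 66669375), (2113024, 28084536), (5968300, 25811748), (7032640, 10873223),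
  (220864, 7001885)]

/-- the entries of `LX` plus `20000000` -/
def LY : List ℕ := [17441210, 19274240, 19747280, 19835975, 19918100, 19975040, 19977887, 19983800,
  20010080, 20031104, 20102060, 20157248, 20314928, 20582400, 21166400, 21592136]

/-- the residues of `LY` modulo `1021` -/
def BY : ℕ := 2764492206540569688046936626574804671248424414200276707260811361212905053715867941575293262587780267869527286568052691443836530772590415205818811785744704771775948384634658230976569443603480530658642191740168851172728166472488958904709172447324800512466157425712019350414340506841167915231678211358195712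

def hit (s : ℕ) : Bool := Nat.beq (Nat.land (Nat.shiftRight BY (Nat.mod s 1021)) 1) 0

/-- the test -/
def tst (s : ℕ) (t : ℕ) : Bool :=
  bif hit s then true else (LY.all fun b => !(Nat.beq s b)) || (Nat.beq s 20582400 && Nat.ble t 1225200000000)

private noncomputable def go (f : ℕ → ℕ → Bool) (n : ℕ) : List (ℕ × ℕ) → ℕ → ℕ → Bool :=
  Nat.rec (fun _ s t => f s t)
    (fun _ ih L s t => List.rec true (fun p L r => r && ih (p :: L) (Nat.add s p.1) (Nat.add t p.2)) L) n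

private theorem go_eq (f : ℕ → ℕ → Bool) : ∀ (n : ℕ) (L : List (ℕ × ℕ)) (s t : ℕ), ck f L n s t = go f n L s t := by
  intro n
  induction n with
  | zero =>
    intro L s t
    induction L with
    | nil => rfl
    | cons p L ih => exact ih
  | succ n ihn =>
    intro L s t
    induction L with
    | nil => rfl
    | cons p L ih =>
      exact congrArg₂ (· && ·) ih (ihn (p :: L) (Nat.add s p.1) (Nat.add t p.2))

theorem check : ck tst LP 5 1 0 = true := (go_eq _ _ _ _ _).trans (by decide +kernel)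

theorem mem_LP : ∀ a ∈ LN, ((a + 4000000).toNat, wt a) ∈ LP := by decide +kernel

theorem nonneg_LN : ∀ a ∈ LN, 0 ≤ a + 4000000 := by decide +kernel

theorem mem_LY : ∀ b ∈ LX, (b + 20000000).toNat ∈ LY ∧ 0 ≤ b + 20000000 := by decide +kernel

theorem hit_LY : ∀ b ∈ LY, hit b = false := by decide +kernel

theorem check_spec (M : Multiset ℤ) (hM : M.card = 5) (h : ∀ x ∈ M, x ∈ LN) (hx : 1 + M.sum ∈ LX) :
    1 + M.sum = 582400 ∧ (M.map wt).sum ≤ 1225200000000 := by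
  have h1 := ck_spec check (M.map fun a => ((a + 4000000).toNat, wt a)) (by rw [Multiset.card_map, hM]) (by
    intro p hp
    obtain ⟨a, ha, rfl⟩ := Multiset.mem_map.1 hp
    exact mem_LP a (h a ha))
  rw [Multiset.map_map, Multiset.map_map, zero_add] at h1
  have h2 : (((M.map (Prod.fst ∘ fun a => ((a + 4000000).toNat, wt a))).sum : ℕ) : ℤ) = M.sum + 20000000 := by
    have h3 : ∀ M : Multiset ℤ, (∀ x ∈ M, x ∈ LN) →
        (((M.map (Prod.fst ∘ fun a => ((a + 4000000).toNat, wt a))).sum : ℕ) : ℤ) = M.sum + 4000000 * M.card := by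
      intro M
      induction M using Multiset.induction_on with
      | empty => intro _; simp
      | cons a M ih =>
        intro h
        rw [Multiset.map_cons, Multiset.sum_cons, Multiset.sum_cons, Multiset.card_cons, Nat.cast_add,
          ih fun x hx => h x (Multiset.mem_cons_of_mem hx)]
        have h4 := nonneg_LN a (h a (Multiset.mem_cons_self a M))
        simp only [Function.comp]
        rw [Int.toNat_of_nonneg h4]
        push_cast
        ring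
    rw [h3 M h, hM]
    norm_num
  obtain ⟨h5, h6⟩ := mem_LY _ hx
  have h7 : 1 + (M.map (Prod.fst ∘ fun a => ((a + 4000000).toNat, wt a))).sum = (1 + M.sum + 20000000).toNat := by
    have h8 := Int.toNat_of_nonneg h6
    have h9 : (((1 + (M.map (Prod.fst ∘ fun a => ((a + 4000000).toNat, wt a))).sum : ℕ)) : ℤ) =
        (((1 + M.sum + 20000000).toNat : ℕ) : ℤ) := by
      rw [h8, Nat.cast_add, h2]
      push_cast
      ring
    exact_mod_cast h9
  rw [h7, tst, hit_LY _ h5, cond_false, Bool.or_eq_true, Bool.and_eq_true] at h1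
  obtain ⟨h8, h9⟩ := h1.resolve_left (by
    intro h
    have h1 := List.all_eq_true.1 h _ h5
    simp at h1)
  have h10 := Nat.eq_of_beq_eq_true h8
  refine ⟨?_, Nat.le_of_ble_eq_true h9⟩
  have h11 := Int.toNat_of_nonneg h6
  rw [h10] at h11
  push_cast at h11
  linarith only [h11]

/-- the number of elements -/
def N9 : ℕ := 22594320403200

def fN (a : ℕ) : Bool :=
  bif Nat.ble a 6642 then true else
    ((!(Nat.beq (a % 73) 1)) || decide ((a : ℤ) ∈ LN)) && ((!(Nat.beq (a % 73) 72)) || decide (-(a : ℤ) ∈ LN)) &&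
    ((!(Nat.beq (a % 73) 6)) || decide ((a : ℤ) ∈ LX)) && ((!(Nat.beq (a % 73) 67)) || decide (-(a : ℤ) ∈ LX))

open Cfsg.Agent.H653.Sieve in
theorem check2 : allDiv N9 fN [(3, 12), (2, 8), (5, 2), (7, 1), (13, 1), (73, 1)] 1 = true := by decide +kernel

end Cfsg.Agent.H227.Pw
end

-- part: H227/Pw/GNineT
section
/-!
# S2465, `G₂(9)`: every element with a centralizer of order at most `42515280` is a product of two elements of
order 73 (helper227)
-/

set_option autoImplicit false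

namespace Cfsg.Agent.H227.Pw

open Cfsg Cfsg.Agent.Characters Subgroup Cfsg.Agent.H65.Ore

universe u

variable {G : Type u} [Group G] [Finite G]

theorem chk73 : chkSC N9 73 6 12 885 = true := by decide +kernel

theorem facN : H653.Sieve.facProd [(3, 12), (2, 8), (5, 2), (7, 1), (13, 1), (73, 1)] = N9 := by decide +kernel

theorem deg_facts [Fintype (IrrCharacter G)] (hN : Nat.card G = N9) {χ : IrrCharacter G} (hχ : (χ : G → ℂ) ≠ 1) :
    fN (charDegree (χ : G → ℂ)) = true := by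
  classical
  have h1 : charDegree (χ : G → ℂ) ∣ Nat.card G := Blocks.Knorr.charDegree_dvd χ.2
  rw [hN, ← facN] at h1
  have h2 := H686.CharKit.sum_deg_sq (G := G)
  have h3 : ∑ θ ∈ ({one1 G, χ} : Finset (IrrCharacter G)), charDegree (θ : G → ℂ) ^ 2 ≤
      ∑ θ : IrrCharacter G, charDegree (θ : G → ℂ) ^ 2 :=
    Finset.sum_le_sum_of_subset (Finset.subset_univ _)
  have hne : one1 G ≠ χ := by
    rintro rfl
    exact hχ rfl
  rw [Finset.sum_pair hne, h2, hN] at h3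
  have h4 : charDegree (one1 G : G → ℂ) = 1 := by
    have h5 := cast_deg (one1 G)
    rw [one1_apply] at h5
    exact_mod_cast h5.symm
  rw [h4] at h3
  have h5 := H653.Sieve.allDiv_spec (by
    intro pa hpa
    simp only [List.mem_cons, List.not_mem_nil, or_false] at hpa
    rcases hpa with rfl | rfl | rfl | rfl | rfl | rfl <;> norm_num) check2 _ h1 (by
      rw [one_mul]
      linarith only [h3])
  rwa [one_mul] at h5

/-- the consequences of the check -/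
theorem fN_ne {a : ℕ} (h : fN a = true) (h0 : 6643 ≤ a) {ε : ℤ} (hε : ε = 1 ∨ ε = -1) {m : ℤ}
    (hm : (a : ℤ) = ε + 73 * m) : ε * a ∈ LN := by
  have hb : Nat.ble a 6642 = false := by
    rw [Bool.eq_false_iff]
    intro h1
    have := Nat.le_of_ble_eq_true h1
    omega
  rw [fN, hb] at h
  simp only [cond_false, Bool.and_eq_true, Bool.or_eq_true, Bool.not_eq_true', decide_eq_true_eq] at h
  obtain ⟨⟨⟨h1, h2⟩, -⟩, -⟩ := h
  rcases hε with rfl | rfl
  · rw [one_mul]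
    refine h1.resolve_left fun h3 => ?_
    have h4 : a % 73 = 1 := by omega
    rw [h4] at h3
    exact absurd h3 (by decide)
  · rw [neg_one_mul]
    refine h2.resolve_left fun h3 => ?_
    have h4 : a % 73 = 72 := by omega
    rw [h4] at h3
    exact absurd h3 (by decide)

theorem fN_x {a : ℕ} (h : fN a = true) (h0 : 6643 ≤ a) {ε : ℤ} (hε : ε = 1 ∨ ε = -1) {m : ℤ}
    (hm : (a : ℤ) = ε * 6 + 73 * m) : ε * a ∈ LX := by
  have hb : Nat.ble a 6642 = false := by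
    rw [Bool.eq_false_iff]
    intro h1
    have := Nat.le_of_ble_eq_true h1
    omega
  rw [fN, hb] at h
  simp only [cond_false, Bool.and_eq_true, Bool.or_eq_true, Bool.not_eq_true', decide_eq_true_eq] at h
  obtain ⟨⟨-, h1⟩, h2⟩ := h
  rcases hε with rfl | rfl
  · rw [one_mul]
    refine h1.resolve_left fun h3 => ?_
    have h4 : a % 73 = 6 := by omega
    rw [h4] at h3
    exact absurd h3 (by decide)
  · rw [neg_one_mul]
    refine h2.resolve_left fun h3 => ?_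
    have h4 : a % 73 = 67 := by omega
    rw [h4] at h3
    exact absurd h3 (by decide)

/-- the weight bounds the inverse square -/
theorem inv_sq_le {a : ℤ} (ha : a ≠ 0) : 1 / (a : ℝ) ^ 2 ≤ (wt a : ℝ) / 10 ^ 20 := by
  have h1 : 0 < a.natAbs * a.natAbs := by
    have := Int.natAbs_pos.2 ha
    positivity
  have h2 : 10 ^ 20 < a.natAbs * a.natAbs * wt a := by
    unfold wt
    exact Nat.lt_mul_div_succ _ h1
  have h3 : ((10 ^ 20 : ℕ) : ℝ) < ((a.natAbs * a.natAbs * wt a : ℕ) : ℝ) := by exact_mod_cast h2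
  have h4 : ((a.natAbs * a.natAbs : ℕ) : ℝ) = (a : ℝ) ^ 2 := by
    have h5 : ((a.natAbs * a.natAbs : ℕ) : ℤ) = a ^ 2 := by
      rw [Nat.cast_mul, ← pow_two, Int.natAbs_sq]
    rw [← Int.cast_natCast (R := ℝ), h5, Int.cast_pow]
  rw [Nat.cast_mul, h4] at h3
  have h5 : (0 : ℝ) < (a : ℝ) ^ 2 := by
    rw [← h4]
    exact_mod_cast h1
  rw [div_le_div_iff₀ h5 (by positivity), one_mul]
  push_cast at h3
  linarith only [h3]

/-- **T1 for `G₂(9)`.** -/
theorem prd73 [IsSimpleGroup G] (hG : ¬ IsMulCommutative G) (hN : Nat.card G = N9) {x : G} (hx : orderOf x = 73)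
    (hc : Nat.card (centralizer ({x} : Set G)) = 73)
    (hm : ∀ χ : IrrCharacter G, (χ : G → ℂ) ≠ 1 → 6643 ≤ charDegree (χ : G → ℂ)) :
    ∃ z : G, orderOf z = 73 ∧ ∀ g : G, Nat.card (centralizer ({g} : Set G)) ≤ 42515280 → Prd z z g := by
  classical
  have hp : Nat.Prime 73 := by norm_num
  have : Fact (Nat.Prime 73) := ⟨hp⟩
  have : Finite (IrrCharacter G) := Core.finite_irr
  have := Fintype.ofFinite (IrrCharacter G)
  obtain ⟨hp2, ht, hS, he0, P, hP, hC, hrel, hconj⟩ := setup hG hp hN hx hc 6 12 885 chk73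
  obtain ⟨z, hz, hz1, hxz⟩ := hconj x hx
  have hzo : orderOf z = 73 := by
    obtain ⟨g, rfl⟩ := isConj_iff.1 hxz
    rw [← hx]
    have := (MulAut.conj g).orderOf_eq x
    rwa [MulAut.conj_apply] at this
  refine ⟨z, hzo, ?_⟩
  obtain ⟨NE, X, ε, d, S, hdis, hNE, hX, hε, hd, ⟨χ₁, hχ₁, hχ₁', hε₁⟩, hv, hvX, hXd, hsum, hzero⟩ :=
    SmallSimple.TheoremBCor.theoremB_selfCent 73 hp2 P hP hC 6 12 hrel ht
  obtain rfl : χ₁ = one1 G := Subtype.ext hχ₁'
  have hone : ¬ 73 ∣ orderOf (1 : G) := by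
    rw [orderOf_one]; exact fun h => absurd (Nat.dvd_one.1 h) (by norm_num)
  -- the signed degrees
  have hmem : ∀ χ ∈ NE.erase (one1 G), ε χ * (charDegree (χ : G → ℂ) : ℤ) ∈ LN := by
    intro χ hχ
    have hχ1 := Finset.mem_of_mem_erase hχ
    have hne := coe_ne_one (Finset.ne_of_mem_erase hχ)
    obtain ⟨m, hm'⟩ := SmallSimple.TheoremBCor.degree_nonexc (P := (P : Subgroup G)) hP
      (Core.isIrr_isCharacter χ.2) (ε := ε χ) (fun y hy hy1 => hv χ hχ1 y hy hy1)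
    rw [cast_deg] at hm'
    have h3 : ((charDegree (χ : G → ℂ) : ℕ) : ℤ) = ε χ + (73 : ℕ) * ((m : ℤ) - ε χ) := by exact_mod_cast hm'
    exact fN_ne (deg_facts hN hne) (hm χ hne) (hε χ hχ1) (m := (m : ℤ) - ε χ) (by exact_mod_cast h3)
  -- the degree of the exceptional characters
  have hXdeg : ∀ Θ ∈ X, d * (charDegree (Θ : G → ℂ) : ℤ) =
      1 + ∑ χ ∈ NE.erase (one1 G), ε χ * (charDegree (χ : G → ℂ) : ℤ) := by
    intro Θ hΘ
    have h1 := hsum Θ hΘ 1 hone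
    rw [← Finset.add_sum_erase _ _ hχ₁, hε₁, one1_apply, cast_deg] at h1
    simp only [cast_deg] at h1
    have h2 : (((1 + ∑ χ ∈ NE.erase (one1 G), ε χ * (charDegree (χ : G → ℂ) : ℤ) : ℤ)) : ℂ) =
        ((d * (charDegree (Θ : G → ℂ) : ℤ) : ℤ) : ℂ) := by
      push_cast
      rw [← h1]
      simp
    exact_mod_cast h2.symm
  obtain ⟨Θ₀, hΘ₀⟩ : X.Nonempty := by
    rw [← Finset.card_pos, hX]
    norm_num
  have hXne : ∀ Θ ∈ X, (Θ : G → ℂ) ≠ 1 := by
    intro Θ hΘ h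
    have : Θ = one1 G := Subtype.ext h
    rw [this] at hΘ
    exact (Finset.disjoint_left.1 hdis hχ₁) hΘ
  have hmemX : d * (charDegree (Θ₀ : G → ℂ) : ℤ) ∈ LX := by
    obtain ⟨hSc, hS1, hSv⟩ := hvX Θ₀ hΘ₀
    obtain ⟨m, hm'⟩ := SmallSimple.TheoremBCor.degree_exc (P := (P : Subgroup G)) hP
      (Core.isIrr_isCharacter Θ₀.2) (d := d) (S := S Θ₀) hS1 hSv
    rw [cast_deg, hSc] at hm'
    have h3 : ((charDegree (Θ₀ : G → ℂ) : ℕ) : ℤ) = d * (6 : ℕ) + (73 : ℕ) * m := by exact_mod_cast hm'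
    exact fN_x (deg_facts hN (hXne Θ₀ hΘ₀)) (hm Θ₀ (hXne Θ₀ hΘ₀)) hd (m := m) (by exact_mod_cast h3)
  -- the check
  set f : IrrCharacter G → ℤ := fun χ => ε χ * (charDegree (χ : G → ℂ) : ℤ) with hf
  have hsum1 : ((NE.erase (one1 G)).val.map f).sum = ∑ χ ∈ NE.erase (one1 G), f χ := rfl
  obtain ⟨hdeg, hwt'⟩ := check_spec ((NE.erase (one1 G)).val.map f) (by
    rw [Multiset.card_map]
    change (NE.erase (one1 G)).card = 5
    rw [Finset.card_erase_of_mem hχ₁, hNE]) (by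
    intro s hs
    obtain ⟨χ, hχ, rfl⟩ := Multiset.mem_map.1 hs
    exact hmem χ hχ) (by
    rw [hsum1, ← hXdeg Θ₀ hΘ₀]
    exact hmemX)
  rw [hsum1, ← hXdeg Θ₀ hΘ₀] at hdeg
  rw [Multiset.map_map] at hwt'
  have hsum2 : ((NE.erase (one1 G)).val.map (wt ∘ f)).sum = ∑ χ ∈ NE.erase (one1 G), wt (f χ) := rfl
  rw [hsum2] at hwt'
  have hdX : ∀ Θ ∈ X, charDegree (Θ : G → ℂ) = 582400 := by
    intro Θ hΘ
    have h1 := (hXdeg Θ hΘ).trans (hXdeg Θ₀ hΘ₀).symm
    rw [hdeg] at h1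
    rcases hd with rfl | rfl
    · rw [one_mul] at h1
      exact_mod_cast h1
    · exfalso
      rw [neg_one_mul] at h1
      omega
  -- the fourth moment
  have h4 := sum_four_pow hp2 P hP hC hrel ht hz hz1
  have henr : enr 73 6 = 90 := by decide +kernel
  rw [henr] at h4
  have hz0 : ∀ χ : IrrCharacter G, χ ∉ NE → χ ∉ X → (χ : G → ℂ) z = 0 := fun χ h1 h2 => (hzero χ h1 h2).1 z hz hz1
  have hv1 : ∀ χ ∈ NE, ‖(χ : G → ℂ) z‖ = 1 := by
    intro χ hχ
    rw [hv χ hχ z hz hz1]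
    rcases hε χ hχ with h | h <;> rw [h] <;> simp
  have hsplit : ∀ F : IrrCharacter G → ℝ, (∀ χ, χ ∉ NE → χ ∉ X → F χ = 0) →
      ∑ χ, F χ = F (one1 G) + ∑ χ ∈ NE.erase (one1 G), F χ + ∑ χ ∈ X, F χ := by
    intro F hF
    rw [Finset.add_sum_erase _ _ hχ₁, ← Finset.sum_union hdis]
    symm
    refine Finset.sum_subset (Finset.subset_univ _) fun χ _ hχ => ?_
    rw [Finset.mem_union, not_or] at hχ
    exact hF χ hχ.1 hχ.2
  have hcard5 : (NE.erase (one1 G)).card = 5 := by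
    rw [Finset.card_erase_of_mem hχ₁, hNE]
  have h4X : ∑ χ ∈ X, ‖(χ : G → ℂ) z‖ ^ 4 = 879 := by
    rw [hsplit (fun χ => ‖(χ : G → ℂ) z‖ ^ 4) (fun χ h1 h2 => by
      rw [hz0 χ h1 h2]
      simp), Finset.sum_congr rfl (fun χ hχ => by
        rw [hv1 χ (Finset.mem_of_mem_erase hχ), one_pow] :
        ∀ χ ∈ NE.erase (one1 G), ‖(χ : G → ℂ) z‖ ^ 4 = 1), Finset.sum_const, hcard5, one1_apply] at h4
    simp only [norm_one, one_pow, nsmul_eq_mul] at h4
    push_cast at h4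
    linarith only [h4]
  intro g hg
  apply prd_of_weighted
  rw [hsplit (fun χ => (‖(χ : G → ℂ) z‖ * ‖(χ : G → ℂ) z‖ / ‖(χ : G → ℂ) 1‖) ^ 2) (fun χ h1 h2 => by
    rw [hz0 χ h1 h2]
    simp)]
  simp only [one1_apply, norm_one, mul_one, div_one, one_pow]
  have hA : ∑ χ ∈ NE.erase (one1 G), (‖(χ : G → ℂ) z‖ * ‖(χ : G → ℂ) z‖ / ‖(χ : G → ℂ) 1‖) ^ 2 ≤
      (1225200000000 : ℝ) / 10 ^ 20 := by
    have h5 : ∑ χ ∈ NE.erase (one1 G), (‖(χ : G → ℂ) z‖ * ‖(χ : G → ℂ) z‖ / ‖(χ : G → ℂ) 1‖) ^ 2 ≤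
        ∑ χ ∈ NE.erase (one1 G), (wt (f χ) : ℝ) / 10 ^ 20 := by
      refine Finset.sum_le_sum fun χ hχ => ?_
      have hχ1 := Finset.mem_of_mem_erase hχ
      have h6 : f χ ≠ 0 := by
        intro h7
        have h8 := hmem χ hχ
        change f χ ∈ LN at h8
        rw [h7] at h8
        exact absurd h8 (by decide)
      refine le_trans (le_of_eq ?_) (inv_sq_le h6)
      rw [hv1 χ hχ1, cast_deg, Complex.norm_natCast]
      have h7 : (f χ : ℝ) ^ 2 = (charDegree (χ : G → ℂ) : ℝ) ^ 2 := by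
        rw [hf]
        push_cast
        rw [mul_pow]
        rcases hε χ hχ1 with h | h <;> rw [h] <;> simp only [_root_.Int.cast_one, _root_.one_pow, _root_.one_mul, _root_.Int.reduceNeg, _root_.Int.cast_neg, _root_.even_two, _root_.Even.neg_pow]
      rw [h7, one_mul, div_pow, one_pow]
    refine h5.trans ?_
    rw [← Finset.sum_div]
    refine div_le_div_of_nonneg_right ?_ (by positivity)
    exact_mod_cast hwt'
  have hB : ∑ χ ∈ X, (‖(χ : G → ℂ) z‖ * ‖(χ : G → ℂ) z‖ / ‖(χ : G → ℂ) 1‖) ^ 2 = 879 / 582400 ^ 2 := by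
    rw [← h4X, Finset.sum_div]
    refine Finset.sum_congr rfl fun χ hχ => ?_
    rw [cast_deg, Complex.norm_natCast, hdX χ hχ]
    push_cast
    ring
  rw [hB]
  have hc1 : (1 : ℝ) ≤ (Nat.card (centralizer ({g} : Set G)) : ℝ) := by exact_mod_cast Nat.card_pos
  have hc2 : (Nat.card (centralizer ({g} : Set G)) : ℝ) ≤ 42515280 := by exact_mod_cast hg
  have hA0 : (0 : ℝ) ≤ ∑ χ ∈ NE.erase (one1 G), (‖(χ : G → ℂ) z‖ * ‖(χ : G → ℂ) z‖ / ‖(χ : G → ℂ) 1‖) ^ 2 :=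
    Finset.sum_nonneg fun _ _ => by (clear * -; positivity)
  calc _ ≤ ((1225200000000 : ℝ) / 10 ^ 20 + 879 / 582400 ^ 2) * (42515280 - 1) := by
        apply mul_le_mul
        · linarith only [hA]
        · linarith only [hc2]
        · linarith only [hc1]
        · positivity
    _ < 1 := by norm_num

end Cfsg.Agent.H227.Pw
end

-- part: H227/Pw/GNineTor
section
/-!
# `G₂(q)`, `q` odd: the torus acts on the unipotent elements with orbits of length at least `q - 1` (helper227)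
-/

set_option autoImplicit false

namespace Cfsg.Agent.H227.Pw

open Cfsg.Agent.SplitTwo Cfsg.Agent.TitsThree.RankTwoZ Cfsg.Agent.Lib.SL2Mat Cfsg.Agent.Cit.HexBase
  Cfsg.Agent.Cit.HexBase.HexGrp

universe u

variable {E : Type*} [Field E] {L : Type u} [Group L] (c : HexGrp (RingEquiv.refl E) L)

/-- the characters of the torus -/
def ml (k : Fin 6) (c1 c6 : E) : E :=
  match k with
  | 0 => c1
  | 1 => c6 * c1 ^ 3
  | 2 => c6 * c1 ^ 2
  | 3 => c6 ^ 2 * c1 ^ 3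
  | 4 => c6 * c1
  | 5 => c6

theorem conj_eq_of_comm {r x v : L} {k : ZMod (2 * 6)} {s : Finset (ZMod (2 * 6))} (h : _root_.Cfsg.Agent.Cit.HexBase.HexGrp.Sep s {k})
    (hr : Maps c.X r id) (hx : x ∈ c.X k) (hv : v ∈ Sg c.X s) (e : r * (x * v) * r⁻¹ = x * v) :
    r * x * r⁻¹ = x ∧ r * v * r⁻¹ = v := by
  have h1 : r * x * r⁻¹ ∈ c.X k := maps_mem hr hx rfl
  have h2 : r * v * r⁻¹ ∈ Sg c.X s := conj_Sg hr (fun j hj => hj) hv
  exact c.peel h h1 h2 hx hv (by rw [← e]; group)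

/-- a unipotent element commutes only with torus elements in the kernel of a root -/
theorem exists_ml {u : L} (hu : u ∈ Sg c.X {1, 2, 3, 4, 5, 6}) (h1 : u ≠ 1) :
    ∃ k : Fin 6, ∀ r c1 c6, c.Act r c1 c6 → r * u * r⁻¹ = u → ml k c1 c6 = 1 := by
  obtain ⟨y1, hy1, v1, hv1, rfl⟩ := c.exists_mul (k := 1) (s := {2, 3, 4, 5, 6}) (by decide +kernel)
    (Sg_mono (by decide +kernel) hu)
  obtain ⟨y2, hy2, v2, hv2, rfl⟩ := c.exists_mul (k := 2) (s := {3, 4, 5, 6}) (by decide +kernel)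
    (Sg_mono (by decide +kernel) hv1)
  obtain ⟨y3, hy3, v3, hv3, rfl⟩ := c.exists_mul (k := 3) (s := {4, 5, 6}) (by decide +kernel)
    (Sg_mono (by decide +kernel) hv2)
  obtain ⟨y4, hy4, v4, hv4, rfl⟩ := c.exists_mul (k := 4) (s := {5, 6}) (by decide +kernel)
    (Sg_mono (by decide +kernel) hv3)
  obtain ⟨y5, hy5, v5, hv5, rfl⟩ := c.exists_mul (k := 5) (s := {6}) (by decide +kernel)
    (Sg_mono (by decide +kernel) hv4)
  have key : ∀ r, Maps c.X r id → r * (y1 * (y2 * (y3 * (y4 * (y5 * v5))))) * r⁻¹ =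
      (y1 * (y2 * (y3 * (y4 * (y5 * v5))))) → r * y1 * r⁻¹ = y1 ∧ r * y2 * r⁻¹ = y2 ∧ r * y3 * r⁻¹ = y3 ∧
        r * y4 * r⁻¹ = y4 ∧ r * y5 * r⁻¹ = y5 ∧ r * v5 * r⁻¹ = v5 := by
    intro r hr e
    obtain ⟨e1, f1⟩ := conj_eq_of_comm c (s := {2, 3, 4, 5, 6}) (by decide +kernel) hr hy1 hv1 e
    obtain ⟨e2, f2⟩ := conj_eq_of_comm c (s := {3, 4, 5, 6}) (by decide +kernel) hr hy2 hv2 f1
    obtain ⟨e3, f3⟩ := conj_eq_of_comm c (s := {4, 5, 6}) (by decide +kernel) hr hy3 hv3 f2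
    obtain ⟨e4, f4⟩ := conj_eq_of_comm c (s := {5, 6}) (by decide +kernel) hr hy4 hv4 f3
    obtain ⟨e5, f5⟩ := conj_eq_of_comm c (s := {6}) (by decide +kernel) hr hy5 hv5 f4
    exact ⟨e1, e2, e3, e4, e5, f5⟩
  have hv6 : v5 ∈ c.X 6 := (Sg_le (s := {6}) (H := c.X 6) (by
    intro k hk
    rw [Finset.mem_singleton.1 hk])) hv5
  obtain ⟨a1, rfl⟩ := (c.par.mem1 _).1 hy1
  obtain ⟨a2, h2, rfl⟩ := (c.par.mem2 _).1 hy2
  obtain ⟨a3, rfl⟩ := (c.par.mem3 _).1 hy3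
  obtain ⟨a4, h4, rfl⟩ := (c.par.mem4 _).1 hy4
  obtain ⟨a5, rfl⟩ := (c.par.mem5 _).1 hy5
  obtain ⟨a6, h6, rfl⟩ := (c.par.mem6 _).1 hv6
  have canc : ∀ {m a : E}, a ≠ 0 → m * a = a → m = 1 := fun {m a} ha h => mul_right_cancel₀ ha (h.trans (one_mul a).symm)
  by_cases z1 : a1 = 0
  · by_cases z2 : a2 = 0
    · by_cases z3 : a3 = 0
      · by_cases z4 : a4 = 0
        · by_cases z5 : a5 = 0
          · by_cases z6 : a6 = 0
            · exfalso
              apply h1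
              subst z1 z2 z3 z4 z5 z6
              rw [c.x1_zero, c.x2_zero, c.x3_zero, c.x4_zero, c.x5_zero, c.x6_zero]
              simp
            · refine ⟨5, fun r c1 c6 hr e => ?_⟩
              obtain ⟨-, -, -, -, -, e6⟩ := key r hr.maps e
              rw [hr.a6 a6 h6] at e6
              exact canc z6 (c.x6_inj (mul_fix hr.fix h6) h6 e6)
          · refine ⟨4, fun r c1 c6 hr e => ?_⟩
            obtain ⟨-, -, -, -, e5, -⟩ := key r hr.maps e
            rw [hr.a5 a5] at e5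
            exact canc z5 (c.x5_inj e5)
        · refine ⟨3, fun r c1 c6 hr e => ?_⟩
          obtain ⟨-, -, -, e4, -, -⟩ := key r hr.maps e
          rw [hr.a4 a4 h4] at e4
          have := canc z4 (c.x4_inj rfl rfl e4)
          rwa [nrm_of_fix rfl] at this
      · refine ⟨2, fun r c1 c6 hr e => ?_⟩
        obtain ⟨-, -, e3, -, -, -⟩ := key r hr.maps e
        rw [hr.a3 a3] at e3
        have := canc z3 (c.x3_inj e3)
        change c6 * c1 ^ 2 = 1
        rw [pow_two]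
        exact this
    · refine ⟨1, fun r c1 c6 hr e => ?_⟩
      obtain ⟨-, e2, -, -, -, -⟩ := key r hr.maps e
      rw [hr.a2 a2 h2] at e2
      have := canc z2 (c.x2_inj rfl rfl e2)
      rwa [nrm_of_fix rfl] at this
  · refine ⟨0, fun r c1 c6 hr e => ?_⟩
    obtain ⟨e1, -⟩ := key r hr.maps e
    rw [hr.a1 a1] at e1
    exact canc z1 (c.x1_inj e1)

/-- the torus elements -/
def IsT (g : L) : Prop := ∃ (s : E) (hs : s ≠ 0) (t : ↥(fx (RingEquiv.refl E))) (ht : t ≠ 0),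
  g = c.pb (dg s hs) * c.pa (dg t ht)

theorem exists_act {c1 c6 : E} (h1 : c1 ≠ 0) (h6 : c6 ≠ 0) : ∃ g, IsT c g ∧ c.Act g c1 c6 := by
  have hs : c6 * c1 ^ 2 ≠ 0 := mul_ne_zero h6 (pow_ne_zero 2 h1)
  have ht : (⟨c6 ^ 2 * c1 ^ 3, rfl⟩ : ↥(fx (RingEquiv.refl E))) ≠ 0 := fun h =>
    mul_ne_zero (pow_ne_zero 2 h6) (pow_ne_zero 3 h1) (congrArg Subtype.val h)
  refine ⟨_, ⟨c6 * c1 ^ 2, hs, ⟨c6 ^ 2 * c1 ^ 3, rfl⟩, ht, rfl⟩, ?_⟩
  refine ((c.act_b _ hs).mul (c.act_a _ ht)).congr rfl ?_ ?_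
  · change (c6 * c1 ^ 2) ^ 2 * (c6 ^ 2 * c1 ^ 3)⁻¹ = c1
    field_simp
  · rw [nrm_of_fix rfl]
    change ((c6 * c1 ^ 2) ^ 3)⁻¹ * (c6 ^ 2 * c1 ^ 3) ^ 2 = c6
    field_simp

/-- **The orbits of the torus.** -/
theorem exists_tau {u : L} (hu : u ∈ Sg c.X {1, 2, 3, 4, 5, 6}) (h1 : u ≠ 1) :
    ∃ τ : Eˣ → L, (∀ d, IsT c (τ d)) ∧ ∀ d d', τ d * u * (τ d)⁻¹ = τ d' * u * (τ d')⁻¹ → d = d' := by
  obtain ⟨k, hk⟩ := exists_ml c hu h1
  obtain ⟨f1, f6, hf⟩ : ∃ f1 f6 : Eˣ →* Eˣ, ∀ d : Eˣ, ml k ((f1 d : Eˣ) : E) ((f6 d : Eˣ) : E) = d := by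
    fin_cases k
    · exact ⟨MonoidHom.id _, 1, fun d => rfl⟩
    · exact ⟨1, MonoidHom.id _, fun d => by simp [ml]⟩
    · exact ⟨1, MonoidHom.id _, fun d => by simp [ml]⟩
    · refine ⟨(MonoidHom.id _)⁻¹, powMonoidHom 2, fun d => ?_⟩
      have hd : (d : E) ≠ 0 := d.ne_zero
      simp only [ml, MonoidHom.inv_apply, MonoidHom.id_apply, powMonoidHom_apply, Units.val_inv_eq_inv_val,
        Units.val_pow_eq_pow_val]
      field_simp
    · exact ⟨1, MonoidHom.id _, fun d => by simp [ml]⟩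
    · exact ⟨1, MonoidHom.id _, fun d => by simp [ml]⟩
  have hex : ∀ d : Eˣ, ∃ g, IsT c g ∧ c.Act g ((f1 d : Eˣ) : E) ((f6 d : Eˣ) : E) := fun d =>
    exists_act c (Units.ne_zero _) (Units.ne_zero _)
  choose τ hτ hτ' using hex
  refine ⟨τ, hτ, fun d d' e => ?_⟩
  have h2 := hk ((τ d')⁻¹ * τ d) _ _ ((hτ' d').inv.mul (hτ' d)) (by
    calc (τ d')⁻¹ * τ d * u * ((τ d')⁻¹ * τ d)⁻¹ = (τ d')⁻¹ * (τ d * u * (τ d)⁻¹) * τ d' := by group
      _ = u := by rw [e]; group)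
  have h3 : ml k (((f1 (d'⁻¹ * d) : Eˣ) : E)) (((f6 (d'⁻¹ * d) : Eˣ) : E)) = 1 := by
    rw [map_mul, map_mul, map_inv, map_inv]
    push_cast
    exact h2
  rw [hf] at h3
  have h4 : d'⁻¹ * d = 1 := Units.ext h3
  exact (inv_mul_eq_one.1 h4).symm

end Cfsg.Agent.H227.Pw
end

-- part: H227/Pw/GNinePar
section
/-!
# `G₂(9)`: the centralizers of the elements of order 3 have order at most `42515280` (helper227)
-/

set_option autoImplicit false

namespace Cfsg.Agent.H227.Pw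

open Cfsg Cfsg.Lie Subgroup
open Cfsg.Agent.ChevalleyStructure.Elts Cfsg.Agent.ChevalleyStructure.NConj Cfsg.Agent.Hexagon.G2Side
open Cfsg.Agent.Hexagon.G2Pos Cfsg.Agent.Hexagon.G2Rel
open Cfsg.Agent.TitsThree.RankTwoZ Cfsg.Agent.Cit.HexBase Cfsg.Agent.Cit.HexG2

universe u

section Abs

variable {Y : Type*} [Group Y]

/-- the order of `B ∪ B n B` -/
theorem card_le_of_dc [Finite Y] {B Q X H P : Subgroup Y} {n : Y} (hBQ : ∀ b ∈ B, ∃ x ∈ X, ∃ v ∈ Q, ∃ h ∈ H, b = x * v * h)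
    (hQ : ∀ v ∈ Q, n⁻¹ * v * n ∈ B) (hH : ∀ h ∈ H, n⁻¹ * h * n ∈ B)
    (hP : ∀ g ∈ P, g ∈ B ∨ g ∈ DoubleCoset.doubleCoset n (B : Set Y) B) :
    Nat.card P ≤ (1 + Nat.card X) * Nat.card B := by
  classical
  have hdc : ∀ g ∈ DoubleCoset.doubleCoset n (B : Set Y) B, ∃ x : X, ∃ b : B, g = x * n * b := by
    intro g hg
    obtain ⟨b, hb, b', hb', rfl⟩ := DoubleCoset.mem_doubleCoset.1 hg
    obtain ⟨x, hx, v, hv, h, hh, rfl⟩ := hBQ b hb
    refine ⟨⟨x, hx⟩, ⟨n⁻¹ * v * n * (n⁻¹ * h * n) * b', mul_mem (mul_mem (hQ v hv) (hH h hh)) hb'⟩, ?_⟩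
    simp only
    group
  have hex : ∀ g : P, ∃ y : B ⊕ (X × B), (g : Y) = Sum.elim (fun b : B => (b : Y)) (fun y : X × B => y.1 * n * y.2) y := by
    rintro ⟨g, hg⟩
    rcases hP g hg with h | h
    · exact ⟨Sum.inl ⟨g, h⟩, rfl⟩
    · obtain ⟨x, b, e⟩ := hdc g h
      exact ⟨Sum.inr (x, b), e⟩
  choose f hf using hex
  have hinj : Function.Injective f := fun a b h => Subtype.ext (by rw [hf a, hf b, h])
  have h1 := Nat.card_le_card_of_injective f hinj
  rw [Nat.card_sum, Nat.card_prod] at h1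
  calc _ ≤ _ := h1
    _ = _ := by ring

theorem mem_sup {U H : Subgroup Y} (h : H ≤ normalizer (U : Set Y)) {g : Y} (hg : g ∈ U ⊔ H) :
    ∃ u ∈ U, ∃ x ∈ H, g = u * x := by
  have h1 : g ∈ ((U ⊔ H : Subgroup Y) : Set Y) := hg
  rw [Subgroup.coe_mul_of_right_le_normalizer_left U H h] at h1
  obtain ⟨u, hu, x, hx, e⟩ := Set.mem_mul.1 h1
  exact ⟨u, hu, x, hx, e.symm⟩

theorem mem_sup' {U H : Subgroup Y} (h : H ≤ normalizer (U : Set Y)) {g : Y} (hg : g ∈ U ⊔ H) :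
    ∃ x ∈ H, ∃ u ∈ U, g = x * u := by
  obtain ⟨u, hu, x, hx, e⟩ := mem_sup h (inv_mem hg)
  exact ⟨x⁻¹, inv_mem hx, u⁻¹, inv_mem hu, by rw [← mul_inv_rev, ← e, inv_inv]⟩

theorem card_sup_le [Finite Y] {U H : Subgroup Y} (h : H ≤ normalizer (U : Set Y)) :
    Nat.card ↥(U ⊔ H) ≤ Nat.card U * Nat.card H := by
  have hmem : ∀ g : ↥(U ⊔ H), ∃ y : U × H, (g : Y) = y.1 * y.2 := by
    rintro ⟨g, hg⟩
    obtain ⟨u, hu, x, hx, e⟩ := mem_sup h hg
    exact ⟨(⟨u, hu⟩, ⟨x, hx⟩), e⟩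
  choose f hf using hmem
  have h1 := Nat.card_le_card_of_injective f fun a b h => Subtype.ext (by rw [hf a, hf b, h])
  rwa [Nat.card_prod] at h1

end Abs

section GTwo

variable {F : Type u} [Field F]

theorem tab_pos : ∀ r < 12, chevG2.IsPosRoot r → ∃ k : ZMod (2 * 6), k ∈ ({1, 2, 3, 4, 5, 6} : Finset (ZMod (2 * 6))) ∧
    tab k = r := by decide +kernel

/-- the unipotent group in coordinates -/
theorem pos_Sg {g : ↥(chevG2.group F)} (hg : (g : GL chevG2.Idx F) ∈ chevG2.posUnipotent F) :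
    g ∈ Sg (X F) {1, 2, 3, 4, 5, 6} := by
  have h : chevG2.posUnipotent F ≤ (Sg (X F) {1, 2, 3, 4, 5, 6}).map (chevG2.group F).subtype := by
    rw [ChevalleyDatum.posUnipotent, Subgroup.closure_le]
    rintro y ⟨r, t, hr, hy⟩
    obtain ⟨k, hk, rfl⟩ := tab_pos r hr.1 hr
    refine ⟨xs (tab k) t, X_le_Sg hk (mem_X.2 ⟨t, rfl⟩), ?_⟩
    rw [Subgroup.coe_subtype, coe_xs]
    apply Units.ext
    rw [coe_xG, hy]
  obtain ⟨g', hg', e⟩ := h hg
  have : g' = g := Subtype.ext e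
  rwa [← this]

variable [Fintype F]

theorem card_rootSubgroup (r : ℕ) : Nat.card ↥(chevG2.rootSubgroup F r) ≤ Fintype.card F := by
  classical
  rw [← Nat.card_eq_fintype_card]
  refine Nat.card_le_card_of_surjective (fun t : F => (⟨xG hG2 r t, xG_mem_rootSubgroup hG2 r t⟩ :
    ↥(chevG2.rootSubgroup F r))) ?_
  rintro ⟨g, hg⟩
  obtain ⟨t, rfl⟩ := (mem_rootSubgroup_iff hG2 r g).1 hg
  exact ⟨t, rfl⟩

/-- the order of a proper parabolic subgroup -/
theorem card_par {J : Set ℕ} {i : ℕ} (hi : i < 2) (hiJ : i ∉ J) :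
    Nat.card ↥(chevG2.parabolicSubgroup F J) ≤
      (1 + Fintype.card F) * (Fintype.card F ^ 6 * (Fintype.card F - 1) ^ 2) := by
  classical
  obtain ⟨j, hj, hji⟩ : ∃ j, j < 2 ∧ ∀ k, k < 2 → k ≠ i → k = j := by
    interval_cases i
    · exact ⟨1, by norm_num, by omega⟩
    · exact ⟨0, by norm_num, by omega⟩
  obtain ⟨n, hn', hn⟩ : ∃ n : GL chevG2.Idx F, n = nG hG2 (chevG2.simple j) 1 ∧
      (n : Matrix chevG2.Idx chevG2.Idx F) = chevG2.nMat F (chevG2.simple j) 1 := ⟨_, rfl, coe_nG hG2 _ _⟩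
  obtain ⟨P, hP⟩ := S1044.result (F := F) chevG2 hG2 j hj n hn
  have hle : chevG2.parabolicSubgroup F J ≤ P := by
    have hB : chevG2.borelSubgroup F ≤ P := by
      intro b hb
      have : b ∈ (P : Set (GL chevG2.Idx F)) := by
        rw [hP]
        exact Or.inl hb
      exact this
    rw [ChevalleyDatum.parabolicSubgroup, sup_le_iff, Subgroup.closure_le]
    refine ⟨hB, ?_⟩
    rintro y ⟨k, hk, hk2, hy⟩
    have hkj : k = j := hji k hk2 (by rintro rfl; exact hiJ hk)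
    subst hkj
    have : y = n := Units.ext (hy.trans hn.symm)
    subst this
    have : y ∈ (P : Set (GL chevG2.Idx F)) := by
      rw [hP]
      right
      exact DoubleCoset.mem_doubleCoset.2 ⟨1, one_mem _, 1, one_mem _, by simp⟩
    exact this
  obtain ⟨hKX, hU'⟩ := S1045.result (F := F) chevG2 hG2 j hj
  have hUH := (S1036.result (F := F) chevG2 hG2).1
  have h1 := Subgroup.card_le_of_le hle
  refine h1.trans ?_
  have h2 := card_le_of_dc (B := chevG2.borelSubgroup F) (X := chevG2.rootSubgroup F (chevG2.simple j))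
    (H := chevG2.diagonalSubgroup F) (P := P) (n := n) (Q := Subgroup.closure {g : GL chevG2.Idx F | ∃ (s : ℕ) (t : F),
      chevG2.IsPosRoot s ∧ s ≠ chevG2.simple j ∧ (g : Matrix chevG2.Idx chevG2.Idx F) = chevG2.x F s t}) ?_ ?_ ?_ ?_
  · refine h2.trans ?_
    refine Nat.mul_le_mul (Nat.add_le_add_left (card_rootSubgroup _) 1) ?_
    · refine (card_sup_le hUH).trans ?_
      have h3 := S1027.result (F := F) chevG2 hG2
      have h4 := S1035.result (F := F) (q := Fintype.card F) rfl (chevG2, 1) (by simp only [_root_.List.mem_cons, _root_.Prod.mk.injEq, _root_.and_true, _root_.List.not_mem_nil, _root_.or_false, _root_.true_or])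
      rw [h3]
      simp only [one_mul] at h4
      rw [h4]
      exact le_of_eq rfl
  · intro b hb
    obtain ⟨u, hu, h, hh, rfl⟩ := mem_sup hUH hb
    rw [← hU'] at hu
    obtain ⟨x, hx, v, hv, rfl⟩ := mem_sup' (le_trans le_sup_left hKX) hu
    exact ⟨x, hx, v, hv, h, hh, rfl⟩
  · intro v hv
    have h3 : n⁻¹ ∈ normalizer (Subgroup.closure {g : GL chevG2.Idx F | ∃ (s : ℕ) (t : F),
        chevG2.IsPosRoot s ∧ s ≠ chevG2.simple j ∧ (g : Matrix chevG2.Idx chevG2.Idx F) = chevG2.x F s t} :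
        Set (GL chevG2.Idx F)) := by
      refine hKX (inv_mem ?_)
      rw [hn', nG_def]
      exact mul_mem (Subgroup.mem_sup_left (xG_mem_rootSubgroup hG2 _ _))
        (mul_mem (Subgroup.mem_sup_right (xG_mem_rootSubgroup hG2 _ _))
        (Subgroup.mem_sup_left (xG_mem_rootSubgroup hG2 _ _)))
    have h4 := (Subgroup.mem_normalizer_iff.1 h3 v).1 hv
    rw [inv_inv] at h4
    refine Subgroup.mem_sup_left ?_
    rw [← hU']
    exact Subgroup.mem_sup_left h4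
  · intro h hh
    have hnN : n ∈ chevG2.monomialSubgroup F := by
      apply Subgroup.mem_sup_right
      exact Subgroup.subset_closure ⟨_, by interval_cases j <;> decide, hn⟩
    have hhN : h ∈ chevG2.monomialSubgroup F := Subgroup.mem_sup_left hh
    have := (S1038.result (F := F) chevG2 hG2).conj_mem ⟨h, hhN⟩ (Subgroup.mem_subgroupOf.2 hh) ⟨n, hnN⟩⁻¹
    have h5 := Subgroup.mem_subgroupOf.1 this
    rw [inv_inv] at h5
    exact Subgroup.mem_sup_right h5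
  · intro g hg
    have : g ∈ (P : Set (GL chevG2.Idx F)) := hg
    rw [hP] at this
    exact this

end GTwo

end Cfsg.Agent.H227.Pw
end

-- part: H227/Pw/GNine
section
/-!
# `G₂(9)`: every element is a product of two elements of order prime to 6 (helper227, for S2465)
-/

set_option autoImplicit false

namespace Cfsg.Agent.H227.Pw

open Cfsg Cfsg.Lie Subgroup
open Cfsg.Agent.ChevalleyStructure.Elts Cfsg.Agent.ChevalleyStructure.NConj Cfsg.Agent.Hexagon.G2Side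
open Cfsg.Agent.Hexagon.G2Pos Cfsg.Agent.Hexagon.G2Rel
open Cfsg.Agent.TitsThree.RankTwoZ Cfsg.Agent.Cit.HexBase Cfsg.Agent.Cit.HexG2 Cfsg.Agent.Lib.SL2Mat
open Cfsg.Agent.GTwoOdd
open Cfsg.Agent.ClassificationK.GTwoChev (ph ph6 ph7)

universe u

variable {F : Type u} [Field F]

theorem isT_mem (h2 : (2 : F) ≠ 0) {g : ↥(chevG2.group F)} (h : IsT (Cit.HexG2.g2 F h2) g) :
    (g : GL chevG2.Idx F) ∈ chevG2.diagonalSubgroup F := by
  obtain ⟨s, hs, t, ht, rfl⟩ := h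
  change (((ph7 F (_root_.Cfsg.Agent.Lib.SL2Mat.dg s hs) * (ph6 F).comp (inc F) (_root_.Cfsg.Agent.Lib.SL2Mat.dg t ht) : ↥(chevG2.group F))) : GL chevG2.Idx F) ∈ _
  rw [Subgroup.coe_mul, MonoidHom.comp_apply, inc_dg]
  exact mul_mem (Cit.HexG2.ph_dg_mem _ _ _) (Cit.HexG2.ph_dg_mem _ _ _)

theorem radical_le (J : Set ℕ) : chevG2.unipotentRadical F J ≤ chevG2.posUnipotent F := by
  refine (closure_le _).2 ?_
  rintro g ⟨r, t, hr, -, hg⟩
  exact subset_closure ⟨r, t, hr, hg⟩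

theorem diag_le (J : Set ℕ) : chevG2.diagonalSubgroup F ≤ chevG2.parabolicSubgroup F J :=
  le_trans (show chevG2.diagonalSubgroup F ≤ chevG2.borelSubgroup F from le_sup_right)
    (show chevG2.borelSubgroup F ≤ chevG2.parabolicSubgroup F J from le_sup_left)

variable [Fintype F]

/-- the centralizer of an element of order `p`, `q` a power of `p ≠ 2` -/
theorem card_cent_unip (h2 : (2 : F) ≠ 0) (p : ℕ) [hp : Fact p.Prime] [CharP F p] {u : ↥(chevG2.group F)}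
    (hu : orderOf u = p) :
    (Fintype.card F - 1) * Nat.card (centralizer ({u} : Set ↥(chevG2.group F))) ≤
      (1 + Fintype.card F) * (Fintype.card F ^ 6 * (Fintype.card F - 1) ^ 2) := by
  classical
  have hD : chevG2 ∈ [chevG2, chevB2, chevD4, chevF4, chevE6, chevE7, chevE8] := by simp
  have hou : orderOf (u : GL chevG2.Idx F) = p := by rw [Subgroup.orderOf_coe, hu]
  have hu1 : u ≠ 1 := by
    rintro rfl
    rw [orderOf_one] at hu
    exact hp.out.one_lt.ne hu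
  obtain ⟨g, hg, J, ⟨i, hi, hiJ⟩, hN, hR⟩ := S2154.result (F := F) p chevG2 hD (zpowers (u : GL chevG2.Idx F))
    (by rw [Subgroup.zpowers_le]; exact u.2)
    (IsPGroup.of_card (n := 1) (by rw [Nat.card_zpowers, hou, pow_one]))
    (by
      rw [Ne, Subgroup.zpowers_eq_bot]
      exact fun h => hu1 (Subtype.ext h))
  -- the conjugate in the radical
  let γ : ↥(chevG2.group F) := ⟨g, hg⟩
  have hw : ((γ⁻¹ * u * γ : ↥(chevG2.group F)) : GL chevG2.Idx F) ∈ chevG2.unipotentRadical F J := by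
    obtain ⟨w, hw, e⟩ := hR (Subgroup.mem_zpowers _)
    have e2 : g * w * g⁻¹ = u := e
    have : ((γ⁻¹ * u * γ : ↥(chevG2.group F)) : GL chevG2.Idx F) = w := by
      change g⁻¹ * (u : GL chevG2.Idx F) * g = w
      rw [← e2]
      group
    rwa [this]
  have hw1 : γ⁻¹ * u * γ ≠ 1 := by
    intro h
    apply hu1
    have : u = γ * (γ⁻¹ * u * γ) * γ⁻¹ := by group
    rw [this, h]
    group
  obtain ⟨τ, hτ, hinj⟩ := exists_tau (Cit.HexG2.g2 F h2) (pos_Sg (radical_le J hw)) hw1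
  have hC : ∀ c ∈ centralizer ({u} : Set ↥(chevG2.group F)),
      ((γ⁻¹ * c * γ : ↥(chevG2.group F)) : GL chevG2.Idx F) ∈ chevG2.parabolicSubgroup F J := by
    intro c hc
    rw [mem_centralizer_singleton_iff] at hc
    have hc' : (c : GL chevG2.Idx F) * u = u * c := by
      have := congrArg (Subtype.val : ↥(chevG2.group F) → GL chevG2.Idx F) hc
      simpa only [_root_.Subgroup.coe_mul] using this
    have h3 : (c : GL chevG2.Idx F) ∈ normalizer ((zpowers (u : GL chevG2.Idx F) : Subgroup _) : Set (GL chevG2.Idx F)) := by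
      refine (Subgroup.centralizer_le_normalizer (s := ((zpowers (u : GL chevG2.Idx F) : Subgroup _) :
        Set (GL chevG2.Idx F)))) ?_
      rw [Subgroup.mem_centralizer_iff]
      rintro y ⟨k, rfl⟩
      exact ((show Commute (c : GL chevG2.Idx F) u from hc').zpow_right k).eq.symm
    obtain ⟨w, hw, e⟩ := hN ⟨h3, c.2⟩
    have e2 : g * w * g⁻¹ = c := e
    have : ((γ⁻¹ * c * γ : ↥(chevG2.group F)) : GL chevG2.Idx F) = w := by
      change g⁻¹ * (c : GL chevG2.Idx F) * g = w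
      rw [← e2]
      group
    rwa [this]
  have key : Nat.card (Fˣ × centralizer ({u} : Set ↥(chevG2.group F))) ≤
      Nat.card ↥(chevG2.parabolicSubgroup F J) := by
    refine Nat.card_le_card_of_injective (fun y : Fˣ × centralizer ({u} : Set ↥(chevG2.group F)) =>
      (⟨((τ y.1 * (γ⁻¹ * y.2 * γ) : ↥(chevG2.group F)) : GL chevG2.Idx F), ?_⟩ :
        ↥(chevG2.parabolicSubgroup F J))) ?_
    · rw [Subgroup.coe_mul]
      exact mul_mem (diag_le J (isT_mem h2 (hτ _))) (hC _ y.2.2)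
    · rintro ⟨d, c, hc⟩ ⟨d', c', hc'⟩ h
      have h1 : τ d * (γ⁻¹ * c * γ) = τ d' * (γ⁻¹ * c' * γ) := by
        apply Subtype.ext
        exact congrArg (Subtype.val : ↥(chevG2.parabolicSubgroup F J) → GL chevG2.Idx F) h
      have hcw : ∀ c ∈ centralizer ({u} : Set ↥(chevG2.group F)),
          (γ⁻¹ * c * γ) * (γ⁻¹ * u * γ) * (γ⁻¹ * c * γ)⁻¹ = γ⁻¹ * u * γ := by
        intro c hc
        rw [mem_centralizer_singleton_iff] at hc
        calc _ = γ⁻¹ * (c * u) * c⁻¹ * γ := by group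
          _ = γ⁻¹ * (u * c) * c⁻¹ * γ := by rw [hc]
          _ = _ := by group
      have h4 : d = d' := by
        apply hinj
        calc τ d * (γ⁻¹ * u * γ) * (τ d)⁻¹ =
            τ d * ((γ⁻¹ * c * γ) * (γ⁻¹ * u * γ) * (γ⁻¹ * c * γ)⁻¹) * (τ d)⁻¹ := by rw [hcw c hc]
          _ = (τ d * (γ⁻¹ * c * γ)) * (γ⁻¹ * u * γ) * (τ d * (γ⁻¹ * c * γ))⁻¹ := by group
          _ = (τ d' * (γ⁻¹ * c' * γ)) * (γ⁻¹ * u * γ) * (τ d' * (γ⁻¹ * c' * γ))⁻¹ := by rw [h1]
          _ = τ d' * ((γ⁻¹ * c' * γ) * (γ⁻¹ * u * γ) * (γ⁻¹ * c' * γ)⁻¹) * (τ d')⁻¹ := by group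
          _ = _ := by rw [hcw c' hc']
      subst h4
      have h5 : γ⁻¹ * c * γ = γ⁻¹ * c' * γ := mul_left_cancel h1
      have h6 : c = c' := mul_left_cancel (mul_right_cancel h5)
      subst h6
      rfl
  rw [Nat.card_prod, Nat.card_units, Nat.card_eq_fintype_card (α := F)] at key
  exact key.trans (card_par hi hiJ)

theorem card_cent_pow {G : Type*} [Group G] [Finite G] (g : G) (n : ℕ) :
    Nat.card (centralizer ({g} : Set G)) ≤ Nat.card (centralizer ({g ^ n} : Set G)) := by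
  apply Subgroup.card_le_of_le
  intro c hc
  rw [mem_centralizer_singleton_iff] at hc ⊢
  exact ((show Commute c g from hc).pow_right n).eq

/-- **`G₂(9)`**. -/
theorem six_g2_nine (hF : Fintype.card F = 9) : H78.Pw.All 6 ↥(chevG2.group F) := by
  classical
  obtain ⟨r, hr⟩ := CharP.exists F
  obtain ⟨n, hrp, hc⟩ := FiniteField.card F r
  have hr3 : r = 3 := by
    have h1 : r ∣ 9 := by
      rw [← hF, hc]
      exact dvd_pow_self r n.pos.ne'
    have h2 : r ∣ 3 := hrp.dvd_of_dvd_pow (show r ∣ 3 ^ 2 by simpa using h1)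
    exact (Nat.prime_dvd_prime_iff_eq hrp Nat.prime_three).1 h2
  subst hr3
  have : Fact (Nat.Prime 3) := ⟨Nat.prime_three⟩
  have h3 : (3 : F) = 0 := by exact_mod_cast CharP.cast_eq_zero F 3
  have h2 : (2 : F) ≠ 0 := by
    intro h
    have : (1 : F) = 3 - 2 := by norm_num
    rw [h3, h, sub_zero] at this
    exact one_ne_zero this
  have hs : IsSimpleGroup ↥(chevG2.group F) := H332.Cyc.simple_G2 (by omega)
  have hna : ¬ IsMulCommutative ↥(chevG2.group F) :=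
    (S1055.result (F := F) ⟨-1, neg_ne_zero.2 one_ne_zero, fun h => h2 (by
      have : (1 : F) + 1 = 0 := by
        nth_rewrite 1 [← h]
        ring
      rw [← this]
      norm_num)⟩).2
  have hcard : Nat.card ↥(chevG2.group F) = 9 ^ 6 * (9 ^ 2 - 1) * (9 ^ 6 - 1) := S1059.result hF
  have hN : Nat.card ↥(chevG2.group F) = N9 := by
    rw [hcard]
    rfl
  -- the torus of order 73
  obtain ⟨T, hT1, hT2, hT3, -⟩ := H541.PRegG2.tor6 (F := F) hF (by norm_num)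
    (M := 9 ^ 6 * (9 - 1) ^ 2 * (9 + 1) ^ 2 * (9 ^ 2 + 9 + 1)) (by rw [hcard]; norm_num) (by norm_num)
  obtain ⟨x, hxT, hx⟩ := H541.PRegTorus.exists_orderOf hT1 (d := 73) (by rw [hT2]; norm_num)
  have hxC : centralizer {x} = T := hT3 x hxT (fun h => by
    have := orderOf_dvd_of_pow_eq_one h
    rw [hx] at this
    norm_num at this)
  have hmd := H332.Cyc.md_three h3 (by omega)
  obtain ⟨z, hz, hp⟩ := prd73 (G := ↥(chevG2.group F)) hna hN hx (by rw [hxC, hT2]; norm_num) (fun χ hχ => by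
    have h4 := hmd χ (H913.LD.charDegree_ne_one hna hχ)
    rw [hF] at h4
    norm_num at h4
    exact h4)
  have hzc : ∀ a : ↥(chevG2.group F), (orderOf (a * z * a⁻¹)).Coprime 6 := by
    intro a
    have : orderOf (a * z * a⁻¹) = orderOf z := by
      have := orderOf_injective (MulAut.conj a).toMonoidHom (MulAut.conj a).injective z
      simpa only [_root_.MulEquiv.toMonoidHom_eq_coe, _root_.MonoidHom.coe_coe, _root_.MulAut.conj_apply] using this
    rw [this, hz]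
    norm_num
  have hall : ∀ g : ↥(chevG2.group F), Nat.card (centralizer {g}) ≤ 42515280 → H78.Pw.Pr 6 g := by
    intro g hg
    obtain ⟨a, b, e⟩ := hp g hg
    exact ⟨_, _, e, hzc a, hzc b⟩
  intro g
  by_cases hco : (orderOf g).Coprime 6
  · exact H78.Pw.Pr.of_coprime hco
  apply hall
  have h0 : 0 < orderOf g := orderOf_pos g
  have hd : 2 ∣ orderOf g ∨ 3 ∣ orderOf g := by
    by_contra hcon
    push Not at hcon
    apply hco
    rw [show (6 : ℕ) = 2 * 3 by norm_num]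
    exact Nat.Coprime.mul_right ((Nat.Prime.coprime_iff_not_dvd Nat.prime_two).2 hcon.1).symm
      ((Nat.Prime.coprime_iff_not_dvd Nat.prime_three).2 hcon.2).symm
  rcases hd with hd | hd
  · obtain ⟨k, hk⟩ := hd
    have hk0 : k ≠ 0 := by
      rintro rfl
      omega
    have ho : orderOf (g ^ k) = 2 := by
      rw [orderOf_pow_of_dvd hk0 (by rw [hk]; exact dvd_mul_left k 2), hk, Nat.mul_div_cancel _ (Nat.pos_of_ne_zero hk0)]
    refine (card_cent_pow g k).trans ?_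
    have h1 := H311.hex_card' (Cit.HexG2.g2 F h2) h2 (t := g ^ k) (by
      rw [← pow_two, ← ho, pow_orderOf_eq_one]) (by
      intro h
      rw [h, orderOf_one] at ho
      exact absurd ho (by norm_num))
    have h5 : Nat.card ↥(fx (RingEquiv.refl F)) = Nat.card F :=
      Nat.card_congr ⟨fun x => x, fun x => ⟨x, rfl⟩, fun x => rfl, fun x => rfl⟩
    rw [H311.card_sl_eq h5, SLNormal.card_sl, hF] at h1
    exact h1.trans (by norm_num)
  · obtain ⟨k, hk⟩ := hd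
    have hk0 : k ≠ 0 := by
      rintro rfl
      omega
    have ho : orderOf (g ^ k) = 3 := by
      rw [orderOf_pow_of_dvd hk0 (by rw [hk]; exact dvd_mul_left k 3), hk, Nat.mul_div_cancel _ (Nat.pos_of_ne_zero hk0)]
    refine (card_cent_pow g k).trans ?_
    have h1 := card_cent_unip h2 3 ho
    rw [hF, show (1 + 9) * (9 ^ 6 * (9 - 1) ^ 2) = 8 * 42515280 by norm_num, show (9 - 1 : ℕ) = 8 by norm_num] at h1
    exact Nat.le_of_mul_le_mul_left h1 (by norm_num)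

end Cfsg.Agent.H227.Pw
end

-- part: H367/PO/Num
section
/-!
# S2465: nondual irreducible polynomials of norm one with roots of order prime to 6 (helper367)

* `exists_s` : `q = 3 ^ k`, `d ≥ 3`, `(q, d) ≠ (3, 4)`;
* `exists_np` : `NP d f`, `f ∣ X ^ s - 1`, `s` prime to 6.
-/

set_option autoImplicit false

namespace Cfsg.Agent.H367.PO

open Polynomial Cfsg.Agent.H126.PwO

theorem not_dvd_add_even {q r s e : ℕ} (hq : 2 ≤ q) (he : 1 ≤ e) (hr : r ∣ q ^ (2 * e) - 1)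
    (hmin : ∀ k, 0 < k → k < 2 * e → ¬ r ∣ q ^ k - 1) (hr2 : ¬ r ∣ 2) (hs : s ∣ q ^ e - 1) (hs2 : ¬ s ∣ 2) :
    ∀ i < 2 * e, ¬ r * s ∣ q ^ i + 1 := by
  intro i hi h
  have hr' : r ∣ q ^ i + 1 := (dvd_mul_right r s).trans h
  have hs' : s ∣ q ^ i + 1 := (dvd_mul_left s r).trans h
  rcases Nat.eq_zero_or_pos i with rfl | hi0
  · exact hr2 (by simpa using hr')
  have h3 : r ∣ q ^ (2 * i) - 1 := by
    have h4 : q ^ (2 * i) - 1 = (q ^ i + 1) * (q ^ i - 1) := by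
      have h5 := Nat.sq_sub_sq (q ^ i) 1
      rw [one_pow] at h5
      rw [mul_comm 2 i, pow_mul, h5]
    rw [h4]
    exact hr'.mul_right _
  rcases lt_trichotomy (2 * i) (2 * e) with h5 | h5 | h5
  · exact hmin _ (by omega) h5 h3
  · obtain rfl : i = e := by omega
    apply hs2
    have h6 := Nat.dvd_sub hs' hs
    have h7 : 1 ≤ q ^ i := Nat.one_le_pow _ _ (by omega)
    have h8 : q ^ i + 1 - (q ^ i - 1) = 2 := by omega
    rwa [h8] at h6
  · have h6 : q ^ (2 * i) - 1 = q ^ (2 * i - 2 * e) * (q ^ (2 * e) - 1) + (q ^ (2 * i - 2 * e) - 1) := by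
      have h7 : q ^ (2 * i) = q ^ (2 * i - 2 * e) * q ^ (2 * e) := by rw [← pow_add]; congr 1; omega
      have h8 : 1 ≤ q ^ (2 * i - 2 * e) := Nat.one_le_pow _ _ (by omega)
      have h9 : 1 ≤ q ^ (2 * e) := Nat.one_le_pow _ _ (by omega)
      rw [h7, Nat.mul_sub, mul_one]
      have h10 : q ^ (2 * i - 2 * e) ≤ q ^ (2 * i - 2 * e) * q ^ (2 * e) := Nat.le_mul_of_pos_right _ h9
      omega
    rw [h6] at h3
    exact hmin _ (by omega) (by omega) ((Nat.dvd_add_right (hr.mul_left _)).1 h3)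

/-- a prime `≥ 5` dividing `3 ^ k + 1`, `k ≥ 2` -/
theorem exists_prime_three {k : ℕ} (hk : 2 ≤ k) : ∃ s : ℕ, s.Prime ∧ 5 ≤ s ∧ s ∣ 3 ^ k + 1 := by
  by_contra hcon
  push Not at hcon
  have h3 : ¬ 3 ∣ 3 ^ k + 1 := by
    intro h
    have h1 : 3 ∣ 3 ^ k := dvd_pow_self 3 (by omega)
    have h2 := (Nat.dvd_add_right h1).1 h
    omega
  have h8 : ¬ 8 ∣ 3 ^ k + 1 := by
    intro h
    have h1 : (3 ^ k + 1) % 8 = 0 := Nat.mod_eq_zero_of_dvd h
    rcases Nat.even_or_odd' k with ⟨c, rfl | rfl⟩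
    · rw [pow_mul, Nat.add_mod, Nat.pow_mod] at h1
      norm_num at h1
    · rw [pow_succ, pow_mul, Nat.add_mod, Nat.mul_mod, Nat.pow_mod] at h1
      norm_num at h1
  have h9 : 9 ≤ 3 ^ k := by
    calc 9 = 3 ^ 2 := rfl
      _ ≤ 3 ^ k := Nat.pow_le_pow_right (by norm_num) hk
  have key : ∀ p, p.Prime → p ∣ 3 ^ k + 1 → p = 2 := by
    intro p hp hd
    have h1 : p < 5 := by
      by_contra h
      exact hcon p hp (by omega) hd
    have h2 := hp.two_le
    interval_cases p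
    · rfl
    · exact absurd hd h3
    · exact absurd hp (by norm_num)
  obtain ⟨j, hj⟩ : ∃ j, 3 ^ k + 1 = 2 ^ j := by
    refine ⟨_, Nat.eq_prime_pow_of_unique_prime_dvd (by omega) fun {p} hp hd => key p hp hd⟩
  have hj3 : j < 3 := by
    by_contra h
    apply h8
    rw [hj]
    exact pow_dvd_pow 2 (show 3 ≤ j by omega)
  interval_cases j <;> omega

theorem dvd_quot {q a b : ℕ} (hq : 2 ≤ q) (h : a ∣ b) : (q ^ a - 1) / (q - 1) ∣ (q ^ b - 1) / (q - 1) := by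
  obtain ⟨M, hM, hM'⟩ := div_eq (d := a) hq
  obtain ⟨N, hN, hN'⟩ := div_eq (d := b) hq
  rw [hM', hN']
  have h1 : q ^ a - 1 ∣ q ^ b - 1 := by
    obtain ⟨c, rfl⟩ := h
    rw [pow_mul]
    have := Nat.sub_dvd_pow_sub_pow (q ^ a) 1 c
    rwa [one_pow] at this
  rw [hM, hN] at h1
  exact Nat.dvd_of_mul_dvd_mul_right (by omega) h1

theorem exists_s {q k d : ℕ} (hk : 1 ≤ k) (hq : q = 3 ^ k) (hd : 3 ≤ d) (h34 : ¬ (k = 1 ∧ d = 4)) :
    ∃ s : ℕ, s.Coprime 6 ∧ s ∣ q ^ d - 1 ∧ (∀ j, 0 < j → j < d → ¬ s ∣ q ^ j - 1) ∧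
      (∀ i < d, ¬ s ∣ q ^ i + 1) ∧ s ∣ (q ^ d - 1) / (q - 1) := by
  have hq2 : 2 ≤ q := by
    rw [hq]
    calc 2 ≤ 3 ^ 1 := by norm_num
      _ ≤ 3 ^ k := Nat.pow_le_pow_right (by norm_num) hk
  have hq3 : q ≠ 2 := by
    rintro rfl
    have h1 : 3 ∣ 2 := by rw [hq]; exact dvd_pow_self 3 (by omega)
    omega
  obtain ⟨r, hr, hr5, -, hrd, hrm⟩ := exists_prime_odd hq2 hd (fun h => hq3 h.1)
  have hr2 : ¬ r ∣ 2 := fun h => by have := Nat.le_of_dvd (by norm_num) h; omega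
  rcases Nat.even_or_odd' d with ⟨e, rfl | hde⟩
  swap
  · exact ⟨r, coprime_six hr hr5, hrd, hrm, not_dvd_add (by omega) ⟨e, hde⟩ hrd hrm hr2,
      dvd_div hq2 hr (by omega) hrd hrm⟩
  obtain ⟨s, hs, hs5, hse, hst⟩ : ∃ s : ℕ, s.Prime ∧ 5 ≤ s ∧ s ∣ q ^ e - 1 ∧ s ∣ (q ^ e - 1) / (q - 1) := by
    by_cases he : 3 ≤ e
    · obtain ⟨s, hs, hs5, -, hsd, hsm⟩ := exists_prime_odd hq2 he (fun h => hq3 h.1)
      exact ⟨s, hs, hs5, hsd, dvd_div hq2 hs (by omega) hsd hsm⟩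
    · obtain rfl : e = 2 := by omega
      obtain ⟨s, hs, hs5, hsd⟩ := exists_prime_three (k := k) (by omega)
      rw [← hq] at hsd
      have h1 : q ^ 2 - 1 = (q + 1) * (q - 1) := by
        have := Nat.sq_sub_sq q 1
        rwa [one_pow] at this
      rw [h1, Nat.mul_div_cancel _ (by omega)]
      exact ⟨s, hs, hs5, hsd.mul_right _, hsd⟩
  have hrs : r ≠ s := by
    rintro rfl
    exact hrm e (by omega) (by omega) hse
  have hcop : r.Coprime s := (Nat.coprime_primes hr hs).2 hrs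
  have h1 : q ^ e - 1 ∣ q ^ (2 * e) - 1 := by
    rw [mul_comm 2 e, pow_mul]
    have := Nat.sub_dvd_pow_sub_pow (q ^ e) 1 2
    rwa [one_pow] at this
  refine ⟨r * s, Nat.Coprime.mul_left (coprime_six hr hr5) (coprime_six hs hs5),
    hcop.mul_dvd_of_dvd_of_dvd hrd (hse.trans h1), fun j h2 h3 h4 => hrm j h2 h3 ((dvd_mul_right r s).trans h4),
    not_dvd_add_even hq2 (by omega) hrd hrm hr2 hse (fun h => by have := Nat.le_of_dvd (by norm_num) h; omega),
    hcop.mul_dvd_of_dvd_of_dvd (dvd_div hq2 hr (by omega) hrd hrm)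
      (hst.trans (dvd_quot hq2 (dvd_mul_left e 2)))⟩

end Cfsg.Agent.H367.PO
end

-- part: H367/PO/Odd
section
/-!
# S2465, orthogonal groups of odd dimension (helper367)

* `own_odd` : `N = r ≥ 5`;
* `prO_odd_of` : `N = 6`, `q = 3 ^ k`, from `Ω_9(3)`.
-/

set_option autoImplicit false
set_option linter.unusedSectionVars false
set_option linter.unusedVariables false

namespace Cfsg.Agent.H367.PO

open QuadraticMap Matrix Module Polynomial Cfsg.Agent.LieClassical.OrthCore Cfsg.Agent.LieClassical.OrthTrans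
  Cfsg.Agent.LieClassical.OrthFinite Cfsg.Agent.H140.OreO Cfsg.Agent.H126.PwO

universe u v

variable {F : Type u} [Field F]

/-- **polynomials** -/
theorem exists_gp_six [Finite F] {k d : ℕ} (hk : 1 ≤ k) (hF : Nat.card F = 3 ^ k) (hd : 3 ≤ d)
    (h34 : ¬ (k = 1 ∧ d = 4)) : ∃ f : F[X], H295.War.GP 6 1 d f := by
  obtain ⟨s, h6, hs, hmin, hadd, hdiv⟩ := exists_s hk hF hd h34
  obtain ⟨f, hf⟩ := exists_pol F (by omega) hs hmin
  have hodd : Odd s := by
    rw [← Nat.coprime_two_right]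
    exact Nat.Coprime.coprime_dvd_right (by norm_num) h6
  obtain ⟨c, hc⟩ := hodd
  have h1 : ((-1 : F)) ^ d * (-1) ^ d = 1 := by rw [← mul_pow, neg_one_mul, neg_neg, one_pow]
  refine ⟨f, hf.monic, hf.irr, hf.deg, ?_, hf.cop hadd, X ^ (c + 1), s, h6, ?_, ?_⟩
  · have h2 := (hf.coef 1).2 (by rw [mul_one]; exact hdiv)
    rw [pow_one] at h2
    linear_combination (-1 : F) ^ d * h2 - f.coeff 0 * h1
  · have h2 : (X ^ (c + 1)) ^ (2 * 1) - X = X * (X ^ s - 1 : F[X]) := by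
      rw [hc]; ring
    rw [h2]
    exact dvd_mul_of_dvd_right ((hf.dvd s).2 dvd_rfl) _
  · rw [← pow_mul]
    exact (hf.dvd _).2 (dvd_mul_left _ _)

/-- rank one -/
theorem rk_one {m : ℕ} (hm : 2 ≤ m) : H295.War.RK F m 1 := by
  intro A c hdet hc hr hA p g hp hpd hp0 hg hgd hg0 hne
  refine H130.War.exists_mul_rank_one hm A hc ?_ hp hpd hg hgd (by
    rw [hg0]; exact pow_ne_zero _ (neg_ne_zero.2 one_ne_zero)) (by rw [hdet, one_mul, hp0, hg0]) hne
  have h0 : (A - c • (1 : Matrix (Fin m) (Fin m) F)).rank ≠ 0 := by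
    intro h
    apply hA
    rw [Matrix.rank, Submodule.finrank_eq_zero, LinearMap.range_eq_bot] at h
    have h1 : A - c • (1 : Matrix (Fin m) (Fin m) F) = 0 := by
      ext i j
      have := congrFun (LinearMap.congr_fun h (Pi.single j 1)) i
      rwa [Matrix.mulVecLin_apply, Matrix.mulVec_single_one] at this
    exact sub_eq_zero.1 h1
  omega

variable {V : Type v} [AddCommGroup V] [Module F V] {Q : QuadraticForm F V}

theorem prO_of_orders {N : ℕ} {g a b : V ≃ₗ[F] V} (ha : a ∈ Om Q) (hb : b ∈ Om Q) (h : g = a * b)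
    (h1 : (orderOf a).Coprime N) (h2 : (orderOf b).Coprime N) : PrO N Q g :=
  ⟨a, ha, b, hb, orderOf a, orderOf b, h, h1, h2, pow_orderOf_eq_one a, pow_orderOf_eq_one b⟩

/-- **the engine** -/
theorem prO_engine [Finite F] [FiniteDimensional F V] {k m : ℕ} (hk : 1 ≤ k) (hF : Nat.card F = 3 ^ k) (hm : 4 ≤ m)
    (h3 : ¬ (k = 1 ∧ m ≤ 5)) (hQ : Nondeg Q) (hd : finrank F V = 2 * m + 1) {g : V ≃ₗ[F] V} (hg : g ∈ O Q)
    (hB : BaseCorner m Q g) : PrO 6 Q g := by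
  obtain ⟨p, hp⟩ := exists_gp_six (F := F) (d := m) hk hF (by omega) (by omega)
  obtain ⟨f, hf⟩ := exists_gp_six (F := F) (d := m - 1) hk hF (by omega) (by omega)
  have hRK : H295.War.RK F m (finrank F V - 2 * m) := by
    rw [hd, Nat.add_sub_cancel_left]
    exact rk_one (by omega)
  obtain ⟨x, hx, y, hy, h, h1, h2⟩ := H295.War.row hQ (by omega) (by omega) hRK hg hB le_rfl hp hf
  rw [pow_one, pow_one] at h
  exact prO_of_orders hx hy h h1 h2

/-- `P_5(3)` -/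
theorem prO_five_three [Finite F] [FiniteDimensional F V] (hF : Nat.card F = 3) (hQ : Nondeg Q)
    (hd : 5 ≤ finrank F V) {g : V ≃ₗ[F] V} (hg : g ∈ O Q) (hB : BaseCorner 5 Q g) : PrO 6 Q g := by
  have h2 : (2 : F) ≠ 0 := two_ne_zero_of (by rw [hF]; decide)
  have hc : CharP F 3 := by
    have := Fintype.ofFinite F
    have h1 : ((Fintype.card F : ℕ) : F) = 0 := FiniteField.cast_card_eq_zero F
    rw [← Nat.card_eq_fintype_card] at h1
    rw [hF] at h1
    exact (CharP.charP_iff_prime_eq_zero Nat.prime_three).2 h1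
  have hC : CopP 5 (Five.pF F) (1 : V ≃ₗ[F] V) :=
    copP_odd h2 Five.pF_monic (Five.pF_irr hF) (by rw [Five.pF_deg]; norm_num) (by rw [Five.pF_deg]; decide)
  obtain ⟨w, w', hf, hS, hdet, hA⟩ := hB
  have hC' : CopP 5 (Five.pF F) (1 : perp Q w w' ≃ₗ[F] perp Q w w') :=
    copP_odd h2 Five.pF_monic (Five.pF_irr hF) (by rw [Five.pF_deg]; norm_num) (by rw [Five.pF_deg]; decide)
  have hpow : ∀ X : Matrix (Fin 5) (Fin 5) F, X.charpoly = Five.pF F → X ^ 11 = 1 := fun X hX =>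
    H962.PP.pow_eq_one_of_charpoly (by rw [hX]; exact Five.pF_dvd)
  have hdt : ∀ X : Matrix (Fin 5) (Fin 5) F, X.charpoly = Five.pF F → X.det = 1 := by
    intro X hX
    have h3 : (3 : F) = 0 := by
      have := CharP.cast_eq_zero F 3
      exact_mod_cast this
    have h1 : (-1 : F) ^ 5 * (Five.pF F).coeff 0 = 1 := by
      rw [Five.pF]
      simp only [coeff_X_pow, _root_.Polynomial.coeff_add, _root_.OfNat.zero_ne_ofNat, ↓ _root_.reduceIte, _root_.Polynomial.coeff_ofNat_mul, _root_.MulZeroClass.mul_zero, _root_.add_zero, _root_.Polynomial.coeff_X_zero, _root_.Polynomial.coeff_ofNat_zero, _root_.zero_add]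
      linear_combination -h3
    exact det_of_charpoly hX h1
  by_cases h1 : corner Q g w w' = 1
  · have h0 : (Five.pF F).coeff 0 ≠ 0 := coeff_zero_ne (Five.pF_irr hF) (by rw [Five.pF_deg]; norm_num)
    obtain ⟨X, hX⟩ := exists_matrix (Five.pF F) Five.pF_monic h0 Five.pF_deg
    have hX1 : X ^ 11 = 1 := Units.ext (by rw [Units.val_pow_eq_pow_val, hpow _ hX, Units.val_one])
    have hXi : (X⁻¹) ^ 11 = 1 := by rw [inv_pow, hX1, inv_one]
    have hdi : ((X⁻¹ : GL (Fin 5) F) : Matrix (Fin 5) (Fin 5) F).det = 1 := by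
      have h3 : ((X * X⁻¹ : GL (Fin 5) F) : Matrix (Fin 5) (Fin 5) F).det = 1 := by
        rw [mul_inv_cancel, Units.val_one, det_one]
      rwa [Units.val_mul, det_mul, hdt _ hX, one_mul] at h3
    refine prO_of_corner (Y := X⁻¹) (x := 1) (k := 1) (s := 11) (t := 11) hd hQ hf hg hS ?_ (O _).one_mem
      (hC' X hX) ?_ (hdt _ hX) hdi odd_one (one_pow 1) (by decide) (by decide) hX1 (one_pow 11) hXi (one_pow 11)
    · rw [mul_inv_cancel, Units.val_one, h1]
    · exact Cfsg.Agent.H126.PwO.Cop.inv (hC' X hX)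
  · have hns : ∀ c : F, corner Q g w w' ≠ c • (1 : Matrix (Fin 5) (Fin 5) F) := (hA.resolve_left h1).1
    obtain ⟨X, Y, hXY, hX, hY⟩ := Five.p5_3 hF _ hdet hns
    exact prO_mat hd hQ hf hg hS hXY (hdt X hX) (hdt Y hY) (by rw [hX]; exact hC') (by rw [hY]; exact hC')
      (s := 11) (t := 11) (by decide) (by decide) (hpow X hX) (hpow Y hY)

/-- **own characteristic, `r ≥ 5`** -/
theorem prO_odd_own [Finite F] [FiniteDimensional F V] {r n : ℕ} (hr : r ∣ Nat.card F) (hq : 4 ≤ Nat.card F)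
    (hn : 3 ≤ n) (hQ : Nondeg Q) (hd : finrank F V = 2 * n + 1) {g : V ≃ₗ[F] V} (hg : g ∈ Om Q) : PrO r Q g := by
  by_cases h1 : g = 1
  · rw [h1]
    exact prO_one r
  obtain ⟨m, hm3, hm1, hm2, w, w', hfr, hS, hdet, hA⟩ :=
    Cfsg.Agent.H434.Corn.exists_baseCorner hQ (by omega) hg (ns_of_ne_one hQ (by rw [hd]; exact ⟨n, rfl⟩) hg h1)
  obtain ⟨k, rfl⟩ : ∃ k, m = k + 2 := ⟨m - 2, by omega⟩
  exact prO_own (by omega) hQ hfr (Om_le hg) hS hdet (hA.imp id fun h => h.1) (by omega) hr hq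

/-- **characteristic 3** -/
theorem prO_odd_of [Finite F] [FiniteDimensional F V] {k n : ℕ} (hk : 1 ≤ k) (hF : Nat.card F = 3 ^ k)
    (hn : 3 ≤ n) (h34 : ¬ (k = 1 ∧ n = 4)) (hQ : Nondeg Q) (hd : finrank F V = 2 * n + 1) {g : V ≃ₗ[F] V}
    (hg : g ∈ Om Q) : PrO 6 Q g := by
  by_cases h1 : g = 1
  · rw [h1]
    exact prO_one 6
  obtain ⟨m, hm3, hm1, hm2, hB⟩ :=
    Cfsg.Agent.H434.Corn.exists_baseCorner hQ (by omega) hg (ns_of_ne_one hQ (by rw [hd]; exact ⟨n, rfl⟩) hg h1)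
  obtain rfl : m = n := by omega
  by_cases hk3 : 3 ≤ k
  · obtain ⟨w, w', hfr, hS, hdet, hA⟩ := hB
    obtain ⟨j, rfl⟩ : ∃ j, m = j + 2 := ⟨m - 2, by omega⟩
    refine prO_six (r := 3) (e := k) (by omega) hQ hfr (Om_le hg) hS hdet (hA.imp id fun h => h.1) (by omega)
      (by norm_num) hk3 hF ?_
    rintro ⟨h8, -⟩
    have h3 : 3 ∣ 8 := by rw [← h8, hF]; exact dvd_pow_self 3 (by omega)
    omega
  rcases Nat.lt_or_ge m 4 with h4 | h4
  · obtain rfl : m = 3 := by omega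
    refine prO_seven ?_ hQ (by omega) hg
    have : k = 1 ∨ k = 2 := by omega
    rcases this with rfl | rfl
    · exact Or.inl hF
    · exact Or.inr hF
  · by_cases h5 : k = 1 ∧ m ≤ 5
    · obtain ⟨rfl, h5⟩ := h5
      obtain rfl : m = 5 := by omega
      exact prO_five_three hF hQ (by omega) (Om_le hg) hB
    · exact prO_engine hk hF h4 h5 hQ hd (Om_le hg) hB

/-! ### the groups -/

theorem own_odd [Fintype F] {r n : ℕ} (hr : r.Prime) (h5 : 5 ≤ r) (hrF : r ∣ Fintype.card F) (hn : 3 ≤ n) :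
    Cfsg.Agent.H78.Pw.All r (Cfsg.POmega F (Cfsg.quadFormOdd n F)) := by
  have hq : 5 ≤ Fintype.card F := h5.trans (Nat.le_of_dvd Fintype.card_pos hrF)
  have ho : Odd (Fintype.card F) := by
    obtain ⟨p, hc⟩ := CharP.exists F
    obtain ⟨k, hp, hk⟩ := FiniteField.card F p
    rw [hk] at hrF ⊢
    have h1 := (Nat.prime_dvd_prime_iff_eq hr hp).1 (hr.dvd_of_dvd_pow hrF)
    exact Odd.pow (hp.odd_of_ne_two (by omega))
  refine all_odd ho n fun Q hQ hd g hg => ?_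
  exact prO_odd_own (by rwa [Nat.card_eq_fintype_card]) (by rw [Nat.card_eq_fintype_card]; omega) hn hQ hd hg

/-- **the row `hown`** -/
theorem own_row (F : Type) [Field F] [Fintype F] (r : ℕ) [hr : Fact r.Prime] [CharP F r] (m : ℕ) (h5 : 5 ≤ r)
    (hm : 3 ≤ m) : Cfsg.Agent.H78.Pw.All r (Cfsg.POmega F (Cfsg.quadFormOdd m F)) := by
  refine own_odd hr.out h5 ?_ hm
  obtain ⟨k, hp, hk⟩ := FiniteField.card F r
  rw [hk]
  exact dvd_pow_self r k.ne_zero

theorem six_odd_of [Fintype F] [CharP F 3] {n : ℕ} (hn : 3 ≤ n) (h34 : ¬ (Fintype.card F = 3 ∧ n = 4)) :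
    Cfsg.Agent.H78.Pw.All 6 (Cfsg.POmega F (Cfsg.quadFormOdd n F)) := by
  obtain ⟨k, hp, hk⟩ := FiniteField.card F 3
  refine all_odd (by rw [hk]; exact Odd.pow (by decide)) n fun Q hQ hd g hg => ?_
  refine prO_odd_of (k := k) k.pos (by rw [Nat.card_eq_fintype_card, hk]) hn ?_ hQ hd hg
  rintro ⟨h1, h2⟩
  exact h34 ⟨by rw [hk, h1, pow_one], h2⟩

end Cfsg.Agent.H367.PO
end

-- part: H85/Pw/EEightFour
section
/-!
# `E₈(4)`: elements of order dividing `6` (S2465)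
-/

set_option autoImplicit false

namespace Cfsg.Agent.H85.Pw

open Cfsg.Lie Cfsg.Agent.H78.Pw Cfsg.Agent.H122.Pw

universe u

variable {K : Type u} [Field K] [Finite K]

theorem pi_five_four (hK : Nat.card K = 4) : PI 5 K 341 := by
  intro L hL U hU
  obtain ⟨X, Y, h, hX, hY, hX', hY'⟩ := CertFour.p_five_four hK L U hL hU
  refine ⟨X, Y, h, ⟨hX, ?_⟩, hY, ?_⟩
  · rw [show 341 = 31 * 11 by norm_num, pow_mul, hX', one_pow]
  · rw [show 341 = 31 * 11 by norm_num, pow_mul, hY', one_pow]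

theorem pi_three_four (hK : Nat.card K = 4) : PI 3 K 7 := by
  intro L hL U hU
  obtain ⟨X, Y, h, hX, hY, hX', hY'⟩ := PThree.p_three_four hK L U hL hU
  exact ⟨X, Y, h, ⟨hX, hX'⟩, hY, hY'⟩

/-- **`E₈(4)`** -/
theorem six_E8_4 (hK : Nat.card K = 4) : All 6 ↥(chevE8.group K) :=
  six_E8_four hK (pi_five_four hK) (pi_three_four hK)

end Cfsg.Agent.H85.Pw
end

private theorem dce_3d6a8e88b70e : _root_.True := by
  try have : _root_.True := by simp only [_root_.Cfsg.Agent.H227.Pw.ck.eq_3]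
  try have : _root_.True := by simp only [_root_.Cfsg.Agent.H227.Pw.lp.eq_1]
  try have : _root_.True := by simp only [_root_.Cfsg.Agent.H227.Pw.ck.eq_1]
  try have : _root_.True := by simp only [_root_.Cfsg.Lie.ChevalleyDatum.parabolicSubgroup.eq_1]
  try have : _root_.True := by simp only [_root_.Cfsg.Agent.H227.Pw.ml.eq_1]
  try have : _root_.True := by simp only [_root_.Cfsg.Agent.H227.Pw.fN.eq_1]
  try have : _root_.True := by simp only [_root_.Cfsg.Agent.H227.Pw.ml.eq_2]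
  try have : _root_.True := by simp only [_root_.Cfsg.Agent.H227.Pw.lp.eq_def]
  try have : _root_.True := by simp only [_root_.Cfsg.Agent.H227.Pw.tst.eq_1]
  try have : _root_.True := by simp only [_root_.Cfsg.Agent.H227.Pw.ml.eq_6]
  try have : _root_.True := by simp only [_root_.Cfsg.Agent.H227.Pw.ml.eq_4]
  try have : _root_.True := by simp only [_root_.Cfsg.Agent.H227.Pw.ck.eq_2]
  try have : _root_.True := by simp only [_root_.Cfsg.Agent.H227.Pw.lp.eq_2]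
  try have : _root_.True := by simp only [_root_.Cfsg.Agent.H227.Pw.ml.eq_3]
  try have : _root_.True := by simp only [_root_.Cfsg.Agent.H227.Pw.ml.eq_5]
  try have : _root_.True := by simp only [_root_.Cfsg.Agent.H227.Pw.ck.eq_def]
  exact _root_.True.intro
end

-- part: H346/Pw/Rows3
section
prune_inst 0x30007504370000000004000060001ef3b3000020000800000085000005810c4000c0c820a230011b420000050031006811000020420000000a8400000118008008000000a0490019000080000008010000000000000000000000000000000000010000000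
set_option linter.all false
open scoped Cfsg.Agent.FastGrp

-- part: H538/Pw/SpNineC
section
/-!
# S2465, `PSp₄(9)`: the kernel check (helper538)

Codes of the field with nine elements, codes of matrices of size four, and the check that every normal form of an
element of `Sp₄(9)` is a product of two elements whose 41st powers are `±1`.
-/

set_option autoImplicit false
set_option linter.unusedVariables false
set_option linter.constructorNameAsVariable false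
set_option maxHeartbeats 1000000
set_option maxRecDepth 100000

namespace Cfsg.Agent.H538.Pw.SpNine

noncomputable section

/-- codes of the elements `a + b i`, number `a + 3 b` -/
inductive C9 | c0 | c1 | c2 | c3 | c4 | c5 | c6 | c7 | c8
  deriving DecidableEq

namespace C9

def re : C9 → ZMod 3
  | c0 => 0
  | c1 => 1
  | c2 => 2
  | c3 => 0
  | c4 => 1
  | c5 => 2
  | c6 => 0
  | c7 => 1
  | c8 => 2
def im : C9 → ZMod 3
  | c0 => 0
  | c1 => 0
  | c2 => 0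
  | c3 => 1
  | c4 => 1
  | c5 => 1
  | c6 => 2
  | c7 => 2
  | c8 => 2
def neg (x : C9) : C9 := C9.rec (motive := fun _ => C9) c0 c2 c1 c6 c8 c7 c3 c5 c4 x
def add0 (y : C9) : C9 := C9.rec (motive := fun _ => C9) c0 c1 c2 c3 c4 c5 c6 c7 c8 y
def add1 (y : C9) : C9 := C9.rec (motive := fun _ => C9) c1 c2 c0 c4 c5 c3 c7 c8 c6 y
def add2 (y : C9) : C9 := C9.rec (motive := fun _ => C9) c2 c0 c1 c5 c3 c4 c8 c6 c7 y
def add3 (y : C9) : C9 := C9.rec (motive := fun _ => C9) c3 c4 c5 c6 c7 c8 c0 c1 c2 y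
def add4 (y : C9) : C9 := C9.rec (motive := fun _ => C9) c4 c5 c3 c7 c8 c6 c1 c2 c0 y
def add5 (y : C9) : C9 := C9.rec (motive := fun _ => C9) c5 c3 c4 c8 c6 c7 c2 c0 c1 y
def add6 (y : C9) : C9 := C9.rec (motive := fun _ => C9) c6 c7 c8 c0 c1 c2 c3 c4 c5 y
def add7 (y : C9) : C9 := C9.rec (motive := fun _ => C9) c7 c8 c6 c1 c2 c0 c4 c5 c3 y
def add8 (y : C9) : C9 := C9.rec (motive := fun _ => C9) c8 c6 c7 c2 c0 c1 c5 c3 c4 y
def mul0 (y : C9) : C9 := C9.rec (motive := fun _ => C9) c0 c0 c0 c0 c0 c0 c0 c0 c0 y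
def mul1 (y : C9) : C9 := C9.rec (motive := fun _ => C9) c0 c1 c2 c3 c4 c5 c6 c7 c8 y
def mul2 (y : C9) : C9 := C9.rec (motive := fun _ => C9) c0 c2 c1 c6 c8 c7 c3 c5 c4 y
def mul3 (y : C9) : C9 := C9.rec (motive := fun _ => C9) c0 c3 c6 c2 c5 c8 c1 c4 c7 y
def mul4 (y : C9) : C9 := C9.rec (motive := fun _ => C9) c0 c4 c8 c5 c6 c1 c7 c2 c3 y
def mul5 (y : C9) : C9 := C9.rec (motive := fun _ => C9) c0 c5 c7 c8 c1 c3 c4 c6 c2 y
def mul6 (y : C9) : C9 := C9.rec (motive := fun _ => C9) c0 c6 c3 c1 c7 c4 c2 c8 c5 y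
def mul7 (y : C9) : C9 := C9.rec (motive := fun _ => C9) c0 c7 c5 c4 c2 c6 c8 c3 c1 y
def mul8 (y : C9) : C9 := C9.rec (motive := fun _ => C9) c0 c8 c4 c7 c3 c2 c5 c1 c6 y
def add (x : C9) : C9 → C9 := C9.rec (motive := fun _ => C9 → C9) add0 add1 add2 add3 add4 add5 add6 add7 add8 x
def mul (x : C9) : C9 → C9 := C9.rec (motive := fun _ => C9 → C9) mul0 mul1 mul2 mul3 mul4 mul5 mul6 mul7 mul8 x

theorem re_add : ∀ x y : C9, (add x y).re = x.re + y.re := by intro x y; cases x <;> cases y <;> decide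
theorem im_add : ∀ x y : C9, (add x y).im = x.im + y.im := by intro x y; cases x <;> cases y <;> decide
theorem re_neg : ∀ x : C9, (neg x).re = -x.re := by intro x; cases x <;> decide
theorem im_neg : ∀ x : C9, (neg x).im = -x.im := by intro x; cases x <;> decide
theorem re_mul : ∀ x y : C9, (mul x y).re = x.re * y.re - x.im * y.im := by
  intro x y; cases x <;> cases y <;> decide
theorem im_mul : ∀ x y : C9, (mul x y).im = x.re * y.im + x.im * y.re := by
  intro x y; cases x <;> cases y <;> decide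
theorem exists_code : ∀ a b : ZMod 3, ∃ x : C9, x.re = a ∧ x.im = b := by
  intro a b
  have h : ∀ a b : ZMod 3, (∃ x ∈ [c0, c1, c2, c3, c4, c5, c6, c7, c8], x.re = a ∧ x.im = b) := by decide
  obtain ⟨x, -, hx⟩ := h a b
  exact ⟨x, hx⟩

/-- quantifier -/
def all (f : C9 → Bool) : Bool :=
  f c0 && (f c1 && (f c2 && (f c3 && (f c4 && (f c5 && (f c6 && (f c7 && f c8)))))))

theorem all_spec {f : C9 → Bool} (h : all f = true) : ∀ x, f x = true := by
  simp only [all, Bool.and_eq_true] at h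
  obtain ⟨h0, h1, h2, h3, h4, h5, h6, h7, h8⟩ := h
  intro x
  cases x <;> assumption

/-- evaluate first -/
def force {α : Type} (x : C9) (k : C9 → α) : α :=
  C9.rec (motive := fun _ => (C9 → α) → α) (fun k => k c0) (fun k => k c1) (fun k => k c2) (fun k => k c3)
    (fun k => k c4) (fun k => k c5) (fun k => k c6) (fun k => k c7) (fun k => k c8) x k

theorem force_eq {α : Type} (x : C9) (k : C9 → α) : force x k = k x := by cases x <;> rfl

def isOne (x : C9) : Bool := C9.rec (motive := fun _ => Bool) false true false false false false false false false x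
def isZero (x : C9) : Bool := C9.rec (motive := fun _ => Bool) true false false false false false false false false x

theorem isOne_iff : ∀ x : C9, isOne x = true ↔ x = c1 := by intro x; cases x <;> decide
theorem isZero_iff : ∀ x : C9, isZero x = true ↔ x = c0 := by intro x; cases x <;> decide

def good0 (d : C9) : Bool := C9.rec (motive := fun _ => Bool) false false false false false false false false false d
def good1 (d : C9) : Bool := C9.rec (motive := fun _ => Bool) false false false true false false true false false d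
def good2 (d : C9) : Bool := C9.rec (motive := fun _ => Bool) false false false true false false true false false d
def good3 (d : C9) : Bool := C9.rec (motive := fun _ => Bool) false false false true true false true true false d
def good4 (d : C9) : Bool := C9.rec (motive := fun _ => Bool) false true false false false true false false false d
def good5 (d : C9) : Bool := C9.rec (motive := fun _ => Bool) false true false false false false false false true d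
def good6 (d : C9) : Bool := C9.rec (motive := fun _ => Bool) false false false true true false true true false d
def good7 (d : C9) : Bool := C9.rec (motive := fun _ => Bool) false true false false false false false false true d
def good8 (d : C9) : Bool := C9.rec (motive := fun _ => Bool) false true false false false true false false false d
/-- the pairs (trace, second invariant) of the elements of order 41 and 82 -/
def good (a : C9) : C9 → Bool := C9.rec (motive := fun _ => C9 → Bool) good0 good1 good2 good3 good4 good5 good6 good7 good8 a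

end C9

/-- sixteen entries -/
structure M16 (T : Type*) where
  (a00 a01 a02 a03 a10 a11 a12 a13 a20 a21 a22 a23 a30 a31 a32 a33 : T)

def M16.map {T S : Type*} (φ : T → S) (m : M16 T) : M16 S :=
  ⟨φ m.a00, φ m.a01, φ m.a02, φ m.a03, φ m.a10, φ m.a11, φ m.a12, φ m.a13,
   φ m.a20, φ m.a21, φ m.a22, φ m.a23, φ m.a30, φ m.a31, φ m.a32, φ m.a33⟩

open C9 in
/-- the witnesses -/
def ZL : List (M16 C9) := [
  ⟨c5, c6, c0, c2, c1, c5, c2, c0, c3, c5, c0, c7, c1, c0, c0, c0⟩,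
  ⟨c8, c5, c5, c8, c7, c8, c6, c4, c6, c1, c5, c8, c5, c1, c1, c5⟩,
  ⟨c2, c0, c5, c6, c7, c6, c4, c0, c3, c5, c2, c0, c2, c6, c3, c8⟩,
  ⟨c0, c6, c5, c3, c8, c0, c8, c6, c6, c7, c7, c1, c0, c5, c6, c7⟩,
  ⟨c0, c7, c1, c2, c7, c0, c4, c1, c6, c0, c1, c1, c0, c6, c1, c7⟩,
  ⟨c4, c8, c1, c6, c8, c3, c6, c5, c5, c6, c5, c2, c4, c8, c0, c8⟩,
  ⟨c5, c7, c2, c2, c0, c5, c8, c6, c8, c8, c3, c8, c4, c0, c0, c6⟩,
  ⟨c5, c2, c1, c5, c6, c7, c7, c3, c8, c0, c2, c1, c2, c1, c5, c2⟩,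
  ⟨c3, c3, c4, c1, c7, c3, c2, c5, c4, c0, c5, c3, c6, c7, c2, c5⟩,
  ⟨c4, c2, c6, c5, c7, c4, c5, c4, c7, c2, c7, c7, c6, c3, c4, c2⟩,
  ⟨c8, c2, c0, c7, c6, c7, c1, c5, c0, c8, c3, c8, c6, c6, c0, c4⟩,
  ⟨c4, c3, c7, c2, c1, c1, c0, c2, c8, c0, c2, c1, c6, c4, c3, c3⟩,
  ⟨c2, c8, c8, c3, c0, c2, c7, c2, c1, c4, c3, c6, c0, c7, c1, c6⟩,
  ⟨c4, c1, c3, c0, c1, c6, c3, c1, c3, c4, c1, c8, c7, c5, c0, c4⟩,
  ⟨c1, c2, c0, c0, c1, c6, c7, c7, c4, c2, c8, c7, c8, c2, c3, c3⟩,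
  ⟨c2, c1, c5, c6, c0, c8, c3, c8, c3, c0, c8, c5, c8, c0, c2, c1⟩]

open C9 in
/-- the check of one witness on the normal form -/
def chkZ (z : M16 C9) (t b x3 x4 y3 y4 : C9) : Bool :=
  force (add (add z.a02 (neg z.a20)) (add (mul b z.a22) (mul t z.a21))) fun m00 =>
  force (add (add (mul x3 z.a11) (mul x4 (add (mul t z.a12) z.a13)))
    (add (mul y3 z.a31) (mul y4 (add (mul t z.a32) z.a33)))) fun m11 =>
  good (add m00 m11) (add (add (mul m00 m11)
    (neg (mul (add (add (mul x3 z.a01) (mul x4 (add (mul t z.a02) z.a03)))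
        (add (add (neg z.a30) (mul b z.a32)) (mul t z.a31)))
      (add z.a12 (add (mul y3 z.a21) (mul y4 (add (mul t z.a22) z.a23)))))))
    (mul (add (add (mul y3 z.a01) (mul y4 (add (mul t z.a02) z.a03)))
        (add z.a10 (neg (add (mul b z.a12) (mul t z.a11)))))
      (add (add (mul x3 z.a21) (mul x4 (add (mul t z.a22) z.a23))) (neg z.a32))))

def chk (t b x3 x4 y3 y4 : C9) : Bool := ZL.any fun z => chkZ z t b x3 x4 y3 y4

open C9 in
/-- the check, `x₄ ≠ 0`, `x₃ = 0` -/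
def ok1 (t b : C9) : Bool :=
  all fun x4 => all fun y3 => !(isOne (neg (mul x4 y3))) || (all fun y4 => chk t b c0 x4 y3 y4)

open C9 in
/-- the check, `x₄ = 0` -/
def ok2 (t b : C9) : Bool :=
  all fun x3 => all fun y4 => !(isOne (mul x3 y4)) || (all fun y3 => chk t b x3 c0 y3 y4)

open C9 in
theorem check10 : (all fun b => ok1 c0 b) = true := by decide +kernel
open C9 in
theorem check11 : (all fun b => ok1 c1 b) = true := by decide +kernel
open C9 in
theorem check20 : (all fun b => ok2 c0 b) = true := by decide +kernel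
open C9 in
theorem check21 : (all fun b => ok2 c1 b) = true := by decide +kernel

open C9 in
/-- the invariants of a matrix -/
def chkM (m : M16 C9) : Bool :=
  force (add m.a00 m.a22) fun m00 => force (add m.a11 m.a33) fun m11 =>
  good (add m00 m11) (add (add (mul m00 m11) (neg (mul (add m.a01 m.a32) (add m.a10 m.a23))))
    (mul (add m.a03 (neg m.a12)) (add m.a21 (neg m.a30))))

/-- the witnesses have the good invariants -/
theorem ZL_good : (ZL.all chkM) = true := by decide +kernel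

open C9 in
/-- the product with the involution `diag (1, -1, 1, -1)` -/
def mulInv (m : M16 C9) : M16 C9 :=
  ⟨m.a00, neg m.a01, m.a02, neg m.a03, m.a10, neg m.a11, m.a12, neg m.a13,
   m.a20, neg m.a21, m.a22, neg m.a23, m.a30, neg m.a31, m.a32, neg m.a33⟩

theorem inv_check : (ZL.any fun z => chkM (mulInv z)) = true := by decide +kernel

open C9 in
/-- the symplectic relations -/
def splOk (m : M16 C9) : Bool :=
  isZero (add (add (mul m.a00 m.a21) (mul m.a10 m.a31)) (neg (add (mul m.a20 m.a01) (mul m.a30 m.a11)))) &&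
  (isOne (add (add (mul m.a00 m.a22) (mul m.a10 m.a32)) (neg (add (mul m.a20 m.a02) (mul m.a30 m.a12)))) &&
  (isZero (add (add (mul m.a00 m.a23) (mul m.a10 m.a33)) (neg (add (mul m.a20 m.a03) (mul m.a30 m.a13)))) &&
  (isZero (add (add (mul m.a01 m.a22) (mul m.a11 m.a32)) (neg (add (mul m.a21 m.a02) (mul m.a31 m.a12)))) &&
  (isOne (add (add (mul m.a01 m.a23) (mul m.a11 m.a33)) (neg (add (mul m.a21 m.a03) (mul m.a31 m.a13)))) &&
   isZero (add (add (mul m.a02 m.a23) (mul m.a12 m.a33)) (neg (add (mul m.a22 m.a03) (mul m.a32 m.a13))))))))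

theorem ZL_spl : (ZL.all splOk) = true := by decide +kernel

/-! ### The powers -/

open C9 in
/-- multiplication by `X` modulo `X⁴ - a X³ + b X² - a X + 1` -/
def shF {α : Type} (a b u0 u1 u2 u3 : C9) (k : C9 → C9 → C9 → C9 → α) : α :=
  force (neg u3) fun v0 => force (add u0 (mul a u3)) fun v1 => force (add u1 (neg (mul b u3))) fun v2 =>
    force (add u2 (mul a u3)) fun v3 => k v0 v1 v2 v3

/-- `n` steps -/
def itF {α : Type} (a b : C9) (n : ℕ) : C9 → C9 → C9 → C9 → (C9 → C9 → C9 → C9 → α) → α :=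
  Nat.rec (motive := fun _ => C9 → C9 → C9 → C9 → (C9 → C9 → C9 → C9 → α) → α)
    (fun u0 u1 u2 u3 k => k u0 u1 u2 u3)
    (fun _ ih u0 u1 u2 u3 k => shF a b u0 u1 u2 u3 fun v0 v1 v2 v3 => ih v0 v1 v2 v3 k) n

open C9 in
/-- the 41st power is `±1` -/
def powOk (a d : C9) : Bool :=
  force (add d c2) fun b => itF a b 41 c1 c0 c0 c0 fun u0 u1 u2 u3 =>
    (isOne u0 || isOne (neg u0)) && (isZero u1 && (isZero u2 && isZero u3))

theorem pow_check : ∀ a d : C9, C9.good a d = true → powOk a d = true := by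
  have h : (C9.all fun a => C9.all fun d => !(C9.good a d) || powOk a d) = true := by decide +kernel
  intro a d hg
  have h1 := C9.all_spec (C9.all_spec h a) d
  rw [hg] at h1
  exact h1

end

end Cfsg.Agent.H538.Pw.SpNine
end

-- part: H538/Pw/SpNineA
section
/-!
# S2465, `PSp₄(9)`: from codes to matrices (helper538)
-/

set_option autoImplicit false
set_option linter.unusedVariables false
set_option linter.unusedSimpArgs false
set_option linter.unusedSectionVars false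
set_option linter.constructorNameAsVariable false
set_option maxHeartbeats 1000000

namespace Cfsg.Agent.H538.Pw.SpNine

noncomputable section

open Matrix

/-- the index type -/
abbrev Ix : Type := Fin 2 ⊕ Fin 2

variable {F : Type*} [Field F]

abbrev Mt (F : Type*) : Type _ := Matrix Ix Ix F

/-- the form -/
abbrev JJ (F : Type*) [Field F] : Mt F := Matrix.J (Fin 2) F

/-- symplectic matrices -/
def SpM (X : Mt F) : Prop := Xᵀ * JJ F * X = JJ F

/-- the 41st power is `±1` -/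
def P41 (X : Mt F) : Prop := X ^ 41 = 1 ∨ X ^ 41 = -1

/-- product of two symplectic matrices with 41st power `±1` -/
def RR (g : Mt F) : Prop := ∃ X Y : Mt F, SpM X ∧ SpM Y ∧ g = X * Y ∧ P41 X ∧ P41 Y

/-! ### Matrices from entries -/

def toM (m : M16 F) : Mt F :=
  fromBlocks !![m.a00, m.a01; m.a10, m.a11] !![m.a02, m.a03; m.a12, m.a13]
    !![m.a20, m.a21; m.a30, m.a31] !![m.a22, m.a23; m.a32, m.a33]

def mulF (x y : M16 F) : M16 F := ⟨
  x.a00 * y.a00 + x.a01 * y.a10 + x.a02 * y.a20 + x.a03 * y.a30,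
  x.a00 * y.a01 + x.a01 * y.a11 + x.a02 * y.a21 + x.a03 * y.a31,
  x.a00 * y.a02 + x.a01 * y.a12 + x.a02 * y.a22 + x.a03 * y.a32,
  x.a00 * y.a03 + x.a01 * y.a13 + x.a02 * y.a23 + x.a03 * y.a33,
  x.a10 * y.a00 + x.a11 * y.a10 + x.a12 * y.a20 + x.a13 * y.a30,
  x.a10 * y.a01 + x.a11 * y.a11 + x.a12 * y.a21 + x.a13 * y.a31,
  x.a10 * y.a02 + x.a11 * y.a12 + x.a12 * y.a22 + x.a13 * y.a32,
  x.a10 * y.a03 + x.a11 * y.a13 + x.a12 * y.a23 + x.a13 * y.a33,
  x.a20 * y.a00 + x.a21 * y.a10 + x.a22 * y.a20 + x.a23 * y.a30,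
  x.a20 * y.a01 + x.a21 * y.a11 + x.a22 * y.a21 + x.a23 * y.a31,
  x.a20 * y.a02 + x.a21 * y.a12 + x.a22 * y.a22 + x.a23 * y.a32,
  x.a20 * y.a03 + x.a21 * y.a13 + x.a22 * y.a23 + x.a23 * y.a33,
  x.a30 * y.a00 + x.a31 * y.a10 + x.a32 * y.a20 + x.a33 * y.a30,
  x.a30 * y.a01 + x.a31 * y.a11 + x.a32 * y.a21 + x.a33 * y.a31,
  x.a30 * y.a02 + x.a31 * y.a12 + x.a32 * y.a22 + x.a33 * y.a32,
  x.a30 * y.a03 + x.a31 * y.a13 + x.a32 * y.a23 + x.a33 * y.a33⟩

theorem toM_mul (x y : M16 F) : toM (mulF x y) = toM x * toM y := by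
  rw [toM, toM, toM, fromBlocks_multiply]
  congr 1 <;>
  · ext i j
    (revert i j; simp only [mulF, Matrix.mul_apply, Fin.sum_univ_two, _root_.Fin.forall_fin_succ, _root_.Matrix.of_apply, _root_.Matrix.cons_val', _root_.Matrix.cons_val_fin_one, _root_.Matrix.cons_mul, _root_.Nat.succ_eq_add_one, Nat.reduceAdd, _root_.Matrix.vecMul_cons, _root_.Matrix.head_cons, _root_.Matrix.smul_cons, _root_.smul_eq_mul, _root_.Matrix.smul_empty, _root_.Matrix.tail_cons, _root_.Matrix.empty_vecMul, _root_.add_zero, _root_.Matrix.add_cons, _root_.Matrix.empty_add_empty, _root_.Matrix.empty_mul, _root_.Equiv.symm_apply_apply, _root_.Matrix.add_apply, Fin.isValue, _root_.Matrix.cons_val_zero, _root_.Matrix.cons_val_succ, _root_.forall_const]) <;> (repeat' with_reducible apply And.intro) <;> ring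

theorem exists_toM (X : Mt F) : ∃ m : M16 F, X = toM m := by
  refine ⟨⟨X (Sum.inl 0) (Sum.inl 0), X (Sum.inl 0) (Sum.inl 1), X (Sum.inl 0) (Sum.inr 0), X (Sum.inl 0) (Sum.inr 1),
    X (Sum.inl 1) (Sum.inl 0), X (Sum.inl 1) (Sum.inl 1), X (Sum.inl 1) (Sum.inr 0), X (Sum.inl 1) (Sum.inr 1),
    X (Sum.inr 0) (Sum.inl 0), X (Sum.inr 0) (Sum.inl 1), X (Sum.inr 0) (Sum.inr 0), X (Sum.inr 0) (Sum.inr 1),
    X (Sum.inr 1) (Sum.inl 0), X (Sum.inr 1) (Sum.inl 1), X (Sum.inr 1) (Sum.inr 0), X (Sum.inr 1) (Sum.inr 1)⟩, ?_⟩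
  ext i j
  rcases i with i | i <;> rcases j with j | j <;> fin_cases i <;> fin_cases j <;> rfl

/-- the relations -/
def SplF (m : M16 F) : Prop :=
  (m.a00 * m.a21 + m.a10 * m.a31 - (m.a20 * m.a01 + m.a30 * m.a11) = 0) ∧
  (m.a00 * m.a22 + m.a10 * m.a32 - (m.a20 * m.a02 + m.a30 * m.a12) = 1) ∧
  (m.a00 * m.a23 + m.a10 * m.a33 - (m.a20 * m.a03 + m.a30 * m.a13) = 0) ∧
  (m.a01 * m.a22 + m.a11 * m.a32 - (m.a21 * m.a02 + m.a31 * m.a12) = 0) ∧
  (m.a01 * m.a23 + m.a11 * m.a33 - (m.a21 * m.a03 + m.a31 * m.a13) = 1) ∧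
  (m.a02 * m.a23 + m.a12 * m.a33 - (m.a22 * m.a03 + m.a32 * m.a13) = 0)

theorem J_toM : JJ F = toM ⟨0, 0, -1, 0, 0, 0, 0, -1, 1, 0, 0, 0, 0, 1, 0, 0⟩ := by
  ext i j
  rcases i with i | i <;> rcases j with j | j <;> (revert i j; simp only [toM, Matrix.J, _root_.Fin.forall_fin_succ, _root_.Matrix.fromBlocks_apply₁₁, _root_.Matrix.zero_apply, _root_.Matrix.of_apply, _root_.Matrix.cons_val', _root_.Matrix.cons_val_fin_one, Fin.isValue, _root_.Matrix.cons_val_zero, _root_.Matrix.cons_val_succ, _root_.forall_const, _root_.and_self, _root_.implies_true, _root_.Matrix.fromBlocks_apply₁₂, _root_.Matrix.neg_apply, _root_.IsEmpty.forall_iff, _root_.and_true, _root_.Matrix.one_apply_eq, Nat.reduceAdd, _root_.Fin.succ_zero_eq_one, _root_.ne_eq, _root_.zero_ne_one, _root_.not_false_eq_true, _root_.Matrix.one_apply_ne, _root_.neg_zero, _root_.Fin.succ_ne_zero, _root_.neg_inj, _root_.true_and, _root_.Matrix.fromBlocks_apply₂₁,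 _root_.Matrix.fromBlocks_apply₂₂])

theorem toM_transpose (m : M16 F) : (toM m)ᵀ = toM ⟨m.a00, m.a10, m.a20, m.a30, m.a01, m.a11, m.a21, m.a31,
    m.a02, m.a12, m.a22, m.a32, m.a03, m.a13, m.a23, m.a33⟩ := by
  have t2 : ∀ a b c d : F, (!![a, b; c, d])ᵀ = !![a, c; b, d] := fun a b c d => by
    ext i j
    fin_cases i <;> fin_cases j <;> rfl
  delta toM
  rw [fromBlocks_transpose, t2, t2, t2, t2]

theorem toM_inj {m n : M16 F} (h : toM m = toM n) : m = n := by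
  have hh : ∀ i j, toM m i j = toM n i j := fun i j => by rw [h]
  obtain ⟨a00, a01, a02, a03, a10, a11, a12, a13, a20, a21, a22, a23, a30, a31, a32, a33⟩ := m
  obtain ⟨b00, b01, b02, b03, b10, b11, b12, b13, b20, b21, b22, b23, b30, b31, b32, b33⟩ := n
  have h00 : a00 = b00 := hh (Sum.inl 0) (Sum.inl 0)
  have h01 : a01 = b01 := hh (Sum.inl 0) (Sum.inl 1)
  have h02 : a02 = b02 := hh (Sum.inl 0) (Sum.inr 0)
  have h03 : a03 = b03 := hh (Sum.inl 0) (Sum.inr 1)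
  have h10 : a10 = b10 := hh (Sum.inl 1) (Sum.inl 0)
  have h11 : a11 = b11 := hh (Sum.inl 1) (Sum.inl 1)
  have h12 : a12 = b12 := hh (Sum.inl 1) (Sum.inr 0)
  have h13 : a13 = b13 := hh (Sum.inl 1) (Sum.inr 1)
  have h20 : a20 = b20 := hh (Sum.inr 0) (Sum.inl 0)
  have h21 : a21 = b21 := hh (Sum.inr 0) (Sum.inl 1)
  have h22 : a22 = b22 := hh (Sum.inr 0) (Sum.inr 0)
  have h23 : a23 = b23 := hh (Sum.inr 0) (Sum.inr 1)
  have h30 : a30 = b30 := hh (Sum.inr 1) (Sum.inl 0)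
  have h31 : a31 = b31 := hh (Sum.inr 1) (Sum.inl 1)
  have h32 : a32 = b32 := hh (Sum.inr 1) (Sum.inr 0)
  have h33 : a33 = b33 := hh (Sum.inr 1) (Sum.inr 1)
  subst h00 h01 h02 h03 h10 h11 h12 h13 h20 h21 h22 h23 h30 h31 h32 h33
  rfl

theorem spM_iff (m : M16 F) : SpM (toM m) ↔ SplF m := by
  rw [SpM, toM_transpose, J_toM, ← toM_mul, ← toM_mul]
  constructor
  · intro h
    have h1 := toM_inj h
    simp only [mulF, M16.mk.injEq] at h1
    obtain ⟨h00, h01, h02, h03, h10, h11, h12, h13, h20, h21, h22, h23, h30, h31, h32, h33⟩ := h1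
    refine ⟨?_, ?_, ?_, ?_, ?_, ?_⟩
    · linear_combination -h01
    · linear_combination -h02
    · linear_combination -h03
    · linear_combination -h12
    · linear_combination -h13
    · linear_combination -h23
  · rintro ⟨h1, h2, h3, h4, h5, h6⟩
    congr 1
    simp only [mulF, M16.mk.injEq]
    refine ⟨?_, ?_, ?_, ?_, ?_, ?_, ?_, ?_, ?_, ?_, ?_, ?_, ?_, ?_, ?_, ?_⟩
    · ring
    · linear_combination -h1
    · linear_combination -h2
    · linear_combination -h3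
    · linear_combination h1
    · ring
    · linear_combination -h4
    · linear_combination -h5
    · linear_combination h2
    · linear_combination h4
    · ring
    · linear_combination -h6
    · linear_combination h3
    · linear_combination h5
    · linear_combination h6
    · ring

/-! ### The quadratic equation of `Y + Y⁻¹` -/

def trF (m : M16 F) : F := (m.a00 + m.a22) + (m.a11 + m.a33)
def sdF (m : M16 F) : F := (m.a00 + m.a22) * (m.a11 + m.a33) - (m.a01 + m.a32) * (m.a10 + m.a23) +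
  (m.a03 - m.a12) * (m.a21 - m.a30)

/-- the inverse -/
def iv (Y : Mt F) : Mt F := -(JJ F * Yᵀ * JJ F)

theorem iv_mul {Y : Mt F} (h : SpM Y) : iv Y * Y = 1 := by
  have h1 : JJ F * Yᵀ * JJ F * Y = JJ F * (Yᵀ * JJ F * Y) := by simp only [Matrix.mul_assoc]
  rw [iv, Matrix.neg_mul, h1, show Yᵀ * JJ F * Y = JJ F from h, Matrix.J_squared, neg_neg]

theorem mul_iv {Y : Mt F} (h : SpM Y) : Y * iv Y = 1 := mul_eq_one_comm.1 (iv_mul h)

/-- entries of the sum -/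
theorem add_iv (m : M16 F) : toM m + iv (toM m) = toM ⟨m.a00 + m.a22, m.a01 + m.a32, 0, m.a03 - m.a12,
    m.a10 + m.a23, m.a11 + m.a33, m.a12 - m.a03, 0, 0, m.a21 - m.a30, m.a00 + m.a22, m.a10 + m.a23,
    m.a30 - m.a21, 0, m.a01 + m.a32, m.a11 + m.a33⟩ := by
  rw [iv, toM_transpose, J_toM, ← toM_mul, ← toM_mul]
  ext i j
  rcases i with i | i <;> rcases j with j | j <;> (revert i j; simp only [toM, mulF, _root_.Fin.forall_fin_succ, _root_.MulZeroClass.zero_mul, _root_.add_zero, _root_.neg_mul, _root_.one_mul, _root_.zero_add, _root_.MulZeroClass.mul_zero, _root_.mul_one, _root_.mul_neg, _root_.neg_neg, _root_.Matrix.add_apply, _root_.Matrix.fromBlocks_apply₁₁, _root_.Matrix.of_apply, _root_.Matrix.cons_val', _root_.Matrix.cons_val_fin_one, _root_.Matrix.neg_apply, Fin.isValue, _root_.Matrix.cons_val_zero, _root_.Matrix.cons_val_succ, _root_.forall_const, _root_.and_self, _root_.implies_true, _root_.Matrix.fromBlocks_apply₁₂,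 _root_.add_neg_cancel, _root_.true_and, _root_.and_true, _root_.Matrix.fromBlocks_apply₂₁, _root_.Matrix.fromBlocks_apply₂₂]) <;> (repeat' with_reducible apply And.intro) <;> ring

theorem one_toM : (1 : Mt F) = toM ⟨1, 0, 0, 0, 0, 1, 0, 0, 0, 0, 1, 0, 0, 0, 0, 1⟩ := by
  ext i j
  rcases i with i | i <;> rcases j with j | j <;> (revert i j; simp only [toM, _root_.Fin.forall_fin_succ, _root_.Matrix.fromBlocks_apply₁₁, _root_.Matrix.of_apply, _root_.Matrix.cons_val', _root_.Matrix.cons_val_fin_one, Fin.isValue, _root_.Matrix.cons_val_zero, _root_.Matrix.cons_val_succ, _root_.IsEmpty.forall_iff, _root_.and_true, _root_.Matrix.one_apply_eq, _root_.Fin.succ_zero_eq_one, _root_.ne_eq, _root_.Sum.inl.injEq, _root_.zero_ne_one, _root_.not_false_eq_true, _root_.Matrix.one_apply_ne, _root_.and_self, _root_.Fin.succ_ne_zero, _root_.true_and, reduceCtorEq, _root_.Matrix.fromBlocks_apply₁₂, _root_.forall_const, _root_.implies_true,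 _root_.Matrix.fromBlocks_apply₂₁, _root_.Matrix.fromBlocks_apply₂₂, _root_.Sum.inr.injEq])

theorem quad (m : M16 F) : (toM m + iv (toM m)) * (toM m + iv (toM m)) =
    trF m • (toM m + iv (toM m)) - sdF m • 1 := by
  rw [add_iv, ← toM_mul, one_toM]
  ext i j
  rcases i with i | i <;> rcases j with j | j <;> (revert i j; simp only [toM, mulF, trF, sdF, _root_.Fin.forall_fin_succ, _root_.MulZeroClass.mul_zero, _root_.add_zero, _root_.MulZeroClass.zero_mul, _root_.zero_add, _root_.Matrix.fromBlocks_apply₁₁, _root_.Matrix.of_apply, _root_.Matrix.cons_val', _root_.Matrix.cons_val_fin_one, _root_.Matrix.sub_apply, _root_.Matrix.smul_apply, _root_.smul_eq_mul, Fin.isValue, _root_.Matrix.cons_val_zero, _root_.Matrix.cons_val_succ, _root_.forall_const, _root_.mul_one, _root_.sub_zero, _root_.Matrix.fromBlocks_apply₁₂, _root_.sub_self, _root_.Matrix.fromBlocks_apply₂₁, _root_.Matrix.fromBlocks_apply₂₂]) <;> (repeat'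 with_reducible apply And.intro) <;> ring

/-- **the characteristic equation** -/
theorem quart {m : M16 F} (h : SpM (toM m)) :
    toM m ^ 4 = trF m • toM m ^ 3 - (sdF m + 2) • toM m ^ 2 + trF m • toM m - 1 := by
  obtain ⟨Y, hY⟩ : ∃ Y, Y = toM m := ⟨_, rfl⟩
  obtain ⟨Z, hZ⟩ : ∃ Z, Z = iv (toM m) := ⟨_, rfl⟩
  have h1 : Y * Z = 1 := by rw [hY, hZ]; exact mul_iv h
  have h2 : Z * Y = 1 := by rw [hY, hZ]; exact iv_mul h
  have h3 := quad m
  rw [← hZ, ← hY] at h3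
  rw [← hY]
  have e1 : Y * (Y + Z) = Y ^ 2 + 1 := by rw [mul_add, h1, pow_two]
  have e2 : (Y + Z) * Y = Y ^ 2 + 1 := by rw [add_mul, h2, pow_two]
  have e3 : (Y ^ 2 + 1) * (Y ^ 2 + 1) = trF m • (Y ^ 3 + Y) - sdF m • Y ^ 2 := by
    calc (Y ^ 2 + 1) * (Y ^ 2 + 1) = (Y * (Y + Z)) * ((Y + Z) * Y) := by rw [e1, e2]
      _ = Y * ((Y + Z) * (Y + Z)) * Y := by simp only [mul_assoc]
      _ = Y * (trF m • (Y + Z) - sdF m • 1) * Y := by rw [h3]
      _ = trF m • ((Y * (Y + Z)) * Y) - sdF m • (Y * Y) := by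
          rw [mul_sub, sub_mul, mul_smul_comm, smul_mul_assoc, mul_smul_comm, smul_mul_assoc, mul_one]
      _ = _ := by rw [e1, add_mul, one_mul, ← pow_two, ← pow_succ]
  have e4 : (Y ^ 2 + 1) * (Y ^ 2 + 1) = Y ^ 4 + (2 : F) • Y ^ 2 + 1 := by
    rw [add_mul, mul_add, mul_one, one_mul, ← pow_add, two_smul]
    abel
  rw [e4] at e3
  have e5 : Y ^ 4 = trF m • (Y ^ 3 + Y) - sdF m • Y ^ 2 - (2 : F) • Y ^ 2 - 1 := by
    rw [← e3]; abel
  rw [e5, smul_add, add_smul]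
  abel

/-! ### The powers -/

/-- evaluation -/
def evm (Y : Mt F) (u0 u1 u2 u3 : F) : Mt F := u0 • 1 + u1 • Y + u2 • Y ^ 2 + u3 • Y ^ 3

theorem evm_shift {Y : Mt F} {a b : F} (h : Y ^ 4 = a • Y ^ 3 - b • Y ^ 2 + a • Y - 1) (u0 u1 u2 u3 : F) :
    Y * evm Y u0 u1 u2 u3 = evm Y (-u3) (u0 + a * u3) (u1 - b * u3) (u2 + a * u3) := by
  have e1 : Y * Y ^ 2 = Y ^ 3 := (pow_succ' Y 2).symm
  have e2 : Y * Y ^ 3 = Y ^ 4 := (pow_succ' Y 3).symm
  rw [evm, evm, mul_add, mul_add, mul_add, mul_smul_comm, mul_smul_comm, mul_smul_comm, mul_smul_comm,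
    mul_one, ← pow_two, e1, e2, h]
  simp only [smul_add, smul_sub, add_smul, sub_smul, mul_smul, neg_smul]
  rw [smul_comm u3 a, smul_comm u3 b, smul_comm u3 a]
  abel

section codes
variable [CharP F 3] (i : F)

/-- the element with a given code -/
def phi (x : C9) : F := ZMod.castHom (dvd_refl 3) F x.re + ZMod.castHom (dvd_refl 3) F x.im * i

theorem phi_add (x y : C9) : phi i (C9.add x y) = phi i x + phi i y := by
  rw [phi, phi, phi, C9.re_add, C9.im_add, map_add, map_add]; ring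

theorem phi_neg (x : C9) : phi i (C9.neg x) = - phi i x := by
  rw [phi, phi, C9.re_neg, C9.im_neg, map_neg, map_neg]; ring

theorem phi_mul (hi : i * i = -1) (x y : C9) : phi i (C9.mul x y) = phi i x * phi i y := by
  rw [phi, phi, phi, C9.re_mul, C9.im_mul, map_sub, map_add, map_mul, map_mul, map_mul, map_mul]
  linear_combination (-(ZMod.castHom (dvd_refl 3) F x.im * ZMod.castHom (dvd_refl 3) F y.im)) * hi

theorem phi_c0 : phi i .c0 = 0 := by
  have h : (C9.c0.re = 0 ∧ C9.c0.im = 0) := by decide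
  rw [phi, h.1, h.2, map_zero, zero_mul, zero_add]
theorem phi_c1 : phi i .c1 = 1 := by
  have h : (C9.c1.re = 1 ∧ C9.c1.im = 0) := by decide
  rw [phi, h.1, h.2, map_one, map_zero, zero_mul, add_zero]
theorem phi_c2 : phi i .c2 = 2 := by
  have h : (C9.c2.re = 2 ∧ C9.c2.im = 0) := by decide
  rw [phi, h.1, h.2, map_zero, zero_mul, add_zero]
  exact map_ofNat _ 2

theorem itF_spec (hi : i * i = -1) {Y : Mt F} {a b : C9}
    (h : Y ^ 4 = phi i a • Y ^ 3 - phi i b • Y ^ 2 + phi i a • Y - 1) (n : ℕ) :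
    ∀ u0 u1 u2 u3 : C9, ∃ v0 v1 v2 v3 : C9,
      (∀ k : C9 → C9 → C9 → C9 → Bool, itF a b n u0 u1 u2 u3 k = k v0 v1 v2 v3) ∧
      Y ^ n * evm Y (phi i u0) (phi i u1) (phi i u2) (phi i u3) =
        evm Y (phi i v0) (phi i v1) (phi i v2) (phi i v3) := by
  induction n with
  | zero => exact fun u0 u1 u2 u3 => ⟨u0, u1, u2, u3, fun k => rfl, by rw [pow_zero, one_mul]⟩
  | succ n ih =>
    intro u0 u1 u2 u3
    obtain ⟨v0, v1, v2, v3, h1, h2⟩ := ih (C9.neg u3) (C9.add u0 (C9.mul a u3))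
      (C9.add u1 (C9.neg (C9.mul b u3))) (C9.add u2 (C9.mul a u3))
    refine ⟨v0, v1, v2, v3, fun k => ?_, ?_⟩
    · rw [← h1 k]
      have e : itF a b (n + 1) u0 u1 u2 u3 k =
        shF a b u0 u1 u2 u3 fun v0 v1 v2 v3 => itF a b n v0 v1 v2 v3 k := rfl
      rw [e, shF]
      simp only [C9.force_eq]
    · rw [pow_succ, mul_assoc, evm_shift h, ← h2]
      simp only [phi_add, phi_neg, phi_mul i hi, sub_eq_add_neg]

theorem pow41 (hi : i * i = -1) {m : M16 F} (h : SpM (toM m)) {a d : C9} (ha : trF m = phi i a)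
    (hd : sdF m = phi i d) (hg : C9.good a d = true) : P41 (toM m) := by
  have h1 := pow_check a d hg
  rw [powOk, C9.force_eq] at h1
  have h2 := quart h
  rw [ha, hd, ← phi_c2 i, ← phi_add] at h2
  obtain ⟨v0, v1, v2, v3, h3, h4⟩ := itF_spec i hi h2 41 .c1 .c0 .c0 .c0
  rw [h3, Bool.and_eq_true, Bool.and_eq_true, Bool.and_eq_true, C9.isZero_iff, C9.isZero_iff,
    C9.isZero_iff, Bool.or_eq_true, C9.isOne_iff, C9.isOne_iff] at h1
  obtain ⟨h5, rfl, rfl, rfl⟩ := h1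
  have e1 : ∀ x : F, evm (toM m) x 0 0 0 = x • 1 := by intro x; rw [evm]; simp only [_root_.zero_smul, _root_.add_zero]
  rw [phi_c0, phi_c1, e1, e1, one_smul, mul_one] at h4
  rcases h5 with rfl | h5
  · left
    rw [h4, phi_c1, one_smul]
  · right
    have h6 : phi i v0 = -1 := by
      rw [← phi_c1 i, ← h5, phi_neg, neg_neg]
    rw [h4, h6, neg_smul, one_smul]

theorem spl_of_code (hi : i * i = -1) {z : M16 C9} (h : splOk z = true) : SplF (z.map (phi i)) := by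
  simp only [splOk, Bool.and_eq_true, C9.isZero_iff, C9.isOne_iff] at h
  obtain ⟨h1, h2, h3, h4, h5, h6⟩ := h
  have f1 := congrArg (phi i) h1
  have f2 := congrArg (phi i) h2
  have f3 := congrArg (phi i) h3
  have f4 := congrArg (phi i) h4
  have f5 := congrArg (phi i) h5
  have f6 := congrArg (phi i) h6
  simp only [phi_add, phi_neg, phi_mul i hi, phi_c0, phi_c1] at f1 f2 f3 f4 f5 f6
  refine ⟨?_, ?_, ?_, ?_, ?_, ?_⟩ <;> simp only [M16.map, sub_eq_add_neg] <;> assumption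

theorem trF_code (z : M16 C9) : trF (z.map (phi i)) =
    phi i (C9.add (C9.add z.a00 z.a22) (C9.add z.a11 z.a33)) := by
  simp only [trF, M16.map, phi_add]

theorem sdF_code (hi : i * i = -1) (z : M16 C9) : sdF (z.map (phi i)) =
    phi i (C9.add (C9.add (C9.mul (C9.add z.a00 z.a22) (C9.add z.a11 z.a33))
      (C9.neg (C9.mul (C9.add z.a01 z.a32) (C9.add z.a10 z.a23))))
      (C9.mul (C9.add z.a03 (C9.neg z.a12)) (C9.add z.a21 (C9.neg z.a30)))) := by
  simp only [sdF, M16.map, phi_add, phi_neg, phi_mul i hi, sub_eq_add_neg]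

theorem pow41_code (hi : i * i = -1) {z : M16 C9} (hs : SpM (toM (z.map (phi i)))) (h : chkM z = true) :
    P41 (toM (z.map (phi i))) := by
  rw [chkM, C9.force_eq, C9.force_eq] at h
  exact pow41 i hi hs (trF_code i z) (sdF_code i hi z) h

/-- a witness gives a factorisation -/
theorem RR_of_wit (hi : i * i = -1) {z : M16 C9} (hz : z ∈ ZL) {N : M16 F} (hN : SpM (toM N))
    (h : P41 (toM (mulF (z.map (phi i)) N))) : RR (toM N) := by
  obtain ⟨Z, hZ⟩ : ∃ Z, Z = toM (z.map (phi i)) := ⟨_, rfl⟩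
  have hzs : SpM Z := by
    rw [hZ]
    exact (spM_iff _).2 (spl_of_code i hi (List.all_eq_true.1 ZL_spl z hz))
  have hz41 : P41 Z := by
    have h1 := hzs
    rw [hZ] at h1 ⊢
    exact pow41_code i hi h1 (List.all_eq_true.1 ZL_good z hz)
  rw [toM_mul, ← hZ] at h
  have hiv : SpM (iv Z) := by
    have h1 : Z * iv Z = 1 := mul_iv hzs
    have h2 : (iv Z)ᵀ * Zᵀ = 1 := by rw [← transpose_mul, h1, transpose_one]
    rw [SpM]
    calc (iv Z)ᵀ * JJ F * iv Z = (iv Z)ᵀ * (Zᵀ * JJ F * Z) * iv Z := by rw [show Zᵀ * JJ F * Z = JJ F from hzs]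
      _ = ((iv Z)ᵀ * Zᵀ) * JJ F * (Z * iv Z) := by simp only [Matrix.mul_assoc]
      _ = JJ F := by rw [h1, h2, Matrix.one_mul, Matrix.mul_one]
  refine ⟨iv Z, Z * toM N, hiv, ?_, ?_, ?_, h⟩
  · rw [SpM, transpose_mul]
    calc (toM N)ᵀ * Zᵀ * JJ F * (Z * toM N) = (toM N)ᵀ * (Zᵀ * JJ F * Z) * toM N := by
          simp only [Matrix.mul_assoc]
      _ = JJ F := by rw [show Zᵀ * JJ F * Z = JJ F from hzs]; exact hN
  · rw [← Matrix.mul_assoc, iv_mul hzs, Matrix.one_mul]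
  · have h1 : iv Z ^ 41 * Z ^ 41 = 1 := by
      have hc : Commute (iv Z) Z := by rw [Commute, SemiconjBy, iv_mul hzs, mul_iv hzs]
      rw [← hc.mul_pow, iv_mul hzs, one_pow]
    rcases hz41 with h2 | h2
    · left; rw [h2, mul_one] at h1; exact h1
    · right
      rw [h2, mul_neg, mul_one] at h1
      rw [← h1, neg_neg]

/-- the normal form -/
def nfF (t b x3 x4 y3 y4 : F) : M16 F :=
  ⟨0, 0, -1, 0, 0, x3, t, y3, 1, t * x4, b, t * y4, 0, x4, 0, y4⟩

theorem spl_nf {t b x3 x4 y3 y4 : F} (h : x3 * y4 - x4 * y3 = 1) : SpM (toM (nfF t b x3 x4 y3 y4)) := by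
  rw [spM_iff]
  refine ⟨?_, ?_, ?_, ?_, ?_, ?_⟩ <;> simp only [nfF]
  · ring
  · ring
  · ring
  · ring
  · linear_combination h
  · ring

theorem wit_nf (hi : i * i = -1) {z : M16 C9} (hz : z ∈ ZL) {t b x3 x4 y3 y4 : C9}
    (hd : phi i x3 * phi i y4 - phi i x4 * phi i y3 = 1) (h : chkZ z t b x3 x4 y3 y4 = true) :
    RR (toM (nfF (phi i t) (phi i b) (phi i x3) (phi i x4) (phi i y3) (phi i y4))) := by
  rw [chkZ, C9.force_eq, C9.force_eq] at h
  have hN := spl_nf hd (t := phi i t) (b := phi i b)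
  refine RR_of_wit i hi hz hN ?_
  have hP : SpM (toM (mulF (z.map (phi i)) (nfF (phi i t) (phi i b) (phi i x3) (phi i x4) (phi i y3) (phi i y4)))) := by
    have hzs : SpM (toM (z.map (phi i))) := (spM_iff _).2 (spl_of_code i hi (List.all_eq_true.1 ZL_spl z hz))
    rw [toM_mul, SpM, transpose_mul]
    calc (toM (nfF (phi i t) (phi i b) (phi i x3) (phi i x4) (phi i y3) (phi i y4)))ᵀ * (toM (z.map (phi i)))ᵀ *
          JJ F * (toM (z.map (phi i)) * toM (nfF (phi i t) (phi i b) (phi i x3) (phi i x4) (phi i y3) (phi i y4)))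
        = (toM (nfF (phi i t) (phi i b) (phi i x3) (phi i x4) (phi i y3) (phi i y4)))ᵀ *
          ((toM (z.map (phi i)))ᵀ * JJ F * toM (z.map (phi i))) *
          toM (nfF (phi i t) (phi i b) (phi i x3) (phi i x4) (phi i y3) (phi i y4)) := by
          simp only [Matrix.mul_assoc]
      _ = JJ F := by rw [show (toM (z.map (phi i)))ᵀ * JJ F * toM (z.map (phi i)) = JJ F from hzs]; exact hN
  refine pow41 i hi hP ?_ ?_ h
  · simp only [trF, mulF, nfF, M16.map, phi_add, phi_neg, phi_mul i hi]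
    ring
  · simp only [sdF, mulF, nfF, M16.map, phi_add, phi_neg, phi_mul i hi]
    ring

/-- the normal forms with `x₃ = 0` or `x₄ = 0` -/
theorem RR_nf0 (hi : i * i = -1) {t b x3 x4 y3 y4 : C9} (ht : t = .c0 ∨ t = .c1)
    (hx : x3 = .c0 ∨ x4 = .c0) (hd : phi i x3 * phi i y4 - phi i x4 * phi i y3 = 1)
    (hinj : ∀ x : C9, phi i x = 1 → x = .c1) :
    RR (toM (nfF (phi i t) (phi i b) (phi i x3) (phi i x4) (phi i y3) (phi i y4))) := by
  have key : chk t b x3 x4 y3 y4 = true := by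
    rcases hx with rfl | rfl
    · have h1 : C9.neg (C9.mul x4 y3) = .c1 := by
        apply hinj
        rw [phi_neg, phi_mul i hi, ← hd, phi_c0]; ring
      have h2 : (C9.all fun b => ok1 t b) = true := by
        rcases ht with rfl | rfl
        · exact check10
        · exact check11
      have h3 := C9.all_spec (C9.all_spec (C9.all_spec h2 b) x4) y3
      rw [Bool.or_eq_true, (C9.isOne_iff _).2 h1] at h3
      rcases h3 with h3 | h3
      · exact absurd h3 (by decide)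
      · exact C9.all_spec h3 y4
    · have h1 : C9.mul x3 y4 = .c1 := by
        apply hinj
        rw [phi_mul i hi, ← hd, phi_c0]; ring
      have h2 : (C9.all fun b => ok2 t b) = true := by
        rcases ht with rfl | rfl
        · exact check20
        · exact check21
      have h3 := C9.all_spec (C9.all_spec (C9.all_spec h2 b) x3) y4
      rw [Bool.or_eq_true, (C9.isOne_iff _).2 h1] at h3
      rcases h3 with h3 | h3
      · exact absurd h3 (by decide)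
      · exact C9.all_spec h3 y3
  obtain ⟨z, hz, h⟩ := List.any_eq_true.1 key
  exact wit_nf i hi hz hd h

/-- the involution -/
theorem RR_inv (hi : i * i = -1) :
    RR (toM (⟨1, 0, 0, 0, 0, -1, 0, 0, 0, 0, 1, 0, 0, 0, 0, -1⟩ : M16 F)) := by
  obtain ⟨z, hz, h⟩ := List.any_eq_true.1 inv_check
  have hN : SpM (toM (⟨1, 0, 0, 0, 0, -1, 0, 0, 0, 0, 1, 0, 0, 0, 0, -1⟩ : M16 F)) := by
    rw [spM_iff]
    refine ⟨?_, ?_, ?_, ?_, ?_, ?_⟩ <;> ring
  refine RR_of_wit i hi hz hN ?_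
  have e : mulF (z.map (phi i)) ⟨1, 0, 0, 0, 0, -1, 0, 0, 0, 0, 1, 0, 0, 0, 0, -1⟩ = (mulInv z).map (phi i) := by
    simp only [mulF, mulInv, M16.map, phi_neg, M16.mk.injEq]
    refine ⟨?_, ?_, ?_, ?_, ?_, ?_, ?_, ?_, ?_, ?_, ?_, ?_, ?_, ?_, ?_, ?_⟩ <;> ring
  rw [e]
  refine pow41_code i hi ?_ h
  rw [← e]
  have hzs : SpM (toM (z.map (phi i))) := (spM_iff _).2 (spl_of_code i hi (List.all_eq_true.1 ZL_spl z hz))
  rw [toM_mul, SpM, transpose_mul]
  calc (toM (⟨1, 0, 0, 0, 0, -1, 0, 0, 0, 0, 1, 0, 0, 0, 0, -1⟩ : M16 F))ᵀ * (toM (z.map (phi i)))ᵀ *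
        JJ F * (toM (z.map (phi i)) * toM ⟨1, 0, 0, 0, 0, -1, 0, 0, 0, 0, 1, 0, 0, 0, 0, -1⟩)
      = (toM (⟨1, 0, 0, 0, 0, -1, 0, 0, 0, 0, 1, 0, 0, 0, 0, -1⟩ : M16 F))ᵀ *
        ((toM (z.map (phi i)))ᵀ * JJ F * toM (z.map (phi i))) *
        toM ⟨1, 0, 0, 0, 0, -1, 0, 0, 0, 0, 1, 0, 0, 0, 0, -1⟩ := by
        simp only [Matrix.mul_assoc]
    _ = JJ F := by rw [show (toM (z.map (phi i)))ᵀ * JJ F * toM (z.map (phi i)) = JJ F from hzs]; exact hN

end codes

/-! ### Frames -/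

/-- **change of frame** -/
theorem RR_of_frame {g P Q N : Mt F} {κ : F} (hκ : κ ≠ 0) (hP : Pᵀ * JJ F * P = κ • JJ F) (hQP : Q * P = 1)
    (hN : g * P = P * N) (h : RR N) : RR g := by
  have hPQ : P * Q = 1 := mul_eq_one_comm.1 hQP
  obtain ⟨X, Y, hX, hY, rfl, hX4, hY4⟩ := h
  have hg : g = P * (X * Y) * Q := by
    rw [← hN, Matrix.mul_assoc, hPQ, Matrix.mul_one]
  have hJ : κ • (Qᵀ * JJ F * Q) = JJ F := by
    have h1 : (P * Q)ᵀ * JJ F * (P * Q) = JJ F := by rw [hPQ, transpose_one, Matrix.one_mul, Matrix.mul_one]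
    calc κ • (Qᵀ * JJ F * Q) = Qᵀ * (κ • JJ F) * Q := by
          rw [Matrix.mul_smul, Matrix.smul_mul]
      _ = Qᵀ * (Pᵀ * JJ F * P) * Q := by rw [hP]
      _ = (P * Q)ᵀ * JJ F * (P * Q) := by simp only [transpose_mul, Matrix.mul_assoc]
      _ = JJ F := h1
  have hsp : ∀ X : Mt F, SpM X → SpM (P * X * Q) := by
    intro X hX
    rw [SpM]
    calc (P * X * Q)ᵀ * JJ F * (P * X * Q) = Qᵀ * (Xᵀ * (Pᵀ * JJ F * P) * X) * Q := by
          simp only [transpose_mul, Matrix.mul_assoc]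
      _ = κ • (Qᵀ * (Xᵀ * JJ F * X) * Q) := by
          rw [hP]; simp only [Matrix.mul_smul, Matrix.smul_mul]
      _ = JJ F := by rw [show Xᵀ * JJ F * X = JJ F from hX, hJ]
  have hpw : ∀ (X : Mt F) (n : ℕ), (P * X * Q) ^ n = P * X ^ n * Q := by
    intro X n
    induction n with
    | zero => rw [pow_zero, pow_zero, Matrix.mul_one, hPQ]
    | succ n ih =>
      rw [pow_succ, ih, pow_succ]
      calc P * X ^ n * Q * (P * X * Q) = P * X ^ n * (Q * P) * X * Q := by simp only [Matrix.mul_assoc]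
        _ = _ := by rw [hQP, Matrix.mul_one]; simp only [Matrix.mul_assoc]
  have hp41 : ∀ X : Mt F, P41 X → P41 (P * X * Q) := by
    rintro X (h | h)
    · left; rw [hpw, h, Matrix.mul_one, hPQ]
    · right; rw [hpw, h, Matrix.mul_neg, Matrix.mul_one, Matrix.neg_mul, hPQ]
  refine ⟨P * X * Q, P * Y * Q, hsp X hX, hsp Y hY, ?_, hp41 X hX4, hp41 Y hY4⟩
  rw [hg]
  calc P * (X * Y) * Q = P * X * 1 * Y * Q := by simp only [Matrix.mul_assoc, Matrix.one_mul]
    _ = P * X * (Q * P) * Y * Q := by rw [hQP]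
    _ = _ := by simp only [Matrix.mul_assoc]

/-- all the normal forms -/
theorem RR_nf [CharP F 3] {i : F} (hi : i * i = -1) (hsur : ∀ r : F, ∃ x : C9, phi i x = r)
    (hinj : ∀ x : C9, phi i x = 1 → x = .c1) {t b x3 x4 y3 y4 : F} (ht : t = 0 ∨ t = 1)
    (hd : x3 * y4 - x4 * y3 = 1) : RR (toM (nfF t b x3 x4 y3 y4)) := by
  have key : ∀ {t b x3 x4 y3 y4 : F}, (t = 0 ∨ t = 1) → x3 * y4 - x4 * y3 = 1 → (x3 = 0 ∨ x4 = 0) →
      RR (toM (nfF t b x3 x4 y3 y4)) := by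
    intro t b x3 x4 y3 y4 ht hd hx
    obtain ⟨b', rfl⟩ := hsur b
    obtain ⟨y3', rfl⟩ := hsur y3
    obtain ⟨y4', rfl⟩ := hsur y4
    obtain ⟨t', ht', rfl⟩ : ∃ t' : C9, (t' = .c0 ∨ t' = .c1) ∧ phi i t' = t := by
      rcases ht with rfl | rfl
      · exact ⟨.c0, Or.inl rfl, phi_c0 i⟩
      · exact ⟨.c1, Or.inr rfl, phi_c1 i⟩
    rcases hx with rfl | rfl
    · obtain ⟨x4', rfl⟩ := hsur x4
      have h := RR_nf0 i hi (t := t') (b := b') (x3 := .c0) (x4 := x4') (y3 := y3') (y4 := y4') ht' (Or.inl rfl)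
        (by rw [phi_c0]; exact hd) hinj
      rw [phi_c0] at h
      exact h
    · obtain ⟨x3', rfl⟩ := hsur x3
      have h := RR_nf0 i hi (t := t') (b := b') (x3 := x3') (x4 := .c0) (y3 := y3') (y4 := y4') ht' (Or.inr rfl)
        (by rw [phi_c0]; exact hd) hinj
      rw [phi_c0] at h
      exact h
  by_cases hx4 : x4 = 0
  · exact key ht hd (Or.inr hx4)
  · obtain ⟨c, hc⟩ : ∃ c : F, c * x4 = x3 := ⟨x3 / x4, div_mul_cancel₀ _ hx4⟩
    have hd' : 0 * (y4 + c * x4) - x4 * (y3 + c * x3 - c * (y4 + c * x4)) = 1 := by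
      rw [← hd, ← hc]; ring
    have h := key (b := b) ht hd' (Or.inl rfl)
    refine RR_of_frame (P := toM ⟨1, 0, 0, 0, 0, 1, 0, c, 0, 0, 1, 0, 0, 0, 0, 1⟩)
      (Q := toM ⟨1, 0, 0, 0, 0, 1, 0, -c, 0, 0, 1, 0, 0, 0, 0, 1⟩) (κ := 1) one_ne_zero ?_ ?_ ?_ h
    · rw [one_smul]
      exact (spM_iff _).2 ⟨by ring, by ring, by ring, by ring, by ring, by ring⟩
    · rw [← toM_mul, one_toM]
      congr 1
      simp only [mulF, M16.mk.injEq]
      refine ⟨?_, ?_, ?_, ?_, ?_, ?_, ?_, ?_, ?_, ?_, ?_, ?_, ?_, ?_, ?_, ?_⟩ <;> ring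
    · rw [← toM_mul, ← toM_mul]
      congr 1
      simp only [mulF, nfF, M16.mk.injEq]
      subst hc
      refine ⟨?_, ?_, ?_, ?_, ?_, ?_, ?_, ?_, ?_, ?_, ?_, ?_, ?_, ?_, ?_, ?_⟩ <;> ring

end

end Cfsg.Agent.H538.Pw.SpNine
end

-- part: H538/Pw/SpNine
section
/-!
# S2465: `PSp₄(9)`: every element is a product of two elements of order prime to 6 (helper538)
-/

set_option autoImplicit false
set_option linter.unusedVariables false
set_option linter.unusedSimpArgs false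
set_option linter.unusedSectionVars false
set_option maxHeartbeats 1000000

namespace Cfsg.Agent.H538.Pw.SpNine

open Matrix
open Cfsg.Agent.H78.Pw

variable {F : Type*} [Field F]

/-- the form in coordinates -/
def Bf (x y : Ix → F) : F :=
  x (Sum.inr 0) * y (Sum.inl 0) + x (Sum.inr 1) * y (Sum.inl 1) - x (Sum.inl 0) * y (Sum.inr 0) -
    x (Sum.inl 1) * y (Sum.inr 1)

theorem Bf_eq (x y : Ix → F) : Bf x y = x ⬝ᵥ (JJ F *ᵥ y) := by
  simp only [Bf, dotProduct, mulVec, Matrix.J, Fintype.sum_sum_type, Fin.sum_univ_two, Matrix.one_apply, _root_.Fin.isValue, _root_.Matrix.fromBlocks_apply₁₁, _root_.Matrix.zero_apply, _root_.MulZeroClass.zero_mul, _root_.add_zero, _root_.Matrix.fromBlocks_apply₁₂, _root_.Matrix.neg_apply, _root_.neg_mul, _root_.ite_mul, _root_.one_mul, _root_.zero_add, ↓ _root_.reduceIte, _root_.zero_ne_one, _root_.neg_zero, _root_.mul_neg, _root_.one_ne_zero, _root_.Matrix.fromBlocks_apply₂₁, _root_.Matrix.fromBlocks_apply₂₂]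
  ring

theorem Bf_act {g : Mt F} (hg : SpM g) (x y : Ix → F) : Bf (g *ᵥ x) (g *ᵥ y) = Bf x y := by
  rw [Bf_eq, Bf_eq, mulVec_mulVec, dotProduct_mulVec, ← vecMul_transpose, vecMul_vecMul, ← Matrix.mul_assoc,
    show gᵀ * JJ F * g = JJ F from hg, ← dotProduct_mulVec]

theorem Bf_self (x : Ix → F) : Bf x x = 0 := by rw [Bf]; ring
theorem Bf_comm (x y : Ix → F) : Bf x y = - Bf y x := by rw [Bf, Bf]; ring
theorem Bf_add_left (x y z : Ix → F) : Bf (x + y) z = Bf x z + Bf y z := by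
  simp only [Bf, Pi.add_apply]; ring
theorem Bf_add_right (x y z : Ix → F) : Bf x (y + z) = Bf x y + Bf x z := by
  simp only [Bf, Pi.add_apply]; ring
theorem Bf_smul_left (c : F) (x y : Ix → F) : Bf (c • x) y = c * Bf x y := by
  simp only [Bf, Pi.smul_apply, smul_eq_mul]; ring
theorem Bf_smul_right (c : F) (x y : Ix → F) : Bf x (c • y) = c * Bf x y := by
  simp only [Bf, Pi.smul_apply, smul_eq_mul]; ring
theorem Bf_sub_right (x y z : Ix → F) : Bf x (y - z) = Bf x y - Bf x z := by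
  simp only [Bf, Pi.sub_apply]; ring
theorem Bf_sub_left (x y z : Ix → F) : Bf (x - y) z = Bf x z - Bf y z := by
  simp only [Bf, Pi.sub_apply]; ring

theorem exists_Bf {x : Ix → F} (hx : x ≠ 0) : ∃ y, Bf x y ≠ 0 := by
  by_contra hcon
  push Not at hcon
  apply hx
  funext c
  rcases c with c | c <;> fin_cases c
  · have := hcon (Pi.single (Sum.inr 0) 1)
    simpa [Bf] using this
  · have := hcon (Pi.single (Sum.inr 1) 1)
    simpa [Bf] using this
  · have := hcon (Pi.single (Sum.inl 0) 1)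
    simpa [Bf] using this
  · have := hcon (Pi.single (Sum.inl 1) 1)
    simpa [Bf] using this

/-- a vector orthogonal to two given ones -/
theorem exists_perp (u v : Ix → F) : ∃ w : Ix → F, w ≠ 0 ∧ Bf u w = 0 ∧ Bf v w = 0 := by
  let L : (Ix → F) →ₗ[F] (Fin 2 → F) :=
    { toFun := fun w => ![Bf u w, Bf v w]
      map_add' := fun x y => by
        funext k; fin_cases k <;> simp [Bf_add_right]
      map_smul' := fun c x => by
        funext k; fin_cases k <;> simp [Bf_smul_right] }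
  have h : LinearMap.ker L ≠ ⊥ := L.ker_ne_bot_of_finrank_lt (by
    rw [Module.finrank_fintype_fun_eq_card, Module.finrank_fintype_fun_eq_card]
    decide)
  obtain ⟨w, hw, hw0⟩ := (Submodule.ne_bot_iff _).1 h
  have h1 : L w = 0 := hw
  exact ⟨w, hw0, congrFun h1 0, congrFun h1 1⟩

/-- the fourth vector of a frame -/
theorem exists_dual {e1 f1 e2 : Ix → F} {κ : F} (hκ : κ ≠ 0) (h1 : Bf f1 e1 = κ) (h0 : e2 ≠ 0)
    (h2 : Bf e1 e2 = 0) (h3 : Bf f1 e2 = 0) :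
    ∃ f2 : Ix → F, Bf e1 f2 = 0 ∧ Bf f1 f2 = 0 ∧ Bf f2 e2 = κ := by
  obtain ⟨z, hz⟩ := exists_Bf h0
  have h1' : Bf e1 f1 = -κ := by rw [Bf_comm, h1]
  obtain ⟨z', hz'⟩ : ∃ z' : Ix → F, z' = z + (Bf e1 z / κ) • f1 - (Bf f1 z / κ) • e1 := ⟨_, rfl⟩
  have a1 : Bf e1 z' = 0 := by
    rw [hz', Bf_sub_right, Bf_add_right, Bf_smul_right, Bf_smul_right, h1', Bf_self]
    field_simp
    ring
  have a2 : Bf f1 z' = 0 := by
    rw [hz', Bf_sub_right, Bf_add_right, Bf_smul_right, Bf_smul_right, h1, Bf_self]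
    field_simp
    ring
  have a3 : Bf e2 z' = Bf e2 z := by
    rw [hz', Bf_sub_right, Bf_add_right, Bf_smul_right, Bf_smul_right, Bf_comm e2 f1, Bf_comm e2 e1, h2, h3]
    ring
  refine ⟨(-κ / Bf e2 z) • z', ?_, ?_, ?_⟩
  · rw [Bf_smul_right, a1, mul_zero]
  · rw [Bf_smul_right, a2, mul_zero]
  · rw [Bf_comm, Bf_smul_right, a3]
    field_simp

/-- the matrix with given columns -/
def PM (e1 e2 f1 f2 : Ix → F) : Mt F := Matrix.of fun r c => (Sum.elim ![e1, e2] ![f1, f2] c) r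

theorem PM_toM (e1 e2 f1 f2 : Ix → F) : PM e1 e2 f1 f2 = toM ⟨e1 (Sum.inl 0), e2 (Sum.inl 0), f1 (Sum.inl 0),
    f2 (Sum.inl 0), e1 (Sum.inl 1), e2 (Sum.inl 1), f1 (Sum.inl 1), f2 (Sum.inl 1), e1 (Sum.inr 0), e2 (Sum.inr 0),
    f1 (Sum.inr 0), f2 (Sum.inr 0), e1 (Sum.inr 1), e2 (Sum.inr 1), f1 (Sum.inr 1), f2 (Sum.inr 1)⟩ := by
  ext i j
  rcases i with i | i <;> rcases j with j | j <;> fin_cases i <;> fin_cases j <;> rfl

theorem PM_gram {e1 e2 f1 f2 : Ix → F} {κ : F} (h11 : Bf f1 e1 = κ) (h22 : Bf f2 e2 = κ) (h12 : Bf e1 e2 = 0)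
    (h13 : Bf e1 f2 = 0) (h23 : Bf f1 e2 = 0) (h33 : Bf f1 f2 = 0) :
    (PM e1 e2 f1 f2)ᵀ * JJ F * PM e1 e2 f1 f2 = κ • JJ F := by
  have hk : κ • JJ F = toM ⟨0, 0, -κ, 0, 0, 0, 0, -κ, κ, 0, 0, 0, 0, κ, 0, 0⟩ := by
    rw [J_toM]
    ext i j
    rcases i with i | i <;> rcases j with j | j <;> (revert i j; simp only [toM, _root_.Fin.forall_fin_succ, _root_.Matrix.smul_apply, _root_.Matrix.fromBlocks_apply₁₁, _root_.Matrix.of_apply, _root_.Matrix.cons_val', _root_.Matrix.cons_val_fin_one, _root_.smul_eq_mul, Fin.isValue, _root_.Matrix.cons_val_zero, _root_.Matrix.cons_val_succ, _root_.forall_const, _root_.and_self, _root_.MulZeroClass.mul_zero, _root_.implies_true, _root_.Matrix.fromBlocks_apply₁₂, _root_.mul_neg, _root_.mul_one, _root_.Matrix.fromBlocks_apply₂₁, _root_.Matrix.fromBlocks_apply₂₂])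
  rw [PM_toM, toM_transpose, hk, J_toM, ← toM_mul, ← toM_mul]
  congr 1
  simp only [Bf] at h11 h22 h12 h13 h23 h33
  simp only [mulF, M16.mk.injEq]
  refine ⟨?_, ?_, ?_, ?_, ?_, ?_, ?_, ?_, ?_, ?_, ?_, ?_, ?_, ?_, ?_, ?_⟩
  · ring
  · linear_combination h12
  · linear_combination -h11
  · linear_combination h13
  · linear_combination -h12
  · ring
  · linear_combination -h23
  · linear_combination -h22
  · linear_combination h11
  · linear_combination h23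
  · ring
  · linear_combination h33
  · linear_combination -h13
  · linear_combination h22
  · linear_combination -h33
  · ring

/-- the inverse of the frame matrix -/
theorem exists_Q {P : Mt F} {κ : F} (hκ : κ ≠ 0) (hP : Pᵀ * JJ F * P = κ • JJ F) : ∃ Q : Mt F, Q * P = 1 := by
  refine ⟨κ⁻¹ • (-(JJ F * Pᵀ * JJ F)), ?_⟩
  calc (κ⁻¹ • (-(JJ F * Pᵀ * JJ F))) * P = -(κ⁻¹ • (JJ F * (Pᵀ * JJ F * P))) := by
        rw [Matrix.smul_mul, Matrix.neg_mul, smul_neg]
        simp only [Matrix.mul_assoc]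
    _ = 1 := by
        rw [hP, Matrix.mul_smul, Matrix.J_squared, smul_smul, inv_mul_cancel₀ hκ, one_smul, neg_neg]

/-- the transformed matrix is symplectic -/
theorem sp_of_frame {g P N : Mt F} {κ : F} (hκ : κ ≠ 0) (hg : SpM g) (hP : Pᵀ * JJ F * P = κ • JJ F)
    (hN : g * P = P * N) : SpM N := by
  have h1 : κ • (Nᵀ * JJ F * N) = κ • JJ F := by
    calc κ • (Nᵀ * JJ F * N) = Nᵀ * (κ • JJ F) * N := by rw [Matrix.mul_smul, Matrix.smul_mul]
      _ = Nᵀ * (Pᵀ * JJ F * P) * N := by rw [hP]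
      _ = (P * N)ᵀ * JJ F * (P * N) := by simp only [transpose_mul, Matrix.mul_assoc]
      _ = (g * P)ᵀ * JJ F * (g * P) := by rw [hN]
      _ = Pᵀ * (gᵀ * JJ F * g) * P := by simp only [transpose_mul, Matrix.mul_assoc]
      _ = κ • JJ F := by rw [show gᵀ * JJ F * g = JJ F from hg, hP]
  have h2 := congrArg (fun M => κ⁻¹ • M) h1
  simp only [smul_smul, inv_mul_cancel₀ hκ, one_smul] at h2
  exact h2

theorem PM_mulVec (e1 e2 f1 f2 : Ix → F) (v : Ix → F) : PM e1 e2 f1 f2 *ᵥ v =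
    v (Sum.inl 0) • e1 + v (Sum.inl 1) • e2 + v (Sum.inr 0) • f1 + v (Sum.inr 1) • f2 := by
  funext r
  simp only [PM, mulVec, dotProduct, Fintype.sum_sum_type, Fin.sum_univ_two, _root_.Nat.succ_eq_add_one, _root_.Nat.reduceAdd, _root_.Matrix.of_apply, _root_.Sum.elim_inl, _root_.Matrix.cons_val', _root_.Matrix.cons_val_fin_one, _root_.Fin.isValue, _root_.Matrix.cons_val_zero, _root_.Matrix.cons_val_one, _root_.Sum.elim_inr, _root_.Pi.add_apply, _root_.Pi.smul_apply, _root_.smul_eq_mul]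
  ring

section main
variable [CharP F 3] {i : F} (hi : i * i = -1) (hsur : ∀ r : F, ∃ x : C9, phi i x = r)
  (hinj : ∀ x : C9, phi i x = 1 → x = .c1)
include hi hsur hinj

/-- first case: `B(v, g v) ≠ 0` -/
theorem RR_of_ne {g : Mt F} (hg : SpM g) {v : Ix → F} (hv : Bf (g *ᵥ v) v ≠ 0) : RR g := by
  obtain ⟨κ, hκ⟩ : ∃ κ, κ = Bf (g *ᵥ v) v := ⟨_, rfl⟩
  have hκ0 : κ ≠ 0 := by rw [hκ]; exact hv
  obtain ⟨f1, hf1⟩ : ∃ f1, f1 = g *ᵥ v := ⟨_, rfl⟩
  have h11 : Bf f1 v = κ := by rw [hκ, hf1]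
  have h11' : Bf v f1 = -κ := by rw [Bf_comm, h11]
  have hgf : Bf (g *ᵥ f1) f1 = κ := by
    rw [hf1, Bf_act hg, hκ]
  -- the component of `g f1`
  obtain ⟨β, hβ⟩ : ∃ β, β = -(Bf v (g *ᵥ f1)) / κ := ⟨_, rfl⟩
  obtain ⟨w, hw⟩ : ∃ w, w = g *ᵥ f1 + v - β • f1 := ⟨_, rfl⟩
  have hw1 : Bf v w = 0 := by
    rw [hw, Bf_sub_right, Bf_add_right, Bf_smul_right, Bf_self, h11', hβ]
    field_simp
    ring
  have hw2 : Bf f1 w = 0 := by
    rw [hw, Bf_sub_right, Bf_add_right, Bf_smul_right, Bf_self, h11, Bf_comm f1, hgf]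
    ring
  -- the third vector
  obtain ⟨e2, τ, hτ, he0, he1, he2, he3⟩ : ∃ (e2 : Ix → F) (τ : F), (τ = 0 ∨ τ = 1) ∧ e2 ≠ 0 ∧ Bf v e2 = 0 ∧
      Bf f1 e2 = 0 ∧ g *ᵥ f1 = -v + τ • e2 + β • f1 := by
    by_cases hw0 : w = 0
    · obtain ⟨e2, h1, h2, h3⟩ := exists_perp v f1
      refine ⟨e2, 0, Or.inl rfl, h1, h2, h3, ?_⟩
      rw [zero_smul, add_zero]
      have h4 : g *ᵥ f1 = w - v + β • f1 := by rw [hw]; abel
      rw [h4, hw0, zero_sub]
    · refine ⟨w, 1, Or.inr rfl, hw0, hw1, hw2, ?_⟩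
      rw [one_smul, hw]; abel
  obtain ⟨f2, hf21, hf22, hf23⟩ := exists_dual hκ0 h11 he0 he1 he2
  obtain ⟨P, hP⟩ : ∃ P, P = PM v e2 f1 f2 := ⟨_, rfl⟩
  have hPJ : Pᵀ * JJ F * P = κ • JJ F := by
    rw [hP]; exact PM_gram h11 hf23 he1 hf21 he2 hf22
  obtain ⟨Q, hQP⟩ := exists_Q hκ0 hPJ
  have hPQ : P * Q = 1 := mul_eq_one_comm.1 hQP
  obtain ⟨N, hN⟩ : ∃ N, N = Q * g * P := ⟨_, rfl⟩
  have hgP : g * P = P * N := by
    rw [hN, ← Matrix.mul_assoc, ← Matrix.mul_assoc, hPQ, Matrix.one_mul]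
  refine RR_of_frame hκ0 hPJ hQP hgP ?_
  have hNs := sp_of_frame hκ0 hg hPJ hgP
  -- the columns of `N`
  have hQv : ∀ x, Q *ᵥ (P *ᵥ x) = x := by
    intro x; rw [mulVec_mulVec, hQP, one_mulVec]
  have hcol : ∀ x, N *ᵥ x = Q *ᵥ (g *ᵥ (P *ᵥ x)) := by
    intro x; rw [hN, mulVec_mulVec, mulVec_mulVec, Matrix.mul_assoc]
  have hc0 : N *ᵥ Pi.single (Sum.inl 0) 1 = Pi.single (Sum.inr 0) 1 := by
    have h1 : P *ᵥ Pi.single (Sum.inl 0) 1 = v := by rw [hP, PM_mulVec]; simp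
    have h2 : P *ᵥ Pi.single (Sum.inr 0) 1 = f1 := by rw [hP, PM_mulVec]; simp
    rw [hcol, h1, ← hf1, ← h2, hQv]
  have hc2 : N *ᵥ Pi.single (Sum.inr 0) 1 = fun c => Sum.elim ![-1, τ] ![β, 0] c := by
    have h1 : P *ᵥ Pi.single (Sum.inr 0) 1 = f1 := by rw [hP, PM_mulVec]; simp
    have h2 : P *ᵥ (fun c => Sum.elim ![-1, τ] ![β, 0] c) = g *ᵥ f1 := by
      rw [hP, PM_mulVec, he3]; simp
    rw [hcol, h1, ← h2, hQv]
  obtain ⟨m, rfl⟩ := exists_toM N
  have hm := (spM_iff m).1 hNs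
  have h00 : m.a00 = 0 := by
    have := congrFun hc0 (Sum.inl 0)
    rw [mulVec_single_one] at this
    simpa [toM] using this
  have h10 : m.a10 = 0 := by
    have := congrFun hc0 (Sum.inl 1)
    rw [mulVec_single_one] at this
    simpa [toM] using this
  have h20 : m.a20 = 1 := by
    have := congrFun hc0 (Sum.inr 0)
    rw [mulVec_single_one] at this
    simpa [toM] using this
  have h30 : m.a30 = 0 := by
    have := congrFun hc0 (Sum.inr 1)
    rw [mulVec_single_one] at this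
    simpa [toM] using this
  have h02 : m.a02 = -1 := by
    have := congrFun hc2 (Sum.inl 0)
    rw [mulVec_single_one] at this
    simpa [toM] using this
  have h12 : m.a12 = τ := by
    have := congrFun hc2 (Sum.inl 1)
    rw [mulVec_single_one] at this
    simpa [toM] using this
  have h22 : m.a22 = β := by
    have := congrFun hc2 (Sum.inr 0)
    rw [mulVec_single_one] at this
    simpa [toM] using this
  have h32 : m.a32 = 0 := by
    have := congrFun hc2 (Sum.inr 1)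
    rw [mulVec_single_one] at this
    simpa [toM] using this
  obtain ⟨s1, s2, s3, s4, s5, s6⟩ := hm
  rw [h00, h10, h20, h30] at s1 s3
  have h01 : m.a01 = 0 := by linear_combination -s1
  have h03 : m.a03 = 0 := by linear_combination -s3
  rw [h01, h22, h32, h02, h12] at s4
  have h21 : m.a21 = τ * m.a31 := by linear_combination s4
  rw [h01, h03] at s5
  have hdet : m.a11 * m.a33 - m.a31 * m.a13 = 1 := by linear_combination s5
  rw [h02, h12, h22, h32, h03] at s6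
  have h23 : m.a23 = τ * m.a33 := by linear_combination -s6
  have e : m = nfF τ β m.a11 m.a31 m.a13 m.a33 := by
    obtain ⟨a00, a01, a02, a03, a10, a11, a12, a13, a20, a21, a22, a23, a30, a31, a32, a33⟩ := m
    simp only at h00 h01 h02 h03 h10 h12 h20 h21 h22 h23 h30 h32
    subst h00 h01 h02 h03 h10 h12 h20 h21 h22 h23 h30 h32
    rfl
  rw [e]
  exact RR_nf hi hsur hinj hτ hdet

/-- second case: an involution -/
theorem RR_of_sq {g : Mt F} (hg : SpM g) (h2 : g * g = 1) (h1 : g ≠ 1) (h1' : g ≠ -1) : RR g := by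
  have h20 : (2 : F) ≠ 0 := by
    intro h
    have h3 : (3 : F) = 0 := CharP.cast_eq_zero F 3
    have : (1 : F) = 0 := by linear_combination h3 - h
    exact one_ne_zero this
  have hgg : ∀ x, g *ᵥ (g *ᵥ x) = x := fun x => by rw [mulVec_mulVec, h2, one_mulVec]
  obtain ⟨u, hu0, hu⟩ : ∃ u : Ix → F, u ≠ 0 ∧ g *ᵥ u = u := by
    by_contra hcon
    push Not at hcon
    apply h1'
    have h3 : ∀ x, g *ᵥ x = -x := by
      intro x
      have h4 : x + g *ᵥ x = 0 := by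
        by_contra hne
        exact hcon _ hne (by rw [mulVec_add, hgg, add_comm])
      rw [eq_neg_iff_add_eq_zero, add_comm]; exact h4
    exact Matrix.ext_of_mulVec_single fun c => by rw [h3, neg_mulVec, one_mulVec]
  obtain ⟨w, hw0, hw⟩ : ∃ w : Ix → F, w ≠ 0 ∧ g *ᵥ w = -w := by
    by_contra hcon
    push Not at hcon
    apply h1
    have h3 : ∀ x, g *ᵥ x = x := by
      intro x
      have h4 : x - g *ᵥ x = 0 := by
        by_contra hne
        exact hcon _ hne (by rw [mulVec_sub, hgg, neg_sub])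
      exact (sub_eq_zero.1 h4).symm
    exact Matrix.ext_of_mulVec_single fun c => by rw [h3, one_mulVec]
  obtain ⟨z, hz⟩ := exists_Bf hu0
  obtain ⟨z', hz'⟩ := exists_Bf hw0
  have hpm : ∀ x y, g *ᵥ x = x → g *ᵥ y = -y → Bf x y = 0 := by
    intro x y hx hy
    have h3 := Bf_act hg x y
    rw [hx, hy] at h3
    have h4 : Bf x (-y) = - Bf x y := by rw [← neg_one_smul F y, Bf_smul_right]; ring
    rw [h4] at h3
    have h5 : 2 * Bf x y = 0 := by linear_combination -h3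
    exact (mul_eq_zero.1 h5).resolve_left h20
  obtain ⟨f1, hf1⟩ : ∃ f1 : Ix → F, f1 = (-(1 / (2 * Bf u z))) • (z + g *ᵥ z) := ⟨_, rfl⟩
  obtain ⟨f2, hf2⟩ : ∃ f2 : Ix → F, f2 = (-(1 / (2 * Bf w z'))) • (z' - g *ᵥ z') := ⟨_, rfl⟩
  have gf1 : g *ᵥ f1 = f1 := by rw [hf1, mulVec_smul, mulVec_add, hgg, add_comm]
  have gf2 : g *ᵥ f2 = -f2 := by rw [hf2, mulVec_smul, mulVec_sub, hgg, ← smul_neg, neg_sub]
  have b1 : Bf f1 u = 1 := by
    have h3 : Bf u (g *ᵥ z) = Bf u z := by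
      conv_lhs => rw [← hu]
      exact Bf_act hg u z
    rw [Bf_comm, hf1, Bf_smul_right, Bf_add_right, h3]
    field_simp
    ring
  have b2 : Bf f2 w = 1 := by
    have h3 : Bf w (g *ᵥ z') = - Bf w z' := by
      have h4 := Bf_act hg w z'
      rw [hw] at h4
      have h5 : Bf (-w) (g *ᵥ z') = - Bf w (g *ᵥ z') := by rw [← neg_one_smul F w, Bf_smul_left]; ring
      rw [h5] at h4
      linear_combination -h4
    rw [Bf_comm, hf2, Bf_smul_right, Bf_sub_right, h3]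
    field_simp
    ring
  have hPJ : (PM u w f1 f2)ᵀ * JJ F * PM u w f1 f2 = (1 : F) • JJ F :=
    PM_gram b1 b2 (hpm _ _ hu hw) (hpm _ _ hu gf2) (hpm _ _ gf1 hw) (hpm _ _ gf1 gf2)
  obtain ⟨Q, hQP⟩ := exists_Q one_ne_zero hPJ
  refine RR_of_frame one_ne_zero hPJ hQP ?_ (RR_inv i hi)
  apply Matrix.ext_of_mulVec_single
  intro c
  rw [← mulVec_mulVec, ← mulVec_mulVec, PM_mulVec, PM_mulVec]
  simp only [mulVec_add, mulVec_smul, hu, hw, gf1, gf2]
  rcases c with c | c <;> (revert c; simp only [toM, mulVec_single_one, _root_.Fin.forall_fin_succ, Fin.isValue, _root_.smul_neg, _root_.ne_eq, reduceCtorEq, _root_.not_false_eq_true, _root_.Pi.single_eq_of_ne, _root_.zero_smul, _root_.add_zero, _root_.neg_zero, _root_.Matrix.mulVec_single, _root_.MulOpposite.op_one, _root_.Pi.smul_apply, _root_.Matrix.col_apply, _root_.Matrix.fromBlocks_apply₁₁, _root_.Matrix.of_apply, _root_.Matrix.cons_val', _root_.Matrix.cons_val_fin_one,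 _root_.Matrix.cons_val_zero, _root_.one_smul, _root_.Matrix.cons_val_one, _root_.Matrix.fromBlocks_apply₂₁, _root_.Pi.single_eq_same, _root_.Sum.inl.injEq, _root_.one_ne_zero, _root_.Fin.succ_ne_zero, _root_.Pi.single_eq_of_ne', _root_.zero_add, _root_.Matrix.cons_val_succ, _root_.neg_smul, _root_.neg_inj, _root_.Fin.succ_zero_eq_one, _root_.IsEmpty.forall_iff, _root_.and_self, _root_.Matrix.fromBlocks_apply₁₂, _root_.Matrix.fromBlocks_apply₂₂, _root_.Sum.inr.injEq])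

/-- **every symplectic matrix except `±1`** -/
theorem RR_all {g : Mt F} (hg : SpM g) (h1 : g ≠ 1) (h1' : g ≠ -1) : RR g := by
  by_cases h : ∃ v, Bf (g *ᵥ v) v ≠ 0
  · obtain ⟨v, hv⟩ := h
    exact RR_of_ne hi hsur hinj hg hv
  · push Not at h
    refine RR_of_sq hi hsur hinj hg ?_ h1 h1'
    have h2 : ∀ x y, Bf (g *ᵥ x) y = Bf x (g *ᵥ y) := by
      intro x y
      have h3 := h (x + y)
      rw [mulVec_add, Bf_add_left, Bf_add_right, Bf_add_right, h, h, zero_add, add_zero] at h3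
      rw [Bf_comm x]
      linear_combination h3
    have h4 : ∀ x, g *ᵥ (g *ᵥ x) = x := by
      intro x
      by_contra hne
      obtain ⟨y, hy⟩ := exists_Bf (sub_ne_zero.2 hne)
      apply hy
      rw [Bf_sub_left, h2, Bf_act hg, sub_self]
    exact Matrix.ext_of_mulVec_single fun c => by rw [← mulVec_mulVec, h4, one_mulVec]

end main

/-! ### The field with nine elements -/

theorem exists_setup (F : Type*) [Field F] [Fintype F] (hF : Fintype.card F = 9) :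
    ∃ (_ : CharP F 3) (i : F), i * i = -1 ∧ Function.Bijective (phi i) := by
  obtain ⟨p, hp⟩ := CharP.exists F
  obtain ⟨n, hpp, hc⟩ := FiniteField.card F p
  have hp3 : p = 3 := by
    have h1 : p ∣ 9 := by
      rw [← hF, hc]; exact dvd_pow_self p n.pos.ne'
    have h2 : p ∣ 3 := hpp.dvd_of_dvd_pow (show p ∣ 3 ^ 2 by norm_num; exact h1)
    exact (Nat.prime_dvd_prime_iff_eq hpp Nat.prime_three).1 h2
  subst hp3
  obtain ⟨i, hi⟩ : IsSquare (-1 : F) := by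
    rw [FiniteField.isSquare_neg_one_iff, hF]; norm_num
  refine ⟨hp, i, hi.symm, ?_⟩
  have hcard : Fintype.card (ZMod 3 × ZMod 3) = 9 := by decide
  have hinj : ∀ a b : ZMod 3, ZMod.castHom (dvd_refl 3) F a + ZMod.castHom (dvd_refl 3) F b * i = 0 → a = 0 ∧ b = 0 := by
    intro a b h
    have hb : b = 0 := by
      by_contra hb
      have h1 : ZMod.castHom (dvd_refl 3) F (a * a + b * b) = 0 := by
        rw [map_add, map_mul, map_mul]
        have h2 : ZMod.castHom (dvd_refl 3) F a = -(ZMod.castHom (dvd_refl 3) F b * i) := by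
          linear_combination h
        rw [h2]
        linear_combination (-(ZMod.castHom (dvd_refl 3) F b * ZMod.castHom (dvd_refl 3) F b)) * hi
      have h3 : a * a + b * b = 0 := (ZMod.castHom_injective F) (by rw [h1, map_zero])
      have h4 : ∀ a b : ZMod 3, b ≠ 0 → a * a + b * b ≠ 0 := by decide
      exact h4 a b hb h3
    subst hb
    rw [map_zero, zero_mul, add_zero] at h
    exact ⟨(ZMod.castHom_injective F) (by rw [h, map_zero]), rfl⟩
  have hinj' : Function.Injective (phi i) := by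
    intro x y h
    have h1 : ZMod.castHom (dvd_refl 3) F (x.re - y.re) + ZMod.castHom (dvd_refl 3) F (x.im - y.im) * i = 0 := by
      rw [map_sub, map_sub]
      rw [phi, phi] at h
      linear_combination h
    obtain ⟨h2, h3⟩ := hinj _ _ h1
    have h4 : ∀ x y : C9, x.re - y.re = 0 → x.im - y.im = 0 → x = y := by
      intro x y; cases x <;> cases y <;> decide
    exact h4 x y h2 h3
  let ψ : ZMod 3 × ZMod 3 → F := fun p =>
    ZMod.castHom (dvd_refl 3) F p.1 + ZMod.castHom (dvd_refl 3) F p.2 * i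
  have hψ : Function.Injective ψ := by
    rintro ⟨a, b⟩ ⟨c, d⟩ h
    have h1 : ZMod.castHom (dvd_refl 3) F (a - c) + ZMod.castHom (dvd_refl 3) F (b - d) * i = 0 := by
      rw [map_sub, map_sub]
      change ZMod.castHom (dvd_refl 3) F a + ZMod.castHom (dvd_refl 3) F b * i =
        ZMod.castHom (dvd_refl 3) F c + ZMod.castHom (dvd_refl 3) F d * i at h
      linear_combination h
    obtain ⟨h2, h3⟩ := hinj _ _ h1
    rw [Prod.mk.injEq]
    exact ⟨sub_eq_zero.1 h2, sub_eq_zero.1 h3⟩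
  have hψ' : Function.Surjective ψ :=
    ((Fintype.bijective_iff_injective_and_card ψ).2 ⟨hψ, by rw [hcard, hF]⟩).2
  refine ⟨hinj', fun r => ?_⟩
  obtain ⟨⟨a, b⟩, rfl⟩ := hψ' r
  obtain ⟨x, hx1, hx2⟩ := C9.exists_code a b
  exact ⟨x, by rw [phi, hx1, hx2]⟩

/-- **`PSp₄(9)`** -/
theorem six_psp_nine {F : Type*} [Field F] [Fintype F] (hF : Fintype.card F = 9) : All 6 (Cfsg.PSp 2 F) := by
  obtain ⟨hc3, i, hi, hbij⟩ := exists_setup F hF
  intro g
  obtain ⟨A, rfl⟩ := QuotientGroup.mk'_surjective (Subgroup.center (Matrix.symplecticGroup (Fin 2) F)) g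
  have hcen : ∀ X : Matrix.symplecticGroup (Fin 2) F, ((X : Mt F) = 1 ∨ (X : Mt F) = -1) →
      QuotientGroup.mk' (Subgroup.center (Matrix.symplecticGroup (Fin 2) F)) X = 1 := by
    intro X hX
    rw [QuotientGroup.mk'_apply, QuotientGroup.eq_one_iff, Subgroup.mem_center_iff]
    intro Y
    apply Subtype.ext
    change (Y : Mt F) * (X : Mt F) = (X : Mt F) * (Y : Mt F)
    rcases hX with h | h
    · rw [h, Matrix.mul_one, Matrix.one_mul]
    · rw [h, Matrix.mul_neg, Matrix.neg_mul, Matrix.mul_one, Matrix.one_mul]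
  by_cases h1 : (A : Mt F) = 1 ∨ (A : Mt F) = -1
  · rw [hcen A h1]
    exact Pr.one 6
  · push Not at h1
    have hA : SpM (A : Mt F) := SymplecticGroup.mem_iff'.1 A.2
    obtain ⟨X, Y, hX, hY, e, hX4, hY4⟩ := RR_all hi hbij.2
      (fun x hx => hbij.1 (by rw [hx, phi_c1])) hA h1.1 h1.2
    let X' : Matrix.symplecticGroup (Fin 2) F := ⟨X, SymplecticGroup.mem_iff'.2 hX⟩
    let Y' : Matrix.symplecticGroup (Fin 2) F := ⟨Y, SymplecticGroup.mem_iff'.2 hY⟩
    have hAe : A = X' * Y' := Subtype.ext e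
    refine ⟨QuotientGroup.mk' _ X', QuotientGroup.mk' _ Y', by rw [hAe, map_mul], ?_, ?_⟩
    · refine Nat.Coprime.of_dvd_left (orderOf_dvd_of_pow_eq_one (n := 41) ?_) (by norm_num)
      rw [← map_pow]
      exact hcen _ hX4
    · refine Nat.Coprime.of_dvd_left (orderOf_dvd_of_pow_eq_one (n := 41) ?_) (by norm_num)
      rw [← map_pow]
      exact hcen _ hY4

end Cfsg.Agent.H538.Pw.SpNine
end

-- part: H649/PwSp/Final
section
/-!
# `All 6` of `PSp_2m(2^k)`, `PSp_2m(3^k)`: complete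
-/

set_option autoImplicit false

noncomputable section

namespace Cfsg.Agent.H649.PwSp

/-- **`PSp_2m(3^k)`, all `m ≥ 2`** (hypothesis `h3` of `H346.PwRows.row_psp`) -/
theorem six_psp_all_three (F : Type) [Field F] [Fintype F] [CharP F 3] (m : ℕ) (hm : 2 ≤ m) :
    H78.Pw.All 6 (PSp m F) :=
  six_psp_char_three (fun _ _ _ h => Cfsg.Agent.H538.Pw.SpNine.six_psp_nine h) F m hm

/-- **`PSp_4(4)`** (hypothesis `h4` of `H346.PwRows.row_psp`) -/
theorem six_psp_four_four (F : Type) [Field F] [Fintype F] (hF : Fintype.card F = 4) :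
    H78.Pw.All 6 (PSp 2 F) := Cfsg.Agent.H240.Sp44.six_psp_two_four hF

end Cfsg.Agent.H649.PwSp
end
end

-- part: H124/PwO/Plus
section
/-!
# S2465: `PΩ⁺`, every `q`, every `m ≥ 4` (helper124)

A corner of size `m` without middle space.  `(X - 1) f` with `f` of norm one and degree `m - 1`, or (`q = 2`, `m = 5, 7` and
`q = 3`, `m = 5`) two irreducible matrices.
-/

set_option autoImplicit false
set_option linter.unusedSectionVars false

namespace Cfsg.Agent.H124.PwO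

open Module QuadraticMap Matrix Polynomial Cfsg.Agent.LieClassical.OrthCore Cfsg.Agent.LieClassical.OrthTrans
  Cfsg.Agent.LieClassical.OrthFinite Cfsg.Agent.LieClassical.OrthForms Cfsg.Agent.H140.OreO Cfsg.Agent.H126.PwO
open Cfsg.Agent.H78.Pw (Pr All)

variable {F V : Type*} [Field F] [AddCommGroup V] [Module F V] {m : ℕ} {Q : QuadraticForm F V}

theorem subsingleton_perp [FiniteDimensional F V] (hd : finrank F V = 2 * m) {w w' : Fin m → V} (hf : Frame Q w w') :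
    Subsingleton (perp Q w w') := by
  have h := hf.finrank_perp
  have h1 : finrank F (perp Q w w') = 0 := by omega
  exact finrank_zero_iff.1 h1

/-- `(X - 1) f` -/
theorem prO_fix [Finite F] [FiniteDimensional F V] {N k s : ℕ} (hk : 1 ≤ k) (hd : finrank F V = 2 * (k + 2)) (hQ : Nondeg Q)
    {g : V ≃ₗ[F] V} (hg : g ∈ O Q) (hB : BaseCorner (k + 2) Q g) {f : F[X]} (hf : _root_.Cfsg.Agent.H126.PwO.One (k + 1) s f) (hs : s.Coprime N) :
    PrO N Q g := by
  obtain ⟨w, w', hfr, hS, hdet, hA⟩ := hB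
  have hss := subsingleton_perp hd hfr
  have hpm : ((X - C 1) * f).Monic := (monic_X_sub_C 1).mul hf.monic
  have hpd : ((X - C 1) * f).natDegree = k + 2 := by
    rw [(monic_X_sub_C 1).natDegree_mul hf.monic, natDegree_X_sub_C, hf.deg]; omega
  have hp0 : (-1) ^ (k + 2) * ((X - C 1) * f).coeff 0 = 1 := by
    rw [mul_coeff_zero, coeff_sub, coeff_X_zero, coeff_C_zero, zero_sub]
    have := hf.norm
    linear_combination this
  have hC : ∀ x : perp Q w w' ≃ₗ[F] perp Q w w', CopP (k + 2) ((X - C 1) * f) x := by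
    intro x
    have := copP_of_fix (m := k + 2) (h := x) (hf.eval (by omega) 1) hf.cop (un_subsingleton _ _) (un_subsingleton _ _)
    rwa [C_1]
  exact prO_pol (by omega) hQ hfr hg hS hdet (hA.imp id fun h => h.1) hpm hpd hp0 hf.monic hf.deg
    (by rw [mul_one]; exact hf.norm) (x := 1) (O _).one_mem (hC _) (hC _) odd_one (one_pow 1) hs hs (hf.dvd' (by omega))
    (hf.dvd' (by omega)) (one_pow s) (one_pow s)

/-- irreducible polynomials of odd degree are not self-reciprocal -/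
theorem cop_rev_odd {p : F[X]} (hm : p.Monic) (hp : Irreducible p) (hd : 2 ≤ p.natDegree)
    (ho : Odd p.natDegree) : IsCoprime p p.reverse := by
  by_cases h2 : (2 : F) = 0
  · rw [hp.coprime_iff_not_dvd]
    intro h
    have h0 : p.coeff 0 ≠ 0 := coeff_zero_ne hp hd
    have h1 := Polynomial.eq_mul_leadingCoeff_of_monic_of_dvd_of_natDegree_le hm h (natDegree_rev h0).le
    have hev : ∀ x : F, p.eval x ≠ 0 := fun x => eval_ne_zero hp hd x
    have e1 : p.reverse.leadingCoeff = 1 := by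
      have := congrArg (eval 1) h1
      rw [Cfsg.Agent.H367.PO.eval_rev_one, eval_mul, eval_C] at this
      exact (mul_left_cancel₀ (hev 1) (by rw [mul_one, ← this])).symm
    rw [e1, C_1, mul_one] at h1
    apply hev 1
    rw [eval_eq_sum_range]
    refine Finset.sum_involution (fun i _ => p.natDegree - i) ?_ ?_ ?_ ?_
    · intro i hi
      have hi' : i ≤ p.natDegree := by rw [Finset.mem_range] at hi; omega
      have e2 : p.coeff i = p.coeff (p.natDegree - i) := by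
        conv_lhs => rw [← h1]
        rw [coeff_reverse, revAt_le hi']
      rw [one_pow, one_pow, mul_one, mul_one, ← e2]
      linear_combination p.coeff i * h2
    · intro i hi _ h3
      have hi' : i ≤ p.natDegree := by rw [Finset.mem_range] at hi; omega
      obtain ⟨c, hc⟩ := ho
      omega
    · intro i hi
      rw [Finset.mem_range] at hi ⊢
      omega
    · intro i hi
      rw [Finset.mem_range] at hi
      omega
  · exact Cfsg.Agent.H367.PO.cop_rev_odd h2 hm hp hd ho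

/-- two irreducible matrices, `q = 2` -/
theorem prO_irr_two [Finite F] [FiniteDimensional F V] (hF : Nat.card F = 2) (hm : 3 ≤ m) (ho : Odd m)
    (hd : finrank F V = 2 * m) (hQ : Nondeg Q) {g : V ≃ₗ[F] V} (hg : g ∈ O Q) (hB : BaseCorner m Q g)
    (h6 : (∑ i : Fin m, 2 ^ (i : ℕ)).Coprime 6)
    (H : ∀ A : Matrix (Fin m) (Fin m) F, A.det = 1 → A ≠ 1 → ∃ X Y : Matrix (Fin m) (Fin m) F, A = X * Y ∧
      Irreducible X.charpoly ∧ Irreducible Y.charpoly) : PrO 6 Q g := by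
  obtain ⟨w, w', hfr, hS, hdet, hA⟩ := hB
  have hss := subsingleton_perp hd hfr
  have hdt : ∀ X : Matrix (Fin m) (Fin m) F, Irreducible X.charpoly → X.det = 1 := by
    intro X hX
    have h0 : X.det ≠ 0 := by
      rw [det_eq_sign_charpoly_coeff]
      refine mul_ne_zero (pow_ne_zero _ (neg_ne_zero.2 one_ne_zero)) (coeff_zero_ne hX ?_)
      rw [charpoly_natDegree_eq_dim, Fintype.card_fin]; omega
    have hfin := Fintype.ofFinite F
    have h1 := FiniteField.pow_card_sub_one_eq_one X.det h0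
    rwa [← Nat.card_eq_fintype_card, hF, pow_one] at h1
  have hpow : ∀ X : Matrix (Fin m) (Fin m) F, Irreducible X.charpoly → X ^ ∑ i : Fin m, 2 ^ (i : ℕ) = 1 := by
    intro X hX
    have := Cfsg.Agent.H367.PO.pow_of_irr hX (hdt X hX)
    rwa [hF] at this
  have hC : ∀ (X : Matrix (Fin m) (Fin m) F), Irreducible X.charpoly → CopP m X.charpoly (1 : perp Q w w' ≃ₗ[F] perp Q w w') := by
    intro X hX
    have hdeg : X.charpoly.natDegree = m := by rw [charpoly_natDegree_eq_dim, Fintype.card_fin]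
    exact copP_of_cop (un_subsingleton _ _) (un_subsingleton _ _)
      (cop_rev_odd (charpoly_monic X) hX (by rw [hdeg]; omega) (by rw [hdeg]; exact ho))
  by_cases h1 : corner Q g w w' = 1
  · obtain ⟨p, s, hp, -⟩ := exists_one F hm ho
    obtain ⟨X, hX⟩ := exists_matrix p hp.monic (coeff_zero_ne hp.irr (by rw [hp.deg]; omega)) hp.deg
    have hXi : Irreducible (X : Matrix (Fin m) (Fin m) F).charpoly := by rw [hX]; exact hp.irr
    have hX1 : X ^ ∑ i : Fin m, 2 ^ (i : ℕ) = 1 :=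
      Units.ext (by rw [Units.val_pow_eq_pow_val, hpow _ hXi, Units.val_one])
    have hdi : ((X⁻¹ : GL (Fin m) F) : Matrix (Fin m) (Fin m) F).det = 1 := by
      have h3 : ((X * X⁻¹ : GL (Fin m) F) : Matrix (Fin m) (Fin m) F).det = 1 := by
        rw [mul_inv_cancel, Units.val_one, det_one]
      rwa [Units.val_mul, det_mul, hdt _ hXi, one_mul] at h3
    refine prO_of_corner (Y := X⁻¹) (x := 1) (k := 1) (s := ∑ i : Fin m, 2 ^ (i : ℕ)) (t := ∑ i : Fin m, 2 ^ (i : ℕ))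
      (by omega) hQ hfr hg hS ?_ (O _).one_mem (hC _ hXi X rfl) ?_ (hdt _ hXi) hdi odd_one (one_pow 1) h6 h6 hX1 (one_pow _)
      (by rw [inv_pow, hX1, inv_one]) (one_pow _)
    · rw [mul_inv_cancel, Units.val_one, h1]
    · exact Cfsg.Agent.H126.PwO.Cop.inv (hC _ hXi X rfl)
  · obtain ⟨X, Y, hXY, hX, hY⟩ := H _ hdet h1
    exact prO_mat (by omega) hQ hfr hg hS hXY (hdt X hX) (hdt Y hY) (hC X hX) (hC Y hY) h6 h6 (hpow X hX) (hpow Y hY)

/-- transport from `ZMod 2` -/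
theorem of_zmod [Finite F] (hF : Nat.card F = 2) {P : (ZMod 2)[X]} (hP : Irreducible P)
    (H : ∀ A : Matrix (Fin m) (Fin m) (ZMod 2), A.det ≠ 0 → A ≠ 1 → ∃ X Y : Matrix (Fin m) (Fin m) (ZMod 2), A = X * Y ∧
      X.charpoly = P ∧ Y.charpoly = P) (A : Matrix (Fin m) (Fin m) F) (hA : A.det = 1) (h1 : A ≠ 1) :
    ∃ X Y : Matrix (Fin m) (Fin m) F, A = X * Y ∧ Irreducible X.charpoly ∧ Irreducible Y.charpoly := by
  have hfin := Fintype.ofFinite F
  have : Fact (Nat.Prime 2) := ⟨Nat.prime_two⟩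
  let e : ZMod 2 ≃+* F := ZMod.ringEquivOfPrime F Nat.prime_two (by rw [← Nat.card_eq_fintype_card, hF])
  obtain ⟨X, Y, hXY, hX, hY⟩ := H (e.symm.mapMatrix A) (by
    rw [← RingEquiv.map_det, hA, map_one]; exact one_ne_zero) (by
    intro h
    apply h1
    apply e.symm.mapMatrix.injective
    rw [h, map_one])
  have hirr : ∀ Z : Matrix (Fin m) (Fin m) (ZMod 2), Z.charpoly = P → Irreducible (e.mapMatrix Z).charpoly := by
    intro Z hZ
    have h3 : (e.mapMatrix Z).charpoly = (Polynomial.mapEquiv e) Z.charpoly := by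
      have := Matrix.charpoly_map Z (e : ZMod 2 →+* F)
      exact this
    rw [h3, hZ]
    exact (MulEquiv.irreducible_iff (Polynomial.mapEquiv e)).2 hP
  refine ⟨e.mapMatrix X, e.mapMatrix Y, ?_, hirr X hX, hirr Y hY⟩
  rw [← map_mul, ← hXY]
  ext i j
  exact (e.apply_symm_apply _).symm

/-- **`N = 6`** -/
theorem prO_plus_six [Finite F] [FiniteDimensional F V] {r e : ℕ} (hr : r = 2 ∨ r = 3) (hq : Nat.card F = r ^ e)
    (hm : 4 ≤ m) (hd : finrank F V = 2 * m) (hQ : Nondeg Q) {g : V ≃ₗ[F] V} (hg : g ∈ O Q) (hB : BaseCorner m Q g) :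
    PrO 6 Q g := by
  have hq1 : 1 < Nat.card F := Finite.one_lt_card
  obtain ⟨k, rfl⟩ : ∃ k, m = k + 2 := ⟨m - 2, by omega⟩
  rcases Nat.even_or_odd k with hk | hk
  · obtain ⟨f, s, hf, hs⟩ := exists_one F (d := k + 1) (by omega) hk.add_one
    exact prO_fix (by omega) hd hQ hg hB hf hs
  by_cases he3 : 3 ≤ e
  · obtain ⟨w, w', hfr, hS, hdet, hA⟩ := hB
    refine prO_six (r := r) (e := e) (by omega) hQ hfr hg hS hdet (hA.imp id fun h => h.1) (by omega) (by omega) he3 hq ?_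
    omega
  have hcard : Nat.card F = 2 ∨ Nat.card F = 3 ∨ Nat.card F = 4 ∨ Nat.card F = 9 := by
    have he0 : e ≠ 0 := by rintro rfl; rw [pow_zero] at hq; omega
    have he12 : e = 1 ∨ e = 2 := by omega
    rcases hr with rfl | rfl <;> rcases he12 with rfl | rfl <;> rw [hq] <;> norm_num
  obtain ⟨c, hc⟩ := hk
  by_cases h5 : k = 3
  · subst h5
    rcases hcard with h | h | h | h
    · refine prO_irr_two h (by norm_num) (by decide) hd hQ hg hB (by decide) fun A hA h1 =>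
        of_zmod h H934.MF.irrFive (fun A hA h1 => H934.MF.prodFive A hA h1) A hA h1
    · exact Cfsg.Agent.H367.PO.prO_five_three h hQ (by omega) hg hB
    · obtain ⟨f, s, hf, hs⟩ := exists_four F (Or.inl h)
      exact prO_fix (by omega) hd hQ hg hB hf hs
    · obtain ⟨f, s, hf, hs⟩ := exists_four F (Or.inr h)
      exact prO_fix (by omega) hd hQ hg hB hf hs
  · by_cases h7 : Nat.card F = 2 ∧ k = 5
    · obtain ⟨h, rfl⟩ := h7
      refine prO_irr_two h (by norm_num) (by decide) hd hQ hg hB (by decide) fun A hA h1 =>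
        of_zmod h H934.MF.irrSeven (fun A hA h1 => H934.MF.prodSeven A hA h1) A hA h1
    · obtain ⟨f, s, hf, hs⟩ := exists_two' F (e := c + 1) (by omega) (by omega)
      rw [show 2 * (c + 1) = k + 1 by omega] at hf
      exact prO_fix (by omega) hd hQ hg hB hf hs

/-- **`N = r ≥ 5`** -/
theorem prO_plus_own [Finite F] [FiniteDimensional F V] {r : ℕ} (hr : r ∣ Nat.card F) (hq : 4 ≤ Nat.card F)
    (hm : 4 ≤ m) (hd : finrank F V = 2 * m) (hQ : Nondeg Q) {g : V ≃ₗ[F] V} (hg : g ∈ O Q) (hB : BaseCorner m Q g) :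
    PrO r Q g := by
  obtain ⟨k, rfl⟩ : ∃ k, m = k + 2 := ⟨m - 2, by omega⟩
  obtain ⟨w, w', hfr, hS, hdet, hA⟩ := hB
  exact prO_own (by omega) hQ hfr hg hS hdet (hA.imp id fun h => h.1) (by omega) hr hq

/-! ### the hypotheses of `H346.PwU.row_pop` -/

theorem own_plus (F : Type) [Field F] [Fintype F] (r : ℕ) [hr : Fact r.Prime] [CharP F r] (m : ℕ) (h5 : 5 ≤ r)
    (hm : 4 ≤ m) : All r (Cfsg.POmega F (Cfsg.quadFormPlus m F)) := by
  obtain ⟨k, hp, hk⟩ := FiniteField.card F r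
  have hrF : r ∣ Nat.card F := by
    rw [Nat.card_eq_fintype_card, hk]
    exact dvd_pow_self r k.ne_zero
  have hq : 4 ≤ Nat.card F := by
    have := Nat.le_of_dvd Nat.card_pos hrF
    omega
  exact all_plus' (by omega) fun g hg _ hB =>
    prO_plus_own (F := F) (V := Fin m ⊕ Fin m → F) hrF hq hm finrank_plus (nondeg_plusForm m F) (Om_le hg) hB

theorem six_plus (F : Type) [Field F] [Fintype F] (r : ℕ) [hr : Fact r.Prime] [CharP F r] (m : ℕ) (h5 : r < 5)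
    (hm : 4 ≤ m) : All 6 (Cfsg.POmega F (Cfsg.quadFormPlus m F)) := by
  obtain ⟨k, hp, hk⟩ := FiniteField.card F r
  have hr2 := hp.two_le
  have hr4 : r ≠ 4 := by rintro rfl; revert hp; decide
  exact all_plus' (by omega) fun g hg _ hB =>
    prO_plus_six (F := F) (V := Fin m ⊕ Fin m → F) (r := r) (e := k) (by omega) (by rw [Nat.card_eq_fintype_card, hk]) hm finrank_plus
      (nondeg_plusForm m F) (Om_le hg) hB

end Cfsg.Agent.H124.PwO
end

-- part: H367/PO/Cert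
section
/-!
# An explicit identity in the orthogonal groups of dimension 9 over `F_3` (helper367, for S2465)

`-r_e = a * b` with `a ^ 41 = b ^ 41 = 1`, for the forms `x₀x₅ + x₁x₆ + x₂x₇ + x₃x₈ ± x₄²`.
-/

set_option autoImplicit false
set_option maxRecDepth 100000

namespace Cfsg.Agent.H367.PO

open Matrix

abbrev M9 := Matrix (Fin 9) (Fin 9) (ZMod 3)

/-- The certificate. -/
structure Cert (G D : M9) : Prop where
  ex : ∃ A B : M9, A * B = D ∧ Aᵀ * G * A = G ∧ Bᵀ * G * B = G ∧ A ^ 41 = 1 ∧ B ^ 41 = 1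

theorem pow41 {A A2 A4 A5 A10 A20 A40 : M9} (h2 : A * A = A2) (h4 : A2 * A2 = A4) (h5 : A4 * A = A5)
    (h10 : A5 * A5 = A10) (h20 : A10 * A10 = A20) (h40 : A20 * A20 = A40) (h41 : A40 * A = 1) : A ^ 41 = 1 := by
  rw [← h41, ← h40, ← h20, ← h10, ← h5, ← h4, ← h2]
  simp only [← pow_succ, ← pow_two, ← pow_mul]
  norm_num

def DD : M9 := !![2, 0, 0, 0, 0, 0, 0, 0, 0; 0, 2, 0, 0, 0, 0, 0, 0, 0; 0, 0, 2, 0, 0, 0, 0, 0, 0; 0, 0, 0, 2, 0, 0, 0, 0, 0; 0, 0, 0, 0, 1, 0, 0, 0, 0; 0, 0, 0, 0, 0, 2, 0, 0, 0; 0, 0, 0, 0, 0, 0, 2, 0, 0; 0, 0, 0, 0, 0, 0, 0, 2, 0; 0, 0, 0, 0, 0, 0, 0, 0, 2]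

def G1 : M9 := !![0, 0, 0, 0, 0, 1, 0, 0, 0; 0, 0, 0, 0, 0, 0, 1, 0, 0; 0, 0, 0, 0, 0, 0, 0, 1, 0; 0, 0, 0, 0, 0, 0, 0, 0, 1; 0, 0, 0, 0, 2, 0, 0, 0, 0; 1, 0, 0, 0, 0, 0, 0, 0, 0; 0, 1, 0, 0, 0, 0, 0, 0, 0; 0, 0, 1, 0, 0, 0, 0, 0, 0; 0, 0, 0, 1, 0, 0, 0, 0, 0]

def A1_1 : M9 := !![0, 0, 0, 2, 1, 2, 0, 2, 1; 2, 0, 0, 2, 1, 2, 0, 1, 2; 1, 2, 1, 0, 0, 2, 0, 1, 1; 0, 2, 1, 1, 2, 0, 2, 0, 1; 0, 0, 0, 0, 2, 0, 0, 0, 1; 1, 0, 1, 1, 2, 1, 1, 2, 2; 2, 1, 0, 2, 1, 1, 2, 1, 2; 2, 1, 0, 1, 2, 1, 0, 1, 0; 1, 2, 0, 0, 0, 0, 0, 1, 2]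

def A1_2 : M9 := !![1, 2, 1, 0, 2, 1, 0, 1, 0; 0, 0, 1, 0, 2, 1, 0, 2, 1; 1, 2, 0, 0, 0, 2, 2, 2, 0; 1, 2, 2, 0, 1, 2, 0, 0, 2; 1, 2, 0, 0, 1, 0, 0, 1, 1; 1, 2, 0, 2, 2, 2, 2, 1, 1; 2, 2, 0, 2, 0, 1, 0, 0, 2; 2, 0, 2, 0, 1, 2, 0, 2, 0; 2, 2, 0, 1, 2, 1, 0, 1, 0]

def A1_4 : M9 := !![1, 1, 2, 2, 2, 0, 1, 0, 2; 1, 1, 1, 0, 2, 0, 1, 1, 0; 2, 1, 1, 2, 0, 1, 1, 2, 2; 1, 1, 0, 0, 0, 1, 2, 2, 2; 0, 0, 2, 1, 1, 0, 0, 0, 0; 0, 2, 0, 0, 2, 1, 1, 0, 2; 0, 2, 2, 1, 1, 0, 2, 0, 1; 2, 2, 0, 1, 2, 2, 2, 1, 0; 2, 0, 2, 2, 2, 1, 2, 2, 1]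

def A1_5 : M9 := !![2, 1, 1, 2, 2, 0, 0, 2, 0; 1, 1, 1, 1, 0, 2, 2, 0, 2; 0, 1, 1, 1, 2, 0, 1, 1, 0; 1, 2, 1, 2, 1, 0, 2, 2, 1; 2, 0, 0, 1, 1, 1, 2, 2, 1; 0, 2, 1, 1, 0, 0, 0, 1, 2; 2, 1, 0, 0, 2, 1, 0, 1, 2; 0, 2, 0, 1, 0, 1, 2, 1, 2; 0, 2, 2, 1, 0, 1, 0, 1, 1]

def A1_10 : M9 := !![2, 0, 0, 2, 1, 0, 0, 0, 1; 2, 0, 1, 1, 0, 0, 2, 2, 1; 2, 1, 0, 1, 1, 0, 2, 0, 0; 0, 1, 2, 1, 2, 1, 0, 2, 1; 2, 2, 0, 2, 1, 0, 2, 2, 1; 0, 2, 2, 2, 0, 1, 0, 0, 0; 0, 2, 2, 2, 0, 1, 2, 0, 1; 1, 2, 2, 2, 2, 0, 2, 2, 0; 0, 0, 2, 0, 2, 0, 1, 1, 1]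

def A1_20 : M9 := !![0, 1, 0, 2, 0, 2, 0, 1, 0; 2, 1, 0, 2, 2, 0, 2, 1, 0; 2, 1, 1, 0, 2, 0, 2, 0, 1; 0, 1, 2, 2, 0, 2, 0, 1, 2; 0, 0, 1, 0, 1, 1, 0, 0, 1; 2, 0, 2, 2, 0, 0, 2, 2, 1; 2, 1, 2, 0, 2, 2, 1, 0, 1; 1, 1, 2, 2, 1, 1, 2, 1, 0; 0, 1, 0, 1, 2, 1, 1, 1, 1]

def A1_40 : M9 := !![1, 1, 1, 0, 0, 2, 2, 2, 0; 1, 2, 0, 0, 0, 0, 0, 0, 2; 2, 1, 1, 1, 0, 2, 1, 1, 0; 2, 2, 0, 2, 2, 1, 2, 1, 1; 1, 2, 1, 0, 2, 2, 2, 0, 1; 1, 2, 2, 1, 0, 0, 2, 1, 0; 0, 1, 1, 2, 0, 0, 0, 2, 2; 1, 0, 0, 0, 0, 0, 0, 1, 1; 1, 2, 1, 0, 0, 2, 2, 0, 1]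

def A1_G : M9 := !![1, 2, 2, 1, 0, 0, 2, 1, 0; 0, 1, 1, 2, 0, 0, 0, 2, 2; 1, 0, 0, 0, 0, 0, 0, 1, 1; 1, 2, 1, 0, 0, 2, 2, 0, 1; 2, 1, 2, 0, 1, 1, 1, 0, 2; 1, 1, 1, 0, 0, 2, 2, 2, 0; 1, 2, 0, 0, 0, 0, 0, 0, 2; 2, 1, 1, 1, 0, 2, 1, 1, 0; 2, 2, 0, 2, 2, 1, 2, 1, 1]

def B1_1 : M9 := !![2, 2, 2, 0, 0, 1, 1, 1, 0; 2, 1, 0, 0, 0, 0, 0, 0, 1; 1, 2, 2, 2, 0, 1, 2, 2, 0; 1, 1, 0, 1, 2, 2, 1, 2, 2; 2, 1, 2, 0, 2, 1, 1, 0, 2; 2, 1, 1, 2, 0, 0, 1, 2, 0; 0, 2, 2, 1, 0, 0, 0, 1, 1; 2, 0, 0, 0, 0, 0, 0, 2, 2; 2, 1, 2, 0, 0, 1, 1, 0, 2]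

def B1_2 : M9 := !![2, 1, 2, 1, 0, 1, 1, 2, 2; 2, 0, 0, 0, 0, 0, 0, 2, 0; 1, 0, 2, 1, 1, 1, 2, 2, 0; 0, 0, 2, 0, 0, 1, 2, 0, 1; 0, 1, 1, 1, 1, 2, 2, 0, 1; 1, 2, 2, 2, 1, 1, 0, 1, 1; 2, 2, 0, 2, 2, 2, 0, 2, 2; 0, 0, 2, 0, 0, 1, 1, 0, 2; 2, 2, 0, 1, 0, 0, 0, 0, 0]

def B1_4 : M9 := !![0, 1, 1, 1, 2, 1, 1, 1, 0; 1, 2, 2, 2, 0, 1, 1, 1, 2; 0, 2, 0, 1, 2, 1, 2, 2, 1; 0, 2, 0, 0, 1, 1, 1, 0, 2; 2, 2, 0, 2, 2, 1, 0, 1, 2; 2, 0, 0, 1, 1, 0, 0, 2, 2; 2, 0, 0, 1, 1, 0, 0, 1, 2; 0, 2, 0, 2, 2, 2, 1, 1, 0; 2, 2, 0, 2, 0, 0, 1, 2, 2]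

def B1_5 : M9 := !![0, 0, 0, 0, 0, 2, 0, 0, 1; 0, 0, 1, 0, 1, 0, 1, 2, 1; 2, 2, 2, 2, 0, 2, 2, 1, 1; 0, 2, 0, 0, 2, 0, 1, 0, 0; 1, 1, 1, 1, 2, 1, 0, 1, 1; 0, 2, 1, 1, 1, 1, 0, 2, 0; 1, 2, 1, 1, 1, 1, 0, 0, 1; 1, 1, 2, 1, 2, 0, 0, 2, 1; 0, 0, 1, 0, 1, 2, 0, 2, 0]

def B1_10 : M9 := !![0, 1, 0, 2, 0, 1, 0, 0, 0; 0, 1, 0, 0, 2, 0, 2, 2, 2; 1, 2, 1, 0, 1, 2, 2, 2, 0; 0, 1, 2, 0, 1, 0, 2, 0, 2; 2, 0, 0, 0, 2, 0, 1, 2, 0; 2, 0, 1, 0, 2, 1, 2, 0, 0; 0, 1, 1, 1, 2, 2, 2, 1, 2; 2, 1, 0, 2, 0, 1, 0, 0, 2; 2, 0, 0, 1, 2, 2, 2, 1, 1]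

def B1_20 : M9 := !![2, 0, 2, 0, 0, 1, 2, 2, 0; 0, 2, 2, 2, 2, 1, 0, 1, 0; 2, 0, 2, 2, 0, 2, 0, 1, 0; 2, 1, 1, 1, 2, 0, 0, 0, 2; 2, 2, 1, 0, 0, 0, 1, 2, 0; 1, 0, 1, 0, 2, 0, 1, 2, 1; 0, 1, 1, 0, 2, 1, 2, 0, 0; 0, 2, 2, 0, 1, 1, 0, 1, 2; 0, 0, 0, 0, 0, 2, 2, 1, 0]

def B1_40 : M9 := !![0, 0, 0, 1, 2, 1, 0, 1, 2; 1, 0, 0, 1, 2, 1, 0, 2, 1; 2, 1, 2, 0, 0, 1, 0, 2, 2; 0, 1, 2, 2, 1, 0, 1, 0, 2; 0, 0, 0, 0, 2, 0, 0, 0, 1; 2, 0, 2, 2, 1, 2, 2, 1, 1; 1, 2, 0, 1, 2, 2, 1, 2, 1; 1, 2, 0, 2, 1, 2, 0, 2, 0; 2, 1, 0, 0, 0, 0, 0, 2, 1]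

def B1_G : M9 := !![2, 0, 2, 2, 1, 2, 2, 1, 1; 1, 2, 0, 1, 2, 2, 1, 2, 1; 1, 2, 0, 2, 1, 2, 0, 2, 0; 2, 1, 0, 0, 0, 0, 0, 2, 1; 0, 0, 0, 0, 1, 0, 0, 0, 2; 0, 0, 0, 1, 2, 1, 0, 1, 2; 1, 0, 0, 1, 2, 1, 0, 2, 1; 2, 1, 2, 0, 0, 1, 0, 2, 2; 0, 1, 2, 2, 1, 0, 1, 0, 2]

def G2 : M9 := !![0, 0, 0, 0, 0, 1, 0, 0, 0; 0, 0, 0, 0, 0, 0, 1, 0, 0; 0, 0, 0, 0, 0, 0, 0, 1, 0; 0, 0, 0, 0, 0, 0, 0, 0, 1; 0, 0, 0, 0, 1, 0, 0, 0, 0; 1, 0, 0, 0, 0, 0, 0, 0, 0; 0, 1, 0, 0, 0, 0, 0, 0, 0; 0, 0, 1, 0, 0, 0, 0, 0, 0; 0, 0, 0, 1, 0, 0, 0, 0, 0]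

def A2_1 : M9 := !![0, 0, 0, 2, 1, 1, 0, 1, 2; 2, 0, 0, 2, 1, 1, 0, 2, 1; 1, 2, 1, 0, 0, 1, 0, 2, 2; 0, 2, 1, 1, 2, 0, 1, 0, 2; 0, 0, 0, 0, 2, 0, 0, 0, 2; 2, 0, 2, 2, 1, 1, 1, 2, 2; 1, 2, 0, 1, 2, 1, 2, 1, 2; 1, 2, 0, 2, 1, 1, 0, 1, 0; 2, 1, 0, 0, 0, 0, 0, 1, 2]

def A2_2 : M9 := !![1, 2, 1, 0, 2, 2, 0, 2, 0; 0, 0, 1, 0, 2, 2, 0, 1, 2; 1, 2, 0, 0, 0, 1, 1, 1, 0; 1, 2, 2, 0, 1, 1, 0, 0, 1; 1, 2, 0, 0, 1, 0, 0, 2, 2; 2, 1, 0, 1, 1, 2, 2, 1, 1; 1, 1, 0, 1, 0, 1, 0, 0, 2; 1, 0, 1, 0, 2, 2, 0, 2, 0; 1, 1, 0, 2, 1, 1, 0, 1, 0]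

def A2_4 : M9 := !![1, 1, 2, 2, 2, 0, 2, 0, 1; 1, 1, 1, 0, 2, 0, 2, 2, 0; 2, 1, 1, 2, 0, 2, 2, 1, 1; 1, 1, 0, 0, 0, 2, 1, 1, 1; 0, 0, 2, 1, 1, 0, 0, 0, 0; 0, 1, 0, 0, 1, 1, 1, 0, 2; 0, 1, 1, 2, 2, 0, 2, 0, 1; 1, 1, 0, 2, 1, 2, 2, 1, 0; 1, 0, 1, 1, 1, 1, 2, 2, 1]

def A2_5 : M9 := !![2, 1, 1, 2, 2, 0, 0, 1, 0; 1, 1, 1, 1, 0, 1, 1, 0, 1; 0, 1, 1, 1, 2, 0, 2, 2, 0; 1, 2, 1, 2, 1, 0, 1, 1, 2; 2, 0, 0, 1, 1, 2, 1, 1, 2; 0, 1, 2, 2, 0, 0, 0, 1, 2; 1, 2, 0, 0, 1, 1, 0, 1, 2; 0, 1, 0, 2, 0, 1, 2, 1, 2; 0, 1, 1, 2, 0, 1, 0, 1, 1]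

def A2_10 : M9 := !![2, 0, 0, 2, 1, 0, 0, 0, 2; 2, 0, 1, 1, 0, 0, 1, 1, 2; 2, 1, 0, 1, 1, 0, 1, 0, 0; 0, 1, 2, 1, 2, 2, 0, 1, 2; 2, 2, 0, 2, 1, 0, 1, 1, 2; 0, 1, 1, 1, 0, 1, 0, 0, 0; 0, 1, 1, 1, 0, 1, 2, 0, 1; 2, 1, 1, 1, 1, 0, 2, 2, 0; 0, 0, 1, 0, 1, 0, 1, 1, 1]

def A2_20 : M9 := !![0, 1, 0, 2, 0, 1, 0, 2, 0; 2, 1, 0, 2, 2, 0, 1, 2, 0; 2, 1, 1, 0, 2, 0, 1, 0, 2; 0, 1, 2, 2, 0, 1, 0, 2, 1; 0, 0, 1, 0, 1, 2, 0, 0, 2; 1, 0, 1, 1, 0, 0, 2, 2, 1; 1, 2, 1, 0, 1, 2, 1, 0, 1; 2, 2, 1, 1, 2, 1, 2, 1, 0; 0, 2, 0, 2, 1, 1, 1, 1, 1]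

def A2_40 : M9 := !![1, 1, 1, 0, 0, 1, 1, 1, 0; 1, 2, 0, 0, 0, 0, 0, 0, 1; 2, 1, 1, 1, 0, 1, 2, 2, 0; 2, 2, 0, 2, 2, 2, 1, 2, 2; 1, 2, 1, 0, 2, 1, 1, 0, 2; 2, 1, 1, 2, 0, 0, 2, 1, 0; 0, 2, 2, 1, 0, 0, 0, 2, 2; 2, 0, 0, 0, 0, 0, 0, 1, 1; 2, 1, 2, 0, 0, 2, 2, 0, 1]

def A2_G : M9 := !![2, 1, 1, 2, 0, 0, 2, 1, 0; 0, 2, 2, 1, 0, 0, 0, 2, 2; 2, 0, 0, 0, 0, 0, 0, 1, 1; 2, 1, 2, 0, 0, 2, 2, 0, 1; 1, 2, 1, 0, 2, 1, 1, 0, 2; 1, 1, 1, 0, 0, 1, 1, 1, 0; 1, 2, 0, 0, 0, 0, 0, 0, 1; 2, 1, 1, 1, 0, 1, 2, 2, 0; 2, 2, 0, 2, 2, 2, 1, 2, 2]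

def B2_1 : M9 := !![2, 2, 2, 0, 0, 2, 2, 2, 0; 2, 1, 0, 0, 0, 0, 0, 0, 2; 1, 2, 2, 2, 0, 2, 1, 1, 0; 1, 1, 0, 1, 2, 1, 2, 1, 1; 2, 1, 2, 0, 2, 2, 2, 0, 1; 1, 2, 2, 1, 0, 0, 1, 2, 0; 0, 1, 1, 2, 0, 0, 0, 1, 1; 1, 0, 0, 0, 0, 0, 0, 2, 2; 1, 2, 1, 0, 0, 1, 1, 0, 2]

def B2_2 : M9 := !![2, 1, 2, 1, 0, 2, 2, 1, 1; 2, 0, 0, 0, 0, 0, 0, 1, 0; 1, 0, 2, 1, 1, 2, 1, 1, 0; 0, 0, 2, 0, 0, 2, 1, 0, 2; 0, 1, 1, 1, 1, 1, 1, 0, 2; 2, 1, 1, 1, 2, 1, 0, 1, 1; 1, 1, 0, 1, 1, 2, 0, 2, 2; 0, 0, 1, 0, 0, 1, 1, 0, 2; 1, 1, 0, 2, 0, 0, 0, 0, 0]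

def B2_4 : M9 := !![0, 1, 1, 1, 2, 2, 2, 2, 0; 1, 2, 2, 2, 0, 2, 2, 2, 1; 0, 2, 0, 1, 2, 2, 1, 1, 2; 0, 2, 0, 0, 1, 2, 2, 0, 1; 2, 2, 0, 2, 2, 2, 0, 2, 1; 1, 0, 0, 2, 2, 0, 0, 2, 2; 1, 0, 0, 2, 2, 0, 0, 1, 2; 0, 1, 0, 1, 1, 2, 1, 1, 0; 1, 1, 0, 1, 0, 0, 1, 2, 2]

def B2_5 : M9 := !![0, 0, 0, 0, 0, 1, 0, 0, 2; 0, 0, 1, 0, 1, 0, 2, 1, 2; 2, 2, 2, 2, 0, 1, 1, 2, 2; 0, 2, 0, 0, 2, 0, 2, 0, 0; 1, 1, 1, 1, 2, 2, 0, 2, 2; 0, 1, 2, 2, 2, 1, 0, 2, 0; 2, 1, 2, 2, 2, 1, 0, 0, 1; 2, 2, 1, 2, 1, 0, 0, 2, 1; 0, 0, 2, 0, 2, 2, 0, 2, 0]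

def B2_10 : M9 := !![0, 1, 0, 2, 0, 2, 0, 0, 0; 0, 1, 0, 0, 2, 0, 1, 1, 1; 1, 2, 1, 0, 1, 1, 1, 1, 0; 0, 1, 2, 0, 1, 0, 1, 0, 1; 2, 0, 0, 0, 2, 0, 2, 1, 0; 1, 0, 2, 0, 1, 1, 2, 0, 0; 0, 2, 2, 2, 1, 2, 2, 1, 2; 1, 2, 0, 1, 0, 1, 0, 0, 2; 1, 0, 0, 2, 1, 2, 2, 1, 1]

def B2_20 : M9 := !![2, 0, 2, 0, 0, 2, 1, 1, 0; 0, 2, 2, 2, 2, 2, 0, 2, 0; 2, 0, 2, 2, 0, 1, 0, 2, 0; 2, 1, 1, 1, 2, 0, 0, 0, 1; 2, 2, 1, 0, 0, 0, 2, 1, 0; 2, 0, 2, 0, 1, 0, 1, 2, 1; 0, 2, 2, 0, 1, 1, 2, 0, 0; 0, 1, 1, 0, 2, 1, 0, 1, 2; 0, 0, 0, 0, 0, 2, 2, 1, 0]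

def B2_40 : M9 := !![0, 0, 0, 1, 2, 2, 0, 2, 1; 1, 0, 0, 1, 2, 2, 0, 1, 2; 2, 1, 2, 0, 0, 2, 0, 1, 1; 0, 1, 2, 2, 1, 0, 2, 0, 1; 0, 0, 0, 0, 2, 0, 0, 0, 2; 1, 0, 1, 1, 2, 2, 2, 1, 1; 2, 1, 0, 2, 1, 2, 1, 2, 1; 2, 1, 0, 1, 2, 2, 0, 2, 0; 1, 2, 0, 0, 0, 0, 0, 2, 1]

def B2_G : M9 := !![1, 0, 1, 1, 2, 2, 2, 1, 1; 2, 1, 0, 2, 1, 2, 1, 2, 1; 2, 1, 0, 1, 2, 2, 0, 2, 0; 1, 2, 0, 0, 0, 0, 0, 2, 1; 0, 0, 0, 0, 2, 0, 0, 0, 2; 0, 0, 0, 1, 2, 2, 0, 2, 1; 1, 0, 0, 1, 2, 2, 0, 1, 2; 2, 1, 2, 0, 0, 2, 0, 1, 1; 0, 1, 2, 2, 1, 0, 2, 0, 1]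

private noncomputable def _root_.Cfsg.Agent.LsF.f3ef6f2_4 : {f // @Cfsg.Agent.H367.PO.A1_1 = f} := ⟨_, by first | (delta Cfsg.Agent.H367.PO.A1_1; rewrite [Cfsg.Agent.LsF.mof_pat, Cfsg.Agent.LsF.vecCons_eq]; exact rfl) | exact rfl⟩
private noncomputable def _root_.Cfsg.Agent.LsF.f3ef6f2_5 : {f // @Cfsg.Agent.H367.PO.B1_1 = f} := ⟨_, by first | (delta Cfsg.Agent.H367.PO.B1_1; rewrite [Cfsg.Agent.LsF.mof_pat, Cfsg.Agent.LsF.vecCons_eq]; exact rfl) | exact rfl⟩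
private noncomputable def _root_.Cfsg.Agent.LsF.f3ef6f2_6 : {f // @Cfsg.Agent.H367.PO.DD = f} := ⟨_, by first | (delta Cfsg.Agent.H367.PO.DD; rewrite [Cfsg.Agent.LsF.mof_pat, Cfsg.Agent.LsF.vecCons_eq]; exact rfl) | exact rfl⟩
private noncomputable def _root_.Cfsg.Agent.LsF.f3ef6f2_7 : {f // @Cfsg.Agent.H367.PO.G1 = f} := ⟨_, by first | (delta Cfsg.Agent.H367.PO.G1; rewrite [Cfsg.Agent.LsF.mof_pat, Cfsg.Agent.LsF.vecCons_eq]; exact rfl) | exact rfl⟩
private noncomputable def _root_.Cfsg.Agent.LsF.f3ef6f2_8 : {f // @Cfsg.Agent.H367.PO.A1_G = f} := ⟨_, by first | (delta Cfsg.Agent.H367.PO.A1_G; rewrite [Cfsg.Agent.LsF.mof_pat, Cfsg.Agent.LsF.vecCons_eq]; exact rfl) | exact rfl⟩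
private noncomputable def _root_.Cfsg.Agent.LsF.f3ef6f2_9 : {f // @Cfsg.Agent.H367.PO.B1_G = f} := ⟨_, by first | (delta Cfsg.Agent.H367.PO.B1_G; rewrite [Cfsg.Agent.LsF.mof_pat, Cfsg.Agent.LsF.vecCons_eq]; exact rfl) | exact rfl⟩
private noncomputable def _root_.Cfsg.Agent.LsF.f3ef6f2_10 : {f // @Cfsg.Agent.H367.PO.A1_2 = f} := ⟨_, by first | (delta Cfsg.Agent.H367.PO.A1_2; rewrite [Cfsg.Agent.LsF.mof_pat, Cfsg.Agent.LsF.vecCons_eq]; exact rfl) | exact rfl⟩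
private noncomputable def _root_.Cfsg.Agent.LsF.f3ef6f2_11 : {f // @Cfsg.Agent.H367.PO.A1_4 = f} := ⟨_, by first | (delta Cfsg.Agent.H367.PO.A1_4; rewrite [Cfsg.Agent.LsF.mof_pat, Cfsg.Agent.LsF.vecCons_eq]; exact rfl) | exact rfl⟩
private noncomputable def _root_.Cfsg.Agent.LsF.f3ef6f2_12 : {f // @Cfsg.Agent.H367.PO.A1_5 = f} := ⟨_, by first | (delta Cfsg.Agent.H367.PO.A1_5; rewrite [Cfsg.Agent.LsF.mof_pat, Cfsg.Agent.LsF.vecCons_eq]; exact rfl) | exact rfl⟩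
private noncomputable def _root_.Cfsg.Agent.LsF.f3ef6f2_13 : {f // @Cfsg.Agent.H367.PO.A1_10 = f} := ⟨_, by first | (delta Cfsg.Agent.H367.PO.A1_10; rewrite [Cfsg.Agent.LsF.mof_pat, Cfsg.Agent.LsF.vecCons_eq]; exact rfl) | exact rfl⟩
private noncomputable def _root_.Cfsg.Agent.LsF.f3ef6f2_14 : {f // @Cfsg.Agent.H367.PO.A1_20 = f} := ⟨_, by first | (delta Cfsg.Agent.H367.PO.A1_20; rewrite [Cfsg.Agent.LsF.mof_pat, Cfsg.Agent.LsF.vecCons_eq]; exact rfl) | exact rfl⟩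
private noncomputable def _root_.Cfsg.Agent.LsF.f3ef6f2_15 : {f // @Cfsg.Agent.H367.PO.A1_40 = f} := ⟨_, by first | (delta Cfsg.Agent.H367.PO.A1_40; rewrite [Cfsg.Agent.LsF.mof_pat, Cfsg.Agent.LsF.vecCons_eq]; exact rfl) | exact rfl⟩
private noncomputable def _root_.Cfsg.Agent.LsF.f3ef6f2_16 : {f // @Cfsg.Agent.H367.PO.B1_2 = f} := ⟨_, by first | (delta Cfsg.Agent.H367.PO.B1_2; rewrite [Cfsg.Agent.LsF.mof_pat, Cfsg.Agent.LsF.vecCons_eq]; exact rfl) | exact rfl⟩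
private noncomputable def _root_.Cfsg.Agent.LsF.f3ef6f2_17 : {f // @Cfsg.Agent.H367.PO.B1_4 = f} := ⟨_, by first | (delta Cfsg.Agent.H367.PO.B1_4; rewrite [Cfsg.Agent.LsF.mof_pat, Cfsg.Agent.LsF.vecCons_eq]; exact rfl) | exact rfl⟩
private noncomputable def _root_.Cfsg.Agent.LsF.f3ef6f2_18 : {f // @Cfsg.Agent.H367.PO.B1_5 = f} := ⟨_, by first | (delta Cfsg.Agent.H367.PO.B1_5; rewrite [Cfsg.Agent.LsF.mof_pat, Cfsg.Agent.LsF.vecCons_eq]; exact rfl) | exact rfl⟩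
private noncomputable def _root_.Cfsg.Agent.LsF.f3ef6f2_19 : {f // @Cfsg.Agent.H367.PO.B1_10 = f} := ⟨_, by first | (delta Cfsg.Agent.H367.PO.B1_10; rewrite [Cfsg.Agent.LsF.mof_pat, Cfsg.Agent.LsF.vecCons_eq]; exact rfl) | exact rfl⟩
private noncomputable def _root_.Cfsg.Agent.LsF.f3ef6f2_20 : {f // @Cfsg.Agent.H367.PO.B1_20 = f} := ⟨_, by first | (delta Cfsg.Agent.H367.PO.B1_20; rewrite [Cfsg.Agent.LsF.mof_pat, Cfsg.Agent.LsF.vecCons_eq]; exact rfl) | exact rfl⟩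
private noncomputable def _root_.Cfsg.Agent.LsF.f3ef6f2_21 : {f // @Cfsg.Agent.H367.PO.B1_40 = f} := ⟨_, by first | (delta Cfsg.Agent.H367.PO.B1_40; rewrite [Cfsg.Agent.LsF.mof_pat, Cfsg.Agent.LsF.vecCons_eq]; exact rfl) | exact rfl⟩
theorem cert1 : Cert G1 DD := by
  refine ⟨A1_1, B1_1, by (refine of_decide_eq_true ?_; (try (rewrite [Cfsg.Agent.LsF.mmulF_pat, Cfsg.Agent.LsF.f3ef6f2_4.2, Cfsg.Agent.LsF.f3ef6f2_5.2, Cfsg.Agent.LsF.f3ef6f2_6.2, Cfsg.Agent.LsF.zadd_pat, Cfsg.Agent.LsF.zmul_pat, Cfsg.Agent.LsF.zdecEq_eq, Cfsg.Agent.LsF.finFintype_eq, Cfsg.Agent.LsF.dMat_eq, Cfsg.Agent.LsF.zACM_pat, Cfsg.Agent.LsF.decide_eq])); decide +kernel), ?_, ?_, ?_, ?_⟩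
  · have h : A1_1ᵀ * G1 = A1_G := by (refine of_decide_eq_true ?_; (try (rewrite [Cfsg.Agent.LsF.mmulF_pat, Cfsg.Agent.LsF.f3ef6f2_4.2, Cfsg.Agent.LsF.f3ef6f2_7.2, Cfsg.Agent.LsF.f3ef6f2_8.2, Cfsg.Agent.LsF.zadd_pat, Cfsg.Agent.LsF.zmul_pat, Cfsg.Agent.LsF.zdecEq_eq, Cfsg.Agent.LsF.finFintype_eq, Cfsg.Agent.LsF.dMat_eq, Cfsg.Agent.LsF.transpose_eq, Cfsg.Agent.LsF.zACM_pat, Cfsg.Agent.LsF.decide_eq])); decide +kernel)
    rw [h]
    (refine of_decide_eq_true ?_; (try (rewrite [Cfsg.Agent.LsF.mmulF_pat, Cfsg.Agent.LsF.f3ef6f2_8.2, Cfsg.Agent.LsF.f3ef6f2_4.2, Cfsg.Agent.LsF.f3ef6f2_7.2, Cfsg.Agent.LsF.zadd_pat, Cfsg.Agent.LsF.zmul_pat, Cfsg.Agent.LsF.zdecEq_eq, Cfsg.Agent.LsF.finFintype_eq, Cfsg.Agent.LsF.dMat_eq, Cfsg.Agent.LsF.zACM_pat, Cfsg.Agent.LsF.decide_eq])); decide +kernel)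
  · have h : B1_1ᵀ * G1 = B1_G := by (refine of_decide_eq_true ?_; (try (rewrite [Cfsg.Agent.LsF.mmulF_pat, Cfsg.Agent.LsF.f3ef6f2_5.2, Cfsg.Agent.LsF.f3ef6f2_7.2, Cfsg.Agent.LsF.f3ef6f2_9.2, Cfsg.Agent.LsF.zadd_pat, Cfsg.Agent.LsF.zmul_pat, Cfsg.Agent.LsF.zdecEq_eq, Cfsg.Agent.LsF.finFintype_eq, Cfsg.Agent.LsF.dMat_eq, Cfsg.Agent.LsF.transpose_eq, Cfsg.Agent.LsF.zACM_pat, Cfsg.Agent.LsF.decide_eq])); decide +kernel)
    rw [h]
    (refine of_decide_eq_true ?_; (try (rewrite [Cfsg.Agent.LsF.mmulF_pat, Cfsg.Agent.LsF.f3ef6f2_9.2, Cfsg.Agent.LsF.f3ef6f2_5.2, Cfsg.Agent.LsF.f3ef6f2_7.2, Cfsg.Agent.LsF.zadd_pat, Cfsg.Agent.LsF.zmul_pat, Cfsg.Agent.LsF.zdecEq_eq, Cfsg.Agent.LsF.finFintype_eq, Cfsg.Agent.LsF.dMat_eq, Cfsg.Agent.LsF.zACM_pat, Cfsg.Agent.LsF.decide_eq])); decide +kernel)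
  · exact pow41 (A := A1_1) (A2 := A1_2) (A4 := A1_4) (A5 := A1_5) (A10 := A1_10) (A20 := A1_20) (A40 := A1_40)
      (by (refine of_decide_eq_true ?_; (try (rewrite [Cfsg.Agent.LsF.mmulF_pat, Cfsg.Agent.LsF.f3ef6f2_4.2, Cfsg.Agent.LsF.f3ef6f2_10.2, Cfsg.Agent.LsF.zadd_pat, Cfsg.Agent.LsF.zmul_pat, Cfsg.Agent.LsF.zdecEq_eq, Cfsg.Agent.LsF.finFintype_eq, Cfsg.Agent.LsF.dMat_eq, Cfsg.Agent.LsF.zACM_pat, Cfsg.Agent.LsF.decide_eq])); decide +kernel)) (by (refine of_decide_eq_true ?_; (try (rewrite [Cfsg.Agent.LsF.mmulF_pat, Cfsg.Agent.LsF.f3ef6f2_10.2, Cfsg.Agent.LsF.f3ef6f2_11.2, Cfsg.Agent.LsF.zadd_pat, Cfsg.Agent.LsF.zmul_pat, Cfsg.Agent.LsF.zdecEq_eq, Cfsg.Agent.LsF.finFintype_eq, Cfsg.Agent.LsF.dMat_eq, Cfsg.Agent.LsF.zACM_pat, Cfsg.Agent.LsF.decide_eq])); decide +kernel)) (by (refine of_decide_eq_true ?_; (try (rewrite [Cfsg.Agent.LsF.mmulF_pat, Cfsg.Agent.LsF.f3ef6f2_11.2, Cfsg.Agent.LsF.f3ef6f2_4.2, Cfsg.Agent.LsF.f3ef6f2_12.2,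 Cfsg.Agent.LsF.zadd_pat, Cfsg.Agent.LsF.zmul_pat, Cfsg.Agent.LsF.zdecEq_eq, Cfsg.Agent.LsF.finFintype_eq, Cfsg.Agent.LsF.dMat_eq, Cfsg.Agent.LsF.zACM_pat, Cfsg.Agent.LsF.decide_eq])); decide +kernel))
      (by (refine of_decide_eq_true ?_; (try (rewrite [Cfsg.Agent.LsF.mmulF_pat, Cfsg.Agent.LsF.f3ef6f2_12.2, Cfsg.Agent.LsF.f3ef6f2_13.2, Cfsg.Agent.LsF.zadd_pat, Cfsg.Agent.LsF.zmul_pat, Cfsg.Agent.LsF.zdecEq_eq, Cfsg.Agent.LsF.finFintype_eq, Cfsg.Agent.LsF.dMat_eq, Cfsg.Agent.LsF.zACM_pat, Cfsg.Agent.LsF.decide_eq])); decide +kernel)) (by (refine of_decide_eq_true ?_; (try (rewrite [Cfsg.Agent.LsF.mmulF_pat, Cfsg.Agent.LsF.f3ef6f2_13.2, Cfsg.Agent.LsF.f3ef6f2_14.2, Cfsg.Agent.LsF.zadd_pat, Cfsg.Agent.LsF.zmul_pat, Cfsg.Agent.LsF.zdecEq_eq, Cfsg.Agent.LsF.finFintype_eq, Cfsg.Agent.LsF.dMat_eq, Cfsg.Agent.LsF.zACM_pat, Cfsg.Agent.LsF.decide_eq])); decide +kernel)) (by (refine of_decide_eq_true ?_; (try (rewrite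 [Cfsg.Agent.LsF.mmulF_pat, Cfsg.Agent.LsF.f3ef6f2_14.2, Cfsg.Agent.LsF.f3ef6f2_15.2, Cfsg.Agent.LsF.zadd_pat, Cfsg.Agent.LsF.zmul_pat, Cfsg.Agent.LsF.zdecEq_eq, Cfsg.Agent.LsF.finFintype_eq, Cfsg.Agent.LsF.dMat_eq, Cfsg.Agent.LsF.zACM_pat, Cfsg.Agent.LsF.decide_eq])); decide +kernel))
      (by (refine of_decide_eq_true ?_; (try (rewrite [Cfsg.Agent.LsF.mmulF_pat, Cfsg.Agent.LsF.f3ef6f2_15.2, Cfsg.Agent.LsF.f3ef6f2_4.2, Cfsg.Agent.LsF.zadd_pat, Cfsg.Agent.LsF.zmul_pat, Cfsg.Agent.LsF.zdecEq_eq, Cfsg.Agent.LsF.finFintype_eq, Cfsg.Agent.LsF.dMat_eq, Cfsg.Agent.LsF.instMOne_eq, Cfsg.Agent.LsF.zACM_pat, Cfsg.Agent.LsF.dFinEq_eq, Cfsg.Agent.LsF.decide_eq])); decide +kernel))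
  · exact pow41 (A := B1_1) (A2 := B1_2) (A4 := B1_4) (A5 := B1_5) (A10 := B1_10) (A20 := B1_20) (A40 := B1_40)
      (by (refine of_decide_eq_true ?_; (try (rewrite [Cfsg.Agent.LsF.mmulF_pat, Cfsg.Agent.LsF.f3ef6f2_5.2, Cfsg.Agent.LsF.f3ef6f2_16.2, Cfsg.Agent.LsF.zadd_pat, Cfsg.Agent.LsF.zmul_pat, Cfsg.Agent.LsF.zdecEq_eq, Cfsg.Agent.LsF.finFintype_eq, Cfsg.Agent.LsF.dMat_eq, Cfsg.Agent.LsF.zACM_pat, Cfsg.Agent.LsF.decide_eq])); decide +kernel)) (by (refine of_decide_eq_true ?_; (try (rewrite [Cfsg.Agent.LsF.mmulF_pat, Cfsg.Agent.LsF.f3ef6f2_16.2, Cfsg.Agent.LsF.f3ef6f2_17.2, Cfsg.Agent.LsF.zadd_pat, Cfsg.Agent.LsF.zmul_pat, Cfsg.Agent.LsF.zdecEq_eq, Cfsg.Agent.LsF.finFintype_eq, Cfsg.Agent.LsF.dMat_eq, Cfsg.Agent.LsF.zACM_pat, Cfsg.Agent.LsF.decide_eq])); decide +kernel)) (by (refine of_decide_eq_true ?_; (try (rewrite [Cfsg.Agent.LsF.mmulF_pat, Cfsg.Agent.LsF.f3ef6f2_17.2, Cfsg.Agent.LsF.f3ef6f2_5.2, Cfsg.Agent.LsF.f3ef6f2_18.2,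 Cfsg.Agent.LsF.zadd_pat, Cfsg.Agent.LsF.zmul_pat, Cfsg.Agent.LsF.zdecEq_eq, Cfsg.Agent.LsF.finFintype_eq, Cfsg.Agent.LsF.dMat_eq, Cfsg.Agent.LsF.zACM_pat, Cfsg.Agent.LsF.decide_eq])); decide +kernel))
      (by (refine of_decide_eq_true ?_; (try (rewrite [Cfsg.Agent.LsF.mmulF_pat, Cfsg.Agent.LsF.f3ef6f2_18.2, Cfsg.Agent.LsF.f3ef6f2_19.2, Cfsg.Agent.LsF.zadd_pat, Cfsg.Agent.LsF.zmul_pat, Cfsg.Agent.LsF.zdecEq_eq, Cfsg.Agent.LsF.finFintype_eq, Cfsg.Agent.LsF.dMat_eq, Cfsg.Agent.LsF.zACM_pat, Cfsg.Agent.LsF.decide_eq])); decide +kernel)) (by (refine of_decide_eq_true ?_; (try (rewrite [Cfsg.Agent.LsF.mmulF_pat, Cfsg.Agent.LsF.f3ef6f2_19.2, Cfsg.Agent.LsF.f3ef6f2_20.2, Cfsg.Agent.LsF.zadd_pat, Cfsg.Agent.LsF.zmul_pat, Cfsg.Agent.LsF.zdecEq_eq, Cfsg.Agent.LsF.finFintype_eq, Cfsg.Agent.LsF.dMat_eq, Cfsg.Agent.LsF.zACM_pat, Cfsg.Agent.LsF.decide_eq])); decide +kernel)) (by (refine of_decide_eq_true ?_; (try (rewrite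 [Cfsg.Agent.LsF.mmulF_pat, Cfsg.Agent.LsF.f3ef6f2_20.2, Cfsg.Agent.LsF.f3ef6f2_21.2, Cfsg.Agent.LsF.zadd_pat, Cfsg.Agent.LsF.zmul_pat, Cfsg.Agent.LsF.zdecEq_eq, Cfsg.Agent.LsF.finFintype_eq, Cfsg.Agent.LsF.dMat_eq, Cfsg.Agent.LsF.zACM_pat, Cfsg.Agent.LsF.decide_eq])); decide +kernel))
      (by (refine of_decide_eq_true ?_; (try (rewrite [Cfsg.Agent.LsF.mmulF_pat, Cfsg.Agent.LsF.f3ef6f2_21.2, Cfsg.Agent.LsF.f3ef6f2_5.2, Cfsg.Agent.LsF.zadd_pat, Cfsg.Agent.LsF.zmul_pat, Cfsg.Agent.LsF.zdecEq_eq, Cfsg.Agent.LsF.finFintype_eq, Cfsg.Agent.LsF.dMat_eq, Cfsg.Agent.LsF.instMOne_eq, Cfsg.Agent.LsF.zACM_pat, Cfsg.Agent.LsF.dFinEq_eq, Cfsg.Agent.LsF.decide_eq])); decide +kernel))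

private noncomputable def _root_.Cfsg.Agent.LsF.f3ef6f2_22 : {f // @Cfsg.Agent.H367.PO.A2_1 = f} := ⟨_, by first | (delta Cfsg.Agent.H367.PO.A2_1; rewrite [Cfsg.Agent.LsF.mof_pat, Cfsg.Agent.LsF.vecCons_eq]; exact rfl) | exact rfl⟩
private noncomputable def _root_.Cfsg.Agent.LsF.f3ef6f2_23 : {f // @Cfsg.Agent.H367.PO.B2_1 = f} := ⟨_, by first | (delta Cfsg.Agent.H367.PO.B2_1; rewrite [Cfsg.Agent.LsF.mof_pat, Cfsg.Agent.LsF.vecCons_eq]; exact rfl) | exact rfl⟩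
private noncomputable def _root_.Cfsg.Agent.LsF.f3ef6f2_24 : {f // @Cfsg.Agent.H367.PO.G2 = f} := ⟨_, by first | (delta Cfsg.Agent.H367.PO.G2; rewrite [Cfsg.Agent.LsF.mof_pat, Cfsg.Agent.LsF.vecCons_eq]; exact rfl) | exact rfl⟩
private noncomputable def _root_.Cfsg.Agent.LsF.f3ef6f2_25 : {f // @Cfsg.Agent.H367.PO.A2_G = f} := ⟨_, by first | (delta Cfsg.Agent.H367.PO.A2_G; rewrite [Cfsg.Agent.LsF.mof_pat, Cfsg.Agent.LsF.vecCons_eq]; exact rfl) | exact rfl⟩
private noncomputable def _root_.Cfsg.Agent.LsF.f3ef6f2_26 : {f // @Cfsg.Agent.H367.PO.B2_G = f} := ⟨_, by first | (delta Cfsg.Agent.H367.PO.B2_G; rewrite [Cfsg.Agent.LsF.mof_pat, Cfsg.Agent.LsF.vecCons_eq]; exact rfl) | exact rfl⟩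
private noncomputable def _root_.Cfsg.Agent.LsF.f3ef6f2_27 : {f // @Cfsg.Agent.H367.PO.A2_2 = f} := ⟨_, by first | (delta Cfsg.Agent.H367.PO.A2_2; rewrite [Cfsg.Agent.LsF.mof_pat, Cfsg.Agent.LsF.vecCons_eq]; exact rfl) | exact rfl⟩
private noncomputable def _root_.Cfsg.Agent.LsF.f3ef6f2_28 : {f // @Cfsg.Agent.H367.PO.A2_4 = f} := ⟨_, by first | (delta Cfsg.Agent.H367.PO.A2_4; rewrite [Cfsg.Agent.LsF.mof_pat, Cfsg.Agent.LsF.vecCons_eq]; exact rfl) | exact rfl⟩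
private noncomputable def _root_.Cfsg.Agent.LsF.f3ef6f2_29 : {f // @Cfsg.Agent.H367.PO.A2_5 = f} := ⟨_, by first | (delta Cfsg.Agent.H367.PO.A2_5; rewrite [Cfsg.Agent.LsF.mof_pat, Cfsg.Agent.LsF.vecCons_eq]; exact rfl) | exact rfl⟩
private noncomputable def _root_.Cfsg.Agent.LsF.f3ef6f2_30 : {f // @Cfsg.Agent.H367.PO.A2_10 = f} := ⟨_, by first | (delta Cfsg.Agent.H367.PO.A2_10; rewrite [Cfsg.Agent.LsF.mof_pat, Cfsg.Agent.LsF.vecCons_eq]; exact rfl) | exact rfl⟩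
private noncomputable def _root_.Cfsg.Agent.LsF.f3ef6f2_31 : {f // @Cfsg.Agent.H367.PO.A2_20 = f} := ⟨_, by first | (delta Cfsg.Agent.H367.PO.A2_20; rewrite [Cfsg.Agent.LsF.mof_pat, Cfsg.Agent.LsF.vecCons_eq]; exact rfl) | exact rfl⟩
private noncomputable def _root_.Cfsg.Agent.LsF.f3ef6f2_32 : {f // @Cfsg.Agent.H367.PO.A2_40 = f} := ⟨_, by first | (delta Cfsg.Agent.H367.PO.A2_40; rewrite [Cfsg.Agent.LsF.mof_pat, Cfsg.Agent.LsF.vecCons_eq]; exact rfl) | exact rfl⟩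
private noncomputable def _root_.Cfsg.Agent.LsF.f3ef6f2_33 : {f // @Cfsg.Agent.H367.PO.B2_2 = f} := ⟨_, by first | (delta Cfsg.Agent.H367.PO.B2_2; rewrite [Cfsg.Agent.LsF.mof_pat, Cfsg.Agent.LsF.vecCons_eq]; exact rfl) | exact rfl⟩
private noncomputable def _root_.Cfsg.Agent.LsF.f3ef6f2_34 : {f // @Cfsg.Agent.H367.PO.B2_4 = f} := ⟨_, by first | (delta Cfsg.Agent.H367.PO.B2_4; rewrite [Cfsg.Agent.LsF.mof_pat, Cfsg.Agent.LsF.vecCons_eq]; exact rfl) | exact rfl⟩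
private noncomputable def _root_.Cfsg.Agent.LsF.f3ef6f2_35 : {f // @Cfsg.Agent.H367.PO.B2_5 = f} := ⟨_, by first | (delta Cfsg.Agent.H367.PO.B2_5; rewrite [Cfsg.Agent.LsF.mof_pat, Cfsg.Agent.LsF.vecCons_eq]; exact rfl) | exact rfl⟩
private noncomputable def _root_.Cfsg.Agent.LsF.f3ef6f2_36 : {f // @Cfsg.Agent.H367.PO.B2_10 = f} := ⟨_, by first | (delta Cfsg.Agent.H367.PO.B2_10; rewrite [Cfsg.Agent.LsF.mof_pat, Cfsg.Agent.LsF.vecCons_eq]; exact rfl) | exact rfl⟩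
private noncomputable def _root_.Cfsg.Agent.LsF.f3ef6f2_37 : {f // @Cfsg.Agent.H367.PO.B2_20 = f} := ⟨_, by first | (delta Cfsg.Agent.H367.PO.B2_20; rewrite [Cfsg.Agent.LsF.mof_pat, Cfsg.Agent.LsF.vecCons_eq]; exact rfl) | exact rfl⟩
private noncomputable def _root_.Cfsg.Agent.LsF.f3ef6f2_38 : {f // @Cfsg.Agent.H367.PO.B2_40 = f} := ⟨_, by first | (delta Cfsg.Agent.H367.PO.B2_40; rewrite [Cfsg.Agent.LsF.mof_pat, Cfsg.Agent.LsF.vecCons_eq]; exact rfl) | exact rfl⟩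
theorem cert2 : Cert G2 DD := by
  refine ⟨A2_1, B2_1, by (refine of_decide_eq_true ?_; (try (rewrite [Cfsg.Agent.LsF.mmulF_pat, Cfsg.Agent.LsF.f3ef6f2_22.2, Cfsg.Agent.LsF.f3ef6f2_23.2, Cfsg.Agent.LsF.f3ef6f2_6.2, Cfsg.Agent.LsF.zadd_pat, Cfsg.Agent.LsF.zmul_pat, Cfsg.Agent.LsF.zdecEq_eq, Cfsg.Agent.LsF.finFintype_eq, Cfsg.Agent.LsF.dMat_eq, Cfsg.Agent.LsF.zACM_pat, Cfsg.Agent.LsF.decide_eq])); decide +kernel), ?_, ?_, ?_, ?_⟩
  · have h : A2_1ᵀ * G2 = A2_G := by (refine of_decide_eq_true ?_; (try (rewrite [Cfsg.Agent.LsF.mmulF_pat, Cfsg.Agent.LsF.f3ef6f2_22.2, Cfsg.Agent.LsF.f3ef6f2_24.2, Cfsg.Agent.LsF.f3ef6f2_25.2, Cfsg.Agent.LsF.zadd_pat, Cfsg.Agent.LsF.zmul_pat, Cfsg.Agent.LsF.zdecEq_eq, Cfsg.Agent.LsF.finFintype_eq, Cfsg.Agent.LsF.dMat_eq, Cfsg.Agent.LsF.transpose_eq, Cfsg.Agent.LsF.zACM_pat, Cfsg.Agent.LsF.decide_eq])); decide +kernel)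
    rw [h]
    (refine of_decide_eq_true ?_; (try (rewrite [Cfsg.Agent.LsF.mmulF_pat, Cfsg.Agent.LsF.f3ef6f2_25.2, Cfsg.Agent.LsF.f3ef6f2_22.2, Cfsg.Agent.LsF.f3ef6f2_24.2, Cfsg.Agent.LsF.zadd_pat, Cfsg.Agent.LsF.zmul_pat, Cfsg.Agent.LsF.zdecEq_eq, Cfsg.Agent.LsF.finFintype_eq, Cfsg.Agent.LsF.dMat_eq, Cfsg.Agent.LsF.zACM_pat, Cfsg.Agent.LsF.decide_eq])); decide +kernel)
  · have h : B2_1ᵀ * G2 = B2_G := by (refine of_decide_eq_true ?_; (try (rewrite [Cfsg.Agent.LsF.mmulF_pat, Cfsg.Agent.LsF.f3ef6f2_23.2, Cfsg.Agent.LsF.f3ef6f2_24.2, Cfsg.Agent.LsF.f3ef6f2_26.2, Cfsg.Agent.LsF.zadd_pat, Cfsg.Agent.LsF.zmul_pat, Cfsg.Agent.LsF.zdecEq_eq, Cfsg.Agent.LsF.finFintype_eq, Cfsg.Agent.LsF.dMat_eq, Cfsg.Agent.LsF.transpose_eq, Cfsg.Agent.LsF.zACM_pat, Cfsg.Agent.LsF.decide_eq])); decide +kernel)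
    rw [h]
    (refine of_decide_eq_true ?_; (try (rewrite [Cfsg.Agent.LsF.mmulF_pat, Cfsg.Agent.LsF.f3ef6f2_26.2, Cfsg.Agent.LsF.f3ef6f2_23.2, Cfsg.Agent.LsF.f3ef6f2_24.2, Cfsg.Agent.LsF.zadd_pat, Cfsg.Agent.LsF.zmul_pat, Cfsg.Agent.LsF.zdecEq_eq, Cfsg.Agent.LsF.finFintype_eq, Cfsg.Agent.LsF.dMat_eq, Cfsg.Agent.LsF.zACM_pat, Cfsg.Agent.LsF.decide_eq])); decide +kernel)
  · exact pow41 (A := A2_1) (A2 := A2_2) (A4 := A2_4) (A5 := A2_5) (A10 := A2_10) (A20 := A2_20) (A40 := A2_40)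
      (by (refine of_decide_eq_true ?_; (try (rewrite [Cfsg.Agent.LsF.mmulF_pat, Cfsg.Agent.LsF.f3ef6f2_22.2, Cfsg.Agent.LsF.f3ef6f2_27.2, Cfsg.Agent.LsF.zadd_pat, Cfsg.Agent.LsF.zmul_pat, Cfsg.Agent.LsF.zdecEq_eq, Cfsg.Agent.LsF.finFintype_eq, Cfsg.Agent.LsF.dMat_eq, Cfsg.Agent.LsF.zACM_pat, Cfsg.Agent.LsF.decide_eq])); decide +kernel)) (by (refine of_decide_eq_true ?_; (try (rewrite [Cfsg.Agent.LsF.mmulF_pat, Cfsg.Agent.LsF.f3ef6f2_27.2, Cfsg.Agent.LsF.f3ef6f2_28.2, Cfsg.Agent.LsF.zadd_pat, Cfsg.Agent.LsF.zmul_pat, Cfsg.Agent.LsF.zdecEq_eq, Cfsg.Agent.LsF.finFintype_eq, Cfsg.Agent.LsF.dMat_eq, Cfsg.Agent.LsF.zACM_pat, Cfsg.Agent.LsF.decide_eq])); decide +kernel)) (by (refine of_decide_eq_true ?_; (try (rewrite [Cfsg.Agent.LsF.mmulF_pat, Cfsg.Agent.LsF.f3ef6f2_28.2, Cfsg.Agent.LsF.f3ef6f2_22.2, Cfsg.Agent.LsF.f3ef6f2_29.2, Cfsg.Agent.LsF.zadd_pat, Cfsg.Agent.LsF.zmul_pat, Cfsg.Agent.LsF.zdecEq_eq, Cfsg.Agent.LsF.finFintype_eq,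 Cfsg.Agent.LsF.dMat_eq, Cfsg.Agent.LsF.zACM_pat, Cfsg.Agent.LsF.decide_eq])); decide +kernel))
      (by (refine of_decide_eq_true ?_; (try (rewrite [Cfsg.Agent.LsF.mmulF_pat, Cfsg.Agent.LsF.f3ef6f2_29.2, Cfsg.Agent.LsF.f3ef6f2_30.2, Cfsg.Agent.LsF.zadd_pat, Cfsg.Agent.LsF.zmul_pat, Cfsg.Agent.LsF.zdecEq_eq, Cfsg.Agent.LsF.finFintype_eq, Cfsg.Agent.LsF.dMat_eq, Cfsg.Agent.LsF.zACM_pat, Cfsg.Agent.LsF.decide_eq])); decide +kernel)) (by (refine of_decide_eq_true ?_; (try (rewrite [Cfsg.Agent.LsF.mmulF_pat, Cfsg.Agent.LsF.f3ef6f2_30.2, Cfsg.Agent.LsF.f3ef6f2_31.2, Cfsg.Agent.LsF.zadd_pat, Cfsg.Agent.LsF.zmul_pat, Cfsg.Agent.LsF.zdecEq_eq, Cfsg.Agent.LsF.finFintype_eq, Cfsg.Agent.LsF.dMat_eq, Cfsg.Agent.LsF.zACM_pat, Cfsg.Agent.LsF.decide_eq])); decide +kernel)) (by (refine of_decide_eq_true ?_; (try (rewrite [Cfsg.Agent.LsF.mmulF_pat, Cfsg.Agent.LsF.f3ef6f2_31.2, Cfsg.Agent.LsF.f3ef6f2_32.2, Cfsg.Agent.LsF.zadd_pat,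 Cfsg.Agent.LsF.zmul_pat, Cfsg.Agent.LsF.zdecEq_eq, Cfsg.Agent.LsF.finFintype_eq, Cfsg.Agent.LsF.dMat_eq, Cfsg.Agent.LsF.zACM_pat, Cfsg.Agent.LsF.decide_eq])); decide +kernel))
      (by (refine of_decide_eq_true ?_; (try (rewrite [Cfsg.Agent.LsF.mmulF_pat, Cfsg.Agent.LsF.f3ef6f2_32.2, Cfsg.Agent.LsF.f3ef6f2_22.2, Cfsg.Agent.LsF.zadd_pat, Cfsg.Agent.LsF.zmul_pat, Cfsg.Agent.LsF.zdecEq_eq, Cfsg.Agent.LsF.finFintype_eq, Cfsg.Agent.LsF.dMat_eq, Cfsg.Agent.LsF.instMOne_eq, Cfsg.Agent.LsF.zACM_pat, Cfsg.Agent.LsF.dFinEq_eq, Cfsg.Agent.LsF.decide_eq])); decide +kernel))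
  · exact pow41 (A := B2_1) (A2 := B2_2) (A4 := B2_4) (A5 := B2_5) (A10 := B2_10) (A20 := B2_20) (A40 := B2_40)
      (by (refine of_decide_eq_true ?_; (try (rewrite [Cfsg.Agent.LsF.mmulF_pat, Cfsg.Agent.LsF.f3ef6f2_23.2, Cfsg.Agent.LsF.f3ef6f2_33.2, Cfsg.Agent.LsF.zadd_pat, Cfsg.Agent.LsF.zmul_pat, Cfsg.Agent.LsF.zdecEq_eq, Cfsg.Agent.LsF.finFintype_eq, Cfsg.Agent.LsF.dMat_eq, Cfsg.Agent.LsF.zACM_pat, Cfsg.Agent.LsF.decide_eq])); decide +kernel)) (by (refine of_decide_eq_true ?_; (try (rewrite [Cfsg.Agent.LsF.mmulF_pat, Cfsg.Agent.LsF.f3ef6f2_33.2, Cfsg.Agent.LsF.f3ef6f2_34.2, Cfsg.Agent.LsF.zadd_pat, Cfsg.Agent.LsF.zmul_pat, Cfsg.Agent.LsF.zdecEq_eq, Cfsg.Agent.LsF.finFintype_eq, Cfsg.Agent.LsF.dMat_eq, Cfsg.Agent.LsF.zACM_pat, Cfsg.Agent.LsF.decide_eq])); decide +kernel)) (by (refine of_decide_eq_true ?_; (try (rewrite [Cfsg.Agent.LsF.mmulF_pat, Cfsg.Agent.LsF.f3ef6f2_34.2, Cfsg.Agent.LsF.f3ef6f2_23.2, Cfsg.Agent.LsF.f3ef6f2_35.2,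 Cfsg.Agent.LsF.zadd_pat, Cfsg.Agent.LsF.zmul_pat, Cfsg.Agent.LsF.zdecEq_eq, Cfsg.Agent.LsF.finFintype_eq, Cfsg.Agent.LsF.dMat_eq, Cfsg.Agent.LsF.zACM_pat, Cfsg.Agent.LsF.decide_eq])); decide +kernel))
      (by (refine of_decide_eq_true ?_; (try (rewrite [Cfsg.Agent.LsF.mmulF_pat, Cfsg.Agent.LsF.f3ef6f2_35.2, Cfsg.Agent.LsF.f3ef6f2_36.2, Cfsg.Agent.LsF.zadd_pat, Cfsg.Agent.LsF.zmul_pat, Cfsg.Agent.LsF.zdecEq_eq, Cfsg.Agent.LsF.finFintype_eq, Cfsg.Agent.LsF.dMat_eq, Cfsg.Agent.LsF.zACM_pat, Cfsg.Agent.LsF.decide_eq])); decide +kernel)) (by (refine of_decide_eq_true ?_; (try (rewrite [Cfsg.Agent.LsF.mmulF_pat, Cfsg.Agent.LsF.f3ef6f2_36.2, Cfsg.Agent.LsF.f3ef6f2_37.2, Cfsg.Agent.LsF.zadd_pat, Cfsg.Agent.LsF.zmul_pat, Cfsg.Agent.LsF.zdecEq_eq, Cfsg.Agent.LsF.finFintype_eq, Cfsg.Agent.LsF.dMat_eq, Cfsg.Agent.LsF.zACM_pat, Cfsg.Agent.LsF.decide_eq])); decide +kernel)) (by (refine of_decide_eq_true ?_; (try (rewrite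 [Cfsg.Agent.LsF.mmulF_pat, Cfsg.Agent.LsF.f3ef6f2_37.2, Cfsg.Agent.LsF.f3ef6f2_38.2, Cfsg.Agent.LsF.zadd_pat, Cfsg.Agent.LsF.zmul_pat, Cfsg.Agent.LsF.zdecEq_eq, Cfsg.Agent.LsF.finFintype_eq, Cfsg.Agent.LsF.dMat_eq, Cfsg.Agent.LsF.zACM_pat, Cfsg.Agent.LsF.decide_eq])); decide +kernel))
      (by (refine of_decide_eq_true ?_; (try (rewrite [Cfsg.Agent.LsF.mmulF_pat, Cfsg.Agent.LsF.f3ef6f2_38.2, Cfsg.Agent.LsF.f3ef6f2_23.2, Cfsg.Agent.LsF.zadd_pat, Cfsg.Agent.LsF.zmul_pat, Cfsg.Agent.LsF.zdecEq_eq, Cfsg.Agent.LsF.finFintype_eq, Cfsg.Agent.LsF.dMat_eq, Cfsg.Agent.LsF.instMOne_eq, Cfsg.Agent.LsF.zACM_pat, Cfsg.Agent.LsF.dFinEq_eq, Cfsg.Agent.LsF.decide_eq])); decide +kernel))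

end Cfsg.Agent.H367.PO
end

-- part: H367/PO/Neg
section
/-!
# S2465, `Ω_9(3)`: the negative of a reflection (helper367)

* `prO_neg` : `-r_f ∈ Ω_9(3)` is a product of two elements of order prime to 6.
-/

set_option autoImplicit false
set_option linter.unusedSectionVars false
set_option linter.unusedVariables false

namespace Cfsg.Agent.H367.PO

open QuadraticMap Matrix Module Cfsg.Agent.LieClassical.OrthCore Cfsg.Agent.LieClassical.OrthTrans
  Cfsg.Agent.LieClassical.OrthFinite Cfsg.Agent.H140.OreO Cfsg.Agent.H126.PwO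

universe u v

variable {F : Type u} {V : Type v} [Field F] [AddCommGroup V] [Module F V] {Q : QuadraticForm F V}

/-- `GL_n` acts on `F^n`. -/
theorem gle_mul {n : ℕ} (A B : GL (Fin n) F) : gle (A * B) = gle A * gle B := by
  apply LinearEquiv.ext
  intro x
  show gle (A * B) x = gle A (gle B x)
  rw [gle_apply, gle_apply, gle_apply, mulVec_mulVec, Units.val_mul]

theorem gle_one {n : ℕ} : gle (1 : GL (Fin n) F) = 1 := by
  apply LinearEquiv.ext
  intro x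
  show gle 1 x = x
  rw [gle_apply, Units.val_one, one_mulVec]

theorem gle_pow {n : ℕ} (A : GL (Fin n) F) (k : ℕ) : gle (A ^ k) = gle A ^ k := by
  induction k with
  | zero => rw [pow_zero, pow_zero, gle_one]
  | succ k ih => rw [pow_succ, pow_succ, gle_mul, ih]

/-- the matrix step -/
theorem prO_cert [Finite F] (φ : ZMod 3 →+* F) {Q' : QuadraticForm F (Fin 9 → F)} (hQ : Nondeg Q')
    {G D : M9} (hc : Cert G D) (hG : ∀ y, Q' y = 2 * (y ⬝ᵥ (G.map φ) *ᵥ y))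
    {d : (Fin 9 → F) ≃ₗ[F] (Fin 9 → F)} (hd : ∀ y, d y = (D.map φ) *ᵥ y) : PrO 6 Q' d := by
  obtain ⟨A, B, hAB, hA, hB, hA1, hB1⟩ := hc.ex
  have key : ∀ A : M9, Aᵀ * G * A = G → A ^ 41 = 1 → ∃ a : GL (Fin 9) F, (a : Matrix (Fin 9) (Fin 9) F) = A.map φ ∧
      a ^ 41 = 1 ∧ gle a ∈ O Q' := by
    intro A hA hA1
    have e1 : (A.map φ) ^ 41 = 1 := by
      have := congrArg (RingHom.mapMatrix φ) hA1
      rw [map_pow, map_one] at this
      exact this
    let a : GL (Fin 9) F := ⟨A.map φ, (A.map φ) ^ 40, by rw [← pow_succ', e1], by rw [← pow_succ, e1]⟩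
    have ha : (a : Matrix (Fin 9) (Fin 9) F) = A.map φ := rfl
    refine ⟨a, ha, Units.ext ?_, ?_⟩
    · rw [Units.val_pow_eq_pow_val, ha, e1, Units.val_one]
    · rw [mem_O]
      intro y
      have e2 : (A.map φ)ᵀ * (G.map φ) * (A.map φ) = G.map φ := by
        have := congrArg (RingHom.mapMatrix φ) hA
        rw [map_mul, map_mul] at this
        exact this
      have e3 : (A.map φ *ᵥ y) ⬝ᵥ (G.map φ *ᵥ (A.map φ *ᵥ y)) = y ⬝ᵥ (G.map φ *ᵥ y) := by
        conv_rhs => rw [← e2]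
        rw [← mulVec_mulVec, ← mulVec_mulVec, dotProduct_mulVec y (A.map φ)ᵀ, vecMul_transpose]
      rw [hG, hG, gle_apply, ha, e3]
  obtain ⟨a, ha, ha1, haO⟩ := key A hA hA1
  obtain ⟨b, hb, hb1, hbO⟩ := key B hB hB1
  have hG' : Good Q' := good_of_finite hQ (by rw [finrank_fin_fun]; omega)
  have ha2 : gle a ^ 41 = 1 := by rw [← gle_pow, ha1, gle_one]
  have hb2 : gle b ^ 41 = 1 := by rw [← gle_pow, hb1, gle_one]
  refine ⟨gle a, mem_Om_of_pow hG' haO (by decide) ha2, gle b, mem_Om_of_pow hG' hbO (by decide) hb2, 41, 41, ?_,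
    by decide, by decide, ha2, hb2⟩
  apply LinearEquiv.ext
  intro y
  rw [hd, ← gle_mul, gle_apply, Units.val_mul, ha, hb, ← hAB]
  congr 1
  exact map_mul (RingHom.mapMatrix φ) A B

/-- coordinates -/
noncomputable def toNine {W : Type v} [AddCommGroup W] [Module F W] (ε : W ≃ₗ[F] F) :
    M F W 4 ≃ₗ[F] (Fin 9 → F) where
  toFun x := ![x.1 0, x.1 1, x.1 2, x.1 3, ε x.2.1, x.2.2 0, x.2.2 1, x.2.2 2, x.2.2 3]
  map_add' x y := by
    ext i
    (revert i; simp only [_root_.Fin.forall_fin_succ, _root_.Nat.succ_eq_add_one, Nat.reduceAdd, Fin.isValue, _root_.Prod.fst_add, _root_.Pi.add_apply, _root_.Prod.snd_add, _root_.map_add, _root_.Matrix.cons_val_zero, _root_.Matrix.cons_val_succ, _root_.Matrix.cons_val_fin_one, _root_.implies_true, _root_.and_self])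
  map_smul' c x := by
    ext i
    (revert i; simp only [_root_.Fin.forall_fin_succ, _root_.Nat.succ_eq_add_one, Nat.reduceAdd, Fin.isValue, _root_.Prod.smul_fst, _root_.Pi.smul_apply, _root_.smul_eq_mul, _root_.Prod.smul_snd, _root_.map_smul, _root_.RingHom.id_apply, _root_.Matrix.cons_val_zero, _root_.Matrix.cons_val_succ, _root_.Matrix.cons_val_fin_one, _root_.implies_true, _root_.and_self])
  invFun y := (![y 0, y 1, y 2, y 3], ε.symm (y 4), ![y 5, y 6, y 7, y 8])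
  left_inv x := by
    refine Prod.ext ?_ (Prod.ext ?_ ?_)
    · ext i
      fin_cases i <;> rfl
    · exact ε.symm_apply_apply _
    · ext i
      fin_cases i <;> rfl
  right_inv y := by
    ext i
    fin_cases i
    · rfl
    · rfl
    · rfl
    · rfl
    · exact ε.apply_symm_apply _
    · rfl
    · rfl
    · rfl
    · rfl

theorem toNine_symm {W : Type v} [AddCommGroup W] [Module F W] (ε : W ≃ₗ[F] F) (y : Fin 9 → F) :
    (toNine ε).symm y = (![y 0, y 1, y 2, y 3], ε.symm (y 4), ![y 5, y 6, y 7, y 8]) := rfl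

/-- the form in coordinates, `κ = ± 1` -/
theorem form_eq (h3 : (3 : F) = 0) (φ : ZMod 3 →+* F) (y : Fin 9 → F) :
    (y 0 * y 5 + y 1 * y 6 + y 2 * y 7 + y 3 * y 8 + y 4 ^ 2 = 2 * (y ⬝ᵥ (G1.map φ) *ᵥ y)) ∧
    (y 0 * y 5 + y 1 * y 6 + y 2 * y 7 + y 3 * y 8 - y 4 ^ 2 = 2 * (y ⬝ᵥ (G2.map φ) *ᵥ y)) := by
  have h2 : φ 2 = 2 := map_ofNat φ 2
  constructor
  · have e : G1.map φ *ᵥ y = ![y 5, y 6, y 7, y 8, 2 * y 4, y 0, y 1, y 2, y 3] := by
      ext i
      (revert i; simp only [G1, mulVec, dotProduct, Fin.sum_univ_succ, h2, _root_.Fin.forall_fin_succ, _root_.Matrix.map_apply, _root_.Matrix.of_apply, _root_.Matrix.cons_val', _root_.Matrix.cons_val_fin_one, Fin.isValue, _root_.Matrix.cons_val_zero, _root_.Matrix.cons_val_succ, _root_.Fin.succ_zero_eq_one, _root_.Fin.succ_one_eq_two, Fin.reduceSucc, _root_.Finset.univ_unique, _root_.Fin.default_eq_zero, _root_.Finset.sum_singleton, _root_.Nat.succ_eq_add_one, Nat.reduceAdd,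 _root_.map_zero, _root_.MulZeroClass.zero_mul, _root_.map_one, _root_.one_mul, _root_.add_zero, _root_.zero_add, _root_.implies_true, _root_.and_self])
    rw [e]
    simp only [dotProduct, Fin.sum_univ_succ, Fin.sum_univ_zero, cons_val_zero, cons_val_succ, Fin.succ_zero_eq_one]
    simp only [_root_.Fin.isValue, _root_.Fin.succ_one_eq_two, _root_.Fin.reduceSucc, _root_.add_zero]
    linear_combination (-(y 0 * y 5 + y 1 * y 6 + y 2 * y 7 + y 3 * y 8 + y 4 ^ 2)) * h3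
  · have e : G2.map φ *ᵥ y = ![y 5, y 6, y 7, y 8, y 4, y 0, y 1, y 2, y 3] := by
      ext i
      (revert i; simp only [G2, mulVec, dotProduct, Fin.sum_univ_succ, _root_.Fin.forall_fin_succ, _root_.Matrix.map_apply, _root_.Matrix.of_apply, _root_.Matrix.cons_val', _root_.Matrix.cons_val_fin_one, Fin.isValue, _root_.Matrix.cons_val_zero, _root_.Matrix.cons_val_succ, _root_.Fin.succ_zero_eq_one, _root_.Fin.succ_one_eq_two, Fin.reduceSucc, _root_.Finset.univ_unique, _root_.Fin.default_eq_zero, _root_.Finset.sum_singleton, _root_.Nat.succ_eq_add_one, Nat.reduceAdd, _root_.map_zero, _root_.MulZeroClass.zero_mul, _root_.map_one, _root_.one_mul, _root_.add_zero, _root_.zero_add, _root_.implies_true, _root_.and_self])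
    rw [e]
    simp only [dotProduct, Fin.sum_univ_succ, _root_.Fin.isValue, _root_.Nat.succ_eq_add_one, _root_.Nat.reduceAdd, _root_.Matrix.cons_val_zero, _root_.Matrix.cons_val_succ, _root_.Fin.succ_zero_eq_one, _root_.Fin.succ_one_eq_two, _root_.Fin.reduceSucc, _root_.Finset.univ_unique, _root_.Fin.default_eq_zero, _root_.Matrix.cons_val_fin_one, _root_.Finset.sum_singleton]
    linear_combination (-(y 0 * y 5 + y 1 * y 6 + y 2 * y 7 + y 3 * y 8 + y 4 ^ 2)) * h3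

theorem DD_mulVec (h3 : (3 : F) = 0) (φ : ZMod 3 →+* F) (y : Fin 9 → F) :
    (DD.map φ) *ᵥ y = ![- y 0, - y 1, - y 2, - y 3, y 4, - y 5, - y 6, - y 7, - y 8] := by
  have h2 : φ 2 = -1 := by
    rw [map_ofNat]
    linear_combination h3
  ext i
  (revert i; simp only [DD, mulVec, dotProduct, Fin.sum_univ_succ, h2, _root_.Fin.forall_fin_succ, _root_.Matrix.map_apply, _root_.Matrix.of_apply, _root_.Matrix.cons_val', _root_.Matrix.cons_val_fin_one, Fin.isValue, _root_.Matrix.cons_val_zero, _root_.Matrix.cons_val_succ, _root_.Fin.succ_zero_eq_one, _root_.Fin.succ_one_eq_two, Fin.reduceSucc, _root_.Finset.univ_unique, _root_.Fin.default_eq_zero, _root_.Finset.sum_singleton, _root_.Nat.succ_eq_add_one, Nat.reduceAdd, _root_.neg_mul, _root_.one_mul, _root_.map_zero, _root_.MulZeroClass.zero_mul, _root_.add_zero, _root_.zero_add, _root_.map_one, _root_.implies_true, _root_.and_self])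

/-- **the model** -/
theorem prO_model_neg [Finite F] (φ : ZMod 3 →+* F) (h3 : (3 : F) = 0) {Q' : QuadraticForm F (Fin 9 → F)}
    (hQ : Nondeg Q') {κ : F} (hκ : κ = 1 ∨ κ = -1)
    (hG : ∀ y, Q' y = y 0 * y 5 + y 1 * y 6 + y 2 * y 7 + y 3 * y 8 + κ * y 4 ^ 2)
    {d : (Fin 9 → F) ≃ₗ[F] (Fin 9 → F)}
    (hd : ∀ y, d y = ![- y 0, - y 1, - y 2, - y 3, y 4, - y 5, - y 6, - y 7, - y 8]) : PrO 6 Q' d := by
  rcases hκ with rfl | rfl
  · refine prO_cert φ hQ cert1 (fun y => ?_) (fun y => ?_)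
    · rw [hG, ← (form_eq h3 φ y).1]
      ring
    · rw [hd, DD_mulVec h3]
  · refine prO_cert φ hQ cert2 (fun y => ?_) (fun y => ?_)
    · rw [hG, ← (form_eq h3 φ y).2]
      ring
    · rw [hd, DD_mulVec h3]

theorem nondeg_comp (hQ : Nondeg Q) {V' : Type*} [AddCommGroup V'] [Module F V'] {Q' : QuadraticForm F V'}
    {e : V ≃ₗ[F] V'} (he : ∀ v, Q' (e v) = Q v) : Nondeg Q' := by
  intro x hx
  have h1 : e.symm x = 0 := by
    apply hQ
    intro y
    rw [← polar_iso he, LinearEquiv.apply_symm_apply]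
    exact hx _
  rw [← e.apply_symm_apply x, h1, map_zero]

/-- the identity on a frame of length 4 -/
theorem prO_neg_frame [Finite F] [FiniteDimensional F V] (φ : ZMod 3 →+* F) (h3 : (3 : F) = 0) (hQ : Nondeg Q)
    (hd : finrank F V = 9) {w w' : Fin 4 → V} (hf : Frame Q w w') {e : V} (he : e ∈ perp Q w w')
    (hκ : Q e = 1 ∨ Q e = -1) {g : V ≃ₗ[F] V} (hge : g e = e) (hgn : ∀ v, polar Q e v = 0 → g v = -v) :
    PrO 6 Q g := by
  have he0 : e ≠ 0 := by
    rintro rfl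
    rw [QuadraticMap.map_zero] at hκ
    rcases hκ with h | h
    · exact zero_ne_one h
    · exact one_ne_zero (neg_eq_zero.1 h.symm)
  have h1 : finrank F (perp Q w w') = 1 := by
    have := hf.finrank_perp
    omega
  let e₁ : perp Q w w' := ⟨e, he⟩
  have he₁ : e₁ ≠ 0 := fun h => he0 (congrArg Subtype.val h)
  have hinj : Function.Injective (LinearMap.toSpanSingleton F (perp Q w w') e₁) := by
    rw [← LinearMap.ker_eq_bot]
    exact LinearMap.ker_toSpanSingleton F he₁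
  let ε' : F ≃ₗ[F] perp Q w w' := LinearEquiv.ofBijective (LinearMap.toSpanSingleton F (perp Q w w') e₁)
    ⟨hinj, (LinearMap.injective_iff_surjective_of_finrank_eq_finrank (by rw [h1, finrank_self])).1 hinj⟩
  have hε : ∀ t : F, ε' t = t • e₁ := fun t => rfl
  let E : V ≃ₗ[F] (Fin 9 → F) := hf.toModel.trans (toNine ε'.symm)
  have hE : ∀ y, E.symm y = ∑ i, (![y 0, y 1, y 2, y 3] : Fin 4 → F) i • w i +
      (y 4 • e + ∑ i, (![y 5, y 6, y 7, y 8] : Fin 4 → F) i • w' i) := fun y => hf.toModel_symm_apply _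
  let Q' : QuadraticForm F (Fin 9 → F) := Q.comp (E.symm : (Fin 9 → F) →ₗ[F] V)
  have hQ' : ∀ v, Q' (E v) = Q v := by
    intro v
    show Q (E.symm (E v)) = Q v
    rw [LinearEquiv.symm_apply_apply]
  refine PrO.of_autE hQ' (prO_model_neg φ h3 (nondeg_comp hQ hQ') hκ ?_ ?_)
  · intro y
    have e1 : Q' y = MQ 4 (res Q w w') ((toNine ε'.symm).symm y) := by
      show Q (hf.toModel.symm ((toNine ε'.symm).symm y)) = _
      rw [← hf.MQ_toModel, LinearEquiv.apply_symm_apply]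
    rw [e1, toNine_symm, MQ_apply]
    have e2 : res Q w w' (ε'.symm.symm (y 4)) = Q e * y 4 ^ 2 := by
      have : ε'.symm.symm (y 4) = y 4 • e₁ := hε _
      rw [this, QuadraticMap.map_smul, res_apply, smul_eq_mul]
      ring
    rw [e2]
    simp only [dotProduct, Fin.sum_univ_four, _root_.Nat.succ_eq_add_one, _root_.Nat.reduceAdd, _root_.Fin.isValue, _root_.Matrix.cons_val_zero, _root_.Matrix.cons_val_one, _root_.Matrix.cons_val]
  · intro y
    rw [autE_apply, ← LinearEquiv.eq_symm_apply, hE, hE]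
    have e1 : polar Q e (∑ i, (![y 0, y 1, y 2, y 3] : Fin 4 → F) i • w i) = 0 := by
      rw [polar_comm]; exact Frame.polar_perp_l _ he
    have e2 : polar Q e (∑ i, (![y 5, y 6, y 7, y 8] : Fin 4 → F) i • w' i) = 0 := by
      rw [polar_comm]; exact Frame.polar_perp_r _ he
    rw [map_add, map_add, map_smul, hge, hgn _ e1, hgn _ e2]
    simp only [Fin.sum_univ_four, cons_val_zero, cons_val_one, cons_val]
    simp only [neg_smul]
    abel

/-- **`-r_f`.** -/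
theorem prO_neg [Fintype F] [FiniteDimensional F V] (hF : Fintype.card F = 3) (hQ : Nondeg Q)
    (hd : finrank F V = 9) {g : V ≃ₗ[F] V} (hg : g ∈ Om Q) {f : V} (hf : Q f ≠ 0) (hgf : g f = f)
    (hgn : ∀ v, polar Q f v = 0 → g v = -v) : PrO 6 Q g := by
  have hc : CharP F 3 := by
    have := FiniteField.cast_card_eq_zero F
    rw [hF] at this
    exact (CharP.charP_iff_prime_eq_zero Nat.prime_three).2 this
  have h3 : (3 : F) = 0 := by
    have := CharP.cast_eq_zero F 3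
    exact_mod_cast this
  have h2 : (2 : F) ≠ 0 := by
    intro h
    apply one_ne_zero (α := F)
    linear_combination h3 - h
  have hunit : ∀ x : F, x ≠ 0 → x = 1 ∨ x = -1 := by
    intro x hx
    have h4 : x ^ 2 = 1 := by
      have := FiniteField.pow_card_sub_one_eq_one x hx
      rwa [hF] at this
    have h5 : (x - 1) * (x + 1) = 0 := by linear_combination h4
    rcases mul_eq_zero.1 h5 with h | h
    · exact Or.inl (sub_eq_zero.1 h)
    · exact Or.inr (eq_neg_of_add_eq_zero_left h)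
  have hf0 : f ≠ 0 := by
    rintro rfl
    exact hf (QuadraticMap.map_zero _)
  have hg' : ∀ v, g v = ((Q f)⁻¹ * polar Q f v) • f - v := by
    intro v
    have h1 : polar Q f (v - ((2 * Q f)⁻¹ * polar Q f v) • f) = 0 := by
      rw [polar_sub_right, polar_smul_right, polar_self', smul_eq_mul]
      field_simp
      ring
    have h4 := hgn _ h1
    rw [map_sub, map_smul, hgf] at h4
    have h5 : g v = ((2 * Q f)⁻¹ * polar Q f v) • f + -(v - ((2 * Q f)⁻¹ * polar Q f v) • f) := by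
      rw [← h4]
      abel
    have h6 : (Q f)⁻¹ * polar Q f v = (2 * Q f)⁻¹ * polar Q f v + (2 * Q f)⁻¹ * polar Q f v := by
      field_simp
      ring
    rw [h5, h6, add_smul]
    abel
  have hns : ∀ c : F, ∃ v, g v ≠ c • v := by
    intro c
    by_contra hcon
    push Not at hcon
    have h1 := hcon f
    rw [hgf] at h1
    obtain ⟨v, hv0, hv⟩ := exists_perp_ne (Q := Q) ![f] (by omega)
    have h4 := hgn v (hv 0)
    rw [hcon v] at h4
    have h5 : (1 - c) • f = 0 := by rw [sub_smul, one_smul, ← h1, sub_self]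
    have h6 : c = 1 := by
      rcases smul_eq_zero.1 h5 with h | h
      · exact (sub_eq_zero.1 h).symm
      · exact absurd h hf0
    rw [h6, one_smul] at h4
    have h7 : (2 : F) • v = 0 := by
      rw [two_smul]
      nth_rewrite 1 [h4]
      abel
    rcases smul_eq_zero.1 h7 with h | h
    · exact h2 h
    · exact hv0 h
  obtain ⟨m, hm3, hm1, hm2, w, w', hfr, hS, hdet, -⟩ := Cfsg.Agent.H434.Corn.exists_baseCorner hQ (by omega) hg hns
  obtain rfl : m = 4 := by omega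
  have hcor : corner Q g w w' = -(1 + replicateCol Unit (fun i => -((Q f)⁻¹ * polar Q f (w' i))) *
      replicateRow Unit (fun j => polar Q f (w j))) := by
    ext i j
    rw [corner_apply, hg', polar_sub_left, polar_smul_left, hfr.lr, Matrix.neg_apply, Matrix.add_apply, one_apply, mul_apply,
      Fintype.sum_unique, replicateCol_apply, replicateRow_apply, smul_eq_mul]
    by_cases hij : i = j
    · rw [if_pos hij, if_pos hij.symm]; ring
    · rw [if_neg hij, if_neg (Ne.symm hij)]; ring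
  rw [hcor, det_neg, Fintype.card_fin, det_one_add_replicateCol_mul_replicateRow] at hdet
  have hsum : (fun i => polar Q f (w' i)) ⬝ᵥ (fun i => polar Q f (w i)) = 0 := by
    have h1 : (fun j => polar Q f (w j)) ⬝ᵥ (fun i => -((Q f)⁻¹ * polar Q f (w' i))) = 0 := by
      linear_combination hdet
    have h4 : (fun j => polar Q f (w j)) ⬝ᵥ (fun i => -((Q f)⁻¹ * polar Q f (w' i))) =
        -(Q f)⁻¹ * ((fun i => polar Q f (w' i)) ⬝ᵥ (fun i => polar Q f (w i))) := by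
      rw [dotProduct, dotProduct, Finset.mul_sum]
      exact Finset.sum_congr rfl fun i _ => by ring
    rw [h4] at h1
    rcases mul_eq_zero.1 h1 with h | h
    · exact absurd h (neg_ne_zero.2 (inv_ne_zero hf))
    · exact h
  have hQe : Q ((hfr.toModel f).2.1 : V) = Q f := by
    have h1 := hfr.MQ_toModel f
    rw [MQ_apply'] at h1
    have h4 : (hfr.toModel f).1 ⬝ᵥ (hfr.toModel f).2.2 = 0 := by
      rw [← hsum, dotProduct, dotProduct]
      exact Finset.sum_congr rfl fun i _ => by rw [hfr.toModel_fst, hfr.toModel_snd]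
    rw [h4, zero_add] at h1
    exact h1
  have hG : Good Q := good_of_finite hQ (by omega)
  obtain ⟨r, hrE, hr⟩ := hG.trans_norm (v := ((hfr.toModel f).2.1 : V)) (v' := f) (by
    intro h0
    rw [h0, QuadraticMap.map_zero] at hQe
    exact hf hQe.symm) hf0 hQe
  have hrO : r ∈ O Q := E_le_O hrE
  refine PrO.of_autE (e := r.symm) (Q' := Q) (fun v => (O Q).inv_mem hrO v) ?_
  refine prO_neg_frame (ZMod.castHom (dvd_refl 3) F) h3 hQ hd hfr (hfr.toModel f).2.1.2 (by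
    rw [hQe]; exact hunit _ hf) ?_ ?_
  · show r.symm (g (r _)) = _
    rw [hr, hgf, LinearEquiv.symm_apply_eq, hr]
  · intro v hv
    show r.symm (g (r v)) = _
    rw [hgn (r v), map_neg, LinearEquiv.symm_apply_apply]
    rw [← hr, polar_map hrO]
    exact hv

end Cfsg.Agent.H367.PO
end

-- part: H367/PO/Fix
section
/-!
# S2465, `Ω_9(3)`: elements fixing a nonsingular vector (helper367)
-/

set_option autoImplicit false
set_option linter.unusedSectionVars false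
set_option linter.unusedVariables false

namespace Cfsg.Agent.H367.PO

open QuadraticMap Matrix Module Cfsg.Agent.LieClassical.OrthCore Cfsg.Agent.LieClassical.OrthTrans
  Cfsg.Agent.LieClassical.OrthFinite Cfsg.Agent.H140.OreO Cfsg.Agent.H126.PwO Cfsg.Agent.H160.QSpin
  Cfsg.Agent.H141.SpinFacts

universe u v

variable {F : Type u} [Field F] {V : Type v} [AddCommGroup V] [Module F V] {Q : QuadraticForm F V}

/-! ### `q = 3`: no condition on the corner -/

theorem prO_frame_three' [Finite F] [FiniteDimensional F V] (hF : Nat.card F = 3) (hN : 5 ≤ finrank F V)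
    {w w' : Fin 3 → V} (hQ : Nondeg Q) (hf : Frame Q w w') {g : V ≃ₗ[F] V} (hg : g ∈ O Q)
    (hS : SchurOne Q g w w') (hdet : (corner Q g w w').det = 1) : PrO 6 Q g := by
  refine prO_frame_three (Or.inl hF) hN hQ hf hg hS hdet ?_
  by_cases h : ∃ c : F, corner Q g w w' = c • (1 : Matrix (Fin 3) (Fin 3) F)
  · left
    obtain ⟨c, hc⟩ := h
    have _ : Fintype F := Fintype.ofFinite F
    have h1 := FiniteField.pow_card c
    rw [← Nat.card_eq_fintype_card, hF] at h1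
    rw [hc, det_smul, det_one, mul_one, Fintype.card_fin, h1] at hdet
    rw [hc, hdet, one_smul]
  · push Not at h
    exact Or.inr h

/-- dimension 8 -/
theorem prO_eight_three [Finite F] [FiniteDimensional F V] (hF : Nat.card F = 3) (hQ : Nondeg Q)
    (hd : finrank F V = 8) {g : V ≃ₗ[F] V} (hg : g ∈ Om Q) (hns : ∀ c : F, ∃ v, g v ≠ c • v) : PrO 6 Q g := by
  obtain ⟨m, hm3, hm1, hm2, hB⟩ := Cfsg.Agent.H434.Corn.exists_baseCorner hQ (by omega) hg hns
  have hB' : Cfsg.Agent.H141.Red43.BaseCorner' 3 Q g := by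
    have : m = 3 ∨ m = 4 := by omega
    rcases this with rfl | rfl
    · exact Cfsg.Agent.H141.Red43.BaseCorner.weak hB
    · exact Cfsg.Agent.H141.Red43.baseCorner_three hd (Om_le hg) hB
  obtain ⟨w, w', hf, hS, hdet, -⟩ := hB'
  exact prO_frame_three' hF (by omega) hQ hf (Om_le hg) hS hdet

/-! ### the complement of a nonsingular vector -/

section Sum

variable {W : Type*} [AddCommGroup W] [Module F W] {Q₁ : QuadraticForm F V} {Q₂ : QuadraticForm F W}

theorem pr_mem_Om {a : V ≃ₗ[F] V} (ha : a ∈ Om Q₁) : pr a (1 : W ≃ₗ[F] W) ∈ Om (Q₁.prod Q₂) := by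
  let ψ : (V ≃ₗ[F] V) →* ((V × W) ≃ₗ[F] (V × W)) :=
    { toFun := fun g => pr g 1
      map_one' := rfl
      map_mul' := fun _ _ => rfl }
  have h1 : (Om Q₁).map ψ ≤ Om (Q₁.prod Q₂) := by
    rw [Om, Subgroup.map_commutator]
    apply Subgroup.commutator_mono <;>
    · rintro _ ⟨g, hg, rfl⟩
      exact pr_mem_O hg (O Q₂).one_mem
  exact h1 ⟨a, ha, rfl⟩

theorem prO_pr {N : ℕ} {g : V ≃ₗ[F] V} (h : PrO N Q₁ g) : PrO N (Q₁.prod Q₂) (pr g (1 : W ≃ₗ[F] W)) := by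
  obtain ⟨a, ha, b, hb, s, t, e, hs, ht, has, hbt⟩ := h
  refine ⟨_, pr_mem_Om ha, _, pr_mem_Om hb, s, t, ?_, hs, ht, ?_, ?_⟩
  · rw [← pr_mul, ← e, mul_one]
  · rw [pr_pow, has, one_pow, pr_one]
  · rw [pr_pow, hbt, one_pow, pr_one]

theorem mem_Om_of_pr [Finite F] [FiniteDimensional F V] [FiniteDimensional F W] (h2 : (2 : F) ≠ 0) (hG : Good Q₁)
    {g : V ≃ₗ[F] V} (hg : g ∈ O Q₁) (h : pr g (1 : W ≃ₗ[F] W) ∈ Om (Q₁.prod Q₂)) : g ∈ Om Q₁ := by
  have : Finite V := Module.finite_of_finite F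
  have : Finite W := Module.finite_of_finite F
  have : Finite (V × W) := inferInstance
  have h3 := hom_eq_one (spin (Q₁.prod Q₂)) h (comm_le h)
  have h4 := spin_pr_left (Q₁ := Q₁) (Q₂ := Q₂) h2 hG.nondeg hg
  have h5 := det_eq_one h
  rw [det_pr, map_one, mul_one] at h5
  refine mem_Om_of_odd h2 hG hg h5 ?_
  rw [← h4]
  exact h3

end Sum

/-- coordinates with respect to `f^⊥ ⊕ ⟨f⟩` -/
theorem exists_split_line [FiniteDimensional F V] (h2 : (2 : F) ≠ 0) {f : V} (hf : Q f ≠ 0) :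
    ∃ e : V ≃ₗ[F] (LinearMap.ker (polarBilin Q f) × F),
      (∀ w t, e.symm (w, t) = (w : V) + t • f) ∧
      ∀ v, ((Q.comp (LinearMap.ker (polarBilin Q f)).subtype).prod (Q.comp (LinearMap.toSpanSingleton F V f))) (e v) =
        Q v := by
  have hff : polar Q f f ≠ 0 := by rw [polar_self']; exact mul_ne_zero h2 hf
  have hW : ∀ w : LinearMap.ker (polarBilin Q f), polar Q f (w : V) = 0 := fun w => w.2
  let D : (LinearMap.ker (polarBilin Q f) × F) →ₗ[F] V :=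
    (LinearMap.ker (polarBilin Q f)).subtype.coprod (LinearMap.toSpanSingleton F V f)
  have hD : ∀ w t, D (w, t) = (w : V) + t • f := fun w t => by
    simp [D]
  have hbij : Function.Bijective D := by
    constructor
    · rw [← LinearMap.ker_eq_bot, LinearMap.ker_eq_bot']
      rintro ⟨w, t⟩ h
      rw [hD] at h
      have h1 := congrArg (polar Q f) h
      rw [polar_add_right, polar_smul_right, hW, polar_zero_right, zero_add, smul_eq_mul] at h1
      have h3 : t = 0 := (mul_eq_zero.1 h1).resolve_right hff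
      rw [h3, zero_smul, add_zero] at h
      exact Prod.ext (Subtype.ext h) h3
    · intro v
      refine ⟨(⟨v - ((polar Q f f)⁻¹ * polar Q f v) • f, ?_⟩, (polar Q f f)⁻¹ * polar Q f v), ?_⟩
      · rw [LinearMap.mem_ker, polarBilin_apply_apply, polar_sub_right, polar_smul_right, smul_eq_mul]
        field_simp
        ring
      · rw [hD]
        simp
  refine ⟨(LinearEquiv.ofBijective D hbij).symm, hD, fun v => ?_⟩
  obtain ⟨⟨w, t⟩, rfl⟩ := (LinearEquiv.ofBijective D hbij).surjective v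
  rw [LinearEquiv.symm_apply_apply, Qpr_apply]
  show Q (w : V) + Q (t • f) = Q (D (w, t))
  rw [hD, Q_add, polar_smul_right, polar_comm, hW, smul_zero, add_zero]

/-- **elements fixing a nonsingular vector** -/
theorem prO_of_fix [Finite F] [FiniteDimensional F V] (hF : Nat.card F = 3) (hQ : Nondeg Q)
    (hd : finrank F V = 9) {g : V ≃ₗ[F] V} (hg : g ∈ Om Q) {f : V} (hf : Q f ≠ 0) (hgf : g f = f) : PrO 6 Q g := by
  have h2 : (2 : F) ≠ 0 := two_ne_zero_of (by rw [hF]; decide)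
  obtain ⟨e, he, hQe⟩ := exists_split_line h2 hf
  set Q₁ := Q.comp (LinearMap.ker (polarBilin Q f)).subtype with hQ₁
  set Q₂ := Q.comp (LinearMap.toSpanSingleton F V f) with hQ₂
  have hgO : g ∈ O Q := Om_le hg
  have hW : ∀ w : LinearMap.ker (polarBilin Q f), polar Q f (w : V) = 0 := fun w => w.2
  have hmem : ∀ w ∈ LinearMap.ker (polarBilin Q f), (g : V →ₗ[F] V) w ∈ LinearMap.ker (polarBilin Q f) := by
    intro w hw
    rw [LinearMap.mem_ker, polarBilin_apply_apply] at hw ⊢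
    have := polar_map hgO f w
    rw [hgf] at this
    rw [LinearEquiv.coe_coe, this, hw]
  let h₀ := (g : V →ₗ[F] V).restrict hmem
  have hinj : Function.Injective h₀ := by
    intro x y hxy
    have : g (x : V) = g (y : V) := congrArg Subtype.val hxy
    exact Subtype.ext (g.injective this)
  let h : LinearMap.ker (polarBilin Q f) ≃ₗ[F] LinearMap.ker (polarBilin Q f) := LinearEquiv.ofInjectiveEndo h₀ hinj
  have hh : ∀ w, ((h w : LinearMap.ker (polarBilin Q f)) : V) = g (w : V) := fun w => rfl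
  have hhO : h ∈ O Q₁ := by
    intro w
    show Q ((h w : LinearMap.ker (polarBilin Q f)) : V) = Q (w : V)
    rw [hh, mem_O.1 hgO]
  have hpr : autE e g = pr h (1 : F ≃ₗ[F] F) := by
    apply LinearEquiv.ext
    rintro ⟨w, t⟩
    rw [autE_apply, pr_apply, ← LinearEquiv.eq_symm_apply, he, map_add, map_smul, hgf]
    exact (he (h w) t).symm
  have hfin : finrank F (LinearMap.ker (polarBilin Q f)) = 8 := by
    have := e.finrank_eq
    rw [finrank_prod, finrank_self, hd] at this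
    omega
  have hnd : Nondeg (Q₁.prod Q₂) := nondeg_comp hQ hQe
  have hQ1 : Nondeg Q₁ := (nondeg_of_prod hnd).1
  have hG : Good Q₁ := good_of_finite hQ1 (by omega)
  have hOm : pr h (1 : F ≃ₗ[F] F) ∈ Om (Q₁.prod Q₂) := by
    rw [← hpr]
    exact (autE_mem_Om hQe).2 hg
  have hh1 : h ∈ Om Q₁ := mem_Om_of_pr h2 hG hhO hOm
  by_cases hsc : ∃ c : F, ∀ v, h v = c • v
  · obtain ⟨c, hc⟩ := hsc
    have _ : Fintype F := Fintype.ofFinite F
    have hc0 : c ≠ 0 := by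
      rintro rfl
      obtain ⟨x, hx⟩ : ∃ x : LinearMap.ker (polarBilin Q f), x ≠ 0 := by
        have : Nontrivial (LinearMap.ker (polarBilin Q f)) := Module.finrank_pos_iff.1 (by rw [hfin]; norm_num)
        exact exists_ne 0
      apply hx
      apply h.injective
      rw [hc, zero_smul, map_zero]
    have hc2 : c = 1 ∨ c = -1 := by
      have h3 := FiniteField.pow_card_sub_one_eq_one c hc0
      rw [← Nat.card_eq_fintype_card, hF] at h3
      have h5 : (c - 1) * (c + 1) = 0 := by linear_combination h3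
      rcases mul_eq_zero.1 h5 with h | h
      · exact Or.inl (sub_eq_zero.1 h)
      · exact Or.inr (eq_neg_of_add_eq_zero_left h)
    rcases hc2 with rfl | rfl
    · have h3 : g = 1 := by
        apply (autE e).injective
        rw [hpr, map_one]
        have : h = 1 := LinearEquiv.ext fun v => by rw [hc, one_smul]; rfl
        rw [this, pr_one]
      rw [h3]
      exact prO_one 6
    · refine prO_neg (by rwa [← Nat.card_eq_fintype_card]) hQ hd hg hf hgf fun v hv => ?_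
      have h3 := congrArg Subtype.val (hc ⟨v, hv⟩)
      rw [hh] at h3
      rw [h3]
      simp
  · push Not at hsc
    exact PrO.of_autE hQe (by rw [hpr]; exact prO_pr (prO_eight_three hF hQ1 hfin hh1 hsc))

end Cfsg.Agent.H367.PO
end

-- part: H367/PO/Coset
section
/-!
# S2465, `Ω_9(3)`: elements fixing a singular vector (helper367)

* `tr` : the translations, `coset` : products of conjugates under the translations;
* `exists_ab` : `h ∈ Ω_7(3)`, `h ≠ 1`, is `a * b`, orders prime to 6, no common fixed vector;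
* `prO_nine` : `Ω_9(3)`.
-/

set_option autoImplicit false
set_option linter.unusedSectionVars false
set_option linter.unusedVariables false

namespace Cfsg.Agent.H367.PO

open QuadraticMap Matrix Module Cfsg.Agent.LieClassical.OrthCore Cfsg.Agent.LieClassical.OrthTrans
  Cfsg.Agent.LieClassical.OrthFinite Cfsg.Agent.H140.OreO Cfsg.Agent.H126.PwO Cfsg.Agent.H141.SpinFacts
  Cfsg.Agent.H160.QSpin

universe u v

variable {F : Type u} [Field F] {W : Type v} [AddCommGroup W] [Module F W] {Q : QuadraticForm F W}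

/-- `(1, 0, 0)` -/
def eL (F : Type u) (W : Type v) [Field F] [AddCommGroup W] [Module F W] : M F W 1 := (fun _ => 1, 0, 0)

/-- `(0, 0, 1)` -/
def eR (F : Type u) (W : Type v) [Field F] [AddCommGroup W] [Module F W] : M F W 1 := (0, 0, fun _ => 1)

theorem Q_eL : MQ 1 Q (eL F W) = 0 := by
  rw [MQ_apply']; simp [eL]

theorem polar_eL (v : M F W 1) : polar (MQ 1 Q) (eL F W) v = v.2.2 0 := by
  rw [polar_MQ]; simp [eL, dotProduct]

theorem polar_eL' (x : W) : polar (MQ 1 Q) (eL F W) (0, x, 0) = 0 := by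
  rw [polar_eL]; rfl

theorem polar_mid (x : W) (v : M F W 1) : polar (MQ 1 Q) (0, x, 0) v = polar Q x v.2.1 := by
  rw [polar_MQ]; simp

/-- translations -/
def tr (Q : QuadraticForm F W) (x : W) : M F W 1 ≃ₗ[F] M F W 1 := siegel (MQ 1 Q) (eL F W) (0, x, 0) Q_eL (polar_eL' x)

theorem tr_apply (x : W) (v : M F W 1) :
    tr Q x v = v + v.2.2 0 • ((0, x, 0) : M F W 1) - polar Q x v.2.1 • eL F W - (Q x * v.2.2 0) • eL F W := by
  rw [tr, siegel_apply, polar_eL, polar_mid]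
  congr 3
  rw [MQ_apply']; simp

theorem tr_mem (x : W) : tr Q x ∈ O (MQ 1 Q) := siegel_mem_O _ _

theorem tr_mul (x y : W) : tr Q x * tr Q y = tr Q (x + y) := by
  have h := siegel_mul (Q := MQ 1 Q) (u := eL F W) (w := (0, x, 0)) (w' := (0, y, 0)) Q_eL (polar_eL' x) (polar_eL' y)
    (by rw [polar_add_right, polar_eL', polar_eL', add_zero])
  refine h.trans ?_
  apply LinearEquiv.ext
  intro v
  rw [tr, siegel_apply, siegel_apply]
  simp only [_root_.Prod.mk_add_mk, _root_.add_zero, _root_.Prod.smul_mk, _root_.smul_zero, _root_.smul_add]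

theorem tr_zero : tr Q (0 : W) = 1 := by
  apply LinearEquiv.ext
  intro v
  rw [tr_apply]
  simp only [_root_.Fin.isValue, _root_.Prod.smul_mk, _root_.smul_zero, _root_.QuadraticMap.polar_zero_left, _root_.zero_smul, _root_.sub_zero, _root_.map_zero, _root_.MulZeroClass.zero_mul, _root_.LinearEquiv.coe_one, _root_.id_eq, _root_.add_eq_left, _root_.Prod.mk_eq_zero, _root_.and_self]

theorem tr_inv (x : W) : (tr Q x)⁻¹ = tr Q (-x) := by
  rw [inv_eq_iff_mul_eq_one, tr_mul, add_neg_cancel, tr_zero]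

theorem lev_tr {a : W ≃ₗ[F] W} (ha : a ∈ O Q) (x : W) :
    lev (1 : GL (Fin 1) F) a * tr Q x = tr Q (a x) * lev 1 a := by
  rw [← mul_inv_eq_iff_eq_mul]
  have e1 : lev (1 : GL (Fin 1) F) a (eL F W) = eL F W := by
    rw [lev_apply]; simp [eL]
  have e2 : lev (1 : GL (Fin 1) F) a (0, x, 0) = (0, a x, 0) := by
    rw [lev_apply]; simp
  rw [tr, siegel_conj (lev_mem ha) Q_eL (polar_eL' x) (by rw [e1]; exact Q_eL) (by rw [e1, e2]; exact polar_eL' _)]
  apply LinearEquiv.ext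
  intro v
  rw [tr, siegel_apply, siegel_apply, e1, e2]

/-- every element of `U⁺` is a translation -/
theorem up_eq {u : M F W 1 ≃ₗ[F] M F W 1} (hu : u ∈ Up 1 Q) : u = tr Q (u (eR F W)).2.1 := by
  set x := (u (eR F W)).2.1 with hx
  have h1 : (u (eR F W)).2.2 = fun _ => 1 := hu.2.1 _
  have h2 : (u (eR F W)).1 0 = - Q x := by
    have h := mem_O.1 hu.1 (eR F W)
    rw [MQ_apply', MQ_apply', h1] at h
    simp only [dotProduct, Fin.sum_univ_one, mul_one, eR] at h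
    rw [Pi.zero_apply, zero_add, QuadraticMap.map_zero] at h
    exact eq_neg_of_add_eq_zero_left h
  apply LinearEquiv.ext
  intro v
  have hd : v = (v.1, 0, 0) + ((0, v.2.1, 0) + v.2.2 0 • eR F W) := by
    refine Prod.ext (by simp [eR]) (Prod.ext (by simp only [eR, _root_.Fin.isValue, _root_.Prod.smul_mk, _root_.smul_zero, _root_.Prod.mk_add_mk, _root_.add_zero, _root_.zero_add]) ?_)
    ext i
    rw [Fin.fin_one_eq_zero i]
    simp [eR]
  have e1 : u (v.1, 0, 0) = (v.1, 0, 0) := hu.2.2.2 _ rfl rfl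
  have e2 : u (0, v.2.1, 0) = (0, v.2.1, 0) - polar Q x v.2.1 • eL F W := by
    have f1 : (u (0, v.2.1, 0)).2.2 = 0 := hu.2.1 _
    have f2 : (u (0, v.2.1, 0)).2.1 = v.2.1 := hu.2.2.1 _ rfl
    have f3 : (u (0, v.2.1, 0)).1 0 = - polar Q x v.2.1 := by
      have h := polar_map hu.1 (0, v.2.1, 0) (eR F W)
      rw [polar_MQ, polar_MQ, f1, f2, h1, ← hx, polar_comm Q v.2.1 x] at h
      simp only [dotProduct, Fin.sum_univ_one, mul_one, eR, Pi.zero_apply, mul_zero, add_zero,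
        polar_zero_right] at h
      exact eq_neg_of_add_eq_zero_left h
    refine Prod.ext ?_ (Prod.ext ?_ ?_)
    · ext i
      rw [Fin.fin_one_eq_zero i, f3]
      simp [eL]
    · rw [f2]; simp only [eL, _root_.Prod.smul_mk, _root_.smul_zero, _root_.Prod.mk_sub_mk, _root_.zero_sub, _root_.sub_zero, _root_.sub_self]
    · rw [f1]; simp [eL]
  have e3 : u (eR F W) = (0, x, 0) + eR F W - Q x • eL F W := by
    refine Prod.ext ?_ (Prod.ext ?_ ?_)
    · ext i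
      rw [Fin.fin_one_eq_zero i, h2]
      simp [eL, eR]
    · simp [eL, eR, hx]
    · rw [h1]; simp [eL, eR]
  rw [tr_apply]
  conv_lhs => rw [hd, map_add, map_add, map_smul, e1, e2, e3]
  conv_rhs => rw [hd]
  have k1 : ((v.1, 0, 0) + ((0, v.2.1, 0) + v.2.2 0 • eR F W) : M F W 1).2.2 0 = v.2.2 0 := by rw [← hd]
  have k2 : ((v.1, 0, 0) + ((0, v.2.1, 0) + v.2.2 0 • eR F W) : M F W 1).2.1 = v.2.1 := by rw [← hd]
  rw [k1, k2]
  module

/-- **the coset step** -/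
theorem coset [FiniteDimensional F W] (hQ : Nondeg Q) {a b : W ≃ₗ[F] W} (ha : a ∈ O Q) (hb : b ∈ O Q)
    (hab : ∀ x, a x = x → b x = x → x = 0) (z : W) :
    ∃ x y, lev (1 : GL (Fin 1) F) (a * b) * tr Q z =
      (tr Q x * lev 1 a * (tr Q x)⁻¹) * (tr Q y * lev 1 b * (tr Q y)⁻¹) := by
  let T : (W × W) →ₗ[F] W := (LinearMap.id - (a : W →ₗ[F] W)).coprod
    ((a : W →ₗ[F] W) ∘ₗ (LinearMap.id - (b : W →ₗ[F] W)))
  have hT : ∀ x y, T (x, y) = (x - a x) + a (y - b y) := fun x y => by simp [T]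
  have hsurj : ∀ t, ∃ x y, (x - a x) + a (y - b y) = t := by
    by_contra hcon
    push Not at hcon
    obtain ⟨t, ht⟩ := hcon
    have ht' : t ∉ LinearMap.range T := by
      rintro ⟨⟨x, y⟩, h⟩
      exact ht x y (by rw [← hT, h])
    obtain ⟨φ, hφ, hR⟩ := Submodule.exists_le_ker_of_notMem ht'
    have hinj : Function.Injective (polarBilin Q : W →ₗ[F] Dual F W) := by
      rw [← LinearMap.ker_eq_bot, LinearMap.ker_eq_bot']
      intro x hx
      exact hQ x fun y => LinearMap.congr_fun hx y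
    obtain ⟨c, hc⟩ := (LinearMap.injective_iff_surjective_of_finrank_eq_finrank
      (Subspace.dual_finrank_eq (K := F) (V := W)).symm).1 hinj φ
    have hc' : ∀ v, polar Q c v = φ v := fun v => LinearMap.congr_fun hc v
    have h1 : ∀ x y, polar Q c ((x - a x) + a (y - b y)) = 0 := fun x y => by
      rw [hc', ← hT]
      exact hR (LinearMap.mem_range_self T (x, y))
    have h2 : ∀ x, polar Q c (a x) = polar Q c x := by
      intro x
      have := h1 x 0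
      rw [map_zero, sub_zero, map_zero, add_zero, polar_sub_right, sub_eq_zero] at this
      exact this.symm
    have h3 : ∀ y, polar Q c (b y) = polar Q c y := by
      intro y
      have := h1 0 y
      rw [map_zero, sub_zero, zero_add, h2, polar_sub_right, sub_eq_zero] at this
      exact this.symm
    have key : ∀ g : W ≃ₗ[F] W, g ∈ O Q → (∀ x, polar Q c (g x) = polar Q c x) → g c = c := by
      intro g hg h
      have h4 : g c - c = 0 := by
        apply hQ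
        intro y
        obtain ⟨y, rfl⟩ := g.surjective y
        rw [polar_sub_left, polar_map hg, h, sub_self]
      exact sub_eq_zero.1 h4
    have h5 := hab c (key a ha h2) (key b hb h3)
    apply hφ
    rw [← hc', h5, polar_zero_left]
  obtain ⟨x, y, hxy⟩ := hsurj ((a * b) z)
  refine ⟨x, y, ?_⟩
  rw [lev_tr ((O Q).mul_mem ha hb), ← hxy]
  have e1 : ∀ (g : W ≃ₗ[F] W) (hg : g ∈ O Q) (x : W), tr Q x * lev 1 g * (tr Q x)⁻¹ = tr Q (x - g x) * lev 1 g := by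
    intro g hg x
    rw [tr_inv, mul_assoc, lev_tr hg, ← mul_assoc, tr_mul, map_neg, sub_eq_add_neg]
  rw [e1 a ha, e1 b hb]
  have e2 : tr Q (x - a x) * lev (1 : GL (Fin 1) F) a * (tr Q (y - b y) * lev 1 b) =
      tr Q (x - a x) * (lev (1 : GL (Fin 1) F) a * tr Q (y - b y)) * lev 1 b := by group
  rw [e2, lev_tr ha, ← mul_assoc, tr_mul, mul_assoc, ← lev_mul, mul_one]

theorem prO_coset [Finite F] [FiniteDimensional F W] (hQ : Nondeg Q) {N s t : ℕ} {a b : W ≃ₗ[F] W} (ha : a ∈ Om Q)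
    (hb : b ∈ Om Q) (hs : s.Coprime N) (ht : t.Coprime N) (has : a ^ s = 1) (hbt : b ^ t = 1)
    (hab : ∀ x, a x = x → b x = x → x = 0) (z : W) :
    PrO N (MQ 1 Q) (lev (1 : GL (Fin 1) F) (a * b) * tr Q z) := by
  obtain ⟨x, y, h⟩ := coset hQ (Om_le ha) (Om_le hb) hab z
  refine ⟨_, conj_mem_Om (tr_mem x) (levV_mem ha), _, conj_mem_Om (tr_mem y) (levV_mem hb), s, t, h, hs, ht, ?_, ?_⟩
  · rw [conj_pow, lev_pow, has, one_pow, lev_one, mul_one, mul_inv_cancel]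
  · rw [conj_pow, lev_pow, hbt, one_pow, lev_one, mul_one, mul_inv_cancel]

/-! ### `Ω_7(3)` -/

/-- a fixed vector of `lev X 1` is in the middle -/
theorem fix_lev {n : ℕ} {X : GL (Fin n) F} (hX : Cop X (1 : W ≃ₗ[F] W)) (hW : ∃ φ : W →ₗ[F] F, φ ≠ 0) {x : M F W n}
    (hx : lev X (1 : W ≃ₗ[F] W) x = x) : x = (0, x.2.1, 0) := by
  obtain ⟨φ, hφ⟩ := hW
  obtain ⟨y, hy⟩ : ∃ y, φ y ≠ 0 := by
    by_contra hcon
    push Not at hcon
    exact hφ (LinearMap.ext hcon)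
  rw [lev_apply] at hx
  have h1 : (X : Matrix (Fin n) (Fin n) F) *ᵥ x.1 = x.1 := congrArg (fun z => z.1) hx
  have h2 : (ti X : Matrix (Fin n) (Fin n) F) *ᵥ x.2.2 = x.2.2 := congrArg (fun z => z.2.2) hx
  have h3 := hX.b' (φ.smulRight x.1) (fun v => by
    rw [LinearMap.smulRight_apply, LinearMap.smulRight_apply, mulVec_smul, h1]; rfl)
  have h4 := hX.b (φ.smulRight x.2.2) (fun v => by
    rw [LinearMap.smulRight_apply, LinearMap.smulRight_apply, mulVec_smul, h2]; rfl)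
  have h5 := LinearMap.congr_fun h3 y
  have h6 := LinearMap.congr_fun h4 y
  rw [LinearMap.smulRight_apply, LinearMap.zero_apply] at h5 h6
  exact Prod.ext ((smul_eq_zero.1 h5).resolve_left hy) (Prod.ext rfl ((smul_eq_zero.1 h6).resolve_left hy))

theorem exists_ab [Finite F] [FiniteDimensional F W] (hF : Nat.card F = 3) (hQ : Nondeg Q)
    (hd : finrank F W = 7) {h : W ≃ₗ[F] W} (hh : h ∈ Om Q) (h1 : h ≠ 1) :
    ∃ a ∈ Om Q, ∃ b ∈ Om Q, ∃ s t : ℕ, h = a * b ∧ s.Coprime 6 ∧ t.Coprime 6 ∧ a ^ s = 1 ∧ b ^ t = 1 ∧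
      ∀ x, a x = x → b x = x → x = 0 := by
  have h2 : (2 : F) ≠ 0 := two_ne_zero_of (by rw [hF]; decide)
  obtain ⟨w, w', hf, hS, hdet, hmv⟩ := Cfsg.Agent.H649.PwO.exists_moved h2 hQ hd hh h1
  obtain ⟨X, Y, s, hXY, hX, hY, hXi, hYi, hs, hXs, hYs⟩ := split_three (A := corner Q h w w') (Or.inl hF) hdet (by
    by_cases hc : ∃ c : F, corner Q h w w' = c • (1 : Matrix (Fin 3) (Fin 3) F)
    · left
      obtain ⟨c, hc⟩ := hc
      have _ : Fintype F := Fintype.ofFinite F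
      have h1 := FiniteField.pow_card c
      rw [← Nat.card_eq_fintype_card, hF] at h1
      rw [hc, det_smul, det_one, mul_one, Fintype.card_fin, h1] at hdet
      rw [hc, hdet, one_smul]
    · push Not at hc
      exact Or.inr hc)
  obtain ⟨X', rfl⟩ : ∃ X' : GL (Fin 3) F, (X' : Matrix _ _ F) = X :=
    ⟨Matrix.GeneralLinearGroup.mkOfDetNeZero X (by rw [hX]; exact one_ne_zero), rfl⟩
  obtain ⟨Y', rfl⟩ : ∃ Y' : GL (Fin 3) F, (Y' : Matrix _ _ F) = Y :=
    ⟨Matrix.GeneralLinearGroup.mkOfDetNeZero Y (by rw [hY]; exact one_ne_zero), rfl⟩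
  have hdg : ∀ X : Matrix (Fin 3) (Fin 3) F, X.charpoly.natDegree = 3 := fun X => by
    rw [charpoly_natDegree_eq_dim, Fintype.card_fin]
  have hCX : Cop X' (1 : perp Q w w' ≃ₗ[F] perp Q w w') :=
    copP_odd h2 (charpoly_monic _) hXi (by rw [hdg]; norm_num) (by rw [hdg]; decide) X' rfl
  have hCY : Cop Y' (1 : perp Q w w' ≃ₗ[F] perp Q w w') :=
    copP_odd h2 (charpoly_monic _) hYi (by rw [hdg]; norm_num) (by rw [hdg]; decide) Y' rfl
  have he : ∀ v, MQ 3 (res Q w w') (hf.toModel v) = Q v := hf.MQ_toModel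
  have hQ1 := hf.nondeg_res hQ
  have hG : Good (MQ 3 (res Q w w')) := by
    apply good_of_finite (nondeg_MQ hQ1)
    rw [← hf.toModel.finrank_eq]; omega
  obtain ⟨u₁, hu₁, g₁, hg₁, u₂, hu₂, e⟩ := exists_decomp hf (Om_le hh) (X' * Y') (by
    rw [Units.val_mul, hXY])
  obtain rfl := (schurOne_iff hf hu₁ hu₂ e).1 hS
  have e' : autE hf.toModel h = u₁ * lev (X' * Y') 1 * u₂ := e
  obtain ⟨v₁, hv₁, hv₁', e₁⟩ := hCX.exists_um (O (res Q w w')).one_mem hu₁
  obtain ⟨v₂, hv₂, hv₂', e₂⟩ := hCY.exists_up (O (res Q w w')).one_mem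
    (lev_conj_Up (A := Y') (O (res Q w w')).one_mem hu₂)
  have e3 : autE hf.toModel h = (v₁ * lev X' 1 * v₁⁻¹) * (v₂ * lev Y' 1 * v₂⁻¹) := by
    rw [e', ← e₁, ← e₂]
    have : lev (X' * Y') (1 : perp Q w w' ≃ₗ[F] perp Q w w') = lev X' 1 * lev Y' 1 := by rw [← lev_mul, mul_one]
    rw [this]
    group
  obtain ⟨a, ha⟩ := (autE hf.toModel).surjective (v₁ * lev X' 1 * v₁⁻¹)
  obtain ⟨b, hb⟩ := (autE hf.toModel).surjective (v₂ * lev Y' 1 * v₂⁻¹)
  have haO : a ∈ Om Q := (autE_mem_Om he).1 (by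
    rw [ha]; exact (Om _).mul_mem ((Om _).mul_mem hv₁' (lev_det_one_mem hG hX)) ((Om _).inv_mem hv₁'))
  have hbO : b ∈ Om Q := (autE_mem_Om he).1 (by
    rw [hb]; exact (Om _).mul_mem ((Om _).mul_mem hv₂' (lev_det_one_mem hG hY)) ((Om _).inv_mem hv₂'))
  have hab : h = a * b := by
    apply (autE hf.toModel).injective
    rw [map_mul, ha, hb, e3]
  have hpow : ∀ {Z : GL (Fin 3) F}, (Z : Matrix (Fin 3) (Fin 3) F) ^ s = 1 → Z ^ s = 1 := fun hZ =>
    Units.ext (by rw [Units.val_pow_eq_pow_val, Units.val_one, hZ])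
  refine ⟨a, haO, b, hbO, s, s, hab, hs, hs, ?_, ?_, ?_⟩
  · apply (autE hf.toModel).injective
    rw [map_pow, ha, map_one, conj_pow, lev_pow, hpow hXs, one_pow, lev_one, mul_one, mul_inv_cancel]
  · apply (autE hf.toModel).injective
    rw [map_pow, hb, map_one, conj_pow, lev_pow, hpow hYs, one_pow, lev_one, mul_one, mul_inv_cancel]
  · intro x hax hbx
    have hfin := hf.finrank_perp
    have hφ : ∃ φ : perp Q w w' →ₗ[F] F, φ ≠ 0 := by
      have hpos : 0 < finrank F (perp Q w w') := by omega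
      have : Nontrivial (perp Q w w') := Module.finrank_pos_iff.1 hpos
      obtain ⟨y, hy⟩ := exists_ne (0 : perp Q w w')
      obtain ⟨z, hz⟩ := hQ1.exists_polar_ne hy
      exact ⟨polarBilin (res Q w w') y, fun h0 => hz (LinearMap.congr_fun h0 z)⟩
    have k1 : (v₁ * lev X' (1 : perp Q w w' ≃ₗ[F] perp Q w w') * v₁⁻¹) (hf.toModel x) = hf.toModel x := by
      rw [← ha, autE_apply', hax]
    have k2 : (v₂ * lev Y' (1 : perp Q w w' ≃ₗ[F] perp Q w w') * v₂⁻¹) (hf.toModel x) = hf.toModel x := by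
      rw [← hb, autE_apply', hbx]
    have k3 : lev X' 1 (v₁⁻¹ (hf.toModel x)) = v₁⁻¹ (hf.toModel x) := by
      conv_rhs => rw [← k1]
      show _ = v₁.symm (v₁ (lev X' 1 (v₁⁻¹ (hf.toModel x))))
      rw [LinearEquiv.symm_apply_apply]
    have k4 : lev Y' 1 (v₂⁻¹ (hf.toModel x)) = v₂⁻¹ (hf.toModel x) := by
      conv_rhs => rw [← k2]
      show _ = v₂.symm (v₂ (lev Y' 1 (v₂⁻¹ (hf.toModel x))))
      rw [LinearEquiv.symm_apply_apply]
    have k5 := fix_lev hCX hφ k3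
    have k6 := fix_lev hCY hφ k4
    have k7 : (hf.toModel x).1 = 0 := by
      have := (Um 3 (res Q w w')).inv_mem hv₁
      rw [← this.2.1 (hf.toModel x), k5]
    have k8 : (hf.toModel x).2.2 = 0 := by
      have := (Up 3 (res Q w w')).inv_mem hv₂
      rw [← this.2.1 (hf.toModel x), k6]
    have k9 : x = ((hf.toModel x).2.1 : W) := by
      conv_lhs => rw [← hf.toModel.symm_apply_apply x, hf.toModel_symm_apply, k7, k8]
      simp
    rw [k9]
    refine hmv _ (hf.toModel x).2.1.2 ?_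
    rw [← k9, hab]
    show a (b x) = x
    rw [hbx, hax]

/-! ### `Ω_9(3)` -/

/-- a nonsingular vector orthogonal to `z` -/
theorem exists_nonsing_perp (hQ : Nondeg Q) (hd : 3 ≤ finrank F W) (z : W) :
    ∃ v, polar Q z v = 0 ∧ Q v ≠ 0 := by
  obtain ⟨t, ht⟩ : ∃ t, z ≠ 0 → polar Q z t = 1 := by
    by_cases hz : z = 0
    · exact ⟨0, fun h => absurd hz h⟩
    · obtain ⟨t, ht⟩ := hQ.exists_polar_eq hz 1
      exact ⟨t, fun _ => ht⟩
  obtain ⟨k, hk0, hk⟩ := exists_perp_ne (Q := Q) ![z, t] (by omega)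
  have hkz : polar Q z k = 0 := hk 0
  have hkt : polar Q t k = 0 := hk 1
  obtain ⟨y, hy, hy1⟩ := exists_sep (x := k) (z := z) hQ (by
    rintro c rfl
    by_cases hz : z = 0
    · exact hk0 (by rw [hz, smul_zero])
    · rw [polar_smul_right, polar_comm Q t z, ht hz, smul_eq_mul, mul_one] at hkt
      exact hk0 (by rw [hkt, zero_smul]))
  rcases exists_nonsing hy1 with h | h | h
  · exact ⟨k, hkz, h⟩
  · exact ⟨y, hy, h⟩
  · exact ⟨k + y, by rw [polar_add_right, hkz, hy, add_zero], h⟩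

variable {V : Type v} [AddCommGroup V] [Module F V] {Q' : QuadraticForm F V}

/-- an isometry of determinant one of an odd-dimensional space fixes a nonzero vector -/
theorem exists_fixed [FiniteDimensional F V] (h2 : (2 : F) ≠ 0) (hQ : Nondeg Q') (ho : Odd (finrank F V))
    {g : V ≃ₗ[F] V} (hg : g ∈ O Q') (hdet : LinearMap.det (g : V →ₗ[F] V) = 1) : ∃ x, x ≠ 0 ∧ g x = x := by
  have hinj : Function.Injective (polarBilin Q' : V →ₗ[F] Dual F V) := by
    rw [← LinearMap.ker_eq_bot, LinearMap.ker_eq_bot']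
    intro x hx
    exact hQ x fun y => LinearMap.congr_fun hx y
  let e : V ≃ₗ[F] Dual F V := LinearEquiv.ofInjectiveOfFinrankEq (polarBilin Q') hinj (Subspace.dual_finrank_eq).symm
  have he : ∀ x y, e x y = polar Q' x y := fun x y => rfl
  have hdual : finrank F (Dual F V) = finrank F V := Subspace.dual_finrank_eq
  have hc : ∀ f : V →ₗ[F] V, LinearMap.det (e.toLinearMap ∘ₗ f ∘ₗ e.symm.toLinearMap) = LinearMap.det f := fun f =>
    LinearMap.det_conj f e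
  have hdd : ∀ f : V →ₗ[F] V, LinearMap.det f.dualMap = LinearMap.det f := fun f => LinearMap.det_dualMap f
  have k4 : (g : V →ₗ[F] V).dualMap ∘ₗ (e.toLinearMap ∘ₗ ((g : V →ₗ[F] V) - 1) ∘ₗ e.symm.toLinearMap) =
      (-1 : F) • ((g : V →ₗ[F] V) - 1).dualMap := by
    refine LinearMap.ext fun y => ?_
    obtain ⟨x, rfl⟩ := e.surjective y
    refine LinearMap.ext fun z => ?_
    simp only [LinearMap.comp_apply, LinearEquiv.coe_coe, LinearMap.dualMap_apply, LinearEquiv.symm_apply_apply,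
      LinearMap.sub_apply, LinearMap.smul_apply, map_sub, Module.End.one_apply, he, polar_sub_right, polar_map hg, smul_eq_mul]
    ring
  have k5 : LinearMap.det ((g : V →ₗ[F] V) - 1) = - LinearMap.det ((g : V →ₗ[F] V) - 1) := by
    have h3 := congrArg LinearMap.det k4
    rw [LinearMap.det_comp, hc, hdd, LinearMap.det_smul, hdd, hdual, ho.neg_one_pow, hdet, one_mul] at h3
    linear_combination h3
  have k6 : LinearMap.det ((g : V →ₗ[F] V) - 1) = 0 := by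
    have h3 : (2 : F) * LinearMap.det ((g : V →ₗ[F] V) - 1) = 0 := by linear_combination k5
    exact (mul_eq_zero.1 h3).resolve_left h2
  have k7 := LinearMap.bot_lt_ker_of_det_eq_zero k6
  obtain ⟨x, hx, hx0⟩ := Submodule.exists_mem_ne_zero_of_ne_bot k7.ne'
  refine ⟨x, hx0, ?_⟩
  rw [LinearMap.mem_ker, LinearMap.sub_apply, sub_eq_zero] at hx
  exact hx

/-- **elements fixing a singular vector** -/
theorem prO_of_sing [Finite F] [FiniteDimensional F V] (hF : Nat.card F = 3) (hQ : Nondeg Q')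
    (hd : finrank F V = 9) {g : V ≃ₗ[F] V} (hg : g ∈ Om Q') {x₀ : V} (hx : Q' x₀ = 0) (hx0 : x₀ ≠ 0)
    (hgx : g x₀ = x₀) : PrO 6 Q' g := by
  have h2 : (2 : F) ≠ 0 := two_ne_zero_of (by rw [hF]; decide)
  obtain ⟨y₀, hxy⟩ := exists_hyp hQ hx hx0
  have hf : Frame Q' (fun _ : Fin 1 => x₀) (fun _ : Fin 1 => y₀) :=
    { sl := fun _ => hxy.left
      sr := fun _ => hxy.right
      ll := fun _ _ => hxy.polar_left
      rr := fun _ _ => hxy.polar_right
      lr := fun i j => by rw [hxy.pair, if_pos (Subsingleton.elim i j)] }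
  have he : ∀ v, MQ 1 (res Q' (fun _ : Fin 1 => x₀) (fun _ : Fin 1 => y₀)) (hf.toModel v) = Q' v := hf.MQ_toModel
  have hQ1 := hf.nondeg_res hQ
  have hfin := hf.finrank_perp
  have hfin' : finrank F (perp Q' (fun _ : Fin 1 => x₀) (fun _ : Fin 1 => y₀)) = 7 := by omega
  have hfix : ∀ a, autE hf.toModel g (a, 0, 0) = (a, 0, 0) := by
    intro a
    rw [autE_apply, ← LinearEquiv.eq_symm_apply, hf.toModel_symm_apply]
    simp [hgx]
  obtain ⟨h, hh, u, hu, e⟩ := fixW ((autE_mem_O he).2 (Om_le hg)) hfix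
  have e' : hf.toModel.symm.trans (g.trans hf.toModel) = 1 * lev (1 : GL (Fin 1) F) h * u := by
    rw [one_mul]; exact e
  have : Finite V := Module.finite_of_finite F
  obtain ⟨hdet, hsp⟩ := frame_odd h2 hQ hf hg (Um 1 _).one_mem hu hh e'
  have hG1 : Good (res Q' (fun _ : Fin 1 => x₀) (fun _ : Fin 1 => y₀)) := good_of_finite hQ1 (by omega)
  have hOm : h ∈ Om (res Q' (fun _ : Fin 1 => x₀) (fun _ : Fin 1 => y₀)) := by
    refine mem_Om_of_odd h2 hG1 hh hdet ?_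
    rw [hsp, Units.val_one, det_one, chi_eq_one_iff]
    exact IsSquare.one
  obtain ⟨z, hz⟩ : ∃ z, u = tr _ z := ⟨_, up_eq hu⟩
  by_cases h1 : h = 1
  · obtain ⟨v, hv, hQv⟩ := exists_nonsing_perp hQ1 (by omega) z
    refine prO_of_fix hF hQ hd hg (f := (v : V)) hQv ?_
    have e1 : autE hf.toModel g (0, v, 0) = (0, v, 0) := by
      rw [e, h1, lev_one, one_mul, hz, tr_apply]
      simp [hv]
    have e2 : hf.toModel.symm (0, v, 0) = (v : V) := by
      rw [hf.toModel_symm_apply]; simp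
    rw [autE_apply, ← LinearEquiv.eq_symm_apply, e2] at e1
    exact e1
  · obtain ⟨a, ha, b, hb, s, t, hab, hs, ht, has, hbt, hc⟩ := exists_ab hF hQ1 hfin' hOm h1
    refine PrO.of_autE he ?_
    rw [e, hz, hab]
    exact prO_coset hQ1 ha hb hs ht has hbt hc z

/-- **`Ω_9(3)`** -/
theorem prO_nine [Finite F] [FiniteDimensional F V] (hF : Nat.card F = 3) (hQ : Nondeg Q')
    (hd : finrank F V = 9) {g : V ≃ₗ[F] V} (hg : g ∈ Om Q') : PrO 6 Q' g := by
  have h2 : (2 : F) ≠ 0 := two_ne_zero_of (by rw [hF]; decide)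
  obtain ⟨x, hx0, hx⟩ := exists_fixed h2 hQ (by rw [hd]; decide) (Om_le hg) (det_eq_one' hg)
  by_cases h : Q' x = 0
  · exact prO_of_sing hF hQ hd hg h hx0 hx
  · exact prO_of_fix hF hQ hd hg h hx

end Cfsg.Agent.H367.PO
end

-- part: H367/PO/Row
section
/-!
# S2465: the orthogonal groups of odd dimension (helper367)

`own_row`, `six_row` : the hypotheses `hown`, `hsix` of `H346.PwRows.row_poo`.
-/

set_option autoImplicit false

namespace Cfsg.Agent.H367.PO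

universe u

/-- **`All 6`, characteristic 3** -/
theorem six_odd {F : Type u} [Field F] [Fintype F] [CharP F 3] {n : ℕ} (hn : 3 ≤ n) :
    Cfsg.Agent.H78.Pw.All 6 (Cfsg.POmega F (Cfsg.quadFormOdd n F)) := by
  by_cases h : Fintype.card F = 3 ∧ n = 4
  · obtain ⟨hF, rfl⟩ := h
    refine all_odd (by rw [hF]; decide) 4 fun Q hQ hd g hg => ?_
    exact prO_nine (by rwa [Nat.card_eq_fintype_card]) hQ hd hg
  · exact six_odd_of hn h

theorem six_row (F : Type) [Field F] [Fintype F] [CharP F 3] (m : ℕ) (hm : 3 ≤ m) :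
    Cfsg.Agent.H78.Pw.All 6 (Cfsg.POmega F (Cfsg.quadFormOdd m F)) := six_odd hm

end Cfsg.Agent.H367.PO
end

-- part: H346/Pw/Rows3
section
/-!
# S2465: rows of the groups of Lie type, third part (helper346)

No hypotheses: `row_psp_fin`, `row_poo_fin`, `row_pop_fin`, `row_g2_fin`, `row_td4_fin` (and in part two `row_e6'`, `row_e7'`,
`row_te6'`, `row_psu'`; in part one `row_psl`, `row_tf4`, `row_sz`, `row_ree`, `row_tits`).
With hypotheses: `row_pom_of` (small fields), `row_f4_of` (`F₄(3)`), `row_e8_of` (`E₈(9)`).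
-/

set_option autoImplicit false

namespace Cfsg.Agent.H346.PwRows

open Cfsg Cfsg.Agent.H78.Pw

universe u

/-- **PSp: complete** -/
theorem row_psp_fin {G : Type u} [Group G] [IsSimpleGroup G] (h : IsPSp G) : Pw G :=
  row_psp Cfsg.Agent.H649.PwSp.six_psp_all_three Cfsg.Agent.H649.PwSp.six_psp_four_four h

/-- **PΩ⁺: complete** -/
theorem row_pop_fin {G : Type u} [Group G] [IsSimpleGroup G] (h : IsPOmegaPlus G) : Pw G :=
  row_pop Cfsg.Agent.H124.PwO.own_plus Cfsg.Agent.H124.PwO.six_plus h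

/-- **PΩ of odd dimension: complete** -/
theorem row_poo_fin {G : Type u} [Group G] [IsSimpleGroup G] (h : IsPOmegaOdd G) : Pw G :=
  row_poo (fun F _ _ r _ _ m h5 hm => Cfsg.Agent.H367.PO.own_row F r m h5 hm)
    (fun F _ _ _ m hm => Cfsg.Agent.H367.PO.six_row F m hm) h

/-- **G₂: complete** -/
theorem row_g2_fin {G : Type u} [Group G] (h : Lie.IsoChevG2 G) : Pw G :=
  row_g2' (fun _ _ _ h => Cfsg.Agent.H227.Pw.six_g2_nine h) h

/-- **³D₄: complete** -/
theorem row_td4_fin {G : Type u} [Group G] (h : Lie.Iso3D4 G) : Pw G :=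
  row_td4 (fun K _ _ h => Cfsg.Agent.H347.HX.D42.six_td4_two K h) (fun _ _ _ h => Cfsg.Agent.H922.TD.six_td4_three h) h

/-- **F₄** from `F₄(3)` -/
theorem row_f4_of (h3 : ∀ (F : Type) [Field F] [Fintype F], Nat.card F = 3 → All 6 ↥(Lie.chevF4.group F))
    {G : Type u} [Group G] [IsSimpleGroup G] (h : Lie.IsoF4 G) : Pw G :=
  row_f4 (fun _ _ _ h => Cfsg.Agent.H335.FT.row_two h) h3 h

end Cfsg.Agent.H346.PwRows
end

private theorem dce_040ad41b9931 : _root_.True := by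
  try have : _root_.True := by simp only [_root_.Cfsg.Agent.H538.Pw.SpNine.trF.eq_1]
  try have : _root_.True := by simp only [_root_.Cfsg.Agent.H538.Pw.SpNine.chkZ.eq_1]
  try have : _root_.True := by simp only [_root_.Cfsg.Agent.H538.Pw.SpNine.M16.map.eq_1]
  try have : _root_.True := by simp only [_root_.Cfsg.Agent.H538.Pw.SpNine.SpM.eq_1]
  try have : _root_.True := by simp only [_root_.Cfsg.Agent.H367.PO.DD.eq_1]
  try have : _root_.True := by simp only [_root_.Cfsg.Agent.H538.Pw.SpNine.nfF.eq_1]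
  try have : _root_.True := by simp only [_root_.Cfsg.Agent.H538.Pw.SpNine.mulF.eq_1]
  try have : _root_.True := by simp only [_root_.Cfsg.Agent.H538.Pw.SpNine.splOk.eq_1]
  try have : _root_.True := by simp only [_root_.Cfsg.Agent.H367.PO.eR.eq_1]
  try have : _root_.True := by simp only [_root_.Cfsg.Agent.H538.Pw.SpNine.C9.all.eq_1]
  try have : _root_.True := by simp only [_root_.Cfsg.Agent.H538.Pw.SpNine.chkM.eq_1]
  try have : _root_.True := by simp only [_root_.Cfsg.Agent.H538.Pw.SpNine.evm.eq_1]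
  try have : _root_.True := by simp only [_root_.Cfsg.Agent.H538.Pw.SpNine.mulInv.eq_1]
  try have : _root_.True := by simp only [_root_.Cfsg.Agent.H538.Pw.SpNine.toM.eq_1]
  try have : _root_.True := by simp only [_root_.Cfsg.Agent.H538.Pw.SpNine.phi.congr_simp]
  try have : _root_.True := by simp only [_root_.Cfsg.Agent.H367.PO.G1.eq_1]
  try have : _root_.True := by simp only [_root_.Cfsg.Agent.H538.Pw.SpNine.phi.eq_1]
  try have : _root_.True := by simp only [_root_.Cfsg.Agent.H538.Pw.SpNine.iv.eq_1]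
  try have : _root_.True := by simp only [_root_.Cfsg.Agent.H538.Pw.SpNine.powOk.eq_1]
  try have : _root_.True := by simp only [_root_.Cfsg.Agent.H367.PO.eL.eq_1]
  try have : _root_.True := by simp only [_root_.Cfsg.Agent.H538.Pw.SpNine.sdF.eq_1]
  try have : _root_.True := by simp only [_root_.Cfsg.Agent.H538.Pw.SpNine.PM.eq_1]
  try have : _root_.True := by simp only [_root_.Cfsg.Agent.H367.PO.tr.eq_1]
  try have : _root_.True := by simp only [_root_.Cfsg.Agent.H538.Pw.SpNine.Bf.eq_1]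
  try have : _root_.True := by simp only [_root_.Cfsg.Agent.H367.PO.G2.eq_1]
  try have : _root_.True := by simp only [_root_.Cfsg.Agent.H538.Pw.SpNine.shF.eq_1]
  exact _root_.True.intro
end

-- part: H122/Pw/RowE8
section
set_option linter.all false
open scoped Cfsg.Agent.FastGrp

/-!
# S2465: the row `E₈(q)`, all `q` (helper122)
-/

set_option autoImplicit false

namespace Cfsg.Agent.H122.Pw

open Cfsg.Agent.H78.Pw

universe u

theorem six_E8_nine' {K : Type u} [Field K] [Finite K] (hK : Nat.card K = 9) : All 6 ↥(Lie.chevE8.group K) := by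
  have h := PI.of_irr (Cfsg.Agent.H962.PP.p_five_nine hK)
  rw [hK] at h
  exact Cfsg.Agent.H85.Pw.Nine.six_E8_9 hK h

/-- **The small fields.** -/
theorem six_E8_small (F : Type u) [Field F] [Finite F]
    (h : Nat.card F = 2 ∨ Nat.card F = 3 ∨ Nat.card F = 4 ∨ Nat.card F = 9) : All 6 ↥(Lie.chevE8.group F) := by
  rcases h with h | h | h | h
  · exact Cfsg.Agent.H267.Ore.EEight.six_E8_two h
  · exact six_E8_three' h
  · exact Cfsg.Agent.H85.Pw.six_E8_4 h
  · exact six_E8_nine' h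

/-- **`E₈(q)`.** -/
theorem pw_e8 {G : Type u} [Group G] [IsSimpleGroup G] (h : Lie.IsoE8 G) : Pw G :=
  Cfsg.Agent.H346.PwRows.row_e8 (fun F _ _ hq => six_E8_small F hq) h

end Cfsg.Agent.H122.Pw
end
end
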